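import Mathlib

set_option autoImplicit false
set_option linter.unusedVariables false
set_option linter.unusedSimpArgs false

/-! Symplectic spaces: isometries, transvections, Witt extension by transvections. -/

namespace Cfsg.Lib.Classical

universe u v

variable {F : Type u} [Field F] {V : Type v} [AddCommGroup V] [Module F V]

/-- The isometry group of a bilinear form. -/
def BilinIsom (B : LinearMap.BilinForm F V) : Subgroup (V ≃ₗ[F] V) where
  carrier := {g | ∀ x y, B (g x) (g y) = B x y}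
  mul_mem' {a b} ha hb := by
    intro x y
    change B (a (b x)) (a (b y)) = _
    rw [ha, hb]
  one_mem' := fun x y => rfl
  inv_mem' {a} ha := by
    intro x y
    have := ha (a.symm x) (a.symm y)
    rw [LinearEquiv.apply_symm_apply, LinearEquiv.apply_symm_apply] at this
    exact this.symm

theorem mem_bilinIsom {B : LinearMap.BilinForm F V} {g : V ≃ₗ[F] V} :
    g ∈ BilinIsom B ↔ ∀ x y, B (g x) (g y) = B x y := Iff.rfl

theorem BilinIsom.map_form {B : LinearMap.BilinForm F V} (g : BilinIsom B) (x y : V) :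
    B ((g : V ≃ₗ[F] V) x) ((g : V ≃ₗ[F] V) y) = B x y := g.2 x y

theorem BilinIsom.ext' {B : LinearMap.BilinForm F V} {g h : BilinIsom B}
    (H : ∀ x, (g : V ≃ₗ[F] V) x = (h : V ≃ₗ[F] V) x) : g = h :=
  Subtype.ext (LinearEquiv.ext H)

theorem BilinIsom.mul_apply' {B : LinearMap.BilinForm F V} (g h : BilinIsom B) (x : V) :
    ((g * h : BilinIsom B) : V ≃ₗ[F] V) x = (g : V ≃ₗ[F] V) ((h : V ≃ₗ[F] V) x) := rfl

theorem BilinIsom.one_apply' {B : LinearMap.BilinForm F V} (x : V) :
    ((1 : BilinIsom B) : V ≃ₗ[F] V) x = x := rfl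

theorem BilinIsom.inv_apply_self {B : LinearMap.BilinForm F V} (g : BilinIsom B) (x : V) :
    ((g⁻¹ : BilinIsom B) : V ≃ₗ[F] V) ((g : V ≃ₗ[F] V) x) = x :=
  (g : V ≃ₗ[F] V).symm_apply_apply x

theorem BilinIsom.apply_inv_self {B : LinearMap.BilinForm F V} (g : BilinIsom B) (x : V) :
    (g : V ≃ₗ[F] V) (((g⁻¹ : BilinIsom B) : V ≃ₗ[F] V) x) = x :=
  (g : V ≃ₗ[F] V).apply_symm_apply x

variable {B : LinearMap.BilinForm F V}

/-- The linear map `x ↦ x + c B(x,v) v`. -/
def sympTLin (B : LinearMap.BilinForm F V) (v : V) (c : F) : V →ₗ[F] V :=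
  LinearMap.id + (c • (B.flip v)).smulRight v

theorem sympTLin_apply (v : V) (c : F) (x : V) : sympTLin B v c x = x + (c * B x v) • v := by
  simp [sympTLin, smul_smul]

theorem sympTLin_comp (hA : B.IsAlt) (v : V) (c d : F) (x : V) :
    sympTLin B v c (sympTLin B v d x) = sympTLin B v (c + d) x := by
  simp only [sympTLin_apply, map_add, map_smul, LinearMap.add_apply, LinearMap.smul_apply, hA v,
    smul_eq_mul, mul_zero, add_zero]
  module

/-- Symplectic transvection as an element of the isometry group. -/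
def sympT (hA : B.IsAlt) (v : V) (c : F) : BilinIsom B :=
  ⟨LinearEquiv.ofLinearMap (sympTLin B v c) (sympTLin B v (-c))
    (LinearMap.ext fun x => by
      simp [sympTLin_comp hA]; simp [sympTLin_apply])
    (LinearMap.ext fun x => by
      simp [sympTLin_comp hA]; simp [sympTLin_apply]),
  fun x y => by
    have h := hA.neg_eq v y
    change B (sympTLin B v c x) (sympTLin B v c y) = B x y
    simp only [sympTLin_apply, map_add, map_smul, LinearMap.add_apply,
      LinearMap.smul_apply, hA v, smul_eq_mul, mul_zero, add_zero]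
    rw [← h]
    ring⟩

theorem sympT_apply (hA : B.IsAlt) (v : V) (c : F) (x : V) :
    ((sympT hA v c : BilinIsom B) : V ≃ₗ[F] V) x = x + (c * B x v) • v := by
  simp [sympT, sympTLin_apply]

theorem sympT_zero (hA : B.IsAlt) (v : V) : sympT hA v 0 = 1 :=
  BilinIsom.ext' fun x => by simp [sympT_apply, BilinIsom.one_apply']

theorem sympT_zero_vec (hA : B.IsAlt) (c : F) : sympT hA 0 c = 1 :=
  BilinIsom.ext' fun x => by simp [sympT_apply, BilinIsom.one_apply']

theorem sympT_add (hA : B.IsAlt) (v : V) (c d : F) :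
    sympT hA v (c + d) = sympT hA v c * sympT hA v d :=
  BilinIsom.ext' fun x => by
    rw [BilinIsom.mul_apply']
    simp only [sympT_apply, map_add, map_smul, LinearMap.add_apply, LinearMap.smul_apply, hA v,
      smul_eq_mul, mul_zero, add_zero]
    module

theorem sympT_neg (hA : B.IsAlt) (v : V) (c : F) : sympT hA v (-c) = (sympT hA v c)⁻¹ :=
  eq_inv_of_mul_eq_one_left (by rw [← sympT_add, neg_add_cancel, sympT_zero])

theorem sympT_smul (hA : B.IsAlt) (v : V) (a c : F) :
    sympT hA (a • v) c = sympT hA v (a ^ 2 * c) :=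
  BilinIsom.ext' fun x => by
    simp only [sympT_apply, map_smul, smul_eq_mul, smul_smul]
    congr 2; ring

theorem sympT_conj (hA : B.IsAlt) (g : BilinIsom B) (v : V) (c : F) :
    g * sympT hA v c * g⁻¹ = sympT hA ((g : V ≃ₗ[F] V) v) c :=
  BilinIsom.ext' fun x => by
    rw [BilinIsom.mul_apply', BilinIsom.mul_apply']
    simp only [sympT_apply, map_add, map_smul, BilinIsom.apply_inv_self]
    rw [← BilinIsom.map_form g (((g⁻¹ : BilinIsom B) : V ≃ₗ[F] V) x) v, BilinIsom.apply_inv_self]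

theorem sympT_commute (hA : B.IsAlt) {v w : V} (h : B v w = 0) (c d : F) :
    Commute (sympT hA v c) (sympT hA w d) :=
  BilinIsom.ext' fun x => by
    have h' : B w v = 0 := by rw [← hA.neg_eq, h, neg_zero]
    rw [BilinIsom.mul_apply', BilinIsom.mul_apply']
    simp only [sympT_apply, map_add, map_smul, LinearMap.add_apply, LinearMap.smul_apply, h, h',
      smul_eq_mul, mul_zero, add_zero, zero_smul]
    abel

/-- The subgroup generated by the transvections with centre in `S`. -/
def transGroupOn (hA : B.IsAlt) (S : Set V) : Subgroup (BilinIsom B) :=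
  Subgroup.closure {g | ∃ v ∈ S, ∃ c, g = sympT hA v c}

/-- The subgroup generated by all symplectic transvections. -/
def transGroup (hA : B.IsAlt) : Subgroup (BilinIsom B) := transGroupOn hA Set.univ

theorem sympT_mem_transGroup (hA : B.IsAlt) (v : V) (c : F) : sympT hA v c ∈ transGroup hA :=
  Subgroup.subset_closure ⟨v, trivial, c, rfl⟩

/-- Two proper subspaces do not cover a subspace. -/
theorem exists_mem_ne_zero_pair {D : Submodule F V} {f g : V →ₗ[F] F}
    (hf : ∃ d ∈ D, f d ≠ 0) (hg : ∃ d ∈ D, g d ≠ 0) : ∃ d ∈ D, f d ≠ 0 ∧ g d ≠ 0 := by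
  obtain ⟨a, ha, hfa⟩ := hf
  obtain ⟨b, hb, hgb⟩ := hg
  by_cases h1 : g a = 0
  · by_cases h2 : f b = 0
    · exact ⟨a + b, D.add_mem ha hb, by simp [h2, hfa], by simp [h1, hgb]⟩
    · exact ⟨b, hb, h2, hgb⟩
  · exact ⟨a, ha, hfa, h1⟩

theorem exists_nonorth_of_notMem [FiniteDimensional F V] (hA : B.IsAlt) (hB : B.Nondegenerate)
    (X : Submodule F V) {x : V} (hx : x ∉ X) : ∃ d ∈ B.orthogonal X, B x d ≠ 0 := by
  by_contra h
  push Not at h
  apply hx
  rw [← LinearMap.BilinForm.orthogonal_orthogonal hB hA.isRefl X]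
  intro d hd
  have := h d hd
  change B d x = 0
  rw [← hA.neg_eq, this, neg_zero]

/-- Moving one vector while fixing a subspace, by transvections. -/
theorem exists_transGroup_move [FiniteDimensional F V] (hA : B.IsAlt) (hB : B.Nondegenerate)
    (X : Submodule F V) {x y : V} (hx : x ∉ X) (hy : y ∉ X) (hxy : ∀ z ∈ X, B z x = B z y) :
    ∃ g ∈ transGroupOn hA (B.orthogonal X : Set V),
      (g : V ≃ₗ[F] V) x = y ∧ ∀ z ∈ X, (g : V ≃ₗ[F] V) z = z := by
  have step : ∀ a b : V, b - a ∈ B.orthogonal X → B a b ≠ 0 →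
      ∃ g ∈ transGroupOn hA (B.orthogonal X : Set V),
        (g : V ≃ₗ[F] V) a = b ∧ ∀ z ∈ X, (g : V ≃ₗ[F] V) z = z := by
    intro a b hab hne
    refine ⟨sympT hA (b - a) (B a b)⁻¹, Subgroup.subset_closure ⟨_, hab, _, rfl⟩, ?_, fun z hz => ?_⟩
    · rw [sympT_apply, map_sub, hA a, sub_zero, inv_mul_cancel₀ hne, one_smul, add_sub_cancel]
    · rw [sympT_apply, show B z (b - a) = 0 from hab z hz, mul_zero, zero_smul, add_zero]
  have hyx : y - x ∈ B.orthogonal X := fun z hz => by
    change B z (y - x) = 0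
    rw [map_sub, hxy z hz, sub_self]
  by_cases hne : B x y = 0
  · have hny : ∃ d ∈ B.orthogonal X, (B.flip y) d ≠ 0 := by
      obtain ⟨d, hd, hd'⟩ := exists_nonorth_of_notMem hA hB X hy
      refine ⟨d, hd, ?_⟩
      change B d y ≠ 0
      rw [← hA.neg_eq]
      exact neg_ne_zero.mpr hd'
    obtain ⟨d, hd, hxd, hyd⟩ := exists_mem_ne_zero_pair (f := B x) (g := B.flip y)
      (exists_nonorth_of_notMem hA hB X hx) hny
    obtain ⟨g₁, hg₁, hg₁x, hg₁X⟩ := step x (x + d) (by simpa using hd)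
      (by rw [map_add, hA x, zero_add]; exact hxd)
    obtain ⟨g₂, hg₂, hg₂x, hg₂X⟩ := step (x + d) y
      (by rw [sub_add_eq_sub_sub]; exact Submodule.sub_mem _ hyx hd)
      (by rw [map_add, LinearMap.add_apply, hne, zero_add]; exact hyd)
    refine ⟨g₂ * g₁, Subgroup.mul_mem _ hg₂ hg₁, ?_, fun z hz => ?_⟩
    · rw [BilinIsom.mul_apply', hg₁x, hg₂x]
    · rw [BilinIsom.mul_apply', hg₁X z hz, hg₂X z hz]
  · exact step x y hyx hne

theorem extend_aux [FiniteDimensional F V] (hA : B.IsAlt) (hB : B.Nondegenerate) :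
    ∀ (k : ℕ) (X : Submodule F V) (φ : X →ₗ[F] V), Module.finrank F X = k →
      Function.Injective φ → (∀ a b : X, B (φ a) (φ b) = B (a : V) b) →
      ∃ g ∈ transGroup hA, ∀ a : X, (g : V ≃ₗ[F] V) a = φ a := by
  intro k
  induction k with
  | zero =>
    intro X φ hk _ _
    refine ⟨1, Subgroup.one_mem _, fun a => ?_⟩
    have : a = 0 := Subtype.ext ((Submodule.mem_bot F).mp (Submodule.finrank_eq_zero.mp hk ▸ a.2))
    simp [this]
  | succ k ih =>
    intro X φ hk hinj hφ
    obtain ⟨X', hX'⟩ : ∃ X' : Submodule F X, Module.finrank F X' = k := by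
      let b := Module.finBasisOfFinrankEq F X hk
      refine ⟨Submodule.span F (Set.range (b ∘ Fin.castSucc)), ?_⟩
      rw [finrank_span_eq_card (b.linearIndependent.comp _ (Fin.castSucc_injective k)),
        Fintype.card_fin]
    set Y := X'.map X.subtype with hY
    have hYk : Module.finrank F Y = k := by
      rw [hY, ← LinearEquiv.finrank_eq (X.equivSubtypeMap X'), hX']
    have hYX : Y ≤ X := Submodule.map_subtype_le _ _
    obtain ⟨x, hxX, hxY⟩ := SetLike.exists_of_lt
      (lt_of_le_of_ne hYX (fun h => by rw [h] at hYk; omega))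
    obtain ⟨g, hg, hgY⟩ := ih Y (φ ∘ₗ Submodule.inclusion hYX) hYk
      (hinj.comp (Submodule.inclusion_injective hYX)) (fun a b => hφ _ _)
    set y := ((g⁻¹ : BilinIsom B) : V ≃ₗ[F] V) (φ ⟨x, hxX⟩) with hy
    have hgy : (g : V ≃ₗ[F] V) y = φ ⟨x, hxX⟩ := BilinIsom.apply_inv_self g _
    have hyY : y ∉ Y := fun h => hxY (by
      have h2 := hgY ⟨y, h⟩
      rw [hgy, LinearMap.comp_apply] at h2
      have h3 : (x : V) = y := congrArg Subtype.val (hinj h2)
      exact h3 ▸ h)
    obtain ⟨t, ht, htx, htY⟩ := exists_transGroup_move hA hB Y hxY hyY (fun z hz => by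
      rw [← BilinIsom.map_form g z y, hgy, hgY ⟨z, hz⟩, LinearMap.comp_apply, hφ]
      rfl)
    have ht' : t ∈ transGroup hA := Subgroup.closure_mono (by
      rintro _ ⟨v, -, c, rfl⟩; exact ⟨v, trivial, c, rfl⟩) ht
    refine ⟨g * t, Subgroup.mul_mem _ hg ht', ?_⟩
    have hsup : Y ⊔ Submodule.span F {x} = X := by
      apply Submodule.eq_of_le_of_finrank_le
      · exact sup_le hYX ((Submodule.span_singleton_le_iff_mem x X).mpr hxX)
      · have hlt : Y < Y ⊔ Submodule.span F {x} := lt_of_le_of_ne le_sup_left fun h =>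
          hxY (by rw [h]; exact Submodule.mem_sup_right (Submodule.mem_span_singleton_self x))
        have := Submodule.finrank_lt_finrank_of_lt hlt
        omega
    rintro ⟨a, ha⟩
    have ha' : a ∈ Y ⊔ Submodule.span F {x} := by rw [hsup]; exact ha
    obtain ⟨z, hz, w, hw, rfl⟩ := Submodule.mem_sup.mp ha'
    obtain ⟨r, rfl⟩ := Submodule.mem_span_singleton.mp hw
    change (((g * t : BilinIsom B) : V ≃ₗ[F] V) (z + r • x)) = φ ⟨z + r • x, ha⟩
    rw [BilinIsom.mul_apply', map_add, map_smul, htx, htY z hz, map_add, map_smul, hgy,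
      hgY ⟨z, hz⟩, LinearMap.comp_apply, ← map_smul, ← map_add]
    rfl

/-- Witt's lemma for symplectic spaces, with the extension generated by transvections. -/
theorem exists_transGroup_extend [FiniteDimensional F V] (hA : B.IsAlt) (hB : B.Nondegenerate)
    {X : Submodule F V} (φ : X →ₗ[F] V) (hinj : Function.Injective φ)
    (hφ : ∀ a b : X, B (φ a) (φ b) = B (a : V) b) :
    ∃ g ∈ transGroup hA, ∀ a : X, (g : V ≃ₗ[F] V) a = φ a :=
  extend_aux hA hB _ X φ rfl hinj hφ

theorem transGroup_eq_top [FiniteDimensional F V] (hA : B.IsAlt) (hB : B.Nondegenerate) :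
    transGroup hA = ⊤ := by
  rw [eq_top_iff]
  intro g _
  obtain ⟨h, hh, he⟩ := exists_transGroup_extend hA hB (X := ⊤)
    ((g : V ≃ₗ[F] V).toLinearMap ∘ₗ (⊤ : Submodule F V).subtype)
    ((g : V ≃ₗ[F] V).injective.comp Subtype.val_injective) (fun a b => g.2 _ _)
  exact (BilinIsom.ext' fun x => he ⟨x, trivial⟩ : h = g) ▸ hh

/-- Existence of an isometry extending a map on a subspace. -/
theorem exists_sympIsom_extend [FiniteDimensional F V] (hA : B.IsAlt) (hB : B.Nondegenerate)
    {X : Submodule F V} (φ : X →ₗ[F] V) (hinj : Function.Injective φ)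
    (hφ : ∀ a b : X, B (φ a) (φ b) = B (a : V) b) :
    ∃ g : BilinIsom B, ∀ a : X, (g : V ≃ₗ[F] V) a = φ a :=
  (exists_transGroup_extend hA hB φ hinj hφ).imp fun _ h => h.2

theorem sympIsom_transitive [FiniteDimensional F V] (hA : B.IsAlt) (hB : B.Nondegenerate)
    {v w : V} (hv : v ≠ 0) (hw : w ≠ 0) : ∃ g : BilinIsom B, (g : V ≃ₗ[F] V) v = w := by
  obtain ⟨g, _, hg, _⟩ := exists_transGroup_move hA hB ⊥ (x := v) (y := w) (by simpa) (by simpa)
    (fun z hz => by simp [(Submodule.mem_bot F).mp hz])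
  exact ⟨g, hg⟩

theorem exists_hyperbolic_partner (hB : B.Nondegenerate) {v : V} (hv : v ≠ 0) : ∃ u, B v u = 1 := by
  obtain ⟨u, hu⟩ : ∃ u, B v u ≠ 0 := by
    by_contra h; push Not at h; exact hv (hB.1 v h)
  exact ⟨(B v u)⁻¹ • u, by simp [hu]⟩

/-- Transitivity on hyperbolic pairs. -/
theorem sympIsom_pair_transitive [FiniteDimensional F V] (hA : B.IsAlt) (hB : B.Nondegenerate)
    {v u v' u' : V} (h : B v u = 1) (h' : B v' u' = 1) :
    ∃ g : BilinIsom B, (g : V ≃ₗ[F] V) v = v' ∧ (g : V ≃ₗ[F] V) u = u' := by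
  have hv : v ≠ 0 := by rintro rfl; simp at h
  have hv' : v' ≠ 0 := by rintro rfl; simp at h'
  obtain ⟨g, hg⟩ := sympIsom_transitive hA hB hv hv'
  have hn : ∀ z : V, B v' z = 1 → z ∉ Submodule.span F ({v'} : Set V) := by
    intro z hz hzm
    obtain ⟨r, rfl⟩ := Submodule.mem_span_singleton.mp hzm
    simp [hA v'] at hz
  have hgu : B v' ((g : V ≃ₗ[F] V) u) = 1 := by rw [← hg, BilinIsom.map_form, h]
  obtain ⟨t, _, ht, htv⟩ := exists_transGroup_move hA hB (Submodule.span F {v'})
    (hn _ hgu) (hn _ h') (fun z hz => by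
      obtain ⟨r, rfl⟩ := Submodule.mem_span_singleton.mp hz
      simp [hgu, h'])
  exact ⟨t * g, by rw [BilinIsom.mul_apply', hg, htv v' (Submodule.mem_span_singleton_self v')],
    by rw [BilinIsom.mul_apply', ht]⟩

end Cfsg.Lib.Classical
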