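import Mathlib
import Cfsg.Agent.Classical.Symp.Basic

set_option autoImplicit false
set_option linter.unusedVariables false
set_option linter.style.haveILetI false
set_option linter.unusedSimpArgs false

/-! Order and centre of the symplectic group. -/

namespace Cfsg.Lib.Classical

universe u v

variable {F : Type u} [Field F] {V : Type v} [AddCommGroup V] [Module F V]
  {B : LinearMap.BilinForm F V}

theorem orthogonal_invariant (g : BilinIsom B) {P : Submodule F V}
    (hP : ∀ p ∈ P, (g : V ≃ₗ[F] V) p = p) {x : V} (hx : x ∈ B.orthogonal P) :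
    (g : V ≃ₗ[F] V) x ∈ B.orthogonal P := by
  intro p hp
  change B p ((g : V ≃ₗ[F] V) x) = 0
  rw [← hP p hp, BilinIsom.map_form]
  exact hx p hp

/-- The pointwise stabiliser of a subspace in the isometry group. -/
def pointFixer (B : LinearMap.BilinForm F V) (P : Submodule F V) : Subgroup (BilinIsom B) where
  carrier := {g | ∀ p ∈ P, (g : V ≃ₗ[F] V) p = p}
  mul_mem' {a b} ha hb := fun p hp => by rw [BilinIsom.mul_apply', hb p hp, ha p hp]
  one_mem' := fun p hp => rfl
  inv_mem' {a} ha := fun p hp => by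
    conv_lhs => rw [← ha p hp]
    exact BilinIsom.inv_apply_self a p

/-- Restriction of the pointwise stabiliser of `P` to the orthogonal complement. -/
noncomputable def pointFixerRestrict (B : LinearMap.BilinForm F V) (P : Submodule F V) :
    pointFixer B P →* BilinIsom (B.restrict (B.orthogonal P)) where
  toFun g := ⟨LinearEquiv.ofLinearMap
      ((g.1.1 : V ≃ₗ[F] V).toLinearMap.restrict fun x hx => orthogonal_invariant g.1 g.2 hx)
      (((g⁻¹).1.1 : V ≃ₗ[F] V).toLinearMap.restrict fun x hx => orthogonal_invariant (g⁻¹).1 (g⁻¹).2 hx)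
      (LinearMap.ext fun x => Subtype.ext (BilinIsom.apply_inv_self g.1 x))
      (LinearMap.ext fun x => Subtype.ext (BilinIsom.inv_apply_self g.1 x)),
    fun x y => BilinIsom.map_form g.1 _ _⟩
  map_one' := BilinIsom.ext' fun x => Subtype.ext rfl
  map_mul' a b := BilinIsom.ext' fun x => Subtype.ext rfl

theorem pointFixerRestrict_apply (P : Submodule F V) (g : pointFixer B P) (x : B.orthogonal P) :
    (((pointFixerRestrict B P g : BilinIsom (B.restrict (B.orthogonal P))) :
      (B.orthogonal P) ≃ₗ[F] (B.orthogonal P)) x : V) = (g.1.1 : V ≃ₗ[F] V) x := rfl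

theorem pointFixerRestrict_bijective (hr : B.IsRefl) (P : Submodule F V)
    (hc : IsCompl P (B.orthogonal P)) : Function.Bijective (pointFixerRestrict B P) := by
  constructor
  · intro a b h
    apply Subtype.ext
    apply BilinIsom.ext'
    intro x
    obtain ⟨p, hp, w, hw, rfl⟩ := Submodule.mem_sup.mp
      (hc.sup_eq_top ▸ Submodule.mem_top : x ∈ P ⊔ B.orthogonal P)
    rw [map_add, map_add, a.2 p hp, b.2 p hp,
      ← pointFixerRestrict_apply P a ⟨w, hw⟩, h, pointFixerRestrict_apply P b ⟨w, hw⟩]
  · intro h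
    let e : V ≃ₗ[F] V := (Submodule.prodEquivOfIsCompl _ _ hc).symm ≪≫ₗ
      ((LinearEquiv.refl F P).prodCongr h.1) ≪≫ₗ Submodule.prodEquivOfIsCompl _ _ hc
    have heP : ∀ p ∈ P, e p = p := fun p hp => by
      have : (Submodule.prodEquivOfIsCompl _ _ hc).symm p = (⟨p, hp⟩, 0) :=
        Submodule.prodEquivOfIsCompl_symm_apply_left _ _ hc ⟨p, hp⟩
      simp [e, this]
    have heU : ∀ w : B.orthogonal P, e w = (h.1 w : V) := fun w => by
      have : (Submodule.prodEquivOfIsCompl _ _ hc).symm (w : V) = (0, w) :=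
        Submodule.prodEquivOfIsCompl_symm_apply_right _ _ hc w
      simp [e, this]
    have hperp : ∀ p ∈ P, ∀ w : B.orthogonal P, B p (w : V) = 0 ∧ B (w : V) p = 0 :=
      fun p hp w => ⟨w.2 p hp, hr _ _ (w.2 p hp)⟩
    have hiso : e ∈ BilinIsom B := by
      intro x y
      obtain ⟨p, hp, w, hw, rfl⟩ := Submodule.mem_sup.mp
        (hc.sup_eq_top ▸ Submodule.mem_top : x ∈ P ⊔ B.orthogonal P)
      obtain ⟨q, hq, z, hz, rfl⟩ := Submodule.mem_sup.mp
        (hc.sup_eq_top ▸ Submodule.mem_top : y ∈ P ⊔ B.orthogonal P)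
      have e1 := h.2 ⟨w, hw⟩ ⟨z, hz⟩
      rw [LinearMap.BilinForm.restrict_apply, LinearMap.domRestrict_apply] at e1
      rw [map_add e, map_add e, heP p hp, heP q hq, heU ⟨w, hw⟩, heU ⟨z, hz⟩]
      simp only [map_add, LinearMap.add_apply, (hperp p hp ⟨z, hz⟩).1, (hperp q hq ⟨w, hw⟩).2,
        (hperp p hp _).1, (hperp q hq _).2]
      simpa using e1
    exact ⟨⟨⟨e, hiso⟩, heP⟩, BilinIsom.ext' fun w => Subtype.ext (heU w)⟩

/-- The pointwise stabiliser of a nondegenerate subspace is the isometry group of its complement. -/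
noncomputable def pointFixerEquiv (hr : B.IsRefl) (P : Submodule F V)
    (hc : IsCompl P (B.orthogonal P)) :
    pointFixer B P ≃* BilinIsom (B.restrict (B.orthogonal P)) :=
  MulEquiv.ofBijective _ (pointFixerRestrict_bijective hr P hc)

theorem restrict_hyperbolic_nondegenerate (hA : B.IsAlt) {v u : V} (h : B v u = 1) :
    (B.restrict (Submodule.span F ({v, u} : Set V))).Nondegenerate := by
  have h' : B u v = -1 := by rw [← hA.neg_eq, h]
  refine LinearMap.BilinForm.nondegenerate_restrict_of_disjoint_orthogonal B hA.isRefl ?_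
  rw [Submodule.disjoint_def]
  intro x hx hxo
  obtain ⟨a, b, rfl⟩ := Submodule.mem_span_pair.mp hx
  have h1 : B v (a • v + b • u) = 0 := hxo v (Submodule.subset_span (by simp))
  have h2 : B u (a • v + b • u) = 0 := hxo u (Submodule.subset_span (by simp))
  simp [hA v, h] at h1
  simp [hA u, h'] at h2
  simp [h1, h2]

theorem finrank_hyperbolic_span (hA : B.IsAlt) {v u : V} (h : B v u = 1) :
    Module.finrank F (Submodule.span F ({v, u} : Set V)) = 2 := by
  have hli : LinearIndependent F ![v, u] := by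
    rw [LinearIndependent.pair_iff]
    intro a b hab
    have h1 := congrArg (B v) hab
    have h2 := congrArg (B u) hab
    simp [hA v, h] at h1
    simp [hA u, (show B u v = -1 by rw [← hA.neg_eq, h])] at h2
    exact ⟨h2, h1⟩
  have := finrank_span_eq_card hli
  rwa [Matrix.range_cons_cons_empty, Fintype.card_fin] at this

theorem restrict_orthogonal_nondegenerate [FiniteDimensional F V] (hA : B.IsAlt) (hB : B.Nondegenerate)
    {P : Submodule F V} (hP : (B.restrict P).Nondegenerate) :
    (B.restrict (B.orthogonal P)).Nondegenerate := by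
  rw [LinearMap.BilinForm.restrict_nondegenerate_iff_isCompl_orthogonal hA.isRefl,
    LinearMap.BilinForm.orthogonal_orthogonal hB hA.isRefl]
  exact (LinearMap.BilinForm.isCompl_orthogonal_of_restrict_nondegenerate hA.isRefl hP).symm

theorem card_fiber_functional [Finite F] [FiniteDimensional F V] (f : V →ₗ[F] F) (hf : f ≠ 0) :
    Nat.card {u : V // f u = 1} = Nat.card F ^ (Module.finrank F V - 1) := by
  have hsurj := LinearMap.surjective_of_ne_zero hf
  obtain ⟨u₀, hu₀⟩ := hsurj 1
  have e : {u : V // f u = 1} ≃ LinearMap.ker f :=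
    { toFun := fun u => ⟨u.1 - u₀, by simp [u.2, hu₀]⟩
      invFun := fun k => ⟨k.1 + u₀, by rw [map_add, LinearMap.mem_ker.mp k.2, hu₀, zero_add]⟩
      left_inv := fun u => by simp
      right_inv := fun k => by simp }
  have hk : Module.finrank F (LinearMap.ker f) = Module.finrank F V - 1 := by
    have := f.finrank_range_add_finrank_ker
    rw [LinearMap.range_eq_top.mpr hsurj, finrank_top, Module.finrank_self] at this
    omega
  rw [Nat.card_congr e, Module.natCard_eq_pow_finrank (K := F), hk]

theorem card_hyperbolic_pairs [Finite F] [FiniteDimensional F V] (hB : B.Nondegenerate) :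
    Nat.card {p : V × V // B p.1 p.2 = 1} =
      (Nat.card F ^ Module.finrank F V - 1) * Nat.card F ^ (Module.finrank F V - 1) := by
  classical
  haveI : Finite V := Module.finite_of_finite F
  haveI := Fintype.ofFinite V
  let e : {p : V × V // B p.1 p.2 = 1} ≃ Σ v : {v : V // v ≠ 0}, {u : V // B v.1 u = 1} :=
    { toFun := fun p => ⟨⟨p.1.1, fun h => by simpa [h] using p.2⟩, ⟨p.1.2, p.2⟩⟩
      invFun := fun s => ⟨(s.1.1, s.2.1), s.2.2⟩
      left_inv := fun p => rfl
      right_inv := fun s => rfl }
  rw [Nat.card_congr e, Nat.card_sigma, Finset.sum_congr rfl (fun (v : {v : V // v ≠ 0}) _ =>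
    card_fiber_functional (B v.1) (fun h => v.2 (hB.1 v.1 fun y => by simp [h]))),
    Finset.sum_const, Finset.card_univ, smul_eq_mul]
  congr 1
  rw [Fintype.card_subtype_compl, Fintype.card_subtype_eq, ← Nat.card_eq_fintype_card,
    Module.natCard_eq_pow_finrank (K := F)]

instance prodMulActionBilinIsom : MulAction (BilinIsom B) (V × V) where
  smul g p := ((g : V ≃ₗ[F] V) p.1, (g : V ≃ₗ[F] V) p.2)
  one_smul p := rfl
  mul_smul a b p := rfl

theorem card_bilinIsom_step [Finite F] [FiniteDimensional F V] (hA : B.IsAlt) (hB : B.Nondegenerate)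
    {v u : V} (h : B v u = 1) :
    Nat.card (BilinIsom B) =
      (Nat.card F ^ Module.finrank F V - 1) * Nat.card F ^ (Module.finrank F V - 1) *
        Nat.card (BilinIsom (B.restrict (B.orthogonal (Submodule.span F ({v, u} : Set V))))) := by
  set P := Submodule.span F ({v, u} : Set V) with hP
  rw [← Nat.card_congr (MulAction.orbitProdStabilizerEquivGroup (BilinIsom B) ((v, u) : V × V)),
    Nat.card_prod]
  congr 1
  · rw [← card_hyperbolic_pairs hB]
    refine Nat.card_congr (Equiv.subtypeEquivRight fun p => ⟨?_, fun hp => ?_⟩)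
    · rintro ⟨g, rfl⟩
      change B ((g : V ≃ₗ[F] V) v) ((g : V ≃ₗ[F] V) u) = 1
      rw [BilinIsom.map_form, h]
    · obtain ⟨g, h1, h2⟩ := sympIsom_pair_transitive hA hB h hp
      exact ⟨g, Prod.ext h1 h2⟩
  · refine Nat.card_congr (Equiv.trans (Equiv.subtypeEquivRight fun g => ?_)
      (pointFixerEquiv hA.isRefl P (LinearMap.BilinForm.isCompl_orthogonal_of_restrict_nondegenerate
        hA.isRefl (restrict_hyperbolic_nondegenerate hA h))).toEquiv)
    constructor
    · intro hg p hp
      obtain ⟨a, b, rfl⟩ := Submodule.mem_span_pair.mp hp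
      have h1 : (g : V ≃ₗ[F] V) v = v := congrArg Prod.fst hg
      have h2 : (g : V ≃ₗ[F] V) u = u := congrArg Prod.snd hg
      simp [h1, h2]
    · intro hg
      exact Prod.ext (hg v (Submodule.subset_span (by simp))) (hg u (Submodule.subset_span (by simp)))

/-- Order of the symplectic group. -/
theorem card_bilinIsom_symplectic [Finite F] : ∀ (m : ℕ) {V : Type v} [AddCommGroup V] [Module F V]
    [FiniteDimensional F V] {B : LinearMap.BilinForm F V}, B.IsAlt → B.Nondegenerate →
    Module.finrank F V = 2 * m →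
    Nat.card (BilinIsom B) = Nat.card F ^ (m ^ 2) * ∏ i ∈ Finset.range m, (Nat.card F ^ (2 * (i + 1)) - 1) := by
  intro m
  induction m with
  | zero =>
    intro V _ _ _ B hA hB hd
    haveI : Subsingleton V := Module.finrank_zero_iff.mp (by simpa using hd)
    haveI : Subsingleton (BilinIsom B) := ⟨fun a b => BilinIsom.ext' fun x => Subsingleton.elim _ _⟩
    simp
  | succ m ih =>
    intro V _ _ _ B hA hB hd
    haveI : Nontrivial V := Module.nontrivial_of_finrank_pos (R := F) (by omega)
    obtain ⟨v, hv⟩ := exists_ne (0 : V)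
    obtain ⟨u, hu⟩ := exists_hyperbolic_partner hB hv
    have hP := restrict_hyperbolic_nondegenerate hA hu
    have hfin : Module.finrank F (B.orthogonal (Submodule.span F ({v, u} : Set V))) = 2 * m := by
      rw [LinearMap.BilinForm.finrank_orthogonal hB, finrank_hyperbolic_span hA hu, hd]
      omega
    rw [card_bilinIsom_step hA hB hu, ih (B := B.restrict (B.orthogonal (Submodule.span F ({v, u} : Set V))))
      (fun x => hA x) (restrict_orthogonal_nondegenerate hA hB hP) hfin, hd, Finset.prod_range_succ,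
      show (2 * (m + 1) - 1) = 2 * m + 1 by omega, show (m + 1) ^ 2 = m ^ 2 + (2 * m + 1) by ring, pow_add]
    ring

theorem center_bilinIsom_scalar [FiniteDimensional F V] (hA : B.IsAlt) (hB : B.Nondegenerate)
    [Nontrivial V] {g : BilinIsom B} (hg : ∀ v c, Commute g (sympT hA v c)) :
    ∃ a : F, a ^ 2 = 1 ∧ ∀ x, (g : V ≃ₗ[F] V) x = a • x := by
  have hline : ∀ v : V, ∃ r : F, (g : V ≃ₗ[F] V) v = r • v := by
    intro v
    by_cases hv : v = 0
    · exact ⟨0, by simp [hv]⟩
    obtain ⟨u, hu⟩ := exists_hyperbolic_partner hB hv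
    have hu' : B u v = -1 := by rw [← hA.neg_eq, hu]
    have := congrArg (fun h : BilinIsom B => (h : V ≃ₗ[F] V) u) (hg v 1).eq
    simp only [BilinIsom.mul_apply', sympT_apply, map_add, map_smul, one_mul, hu'] at this
    have h2 := add_left_cancel this
    refine ⟨-(B ((g : V ≃ₗ[F] V) u) v), ?_⟩
    rw [neg_one_smul] at h2
    rw [neg_smul, ← h2, neg_neg]
  obtain ⟨a, ha⟩ := (g : V ≃ₗ[F] V).toLinearMap.exists_eq_smul_id_of_forall_notLinearIndependent fun v => by
    obtain ⟨r, hr⟩ := hline v
    rw [LinearIndependent.pair_iff]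
    push Not
    exact ⟨-r, 1, by simp [hr], fun _ => one_ne_zero⟩
  refine ⟨a, ?_, fun x => by simpa using congrArg (fun f : V →ₗ[F] V => f x) ha⟩
  obtain ⟨v, hv⟩ := exists_ne (0 : V)
  obtain ⟨u, hu⟩ := exists_hyperbolic_partner hB hv
  have e : ∀ x, (g : V ≃ₗ[F] V) x = a • x := fun x => by simpa using congrArg (fun f : V →ₗ[F] V => f x) ha
  have := BilinIsom.map_form g v u
  rw [e, e, map_smul, map_smul, LinearMap.smul_apply, hu, smul_eq_mul, smul_eq_mul, mul_one] at this
  rw [sq, this]

theorem mem_center_bilinIsom_iff [FiniteDimensional F V] (hA : B.IsAlt) (hB : B.Nondegenerate)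
    [Nontrivial V] {g : BilinIsom B} :
    g ∈ Subgroup.center (BilinIsom B) ↔ ∃ a : F, a ^ 2 = 1 ∧ ∀ x, (g : V ≃ₗ[F] V) x = a • x := by
  constructor
  · intro hg
    exact center_bilinIsom_scalar hA hB fun v c => (Subgroup.mem_center_iff.mp hg _).symm
  · rintro ⟨a, -, ha⟩
    rw [Subgroup.mem_center_iff]
    intro h
    exact BilinIsom.ext' fun x => by rw [BilinIsom.mul_apply', BilinIsom.mul_apply', ha, ha, map_smul]

end Cfsg.Lib.Classical
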