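import Mathlib
import Cfsg.Agent.Classical.Symp.Card
import Cfsg.Agent.Classical.IwasawaQuot

set_option autoImplicit false
set_option linter.unusedVariables false
set_option linter.unusedSimpArgs false
set_option linter.style.haveILetI false

/-! Perfectness, primitivity on points and simplicity modulo scalars for symplectic groups. -/

open scoped LinearAlgebra.Projectivization Pointwise

namespace Cfsg.Lib.Classical

universe u v

variable {F : Type u} [Field F] {V : Type v} [AddCommGroup V] [Module F V]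
  {B : LinearMap.BilinForm F V}

section Perfect

theorem finrank_span_pair_le (v w : V) :
    Module.finrank F (Submodule.span F ({v, w} : Set V)) ≤ 2 := by
  classical
  have h1 : (({v, w} : Finset V) : Set V) = {v, w} := by simp
  rw [← h1]
  exact (finrank_span_finset_le_card _).trans Finset.card_le_two

theorem sympT_class_invariant (hA : B.IsAlt) (g : BilinIsom B) (v : V) (c : F) :
    Abelianization.of (sympT hA ((g : V ≃ₗ[F] V) v) c) = Abelianization.of (sympT hA v c) := by
  rw [← sympT_conj, map_mul, map_mul, map_inv, mul_inv_cancel_comm]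

theorem sympT_class_eq [FiniteDimensional F V] (hA : B.IsAlt) (hB : B.Nondegenerate) {v w : V}
    (hv : v ≠ 0) (hw : w ≠ 0) (c : F) :
    Abelianization.of (sympT hA v c) = Abelianization.of (sympT hA w c) := by
  obtain ⟨g, rfl⟩ := sympIsom_transitive hA hB hv hw
  exact (sympT_class_invariant hA g v c).symm

theorem commutator_bilinIsom_eq_top_of_class [FiniteDimensional F V] (hA : B.IsAlt)
    (hB : B.Nondegenerate) (h : ∀ v : V, v ≠ 0 → ∀ c, Abelianization.of (sympT hA v c) = 1) :
    commutator (BilinIsom B) = ⊤ := by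
  rw [← Abelianization.ker_of, eq_top_iff, ← transGroup_eq_top hA hB, transGroup, transGroupOn,
    Subgroup.closure_le]
  rintro _ ⟨v, -, c, rfl⟩
  rcases eq_or_ne v 0 with rfl | hv
  · rw [sympT_zero_vec]; exact Subgroup.one_mem _
  · exact h v hv c

theorem exists_orth_notMem [FiniteDimensional F V] (hB : B.Nondegenerate) (X : Submodule F V)
    (h : 2 * Module.finrank F X < Module.finrank F V) : ∃ w ∈ B.orthogonal X, w ∉ X := by
  by_contra hc
  push Not at hc
  have h1 := Submodule.finrank_mono (show B.orthogonal X ≤ X from hc)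
  rw [LinearMap.BilinForm.finrank_orthogonal hB] at h1
  omega

/-- Perfectness when some scalar has square different from one. -/
theorem perfect_of_square_ne_one [FiniteDimensional F V] (hA : B.IsAlt) (hB : B.Nondegenerate)
    {a : F} (ha : a ≠ 0) (ha2 : a ^ 2 ≠ 1) : commutator (BilinIsom B) = ⊤ := by
  refine commutator_bilinIsom_eq_top_of_class hA hB fun v hv c => ?_
  have hne : a ^ 2 - 1 ≠ 0 := sub_ne_zero.mpr ha2
  obtain ⟨g, hg⟩ := sympIsom_transitive hA hB hv (smul_ne_zero ha hv)
  have h := sympT_class_invariant hA g v (c / (a ^ 2 - 1))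
  rw [hg, sympT_smul, show a ^ 2 * (c / (a ^ 2 - 1)) = c + c / (a ^ 2 - 1) by field_simp; ring,
    sympT_add, map_mul] at h
  exact mul_eq_right.mp h

theorem perfect_of_two_ne_zero [FiniteDimensional F V] (hA : B.IsAlt) (hB : B.Nondegenerate)
    (h2 : (2 : F) ≠ 0) (hd : 4 ≤ Module.finrank F V) : commutator (BilinIsom B) = ⊤ := by
  refine commutator_bilinIsom_eq_top_of_class hA hB fun v hv c => ?_
  obtain ⟨w, hwo, hwv⟩ := exists_orth_notMem hB (Submodule.span F {v})
    (by rw [finrank_span_singleton hv]; omega)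
  have hvw : B v w = 0 := hwo v (Submodule.mem_span_singleton_self v)
  have hwv' : B w v = 0 := by rw [← hA.neg_eq, hvw, neg_zero]
  have hw : w ≠ 0 := fun h => hwv (h ▸ Submodule.zero_mem _)
  have hp : v + w ≠ 0 := fun h => hwv (by
    rw [eq_neg_of_add_eq_zero_right h]; exact Submodule.neg_mem _ (Submodule.mem_span_singleton_self v))
  have hm : v - w ≠ 0 := fun h => hwv (by
    rw [← sub_eq_zero.mp h]; exact Submodule.mem_span_singleton_self v)
  have key : ∀ d : F, sympT hA (v + w) d * sympT hA (v - w) d = sympT hA v (2 * d) * sympT hA w (2 * d) :=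
    fun d => BilinIsom.ext' fun x => by
      rw [BilinIsom.mul_apply', BilinIsom.mul_apply']
      simp only [sympT_apply, map_add, map_sub, map_smul, LinearMap.add_apply, LinearMap.sub_apply,
        LinearMap.smul_apply, hA v, hA w, hvw, hwv', smul_eq_mul, mul_zero, add_zero, sub_zero]
      module
  have hsq : ∀ d : F, Abelianization.of (sympT hA v d) * Abelianization.of (sympT hA v d) =
      Abelianization.of (sympT hA v (2 * d)) := fun d => by rw [← map_mul, ← sympT_add, two_mul]
  have h4 : ∀ d : F, Abelianization.of (sympT hA v (2 * d)) =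
      Abelianization.of (sympT hA v (2 * d)) * Abelianization.of (sympT hA v (2 * d)) := fun d => by
    have := congrArg Abelianization.of (key d)
    rwa [map_mul, map_mul, sympT_class_eq hA hB hp hv, sympT_class_eq hA hB hm hv,
      sympT_class_eq hA hB hw hv, hsq] at this
  have := h4 (c / 2)
  rw [mul_div_cancel₀ c h2] at this
  exact (mul_eq_left.mp this.symm)

theorem perfect_of_two_eq_zero [FiniteDimensional F V] (hA : B.IsAlt) (hB : B.Nondegenerate)
    (h2 : (2 : F) = 0) (hd : 6 ≤ Module.finrank F V) : commutator (BilinIsom B) = ⊤ := by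
  refine commutator_bilinIsom_eq_top_of_class hA hB fun v hv c => ?_
  obtain ⟨w, hwo, hwv⟩ := exists_orth_notMem hB (Submodule.span F {v})
    (by rw [finrank_span_singleton hv]; omega)
  have hX : 2 * Module.finrank F (Submodule.span F ({v, w} : Set V)) < Module.finrank F V := by
    have := finrank_span_pair_le (F := F) v w
    omega
  obtain ⟨z, hzo, hz⟩ := exists_orth_notMem hB (Submodule.span F ({v, w} : Set V)) hX
  have mv : v ∈ Submodule.span F ({v, w} : Set V) := Submodule.subset_span (by simp)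
  have mw : w ∈ Submodule.span F ({v, w} : Set V) := Submodule.subset_span (by simp)
  have hvw : B v w = 0 := hwo v (Submodule.mem_span_singleton_self v)
  have hvz : B v z = 0 := hzo v mv
  have hwz : B w z = 0 := hzo w mw
  have hwv' : B w v = 0 := by rw [← hA.neg_eq, hvw, neg_zero]
  have hzv : B z v = 0 := by rw [← hA.neg_eq, hvz, neg_zero]
  have hzw : B z w = 0 := by rw [← hA.neg_eq, hwz, neg_zero]
  have hw : w ≠ 0 := fun h => hwv (h ▸ Submodule.zero_mem _)
  have hz0 : z ≠ 0 := fun h => hz (h ▸ Submodule.zero_mem _)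
  have n1 : v + w ≠ 0 := fun h => hwv (by
    rw [eq_neg_of_add_eq_zero_right h]; exact Submodule.neg_mem _ (Submodule.mem_span_singleton_self v))
  have n2 : v + z ≠ 0 := fun h => hz (by
    rw [eq_neg_of_add_eq_zero_right h]; exact Submodule.neg_mem _ mv)
  have n3 : w + z ≠ 0 := fun h => hz (by
    rw [eq_neg_of_add_eq_zero_right h]; exact Submodule.neg_mem _ mw)
  have n4 : v + w + z ≠ 0 := fun h => hz (by
    rw [eq_neg_of_add_eq_zero_right h]; exact Submodule.neg_mem _ (Submodule.add_mem _ mv mw))
  have key : sympT hA (v + w + z) c * sympT hA (v + w) c * sympT hA (v + z) c * sympT hA (w + z) c *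
      sympT hA v c * sympT hA w c * sympT hA z c = 1 :=
    BilinIsom.ext' fun x => by
      simp only [BilinIsom.mul_apply', BilinIsom.one_apply', sympT_apply, map_add, map_smul,
        LinearMap.add_apply, LinearMap.smul_apply, hA v, hA w, hA z, hvw, hwv', hvz, hzv, hwz, hzw,
        smul_eq_mul, mul_zero, add_zero]
      linear_combination (norm := module) h2 • (x + (2 * c * B x v + c * B x w + c * B x z) • v +
        (c * B x v + 2 * c * B x w + c * B x z) • w + (c * B x v + c * B x w + 2 * c * B x z) • z - x)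
  have := congrArg Abelianization.of key
  simp only [map_mul, map_one, sympT_class_eq hA hB n4 hv, sympT_class_eq hA hB n1 hv,
    sympT_class_eq hA hB n2 hv, sympT_class_eq hA hB n3 hv, sympT_class_eq hA hB hw hv,
    sympT_class_eq hA hB hz0 hv] at this
  have hsq : Abelianization.of (sympT hA v c) * Abelianization.of (sympT hA v c) = 1 := by
    rw [← map_mul, ← sympT_add, ← two_mul, h2, zero_mul, sympT_zero, map_one]
  simpa [mul_assoc, hsq] using this

theorem commutator_bilinIsom_eq_top [Finite F] [FiniteDimensional F V] (hA : B.IsAlt)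
    (hB : B.Nondegenerate)
    (h : 6 ≤ Module.finrank F V ∨ (Module.finrank F V = 4 ∧ 3 ≤ Nat.card F) ∨ 4 ≤ Nat.card F) :
    commutator (BilinIsom B) = ⊤ := by
  by_cases h4 : 4 ≤ Nat.card F
  · classical
    haveI := Fintype.ofFinite F
    obtain ⟨a, -, ha⟩ := Finset.exists_mem_notMem_of_card_lt_card
      (show ({0, 1, -1} : Finset F).card < (Finset.univ : Finset F).card by
        have h3 : ({0, 1, -1} : Finset F).card ≤ 3 := Finset.card_le_three
        rw [Finset.card_univ, ← Nat.card_eq_fintype_card]; omega)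
    simp only [Finset.mem_insert, Finset.mem_singleton, not_or] at ha
    refine perfect_of_square_ne_one hA hB ha.1 fun h2 => ?_
    rcases sq_eq_one_iff.mp h2 with h' | h'
    · exact ha.2.1 h'
    · exact ha.2.2 h'
  · by_cases h2 : (2 : F) = 0
    · rcases h with h | ⟨hd, h3⟩ | h
      · exact perfect_of_two_eq_zero hA hB h2 h
      · exfalso
        haveI := Fintype.ofFinite F
        have hc3 : Fintype.card F = 3 := by rw [← Nat.card_eq_fintype_card]; omega
        have : ((3 : ℕ) : F) = 0 := by rw [← hc3]; exact Nat.cast_card_eq_zero F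
        have h1 : (1 : F) = 0 := by
          push_cast at this
          linear_combination this - h2
        exact one_ne_zero h1
      · exact absurd h h4
    · refine perfect_of_two_ne_zero hA hB h2 ?_
      rcases h with h | ⟨hd, h3⟩ | h <;> omega

end Perfect

section Primitive

theorem bilinIsom_smul_mk (g : BilinIsom B) {x : V} (hx : x ≠ 0) :
    g • Projectivization.mk F x hx =
      Projectivization.mk F ((g : V ≃ₗ[F] V) x) ((LinearEquiv.map_ne_zero_iff _).mpr hx) := rfl

theorem bilinIsom_pretransitive [FiniteDimensional F V] (hA : B.IsAlt) (hB : B.Nondegenerate) :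
    MulAction.IsPretransitive (BilinIsom B) (ℙ F V) := by
  refine ⟨fun p q => ?_⟩
  obtain ⟨g, hg⟩ := sympIsom_transitive hA hB p.rep_nonzero q.rep_nonzero
  refine ⟨g, ?_⟩
  conv_lhs => rw [← p.mk_rep]
  rw [bilinIsom_smul_mk]
  conv_rhs => rw [← q.mk_rep]
  congr 1

theorem exists_point_map_nonorth [FiniteDimensional F V] (hA : B.IsAlt) (hB : B.Nondegenerate)
    {p q q' : V} (h : B p q ≠ 0) (h' : B p q' ≠ 0) :
    ∃ g : BilinIsom B, (g : V ≃ₗ[F] V) p = p ∧ ∃ c : F, c ≠ 0 ∧ (g : V ≃ₗ[F] V) q = c • q' := by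
  have h1 : B p ((B p q)⁻¹ • q) = 1 := by simp [h]
  have h2 : B p ((B p q')⁻¹ • q') = 1 := by simp [h']
  obtain ⟨g, hg1, hg2⟩ := sympIsom_pair_transitive hA hB h1 h2
  refine ⟨g, hg1, B p q * (B p q')⁻¹, mul_ne_zero h (inv_ne_zero h'), ?_⟩
  rw [map_smul] at hg2
  have := congrArg (fun x => B p q • x) hg2
  simpa [smul_smul, h] using this

theorem exists_point_map_orth [FiniteDimensional F V] (hA : B.IsAlt) (hB : B.Nondegenerate)
    {p q q' : V} (hp : p ≠ 0) (h : B p q = 0) (h' : B p q' = 0) (hq : q ∉ Submodule.span F ({p} : Set V))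
    (hq' : q' ∉ Submodule.span F ({p} : Set V)) :
    ∃ g : BilinIsom B, (g : V ≃ₗ[F] V) p = p ∧ (g : V ≃ₗ[F] V) q = q' := by
  obtain ⟨g, -, hg1, hg2⟩ := exists_transGroup_move hA hB (Submodule.span F {p}) hq hq' (fun z hz => by
    obtain ⟨r, rfl⟩ := Submodule.mem_span_singleton.mp hz
    simp [h, h'])
  exact ⟨g, hg2 p (Submodule.mem_span_singleton_self p), hg1⟩

theorem notMem_span_of_mk_ne {p q : V} (hp : p ≠ 0) (hq : q ≠ 0)
    (h : Projectivization.mk F q hq ≠ Projectivization.mk F p hp) :
    q ∉ Submodule.span F ({p} : Set V) := by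
  intro hm
  obtain ⟨r, rfl⟩ := Submodule.mem_span_singleton.mp hm
  exact h ((Projectivization.mk_eq_mk_iff' F _ _ hq hp).mpr ⟨r, rfl⟩)

theorem bilinIsom_primitive [FiniteDimensional F V] (hA : B.IsAlt) (hB : B.Nondegenerate)
    [Nontrivial V] : MulAction.IsPreprimitive (BilinIsom B) (ℙ F V) := by
  haveI := bilinIsom_pretransitive hA hB
  obtain ⟨p₀, hp₀⟩ := exists_ne (0 : V)
  refine MulAction.IsPreprimitive.of_isTrivialBlock_base (Projectivization.mk F p₀ hp₀)
    fun {Bl} hmem hBl => ?_
  rw [MulAction.IsTrivialBlock, or_iff_not_imp_left]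
  intro hns
  obtain ⟨Q, hQ, hQne⟩ : ∃ Q ∈ Bl, Q ≠ Projectivization.mk F p₀ hp₀ := by
    by_contra hc
    push Not at hc
    exact hns fun a ha b hb => (hc a ha).trans (hc b hb).symm
  induction Q using Projectivization.ind with | h q hq => ?_
  have smul_mem : ∀ {P : ℙ F V} (g : BilinIsom B), P ∈ Bl → g • P ∈ Bl →
      ∀ R ∈ Bl, g • R ∈ Bl := by
    intro P g hP hgP R hR
    have := hBl.smul_eq_of_mem hP hgP
    rw [← this]
    exact Set.smul_mem_smul_set hR
  have move : ∀ (g : BilinIsom B) (x : V) (hx : x ≠ 0) (y : V) (hy : y ≠ 0),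
      (∃ c : F, (g : V ≃ₗ[F] V) x = c • y) →
      g • Projectivization.mk F x hx = Projectivization.mk F y hy := by
    rintro g x hx y hy ⟨c, hc⟩
    rw [bilinIsom_smul_mk, Projectivization.mk_eq_mk_iff']
    exact ⟨c, hc.symm⟩
  have hqspan := notMem_span_of_mk_ne hp₀ hq hQne
  by_cases ho : B p₀ q = 0
  · -- every point orthogonal to a point of the block lies in the block
    have nb0 : ∀ (r : V) (hr : r ≠ 0), B p₀ r = 0 → Projectivization.mk F r hr ∈ Bl := by
      intro r hr hr0
      by_cases hrp : Projectivization.mk F r hr = Projectivization.mk F p₀ hp₀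
      · rw [hrp]; exact hmem
      obtain ⟨g, hg1, hg2⟩ := exists_point_map_orth hA hB hp₀ ho hr0 hqspan
        (notMem_span_of_mk_ne hp₀ hr hrp)
      have := smul_mem g hmem (by rw [move g p₀ hp₀ p₀ hp₀ ⟨1, by rw [hg1, one_smul]⟩]; exact hmem) _ hQ
      rwa [move g q hq r hr ⟨1, by rw [hg2, one_smul]⟩] at this
    have nb : ∀ (x : V) (hx : x ≠ 0), Projectivization.mk F x hx ∈ Bl → ∀ (r : V) (hr : r ≠ 0),
        B x r = 0 → Projectivization.mk F r hr ∈ Bl := by
      intro x hx hxB r hr hxr
      obtain ⟨g, hg⟩ := sympIsom_transitive hA hB hp₀ hx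
      have hgx := move g p₀ hp₀ x hx ⟨1, by rw [hg, one_smul]⟩
      have hr' : ((g⁻¹ : BilinIsom B) : V ≃ₗ[F] V) r ≠ 0 := fun h => hr (by
        simpa [BilinIsom.apply_inv_self] using congrArg (fun t => (g : V ≃ₗ[F] V) t) h)
      have h1 := nb0 _ hr' (by rw [← BilinIsom.map_form g, hg, BilinIsom.apply_inv_self, hxr])
      have h2 := smul_mem g hmem (by rw [hgx]; exact hxB) _ h1
      rwa [move g _ hr' r hr ⟨1, by rw [BilinIsom.apply_inv_self, one_smul]⟩] at h2
    rw [Set.eq_univ_iff_forall]
    intro S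
    induction S using Projectivization.ind with | h s hs => ?_
    by_cases hd : Module.finrank F V < 3
    · -- impossible: orthogonal points coincide
      exfalso
      refine hqspan ?_
      have h1 : B.orthogonal (Submodule.span F {p₀}) = Submodule.span F {p₀} := by
        symm
        apply Submodule.eq_of_le_of_finrank_le
        · rw [Submodule.span_singleton_le_iff_mem]
          intro z hz
          obtain ⟨r, rfl⟩ := Submodule.mem_span_singleton.mp hz
          simp [hA p₀]
        · rw [LinearMap.BilinForm.finrank_orthogonal hB, finrank_span_singleton hp₀]; omega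
      rw [← h1]
      intro z hz
      obtain ⟨r, rfl⟩ := Submodule.mem_span_singleton.mp hz
      simp [ho]
    · by_cases hps : B p₀ s = 0
      · exact nb0 s hs hps
      obtain ⟨r, hro, hr⟩ : ∃ r ∈ B.orthogonal (Submodule.span F ({p₀, s} : Set V)), r ≠ 0 := by
        refine Submodule.exists_mem_ne_zero_of_ne_bot fun h => ?_
        have h1 := LinearMap.BilinForm.finrank_orthogonal hB (Submodule.span F ({p₀, s} : Set V))
        rw [h, finrank_bot] at h1
        have := finrank_span_pair_le (F := F) p₀ s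
        omega
      have hrB := nb0 r hr (hro p₀ (Submodule.subset_span (by simp)))
      refine nb r hr hrB s hs ?_
      rw [← hA.neg_eq, hro s (Submodule.subset_span (by simp)), neg_zero]
  · -- every point non-orthogonal to a point of the block lies in the block
    have nb0 : ∀ (r : V) (hr : r ≠ 0), B p₀ r ≠ 0 → Projectivization.mk F r hr ∈ Bl := by
      intro r hr hr0
      obtain ⟨g, hg1, c, -, hg2⟩ := exists_point_map_nonorth hA hB ho hr0
      have := smul_mem g hmem (by rw [move g p₀ hp₀ p₀ hp₀ ⟨1, by rw [hg1, one_smul]⟩]; exact hmem) _ hQ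
      rwa [move g q hq r hr ⟨c, hg2⟩] at this
    have nb : ∀ (x : V) (hx : x ≠ 0), Projectivization.mk F x hx ∈ Bl → ∀ (r : V) (hr : r ≠ 0),
        B x r ≠ 0 → Projectivization.mk F r hr ∈ Bl := by
      intro x hx hxB r hr hxr
      obtain ⟨g, hg⟩ := sympIsom_transitive hA hB hp₀ hx
      have hgx := move g p₀ hp₀ x hx ⟨1, by rw [hg, one_smul]⟩
      have hr' : ((g⁻¹ : BilinIsom B) : V ≃ₗ[F] V) r ≠ 0 := fun h => hr (by
        simpa [BilinIsom.apply_inv_self] using congrArg (fun t => (g : V ≃ₗ[F] V) t) h)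
      have h1 := nb0 _ hr' (by rwa [← BilinIsom.map_form g, hg, BilinIsom.apply_inv_self])
      have h2 := smul_mem g hmem (by rw [hgx]; exact hxB) _ h1
      rwa [move g _ hr' r hr ⟨1, by rw [BilinIsom.apply_inv_self, one_smul]⟩] at h2
    rw [Set.eq_univ_iff_forall]
    intro S
    induction S using Projectivization.ind with | h s hs => ?_
    obtain ⟨r, -, hr1, hr2⟩ := exists_mem_ne_zero_pair (D := (⊤ : Submodule F V)) (f := B p₀) (g := B s)
      ⟨q, trivial, ho⟩
      (by obtain ⟨u, hu⟩ := exists_hyperbolic_partner hB hs; exact ⟨u, trivial, by simp [hu]⟩)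
    have hr : r ≠ 0 := fun h => hr1 (by simp [h])
    refine nb r hr (nb0 r hr hr1) s hs ?_
    rw [← hA.neg_eq]
    exact neg_ne_zero.mpr hr2

end Primitive

section Simple

/-- `c ↦ sympT v c` as a homomorphism. -/
def sympTHom (hA : B.IsAlt) (v : V) : Multiplicative F →* BilinIsom B where
  toFun c := sympT hA v c.toAdd
  map_one' := sympT_zero hA v
  map_mul' c d := sympT_add hA v _ _

theorem mem_sympTHom_range (hA : B.IsAlt) {v : V} {x : BilinIsom B} :
    x ∈ (sympTHom hA v).range ↔ ∃ c : F, sympT hA v c = x := Iff.rfl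

theorem sympTHom_range_smul (hA : B.IsAlt) (v : V) {a : F} (ha : a ≠ 0) :
    (sympTHom hA (a • v)).range = (sympTHom hA v).range := by
  ext x
  simp only [mem_sympTHom_range, sympT_smul]
  constructor
  · rintro ⟨c, hc⟩
    exact ⟨a ^ 2 * c, hc⟩
  · rintro ⟨c, hc⟩
    exact ⟨(a ^ 2)⁻¹ * c, by rw [mul_inv_cancel_left₀ (pow_ne_zero 2 ha)]; exact hc⟩

/-- The Iwasawa structure of the symplectic group on points: root groups. -/
noncomputable def sympIwasawa [FiniteDimensional F V] (hA : B.IsAlt) (hB : B.Nondegenerate) :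
    MulAction.IwasawaStructure (BilinIsom B) (ℙ F V) where
  T p := (sympTHom hA p.rep).range
  is_comm p := inferInstance
  is_conj g p := by
    have h : (sympTHom hA (g • p).rep).range = (sympTHom hA ((g : V ≃ₗ[F] V) p.rep)).range := by
      obtain ⟨a, ha⟩ : ∃ a : Fˣ, a • (g : V ≃ₗ[F] V) p.rep = (g • p).rep := by
        conv => arg 1; intro a; rhs; arg 1; rw [← p.mk_rep, bilinIsom_smul_mk]
        exact Projectivization.exists_smul_eq_mk_rep F _ _
      rw [← ha, Units.smul_def, sympTHom_range_smul hA _ a.ne_zero]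
    rw [h]
    ext x
    rw [Subgroup.mem_pointwise_smul_iff_inv_smul_mem]
    constructor
    · rintro ⟨c, rfl⟩
      refine ⟨c, ?_⟩
      rw [← map_inv, MulAut.smul_def, MulAut.conj_apply]
      change sympT hA p.rep c.toAdd = g⁻¹ * sympT hA ((g : V ≃ₗ[F] V) p.rep) c.toAdd * g⁻¹⁻¹
      rw [sympT_conj, BilinIsom.inv_apply_self]
    · rintro ⟨c, hc⟩
      refine ⟨c, ?_⟩
      rw [← map_inv, MulAut.smul_def, MulAut.conj_apply] at hc
      change sympT hA ((g : V ≃ₗ[F] V) p.rep) c.toAdd = x
      change sympT hA p.rep c.toAdd = g⁻¹ * x * g⁻¹⁻¹ at hc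
      rw [← sympT_conj, hc]
      group
  is_generator := by
    rw [eq_top_iff, ← transGroup_eq_top hA hB, transGroup, transGroupOn, Subgroup.closure_le]
    rintro _ ⟨v, -, c, rfl⟩
    rcases eq_or_ne v 0 with rfl | hv
    · rw [sympT_zero_vec]; exact Subgroup.one_mem _
    refine Subgroup.mem_iSup_of_mem (Projectivization.mk F v hv) ?_
    obtain ⟨a, ha⟩ := Projectivization.exists_smul_eq_mk_rep F v hv
    rw [← ha, Units.smul_def, sympTHom_range_smul hA _ a.ne_zero]
    exact ⟨Multiplicative.ofAdd c, rfl⟩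

theorem mem_center_of_fixes_points [FiniteDimensional F V] (hA : B.IsAlt) (hB : B.Nondegenerate)
    [Nontrivial V] (g : BilinIsom B) (hg : ∀ p : ℙ F V, g • p = p) :
    g ∈ Subgroup.center (BilinIsom B) := by
  obtain ⟨a, ha⟩ := (g : V ≃ₗ[F] V).toLinearMap.exists_eq_smul_id_of_forall_notLinearIndependent fun v => by
    rw [LinearIndependent.pair_iff]
    push Not
    rcases eq_or_ne v 0 with rfl | hv
    · exact ⟨1, 0, by simp, fun h => absurd h one_ne_zero⟩
    have h := hg (Projectivization.mk F v hv)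
    rw [bilinIsom_smul_mk, Projectivization.mk_eq_mk_iff'] at h
    obtain ⟨r, hr⟩ := h
    exact ⟨-r, 1, by simp [← hr], fun _ => one_ne_zero⟩
  have e : ∀ x, (g : V ≃ₗ[F] V) x = a • x := fun x => by simpa using congrArg (fun f : V →ₗ[F] V => f x) ha
  obtain ⟨v, hv⟩ := exists_ne (0 : V)
  obtain ⟨u, hu⟩ := exists_hyperbolic_partner hB hv
  refine (mem_center_bilinIsom_iff hA hB).mpr ⟨a, ?_, e⟩
  have := BilinIsom.map_form g v u
  rw [e, e, map_smul, map_smul, LinearMap.smul_apply, hu, smul_eq_mul, smul_eq_mul, mul_one] at this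
  rw [sq, this]

theorem center_bilinIsom_ne_top [FiniteDimensional F V] (hA : B.IsAlt) (hB : B.Nondegenerate)
    [Nontrivial V] : Subgroup.center (BilinIsom B) ≠ ⊤ := by
  intro h
  obtain ⟨v, hv⟩ := exists_ne (0 : V)
  obtain ⟨u, hu⟩ := exists_hyperbolic_partner hB hv
  obtain ⟨a, -, ha⟩ := (mem_center_bilinIsom_iff hA hB).mp (h ▸ Subgroup.mem_top (sympT hA v 1))
  have hu' : B u v = -1 := by rw [← hA.neg_eq, hu]
  have h1 := ha v
  have h2 := ha u
  rw [sympT_apply, hA v, mul_zero, zero_smul, add_zero] at h1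
  obtain rfl : a = 1 := smul_left_injective F hv (by simp [← h1])
  rw [sympT_apply, hu', one_smul, one_mul, neg_one_smul] at h2
  exact hv (by simpa using h2)

theorem isSimpleGroup_bilinIsom_quotient [Finite F] [FiniteDimensional F V] (hA : B.IsAlt)
    (hB : B.Nondegenerate) [Nontrivial V]
    (h : 6 ≤ Module.finrank F V ∨ (Module.finrank F V = 4 ∧ 3 ≤ Nat.card F) ∨ 4 ≤ Nat.card F) :
    IsSimpleGroup (BilinIsom B ⧸ Subgroup.center (BilinIsom B)) := by
  haveI := bilinIsom_primitive hA hB
  exact isSimpleGroup_quotient_of_iwasawa (sympIwasawa hA hB) (commutator_bilinIsom_eq_top hA hB h) _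
    (mem_center_of_fixes_points hA hB) (center_bilinIsom_ne_top hA hB)

end Simple

end Cfsg.Lib.Classical
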