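import Mathlib
import Cfsg.Prelude.Def_ClassicalGeometry
import Cfsg.Agent.Classical.Symp.Simple

set_option autoImplicit false
set_option linter.unusedVariables false
set_option linter.unusedSimpArgs false
set_option linter.style.haveILetI false

/-! Transfer between the symplectic matrix group and the isometry group of `sympBilin`. -/

open Matrix
open scoped LinearAlgebra.Projectivization

namespace Cfsg.Lib.Classical

universe u

variable {F : Type u} [Field F] {m : ℕ}

/-- The standard alternating bilinear form with matrix `J`. -/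
noncomputable def sympBilin (m : ℕ) (F : Type u) [Field F] :
    LinearMap.BilinForm F (Fin m ⊕ Fin m → F) :=
  Matrix.toBilin' (Matrix.J (Fin m) F)

theorem sympBilin_apply (x y : Fin m ⊕ Fin m → F) :
    sympBilin m F x y = x ⬝ᵥ (Matrix.J (Fin m) F *ᵥ y) := Matrix.toBilin'_apply' _ _ _

theorem sympBilin_eq_sympForm (x y : Fin m ⊕ Fin m → F) :
    sympBilin m F x y = Cfsg.sympForm m F x y := sympBilin_apply x y

theorem sympBilin_eq_sum (x y : Fin m ⊕ Fin m → F) :
    sympBilin m F x y = ∑ i, (x (Sum.inr i) * y (Sum.inl i) - x (Sum.inl i) * y (Sum.inr i)) := by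
  rw [sympBilin_apply, Matrix.J, dotProduct, Fintype.sum_sum_type, Finset.sum_sub_distrib]
  simp [Matrix.fromBlocks_mulVec, mulVec, Matrix.one_apply, dotProduct, Finset.sum_ite_eq]
  abel

theorem sympBilin_isAlt (m : ℕ) (F : Type u) [Field F] : (sympBilin m F).IsAlt := fun x => by
  rw [sympBilin_eq_sum]
  exact Finset.sum_eq_zero fun i _ => by ring

theorem sympBilin_nondegenerate (m : ℕ) (F : Type u) [Field F] : (sympBilin m F).Nondegenerate := by
  rw [sympBilin]
  exact LinearMap.BilinForm.nondegenerate_toBilin'_of_det_ne_zero' _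
    (Matrix.isUnit_det_J (Fin m) F).ne_zero

theorem finrank_sympSpace (m : ℕ) (F : Type u) [Field F] :
    Module.finrank F (Fin m ⊕ Fin m → F) = 2 * m := by
  rw [Module.finrank_fintype_fun_eq_card, Fintype.card_sum, Fintype.card_fin]; ring

theorem mem_symplectic_iff_form (A : Matrix (Fin m ⊕ Fin m) (Fin m ⊕ Fin m) F) :
    A ∈ symplecticGroup (Fin m) F ↔ ∀ x y, sympBilin m F (A *ᵥ x) (A *ᵥ y) = sympBilin m F x y := by
  rw [SymplecticGroup.mem_iff']
  constructor
  · intro h x y
    rw [sympBilin_apply, sympBilin_apply, dotProduct_mulVec, vecMul_mulVec, ← dotProduct_mulVec,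
      Matrix.mulVec_mulVec, h]
  · intro h
    apply Matrix.toBilin'.injective
    refine LinearMap.ext fun x => LinearMap.ext fun y => ?_
    have := h x y
    rw [sympBilin_apply, sympBilin_apply, dotProduct_mulVec, vecMul_mulVec, ← dotProduct_mulVec,
      Matrix.mulVec_mulVec] at this
    rw [Matrix.toBilin'_apply', Matrix.toBilin'_apply', this]

/-- A symplectic matrix as an isometry. -/
noncomputable def toIsom (A : symplecticGroup (Fin m) F) : BilinIsom (sympBilin m F) :=
  ⟨LinearEquiv.ofLinearMap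
    (Matrix.toLin' (A : Matrix (Fin m ⊕ Fin m) (Fin m ⊕ Fin m) F))
    (Matrix.toLin' ((A⁻¹ : symplecticGroup (Fin m) F) : Matrix (Fin m ⊕ Fin m) (Fin m ⊕ Fin m) F))
    (by rw [← Matrix.toLin'_mul, ← Submonoid.coe_mul, mul_inv_cancel, Submonoid.coe_one, Matrix.toLin'_one])
    (by rw [← Matrix.toLin'_mul, ← Submonoid.coe_mul, inv_mul_cancel, Submonoid.coe_one, Matrix.toLin'_one]),
  fun x y => (mem_symplectic_iff_form A.1).mp A.2 x y⟩

theorem toIsom_apply (A : symplecticGroup (Fin m) F) (x : Fin m ⊕ Fin m → F) :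
    ((toIsom A : BilinIsom (sympBilin m F)) : (Fin m ⊕ Fin m → F) ≃ₗ[F] _) x =
      (A : Matrix (Fin m ⊕ Fin m) (Fin m ⊕ Fin m) F) *ᵥ x := rfl

/-- An isometry as a symplectic matrix. -/
noncomputable def ofIsom (g : BilinIsom (sympBilin m F)) : symplecticGroup (Fin m) F :=
  ⟨LinearMap.toMatrix' (g : (Fin m ⊕ Fin m → F) ≃ₗ[F] _).toLinearMap,
    (mem_symplectic_iff_form _).mpr fun x y => by
      rw [LinearMap.toMatrix'_mulVec, LinearMap.toMatrix'_mulVec]
      exact BilinIsom.map_form g x y⟩

theorem ofIsom_mulVec (g : BilinIsom (sympBilin m F)) (x : Fin m ⊕ Fin m → F) :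
    ((ofIsom g : symplecticGroup (Fin m) F) : Matrix (Fin m ⊕ Fin m) (Fin m ⊕ Fin m) F) *ᵥ x =
      (g : (Fin m ⊕ Fin m → F) ≃ₗ[F] _) x :=
  LinearMap.toMatrix'_mulVec _ x

/-- The symplectic matrix group is the isometry group of `sympBilin`. -/
noncomputable def sympEquiv (m : ℕ) (F : Type u) [Field F] :
    symplecticGroup (Fin m) F ≃* BilinIsom (sympBilin m F) where
  toFun := toIsom
  invFun := ofIsom
  left_inv A := Subtype.ext (Matrix.toLin'.injective (LinearMap.ext fun x => by
    simp only [Matrix.toLin'_apply, ofIsom_mulVec, toIsom_apply]))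
  right_inv g := BilinIsom.ext' fun x => by rw [toIsom_apply, ofIsom_mulVec]
  map_mul' A B := BilinIsom.ext' fun x => by
    simp [BilinIsom.mul_apply', toIsom_apply, Matrix.mulVec_mulVec]

theorem sympEquiv_apply (A : symplecticGroup (Fin m) F) (x : Fin m ⊕ Fin m → F) :
    ((sympEquiv m F A : BilinIsom (sympBilin m F)) : (Fin m ⊕ Fin m → F) ≃ₗ[F] _) x =
      (A : Matrix (Fin m ⊕ Fin m) (Fin m ⊕ Fin m) F) *ᵥ x := rfl

theorem sympEquiv_symm_mulVec (g : BilinIsom (sympBilin m F)) (x : Fin m ⊕ Fin m → F) :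
    (((sympEquiv m F).symm g : symplecticGroup (Fin m) F) : Matrix (Fin m ⊕ Fin m) (Fin m ⊕ Fin m) F) *ᵥ x =
      (g : (Fin m ⊕ Fin m → F) ≃ₗ[F] _) x := ofIsom_mulVec g x

theorem sympTransvection_mulVec (v x : Fin m ⊕ Fin m → F) (c : F) :
    Cfsg.sympTransvection m v c *ᵥ x = x + (c * sympBilin m F x v) • v := by
  rw [Cfsg.sympTransvection, add_mulVec, one_mulVec, smul_mulVec, vecMulVec_mulVec, sympBilin_apply,
    dotProduct_comm, op_smul_eq_smul, smul_smul]

theorem sympTransvection_eq (v : Fin m ⊕ Fin m → F) (c : F) :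
    Cfsg.sympTransvection m v c =
      (((sympEquiv m F).symm (sympT (sympBilin_isAlt m F) v c) : symplecticGroup (Fin m) F) :
        Matrix (Fin m ⊕ Fin m) (Fin m ⊕ Fin m) F) :=
  Matrix.toLin'.injective (LinearMap.ext fun x => by
    simp only [Matrix.toLin'_apply, sympTransvection_mulVec, sympEquiv_symm_mulVec, sympT_apply])

theorem closure_sympTransvection_eq_top (m : ℕ) :
    Subgroup.closure {A : symplecticGroup (Fin m) F | ∃ (w : Fin m ⊕ Fin m → F) (c : F),
      (A : Matrix (Fin m ⊕ Fin m) (Fin m ⊕ Fin m) F) = Cfsg.sympTransvection m w c} = ⊤ := by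
  have h := congrArg (Subgroup.map (sympEquiv m F).symm.toMonoidHom)
    (transGroup_eq_top (sympBilin_isAlt m F) (sympBilin_nondegenerate m F))
  rw [transGroup, transGroupOn, MonoidHom.map_closure,
    Subgroup.map_top_of_surjective _ (sympEquiv m F).symm.surjective] at h
  rw [eq_top_iff, ← h]
  apply Subgroup.closure_mono
  rintro _ ⟨_, ⟨v, -, c, rfl⟩, rfl⟩
  exact ⟨v, c, (sympTransvection_eq v c).symm⟩

theorem card_symplecticGroup [Finite F] (m : ℕ) :
    Nat.card (symplecticGroup (Fin m) F) =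
      Nat.card F ^ (m ^ 2) * ∏ i ∈ Finset.range m, (Nat.card F ^ (2 * (i + 1)) - 1) := by
  rw [Nat.card_congr (sympEquiv m F).toEquiv,
    card_bilinIsom_symplectic m (sympBilin_isAlt m F) (sympBilin_nondegenerate m F) (finrank_sympSpace m F)]

theorem card_square_roots_one [Finite F] :
    Nat.card {a : F // a ^ 2 = 1} = Nat.gcd 2 (Nat.card F - 1) := by
  have e : {a : F // a ^ 2 = 1} ≃ (powMonoidHom 2 : Fˣ →* Fˣ).ker :=
    { toFun := fun a => ⟨Units.mk0 a.1 (fun h => by simpa [h] using a.2), Units.ext (by simpa using a.2)⟩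
      invFun := fun u => ⟨(u.1 : F), by simpa using congrArg Units.val (MonoidHom.mem_ker.mp u.2)⟩
      left_inv := fun a => rfl
      right_inv := fun u => Subtype.ext (Units.ext rfl) }
  rw [Nat.card_congr e, IsCyclic.card_powMonoidHom_ker, Nat.card_units, Nat.gcd_comm]

theorem card_center_bilinIsom_symplectic [Finite F] {V : Type*} [AddCommGroup V] [Module F V]
    [FiniteDimensional F V] {B : LinearMap.BilinForm F V} (hA : B.IsAlt) (hB : B.Nondegenerate)
    [Nontrivial V] : Nat.card (Subgroup.center (BilinIsom B)) = Nat.gcd 2 (Nat.card F - 1) := by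
  rw [← card_square_roots_one]
  symm
  let f : {a : F // a ^ 2 = 1} → Subgroup.center (BilinIsom B) := fun a =>
    ⟨⟨LinearEquiv.smulOfUnit (Units.mk0 a.1 (fun h => by simpa [h] using a.2)), fun x y => by
      change B (a.1 • x) (a.1 • y) = B x y
      rw [map_smul, map_smul, LinearMap.smul_apply, smul_smul, ← sq, a.2, one_smul]⟩,
      (mem_center_bilinIsom_iff hA hB).mpr ⟨a.1, a.2, fun x => rfl⟩⟩
  refine Nat.card_congr (Equiv.ofBijective f ⟨fun a b h => ?_, fun g => ?_⟩)
  · obtain ⟨v, hv⟩ := exists_ne (0 : V)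
    have := congrArg (fun g : Subgroup.center (BilinIsom B) => ((g.1 : BilinIsom B) : V ≃ₗ[F] V) v) h
    exact Subtype.ext (smul_left_injective F hv this)
  · obtain ⟨a, ha, hg⟩ := (mem_center_bilinIsom_iff hA hB).mp g.2
    exact ⟨⟨a, ha⟩, Subtype.ext (BilinIsom.ext' fun x => (hg x).symm)⟩

theorem nontrivial_sympSpace (hm : 1 ≤ m) : Nontrivial (Fin m ⊕ Fin m → F) :=
  Module.nontrivial_of_finrank_pos (R := F) (by rw [finrank_sympSpace]; omega)

theorem card_center_symplecticGroup [Finite F] (hm : 1 ≤ m) :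
    Nat.card (Subgroup.center (symplecticGroup (Fin m) F)) = Nat.gcd 2 (Nat.card F - 1) := by
  haveI := nontrivial_sympSpace (F := F) hm
  rw [Nat.card_congr (Subgroup.centerCongr (sympEquiv m F)).toEquiv,
    card_center_bilinIsom_symplectic (sympBilin_isAlt m F) (sympBilin_nondegenerate m F)]

theorem commutator_symplecticGroup [Finite F]
    (h : 3 ≤ m ∨ (m = 2 ∧ 3 ≤ Nat.card F) ∨ 4 ≤ Nat.card F) :
    commutator (symplecticGroup (Fin m) F) = ⊤ := by
  haveI : Group.IsPerfect (BilinIsom (sympBilin m F)) := ⟨commutator_bilinIsom_eq_top (sympBilin_isAlt m F)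
    (sympBilin_nondegenerate m F) (by rw [finrank_sympSpace]; omega)⟩
  have h2 := congrArg (Subgroup.map (sympEquiv m F).symm.toMonoidHom)
    (Group.IsPerfect.commutator_eq_top (G := BilinIsom (sympBilin m F)))
  rw [Subgroup.map_top_of_surjective _ (sympEquiv m F).symm.surjective, commutator_def,
    Subgroup.map_commutator, Subgroup.map_top_of_surjective _ (sympEquiv m F).symm.surjective] at h2
  exact h2

/-- Quotient by the centre transfers along an isomorphism. -/
noncomputable def centerQuotCongr {G H : Type*} [Group G] [Group H] (e : G ≃* H) :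
    G ⧸ Subgroup.center G ≃* H ⧸ Subgroup.center H :=
  QuotientGroup.congr _ _ e (by
    ext x
    constructor
    · rintro ⟨g, hg, rfl⟩
      rw [Subgroup.mem_center_iff]
      intro h
      obtain ⟨k, rfl⟩ := e.surjective h
      change e k * e g = e g * e k
      rw [← map_mul, ← map_mul, Subgroup.mem_center_iff.mp hg k]
    · intro hx
      refine ⟨e.symm x, ?_, e.apply_symm_apply x⟩
      rw [SetLike.mem_coe, Subgroup.mem_center_iff]
      intro k
      apply e.injective
      rw [map_mul, map_mul, e.apply_symm_apply, Subgroup.mem_center_iff.mp hx])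

theorem isSimpleGroup_symplectic_quotient [Finite F] (hm : 2 ≤ m) (h : m = 2 → 3 ≤ Nat.card F) :
    IsSimpleGroup (symplecticGroup (Fin m) F ⧸ Subgroup.center (symplecticGroup (Fin m) F)) := by
  haveI := nontrivial_sympSpace (F := F) (show 1 ≤ m by omega)
  haveI := isSimpleGroup_bilinIsom_quotient (sympBilin_isAlt m F) (sympBilin_nondegenerate m F) (by
    rw [finrank_sympSpace]; rcases eq_or_lt_of_le hm with rfl | h3
    · exact Or.inr (Or.inl ⟨rfl, h rfl⟩)
    · exact Or.inl (by omega))
  exact (centerQuotCongr (sympEquiv m F)).isSimpleGroup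

end Cfsg.Lib.Classical
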