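import Mathlib
import Cfsg.Agent.Classical.Symp.Matrix

/-! `S_{2n}` embeds in `Sp_{2n-2}(2)` through the even vectors modulo the all-one vector. -/

set_option autoImplicit false
set_option linter.unusedSimpArgs false
set_option linter.style.haveILetI false

namespace Cfsg.Lib.Classical.SymEmbedding

open Equiv Matrix

/-- The field with two elements. -/
local notation "B" => ZMod 2

variable {k : ℕ}

/-- The `2i`th and the next standard vector. -/
def va (k i : ℕ) : Fin (2 * k + 2) → B := fun x => if 2 * i ≤ (x : ℕ) ∧ (x : ℕ) ≤ 2 * i + 1 then 1 else 0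

/-- The standard vectors between `2i + 1` and `2k`. -/
def vb (k i : ℕ) : Fin (2 * k + 2) → B := fun x => if 2 * i + 1 ≤ (x : ℕ) ∧ (x : ℕ) ≤ 2 * k then 1 else 0

theorem va_dot {i : ℕ} (hi : i < k) (y : Fin (2 * k + 2) → B) :
    va k i ⬝ᵥ y = y ⟨2 * i, by omega⟩ + y ⟨2 * i + 1, by omega⟩ := by
  rw [dotProduct, ← Finset.sum_subset (Finset.subset_univ {⟨2 * i, by omega⟩, ⟨2 * i + 1, by omega⟩})]
  · rw [Finset.sum_pair (by simp)]
    simp [va]
  · intro x _ hx
    simp [Fin.ext_iff] at hx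
    rw [va, if_neg (by omega), zero_mul]

theorem va_va {i j : ℕ} (hi : i < k) : va k i ⬝ᵥ va k j = 0 := by
  rw [va_dot hi]
  simp only [va]
  split_ifs <;> first | omega | decide

theorem va_vb {i j : ℕ} (hi : i < k) (hj : j < k) : va k i ⬝ᵥ vb k j = if i = j then 1 else 0 := by
  rw [va_dot hi]
  simp only [vb]
  split_ifs <;> first | omega | decide

theorem vb_vb {i j : ℕ} (hi : i < k) (hj : j < k) : vb k i ⬝ᵥ vb k j = 0 := by
  have hval : ∀ x : Fin (2 * k + 2), vb k i x * vb k j x =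
      if 2 * max i j + 1 ≤ (x : ℕ) ∧ (x : ℕ) ≤ 2 * k then 1 else 0 := fun x => by
    simp only [vb]
    split_ifs <;> first | omega | simp
  rw [dotProduct, Finset.sum_congr rfl (fun x _ => hval x), Finset.sum_boole,
    show Finset.univ.filter (fun x : Fin (2 * k + 2) => 2 * max i j + 1 ≤ (x : ℕ) ∧ (x : ℕ) ≤ 2 * k) =
      Finset.Icc ⟨2 * max i j + 1, by omega⟩ ⟨2 * k, by omega⟩ by ext x; simp [Fin.le_def], Fin.card_Icc]
  rw [ZMod.natCast_eq_zero_iff]
  simp only
  omega

theorem one_va (i : ℕ) (hi : i < k) : va k i ⬝ᵥ (1 : Fin (2 * k + 2) → B) = 0 := by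
  rw [va_dot hi]; exact (by decide : (1 : B) + 1 = 0)

theorem one_vb {i : ℕ} (hi : i < k) : vb k i ⬝ᵥ (1 : Fin (2 * k + 2) → B) = 0 := by
  rw [← vb_vb hi hi]
  simp only [dotProduct]
  exact Finset.sum_congr rfl fun x _ => by simp only [vb]; split_ifs <;> simp

theorem const_of_orth (y : Fin (2 * k + 2) → B) (heven : ∑ x, y x = 0) (ha : ∀ i < k, va k i ⬝ᵥ y = 0)
    (hb : ∀ i < k, vb k i ⬝ᵥ y = 0) : ∀ x, y x = y 0 := by
  have hz : ∀ a b : B, a + b = 0 → a = b := by decide
  have hb' : ∀ i, vb k i ⬝ᵥ y = 0 := fun i => by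
    by_cases hi : i < k
    · exact hb i hi
    · refine Finset.sum_eq_zero fun x _ => ?_
      rw [vb, if_neg (by omega), zero_mul]
  have hstep : ∀ i (hi : i < k), y ⟨2 * i + 1, by omega⟩ = y ⟨2 * i + 2, by omega⟩ := by
    intro i hi
    have h : vb k i ⬝ᵥ y - vb k (i + 1) ⬝ᵥ y = y ⟨2 * i + 1, by omega⟩ + y ⟨2 * i + 2, by omega⟩ := by
      rw [← sub_dotProduct, dotProduct,
        ← Finset.sum_subset (Finset.subset_univ {⟨2 * i + 1, by omega⟩, ⟨2 * i + 2, by omega⟩})]
      · rw [Finset.sum_pair (by simp)]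
        simp [vb, show 2 * i + 1 ≤ 2 * k by omega, show 2 * i + 2 ≤ 2 * k by omega, show ¬ (2 * (i + 1) ≤ 2 * i + 1) by omega]
      · intro x _ hx
        simp [Fin.ext_iff] at hx
        simp only [Pi.sub_apply, vb]
        split_ifs <;> first | omega | simp
    rw [hb' i, hb' (i + 1), sub_zero] at h
    exact hz _ _ h.symm
  have hlow : ∀ n (hn : n ≤ 2 * k), y ⟨n, by omega⟩ = y 0 := by
    intro n
    induction n with
    | zero => intro _; rfl
    | succ n ih =>
      intro hn
      rw [← ih (by omega)]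
      rcases Nat.even_or_odd' n with ⟨i, rfl | rfl⟩
      · exact (hz _ _ ((va_dot (k := k) (by omega : i < k) y).symm.trans (ha i (by omega)))).symm
      · exact (hstep i (by omega)).symm
  intro x
  by_cases hx : (x : ℕ) ≤ 2 * k
  · exact hlow x hx
  · have hlast : x = Fin.last (2 * k + 1) := Fin.ext (by have := x.2; simp; omega)
    subst hlast
    rw [Fin.sum_univ_castSucc, Finset.sum_congr rfl (fun i _ => hlow i.val (Nat.le_of_lt_succ i.2)),
      Finset.sum_const, Finset.card_univ, Fintype.card_fin, nsmul_eq_mul] at heven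
    refine (hz _ _ ?_).symm
    rw [← heven]
    push_cast
    have h2 : (2 : B) = 0 := by decide
    rw [h2]
    ring

/-- Coordinates of the even vectors. -/
def inc (k : ℕ) : (Fin k ⊕ Fin k → B) →ₗ[B] (Fin (2 * k + 2) → B) where
  toFun u := ∑ i : Fin k, (u (Sum.inl i) • va k i + u (Sum.inr i) • vb k i)
  map_add' u w := by
    rw [← Finset.sum_add_distrib]
    exact Finset.sum_congr rfl fun i _ => by simp only [Pi.add_apply, add_smul]; abel
  map_smul' c u := by
    rw [Finset.smul_sum]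
    exact Finset.sum_congr rfl fun i _ => by simp [smul_add, smul_smul]

/-- The projection onto the coordinates. -/
def prj (k : ℕ) : (Fin (2 * k + 2) → B) →ₗ[B] (Fin k ⊕ Fin k → B) where
  toFun v s := match s with
    | Sum.inl i => vb k i ⬝ᵥ v
    | Sum.inr i => va k i ⬝ᵥ v
  map_add' v w := by ext (i | i) <;> simp
  map_smul' c v := by ext (i | i) <;> simp

theorem prj_inc (u : Fin k ⊕ Fin k → B) : prj k (inc k u) = u := by
  ext (j | j)
  · show vb k j ⬝ᵥ ∑ i : Fin k, _ = _
    rw [dotProduct_sum, Finset.sum_eq_single j]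
    · simp [dotProduct_add, vb_vb j.2 j.2, dotProduct_comm (vb k j) (va k j), va_vb j.2 j.2]
    · intro i _ hij
      simp [dotProduct_add, vb_vb j.2 i.2, dotProduct_comm (vb k j) (va k i), va_vb i.2 j.2,
        Fin.val_ne_of_ne hij]
    · simp
  · show va k j ⬝ᵥ ∑ i : Fin k, _ = _
    rw [dotProduct_sum, Finset.sum_eq_single j]
    · simp [dotProduct_add, va_va j.2, va_vb j.2 j.2]
    · intro i _ hij
      simp [dotProduct_add, va_va j.2, va_vb j.2 i.2, Ne.symm (Fin.val_ne_of_ne hij)]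
    · simp

theorem inc_even (u : Fin k ⊕ Fin k → B) : (1 : Fin (2 * k + 2) → B) ⬝ᵥ inc k u = 0 := by
  show (1 : Fin (2 * k + 2) → B) ⬝ᵥ ∑ i : Fin k, _ = 0
  rw [dotProduct_sum]
  refine Finset.sum_eq_zero fun i _ => ?_
  rw [dotProduct_add, dotProduct_smul, dotProduct_smul, dotProduct_comm, one_va i i.2, dotProduct_comm, one_vb i.2]
  simp

theorem prj_one : prj k (1 : Fin (2 * k + 2) → B) = 0 := by
  ext (i | i)
  · exact one_vb i.2
  · exact one_va i i.2

theorem exists_const (y : Fin (2 * k + 2) → B) (hy : (1 : Fin (2 * k + 2) → B) ⬝ᵥ y = 0) :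
    ∃ c : B, inc k (prj k y) = y + c • (1 : Fin (2 * k + 2) → B) := by
  set z := inc k (prj k y) - y
  have hz0 : prj k z = 0 := by rw [map_sub, prj_inc, sub_self]
  have hconst := const_of_orth z
    (by
      have h : (1 : Fin (2 * k + 2) → B) ⬝ᵥ z = 0 := by rw [dotProduct_sub, inc_even, hy, sub_zero]
      simpa [dotProduct] using h)
    (fun i hi => congrFun hz0 (Sum.inr ⟨i, hi⟩)) (fun i hi => congrFun hz0 (Sum.inl ⟨i, hi⟩))
  refine ⟨z 0, funext fun x => ?_⟩
  have h := hconst x
  simp [z] at h ⊢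
  linear_combination h

/-- Permutation of coordinates. -/
def perm (σ : Perm (Fin (2 * k + 2))) : (Fin (2 * k + 2) → B) →ₗ[B] (Fin (2 * k + 2) → B) :=
  LinearMap.funLeft B B σ.symm

theorem perm_dot (σ : Perm (Fin (2 * k + 2))) (x y : Fin (2 * k + 2) → B) : perm σ x ⬝ᵥ perm σ y = x ⬝ᵥ y := by
  simp only [dotProduct, perm, LinearMap.funLeft_apply]
  exact Equiv.sum_comp σ.symm (fun i => x i * y i)

theorem perm_one' (σ : Perm (Fin (2 * k + 2))) : perm σ (1 : Fin (2 * k + 2) → B) = 1 := rfl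

theorem perm_even (σ : Perm (Fin (2 * k + 2))) (u : Fin k ⊕ Fin k → B) :
    (1 : Fin (2 * k + 2) → B) ⬝ᵥ perm σ (inc k u) = 0 := by
  rw [← perm_one' σ, perm_dot, inc_even]

/-- The representation. -/
def rho (σ : Perm (Fin (2 * k + 2))) : (Fin k ⊕ Fin k → B) →ₗ[B] (Fin k ⊕ Fin k → B) :=
  (prj k).comp ((perm σ).comp (inc k))

theorem rho_mul (σ τ : Perm (Fin (2 * k + 2))) : rho (σ * τ) = (rho σ).comp (rho τ) := by
  refine LinearMap.ext fun u => ?_
  obtain ⟨c, hc⟩ := exists_const _ (perm_even τ u)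
  show prj k (perm (σ * τ) (inc k u)) = prj k (perm σ (inc k (prj k (perm τ (inc k u)))))
  rw [hc, map_add, map_smul, perm_one', map_add, map_smul, prj_one, smul_zero, add_zero]
  rfl

theorem rho_one : rho (1 : Perm (Fin (2 * k + 2))) = LinearMap.id :=
  LinearMap.ext fun u => prj_inc u

theorem form_inc (u w : Fin k ⊕ Fin k → B) :
    Cfsg.Lib.Classical.sympBilin k B u w = inc k u ⬝ᵥ inc k w := by
  have h : inc k u ⬝ᵥ inc k w = ∑ i, (u (Sum.inl i) * prj k (inc k w) (Sum.inr i) +
      u (Sum.inr i) * prj k (inc k w) (Sum.inl i)) := by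
    show (∑ i : Fin k, _) ⬝ᵥ inc k w = _
    rw [sum_dotProduct]
    exact Finset.sum_congr rfl fun i _ => by rw [add_dotProduct, smul_dotProduct, smul_dotProduct]; rfl
  rw [h, prj_inc, Cfsg.Lib.Classical.sympBilin_eq_sum]
  exact Finset.sum_congr rfl fun i _ => by rw [CharTwo.sub_eq_add, add_comm]

theorem rho_form (σ : Perm (Fin (2 * k + 2))) (u w : Fin k ⊕ Fin k → B) :
    Cfsg.Lib.Classical.sympBilin k B (rho σ u) (rho σ w) = Cfsg.Lib.Classical.sympBilin k B u w := by
  rw [form_inc, form_inc]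
  obtain ⟨c, hc⟩ := exists_const _ (perm_even σ u)
  obtain ⟨d, hd⟩ := exists_const _ (perm_even σ w)
  show inc k (prj k (perm σ (inc k u))) ⬝ᵥ inc k (prj k (perm σ (inc k w))) = _
  rw [hc, hd]
  simp only [add_dotProduct, dotProduct_add, smul_dotProduct, dotProduct_smul,
    dotProduct_comm _ (1 : Fin (2 * k + 2) → B), perm_even, perm_dot]
  have h11 : (1 : Fin (2 * k + 2) → B) ⬝ᵥ 1 = 0 := by
    rw [dotProduct]
    simp
    rw [show (2 : B) = 0 by decide]
    ring
  simp [h11]

/-- The embedding. -/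
noncomputable def embed (k : ℕ) : Perm (Fin (2 * k + 2)) →* Matrix.symplecticGroup (Fin k) B where
  toFun σ := ⟨LinearMap.toMatrix' (rho σ), (Cfsg.Lib.Classical.mem_symplectic_iff_form _).mpr fun x y => by
    rw [LinearMap.toMatrix'_mulVec, LinearMap.toMatrix'_mulVec, rho_form]⟩
  map_one' := Subtype.ext (by
    show LinearMap.toMatrix' (rho (1 : Perm (Fin (2 * k + 2)))) = 1
    rw [rho_one, LinearMap.toMatrix'_id])
  map_mul' σ τ := Subtype.ext (by
    show LinearMap.toMatrix' (rho (σ * τ)) = _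
    rw [rho_mul, LinearMap.toMatrix'_comp]; rfl)

theorem embed_injective (hk : 2 ≤ k) : Function.Injective (embed k) := by
  rw [injective_iff_map_eq_one]
  intro σ hσ
  have hid : rho σ = LinearMap.id := LinearMap.toMatrix'.injective (by
    rw [LinearMap.toMatrix'_id]; exact congrArg Subtype.val hσ)
  have hfix : ∀ y, (1 : Fin (2 * k + 2) → B) ⬝ᵥ y = 0 → ∃ c : B, perm σ y = y + c • (1 : Fin (2 * k + 2) → B) := by
    intro y hy
    obtain ⟨c, hc⟩ := exists_const y hy
    obtain ⟨d, hd⟩ := exists_const (perm σ y) (by rw [← perm_one' σ, perm_dot, hy])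
    have e : prj k (perm σ y) = prj k y := by
      conv_rhs => rw [show prj k y = prj k (perm σ (inc k (prj k y))) from (LinearMap.congr_fun hid (prj k y)).symm]
      rw [hc, map_add, map_smul, perm_one', map_add, map_smul, prj_one, smul_zero, add_zero]
    rw [e, hc] at hd
    refine ⟨c - d, funext fun x => ?_⟩
    have hx := congrFun hd x
    simp at hx ⊢
    linear_combination -hx
  have key : ∀ p r : Fin (2 * k + 2), p ≠ r → σ p = p ∨ σ p = r := by
    intro p r hpr
    have hy : (1 : Fin (2 * k + 2) → B) ⬝ᵥ (Pi.single p (1 : B) + Pi.single r 1) = 0 := by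
      rw [dotProduct_add, dotProduct_single, dotProduct_single, Pi.one_apply, Pi.one_apply]; decide
    obtain ⟨c, hc⟩ := hfix _ hy
    obtain ⟨x, hx⟩ : ∃ x, x ∉ ({p, r, σ p, σ r} : Finset (Fin (2 * k + 2))) := by
      suffices h : ({p, r, σ p, σ r} : Finset (Fin (2 * k + 2))).card < (Finset.univ : Finset (Fin (2 * k + 2))).card by
        obtain ⟨x, -, hx⟩ := Finset.exists_mem_notMem_of_card_lt_card h
        exact ⟨x, hx⟩
      have := (Finset.card_le_four (a := p) (b := r) (c := σ p) (d := σ r))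
      rw [Finset.card_univ, Fintype.card_fin]
      omega
    simp at hx
    have h1 := congrFun hc x
    simp [perm, LinearMap.funLeft_apply, Pi.single_apply, Equiv.symm_apply_eq, hx] at h1
    subst h1
    have h2 := congrFun hc (σ p)
    simp [perm, LinearMap.funLeft_apply, Pi.single_apply, hpr] at h2
    by_contra hcon
    push Not at hcon
    simp [hcon.1, hcon.2] at h2
  refine Equiv.ext fun p => ?_
  by_contra hp
  change σ p ≠ p at hp
  obtain ⟨r, hr⟩ : ∃ r, r ∉ ({p, σ p} : Finset (Fin (2 * k + 2))) := by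
    suffices h : ({p, σ p} : Finset (Fin (2 * k + 2))).card < (Finset.univ : Finset (Fin (2 * k + 2))).card by
      obtain ⟨x, -, hx⟩ := Finset.exists_mem_notMem_of_card_lt_card h
      exact ⟨x, hx⟩
    have := Finset.card_le_two (a := p) (b := σ p)
    rw [Finset.card_univ, Fintype.card_fin]
    omega
  simp at hr
  rcases key p r (Ne.symm hr.1) with h | h
  · exact hp h
  · exact hr.2 h.symm

theorem exists_hom (n : ℕ) (hn : 3 ≤ n) :
    ∃ f : Perm (Fin (2 * n)) →* Matrix.symplecticGroup (Fin (n - 1)) B, Function.Injective f := by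
  obtain ⟨k, rfl⟩ : ∃ k, n = k + 1 := ⟨n - 1, by omega⟩
  exact ⟨embed k, embed_injective (by omega)⟩

theorem six {F : Type*} [Field F] [Fintype F] (hF : Fintype.card F = 2) :
    Nonempty (Matrix.symplecticGroup (Fin 2) F ≃* Perm (Fin 6)) := by
  let e : B ≃+* F := FiniteField.ringEquivOfCardEq (by rw [hF, ZMod.card])
  let M : Matrix (Fin 2 ⊕ Fin 2) (Fin 2 ⊕ Fin 2) B →+* Matrix (Fin 2 ⊕ Fin 2) (Fin 2 ⊕ Fin 2) F := e.toRingHom.mapMatrix
  have hmem : ∀ A : Matrix.symplecticGroup (Fin 2) B, M A.1 ∈ Matrix.symplecticGroup (Fin 2) F := by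
    intro A
    have hJ : M (Matrix.J (Fin 2) B) = Matrix.J (Fin 2) F := by
      have h : (-1 : F) = 1 := by rw [← map_one e, ← map_neg]; exact congrArg e (by decide)
      ext (i | i) (j | j) <;> simp [M, Matrix.J, Matrix.one_apply, apply_ite e] <;> split_ifs <;> simp [h]
    have hT : M (A.1ᵀ) = (M A.1)ᵀ := by ext i j; rfl
    rw [SymplecticGroup.mem_iff, ← hJ, ← hT, ← map_mul, ← map_mul, SymplecticGroup.mem_iff.mp A.2]
  let f : Perm (Fin 6) →* Matrix.symplecticGroup (Fin 2) F :=
    { toFun := fun σ => ⟨M (embed 2 σ).1, hmem _⟩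
      map_one' := Subtype.ext (by simp)
      map_mul' := fun a b => Subtype.ext (by simp) }
  have hf : Function.Injective f := fun a b h => embed_injective (k := 2) le_rfl
    (Subtype.ext (Matrix.map_injective e.injective (congrArg Subtype.val h)))
  refine ⟨(MulEquiv.ofBijective f ((Nat.bijective_iff_injective_and_card f).mpr ⟨hf, ?_⟩)).symm⟩
  rw [Cfsg.Lib.Classical.card_symplecticGroup, Nat.card_eq_fintype_card (α := F), hF, Nat.card_perm, Nat.card_fin]
  decide

end Cfsg.Lib.Classical.SymEmbedding
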