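import Mathlib
import Cfsg.Agent.Classical.Symp.Card

set_option autoImplicit false
set_option linter.unusedVariables false
set_option linter.unusedSimpArgs false
set_option linter.style.haveILetI false

/-! Bases, isometries and decompositions of alternating / reflexive forms. -/

namespace Cfsg.Lib.Classical

universe u v w

variable {F : Type u} [Field F] {V : Type v} [AddCommGroup V] [Module F V]

theorem exists_symplectic_basis_aux : ∀ (n : ℕ) {V : Type v} [AddCommGroup V] [Module F V]
    [FiniteDimensional F V] (B : LinearMap.BilinForm F V), B.IsAlt → Module.finrank F V = n →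
    ∃ (m k : ℕ) (b : Module.Basis ((Fin m ⊕ Fin m) ⊕ Fin k) F V),
      (∀ i j : Fin m, B (b (Sum.inl (Sum.inl i))) (b (Sum.inl (Sum.inr j))) = if i = j then 1 else 0) ∧
      (∀ i j : Fin m, B (b (Sum.inl (Sum.inl i))) (b (Sum.inl (Sum.inl j))) = 0) ∧
      (∀ i j : Fin m, B (b (Sum.inl (Sum.inr i))) (b (Sum.inl (Sum.inr j))) = 0) ∧
      (∀ (j : Fin k) (v : V), B (b (Sum.inr j)) v = 0) := by
  intro n
  induction n using Nat.strong_induction_on with
  | _ n ih =>
    intro V _ _ _ B hA hn
    by_cases h0 : B = 0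
    · refine ⟨0, n, (Module.finBasisOfFinrankEq F V hn).reindex (Equiv.emptySum _ _).symm, ?_, ?_, ?_, ?_⟩
      · exact fun i => i.elim0
      · exact fun i => i.elim0
      · exact fun i => i.elim0
      · intro j v; simp [h0]
    obtain ⟨v, y, hxy⟩ : ∃ x y, B x y ≠ 0 := by
      by_contra hc
      push Not at hc
      exact h0 (LinearMap.ext fun x => LinearMap.ext fun y => hc x y)
    set u := (B v y)⁻¹ • y with hu
    have hvu : B v u = 1 := by simp [hu, hxy]
    have huv : B u v = -1 := by rw [← hA.neg_eq, hvu]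
    set P := Submodule.span F ({v, u} : Set V) with hP
    have hc : IsCompl P (B.orthogonal P) :=
      LinearMap.BilinForm.isCompl_orthogonal_of_restrict_nondegenerate hA.isRefl
        (restrict_hyperbolic_nondegenerate hA hvu)
    have hdim := Submodule.finrank_add_eq_of_isCompl hc
    rw [hP, finrank_hyperbolic_span hA hvu, ← hP, hn] at hdim
    obtain ⟨m, k, b, hb1, hb2, hb3, hb4⟩ := ih (Module.finrank F (B.orthogonal P)) (by omega)
      (B.restrict (B.orthogonal P)) (fun z => hA z) rfl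
    let w : (Fin (m + 1) ⊕ Fin (m + 1)) ⊕ Fin k → V :=
      Sum.elim (Sum.elim (Fin.cons v fun i => (b (Sum.inl (Sum.inl i)) : V))
        (Fin.cons u fun i => (b (Sum.inl (Sum.inr i)) : V))) (fun j => (b (Sum.inr j) : V))
    have hspan : ⊤ ≤ Submodule.span F (Set.range w) := by
      rw [← hc.sup_eq_top, sup_le_iff]
      constructor
      · rw [hP, Submodule.span_le]
        rintro z (rfl | rfl)
        · exact Submodule.subset_span ⟨Sum.inl (Sum.inl 0), rfl⟩
        · exact Submodule.subset_span ⟨Sum.inl (Sum.inr 0), rfl⟩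
      · intro z hz
        have h1 : (⟨z, hz⟩ : B.orthogonal P) ∈ Submodule.span F (Set.range b) := by
          rw [b.span_eq]; trivial
        have h2 := Submodule.apply_mem_span_image_of_mem_span (B.orthogonal P).subtype h1
        refine Submodule.span_mono ?_ h2
        rintro _ ⟨_, ⟨(i | i) | i, rfl⟩, rfl⟩
        · exact ⟨Sum.inl (Sum.inl i.succ), rfl⟩
        · exact ⟨Sum.inl (Sum.inr i.succ), rfl⟩
        · exact ⟨Sum.inr i, rfl⟩
    have hcard : Fintype.card ((Fin (m + 1) ⊕ Fin (m + 1)) ⊕ Fin k) = Module.finrank F V := by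
      have := Module.finrank_eq_card_basis b
      simp only [Fintype.card_sum, Fintype.card_fin] at this ⊢
      omega
    refine ⟨m + 1, k, basisOfTopLeSpanOfCardEqFinrank w hspan hcard, ?_⟩
    simp only [coe_basisOfTopLeSpanOfCardEqFinrank]
    have o1 : ∀ z : B.orthogonal P, B v z = 0 := fun z => z.2 v (Submodule.subset_span (by simp))
    have o2 : ∀ z : B.orthogonal P, B u z = 0 := fun z => z.2 u (Submodule.subset_span (by simp))
    have o1' : ∀ z : B.orthogonal P, B (z : V) v = 0 := fun z => hA.isRefl _ _ (o1 z)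
    have o2' : ∀ z : B.orthogonal P, B (z : V) u = 0 := fun z => hA.isRefl _ _ (o2 z)
    refine ⟨fun i j => ?_, fun i j => ?_, fun i j => ?_, fun j z => ?_⟩
    · refine Fin.cases ?_ (fun i => ?_) i <;> refine Fin.cases ?_ (fun j => ?_) j
      · simp [w, hvu]
      · simp [w, o1, (Fin.succ_ne_zero j).symm]
      · simp [w, o2', Fin.succ_ne_zero i]
      · simpa [w] using hb1 i j
    · refine Fin.cases ?_ (fun i => ?_) i <;> refine Fin.cases ?_ (fun j => ?_) j
      · simp [w, hA v]
      · simp [w, o1]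
      · simp [w, o1']
      · simpa [w] using hb2 i j
    · refine Fin.cases ?_ (fun i => ?_) i <;> refine Fin.cases ?_ (fun j => ?_) j
      · simp [w, hA u]
      · simp [w, o2]
      · simp [w, o2']
      · simpa [w] using hb3 i j
    · obtain ⟨p, hp, q, hq, rfl⟩ := Submodule.mem_sup.mp
        (hc.sup_eq_top ▸ Submodule.mem_top : z ∈ P ⊔ B.orthogonal P)
      have e1 : B (b (Sum.inr j) : V) p = 0 := hA.isRefl _ _ ((b (Sum.inr j)).2 p hp)
      have e2 : B (b (Sum.inr j) : V) q = 0 := hb4 j ⟨q, hq⟩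
      simp [w, e1, e2]

/-- Classification of alternating forms. -/
theorem exists_symplectic_basis [FiniteDimensional F V] (B : LinearMap.BilinForm F V) (hA : B.IsAlt) :
    ∃ (m k : ℕ) (b : Module.Basis ((Fin m ⊕ Fin m) ⊕ Fin k) F V),
      (∀ i j : Fin m, B (b (Sum.inl (Sum.inl i))) (b (Sum.inl (Sum.inr j))) = if i = j then 1 else 0) ∧
      (∀ i j : Fin m, B (b (Sum.inl (Sum.inl i))) (b (Sum.inl (Sum.inl j))) = 0) ∧
      (∀ i j : Fin m, B (b (Sum.inl (Sum.inr i))) (b (Sum.inl (Sum.inr j))) = 0) ∧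
      (∀ (j : Fin k) (v : V), B (b (Sum.inr j)) v = 0) :=
  exists_symplectic_basis_aux _ B hA rfl

/-- A nondegenerate alternating form has even dimension, and a symplectic basis. -/
theorem exists_symplectic_basis_nondegenerate [FiniteDimensional F V] {B : LinearMap.BilinForm F V}
    (hA : B.IsAlt) (hB : B.Nondegenerate) :
    ∃ (m : ℕ) (b : Module.Basis (Fin m ⊕ Fin m) F V), Module.finrank F V = 2 * m ∧
      (∀ i j : Fin m, B (b (Sum.inl i)) (b (Sum.inr j)) = if i = j then 1 else 0) ∧
      (∀ i j : Fin m, B (b (Sum.inl i)) (b (Sum.inl j)) = 0) ∧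
      (∀ i j : Fin m, B (b (Sum.inr i)) (b (Sum.inr j)) = 0) := by
  obtain ⟨m, k, b, h1, h2, h3, h4⟩ := exists_symplectic_basis B hA
  have hk : k = 0 := by
    by_contra hk
    exact b.ne_zero (Sum.inr ⟨0, Nat.pos_of_ne_zero hk⟩) (hB.1 _ (h4 _))
  subst hk
  refine ⟨m, b.reindex (Equiv.sumEmpty _ _), ?_, ?_, ?_, ?_⟩
  · rw [Module.finrank_eq_card_basis b]; simp only [Fintype.card_sum, Fintype.card_fin]; omega
  · intro i j; simpa using h1 i j
  · intro i j; simpa using h2 i j
  · intro i j; simpa using h3 i j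

theorem even_finrank_of_symplectic [FiniteDimensional F V] {B : LinearMap.BilinForm F V}
    (hA : B.IsAlt) (hB : B.Nondegenerate) : Even (Module.finrank F V) := by
  obtain ⟨m, -, h, -⟩ := exists_symplectic_basis_nondegenerate hA hB
  exact ⟨m, by omega⟩

/-- Transport of isometry groups along an isometric linear equivalence. -/
def bilinIsomCongr {V' : Type w} [AddCommGroup V'] [Module F V'] {B : LinearMap.BilinForm F V}
    {B' : LinearMap.BilinForm F V'} (e : V ≃ₗ[F] V') (he : ∀ x y, B' (e x) (e y) = B x y) :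
    BilinIsom B ≃* BilinIsom B' where
  toFun g := ⟨(e.symm.trans g.1).trans e, fun x y => by
    change B' (e (g.1 (e.symm x))) (e (g.1 (e.symm y))) = B' x y
    rw [he, BilinIsom.map_form, ← he, e.apply_symm_apply, e.apply_symm_apply]⟩
  invFun g := ⟨(e.trans g.1).trans e.symm, fun x y => by
    change B (e.symm (g.1 (e x))) (e.symm (g.1 (e y))) = B x y
    rw [← he, e.apply_symm_apply, e.apply_symm_apply, BilinIsom.map_form, he]⟩
  left_inv g := BilinIsom.ext' fun x => by simp
  right_inv g := BilinIsom.ext' fun x => by simp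
  map_mul' a b := BilinIsom.ext' fun x => by simp [BilinIsom.mul_apply']

variable {B : LinearMap.BilinForm F V}

/-- The stabiliser of a subspace in the isometry group. -/
def subStabilizer (B : LinearMap.BilinForm F V) (W : Submodule F V) : Subgroup (BilinIsom B) where
  carrier := {g | ∀ x, x ∈ W ↔ (g : V ≃ₗ[F] V) x ∈ W}
  mul_mem' {a b} ha hb := fun x => by rw [BilinIsom.mul_apply']; exact (hb x).trans (ha _)
  one_mem' := fun x => Iff.rfl
  inv_mem' {a} ha := fun x => by
    conv_lhs => rw [← BilinIsom.apply_inv_self a x]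
    exact (ha _).symm

theorem subStabilizer_orthogonal {W : Submodule F V} (g : subStabilizer B W) {x : V}
    (hx : x ∈ B.orthogonal W) : (g.1.1 : V ≃ₗ[F] V) x ∈ B.orthogonal W := by
  intro p hp
  change B p ((g.1.1 : V ≃ₗ[F] V) x) = 0
  rw [← BilinIsom.apply_inv_self g.1 p, BilinIsom.map_form]
  exact hx _ (((g⁻¹).2 p).mp hp)

/-- The two restrictions of an element of the stabiliser of `W`. -/
noncomputable def subStabilizerRestrict (B : LinearMap.BilinForm F V) (W : Submodule F V) :
    subStabilizer B W →* BilinIsom (B.restrict W) × BilinIsom (B.restrict (B.orthogonal W)) where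
  toFun g :=
    (⟨LinearEquiv.ofLinearMap
      ((g.1.1 : V ≃ₗ[F] V).toLinearMap.restrict fun x hx => (g.2 x).mp hx)
      (((g⁻¹).1.1 : V ≃ₗ[F] V).toLinearMap.restrict fun x hx => ((g⁻¹).2 x).mp hx)
      (LinearMap.ext fun x => Subtype.ext (BilinIsom.apply_inv_self g.1 x))
      (LinearMap.ext fun x => Subtype.ext (BilinIsom.inv_apply_self g.1 x)),
      fun x y => BilinIsom.map_form g.1 _ _⟩,
    ⟨LinearEquiv.ofLinearMap
      ((g.1.1 : V ≃ₗ[F] V).toLinearMap.restrict fun x hx => subStabilizer_orthogonal g hx)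
      (((g⁻¹).1.1 : V ≃ₗ[F] V).toLinearMap.restrict fun x hx => subStabilizer_orthogonal g⁻¹ hx)
      (LinearMap.ext fun x => Subtype.ext (BilinIsom.apply_inv_self g.1 x))
      (LinearMap.ext fun x => Subtype.ext (BilinIsom.inv_apply_self g.1 x)),
      fun x y => BilinIsom.map_form g.1 _ _⟩)
  map_one' := Prod.ext (BilinIsom.ext' fun x => Subtype.ext rfl) (BilinIsom.ext' fun x => Subtype.ext rfl)
  map_mul' a b := Prod.ext (BilinIsom.ext' fun x => Subtype.ext rfl) (BilinIsom.ext' fun x => Subtype.ext rfl)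

theorem subStabilizerRestrict_bijective (hr : B.IsRefl) (W : Submodule F V)
    (hc : IsCompl W (B.orthogonal W)) : Function.Bijective (subStabilizerRestrict B W) := by
  constructor
  · intro a b h
    apply Subtype.ext
    apply BilinIsom.ext'
    intro x
    obtain ⟨p, hp, q, hq, rfl⟩ := Submodule.mem_sup.mp
      (hc.sup_eq_top ▸ Submodule.mem_top : x ∈ W ⊔ B.orthogonal W)
    have h1 := congrArg (fun t => ((t.1.1 : W ≃ₗ[F] W) ⟨p, hp⟩ : V)) h
    have h2 := congrArg (fun t => ((t.2.1 : B.orthogonal W ≃ₗ[F] B.orthogonal W) ⟨q, hq⟩ : V)) h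
    rw [map_add, map_add]
    exact congrArg₂ (· + ·) h1 h2
  · rintro ⟨h, k⟩
    let e : V ≃ₗ[F] V := (Submodule.prodEquivOfIsCompl _ _ hc).symm ≪≫ₗ
      (h.1.prodCongr k.1) ≪≫ₗ Submodule.prodEquivOfIsCompl _ _ hc
    have heW : ∀ p : W, e p = (h.1 p : V) := fun p => by
      have : (Submodule.prodEquivOfIsCompl _ _ hc).symm (p : V) = (p, 0) :=
        Submodule.prodEquivOfIsCompl_symm_apply_left _ _ hc p
      simp [e, this]
    have heU : ∀ q : B.orthogonal W, e q = (k.1 q : V) := fun q => by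
      have : (Submodule.prodEquivOfIsCompl _ _ hc).symm (q : V) = (0, q) :=
        Submodule.prodEquivOfIsCompl_symm_apply_right _ _ hc q
      simp [e, this]
    have hperp : ∀ (p : W) (q : B.orthogonal W), B (p : V) (q : V) = 0 ∧ B (q : V) (p : V) = 0 :=
      fun p q => ⟨q.2 p p.2, hr _ _ (q.2 p p.2)⟩
    have hiso : e ∈ BilinIsom B := by
      intro x y
      obtain ⟨p, hp, w, hw, rfl⟩ := Submodule.mem_sup.mp
        (hc.sup_eq_top ▸ Submodule.mem_top : x ∈ W ⊔ B.orthogonal W)
      obtain ⟨q, hq, z, hz, rfl⟩ := Submodule.mem_sup.mp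
        (hc.sup_eq_top ▸ Submodule.mem_top : y ∈ W ⊔ B.orthogonal W)
      have e1 : B (h.1 ⟨p, hp⟩ : V) (h.1 ⟨q, hq⟩ : V) = B p q := h.2 ⟨p, hp⟩ ⟨q, hq⟩
      have e2 : B (k.1 ⟨w, hw⟩ : V) (k.1 ⟨z, hz⟩ : V) = B w z := k.2 ⟨w, hw⟩ ⟨z, hz⟩
      rw [map_add e, map_add e, heW ⟨p, hp⟩, heW ⟨q, hq⟩, heU ⟨w, hw⟩, heU ⟨z, hz⟩]
      simp only [map_add, LinearMap.add_apply, e1, e2, (hperp _ _).1, (hperp _ _).2,
        (hperp ⟨p, hp⟩ ⟨z, hz⟩).1, (hperp ⟨q, hq⟩ ⟨w, hw⟩).2]
    have hstab : ∀ x, x ∈ W ↔ e x ∈ W := by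
      intro x
      obtain ⟨p, hp, q, hq, rfl⟩ := Submodule.mem_sup.mp
        (hc.sup_eq_top ▸ Submodule.mem_top : x ∈ W ⊔ B.orthogonal W)
      rw [map_add, heW ⟨p, hp⟩, heU ⟨q, hq⟩, Submodule.add_mem_iff_right _ hp,
        Submodule.add_mem_iff_right _ (h.1 ⟨p, hp⟩).2]
      constructor
      · intro hqW
        have : (⟨q, hq⟩ : B.orthogonal W) = 0 := Subtype.ext (Submodule.disjoint_def.mp hc.disjoint q hqW hq)
        simp [this]
      · intro hk
        have : k.1 ⟨q, hq⟩ = 0 := Subtype.ext (Submodule.disjoint_def.mp hc.disjoint _ hk (k.1 ⟨q, hq⟩).2)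
        have := (LinearEquiv.map_eq_zero_iff _).mp this
        rw [show q = 0 from congrArg Subtype.val this]
        exact Submodule.zero_mem _
    exact ⟨⟨⟨e, hiso⟩, hstab⟩, Prod.ext (BilinIsom.ext' fun p => Subtype.ext (heW p))
      (BilinIsom.ext' fun q => Subtype.ext (heU q))⟩

/-- The stabiliser of a nondegenerate subspace is a direct product. -/
noncomputable def subStabilizerEquiv (hr : B.IsRefl) (W : Submodule F V)
    (hc : IsCompl W (B.orthogonal W)) :
    subStabilizer B W ≃* BilinIsom (B.restrict W) × BilinIsom (B.restrict (B.orthogonal W)) :=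
  MulEquiv.ofBijective _ (subStabilizerRestrict_bijective hr W hc)

end Cfsg.Lib.Classical
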