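import Mathlib
import Cfsg.Agent.Classical.Symp.Matrix
import Cfsg.Agent.Classical.Symp.Decomp

set_option autoImplicit false
set_option linter.unusedVariables false
set_option linter.unusedSimpArgs false
set_option linter.style.haveILetI false

/-! Every symplectic space of dimension `2m` is isometric to the standard one. -/

namespace Cfsg.Lib.Classical

universe u v

variable {F : Type u} [Field F] {V : Type v} [AddCommGroup V] [Module F V]

theorem exists_isometry_sympBilin [FiniteDimensional F V] {B : LinearMap.BilinForm F V}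
    (hA : B.IsAlt) (hB : B.Nondegenerate) {m : ℕ} (hd : Module.finrank F V = 2 * m) :
    ∃ e : V ≃ₗ[F] (Fin m ⊕ Fin m → F), ∀ x y, sympBilin m F (e x) (e y) = B x y := by
  obtain ⟨m', b, hd', h1, h2, h3⟩ := exists_symplectic_basis_nondegenerate hA hB
  obtain rfl : m' = m := by omega
  let c := (b.reindex (Equiv.sumComm _ _)).equivFun
  refine ⟨c, fun x y => ?_⟩
  have h1' : ∀ i j : Fin m', B (b (Sum.inr i)) (b (Sum.inl j)) = if i = j then (-1) else 0 := by
    intro i j
    rw [← hA.neg_eq, h1]
    by_cases h : i = j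
    · simp [h]
    · simp [h, Ne.symm h]
  have key : ∀ s t : Fin m' → F, ∀ s' t' : Fin m' → F,
      B (∑ i, s i • b (Sum.inr i) + ∑ i, t i • b (Sum.inl i))
        (∑ i, s' i • b (Sum.inr i) + ∑ i, t' i • b (Sum.inl i)) =
      ∑ i, (t i * s' i - s i * t' i) := by
    intro s t s' t'
    simp only [map_add, map_sum, map_smul, LinearMap.add_apply, LinearMap.sum_apply,
      LinearMap.smul_apply, smul_eq_mul, h1, h1', h2, h3]
    simp only [mul_zero, Finset.sum_const_zero, zero_add, add_zero, mul_ite, mul_one, mul_neg,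
      Finset.sum_ite_eq, Finset.sum_ite_eq', Finset.mem_univ, if_true, Finset.sum_neg_distrib,
      Finset.sum_sub_distrib]
    simp only [mul_comm]
    abel
  have hdec : ∀ x : V, x = ∑ i, c x (Sum.inl i) • b (Sum.inr i) + ∑ i, c x (Sum.inr i) • b (Sum.inl i) := by
    intro x
    conv_lhs => rw [← (b.reindex (Equiv.sumComm _ _)).sum_equivFun x]
    rw [Fintype.sum_sum_type]
    simp [c]
  rw [sympBilin_eq_sum]
  conv_rhs => rw [hdec x, hdec y, key]

/-- The isometry group of a symplectic space of dimension `2m` is `Sp_{2m}`. -/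
noncomputable def bilinIsomStdEquiv [FiniteDimensional F V] {B : LinearMap.BilinForm F V}
    (hA : B.IsAlt) (hB : B.Nondegenerate) {m : ℕ} (hd : Module.finrank F V = 2 * m) :
    BilinIsom B ≃* Matrix.symplecticGroup (Fin m) F :=
  (bilinIsomCongr _ (exists_isometry_sympBilin hA hB hd).choose_spec).trans (sympEquiv m F).symm

end Cfsg.Lib.Classical
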