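import Mathlib
import Cfsg.Prelude.Def_GeometricClasses
import Cfsg.Prelude.Def_ClassicalGeometry
import Cfsg.Agent.Classical.Misc.OddImprimitive
import Cfsg.Agent.Classical.Symp.Standard
import Cfsg.Agent.Known.SympModel
import Cfsg.Agent.Known.SympSemisimple
import Cfsg.Agent.Known.DualCount

/-! Elements of odd prime order and orthogonal decompositions of a symplectic space. -/

set_option autoImplicit false
set_option linter.unusedSimpArgs false
set_option linter.unusedSectionVars false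
set_option linter.unusedVariables false
set_option linter.style.haveILetI false
set_option linter.flexible false

namespace Cfsg.Lib.Classical.SpDecomp

open Cfsg.Lib.Classical Cfsg.Lib.PrimeOrderPoly Cfsg.Lib.DualPoly
open Polynomial
open scoped Matrix

universe u

variable {F : Type u} [Field F] {d a h t : ℕ}

/-- An orthogonal decomposition into nondegenerate subspaces of dimension `a`. -/
def IsOD (a : ℕ) (D : Fin t → Submodule F (Fin d ⊕ Fin d → F)) : Prop :=
  Cfsg.Geo.IsMDecomposition a D ∧ (∀ j, ∀ u ∈ D j, u ≠ 0 → ∃ v ∈ D j, Cfsg.sympForm d F u v ≠ 0) ∧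
    (∀ j j', j ≠ j' → ∀ u ∈ D j, ∀ v ∈ D j', Cfsg.sympForm d F u v = 0)

theorem IsOD.orth {D : Fin t → Submodule F (Fin d ⊕ Fin d → F)} (hD : IsOD a D) {j k : Fin t} (hjk : j ≠ k)
    {u v : Fin d ⊕ Fin d → F} (hu : u ∈ D j) (hv : v ∈ D k) : sympBilin d F u v = 0 := by
  rw [sympBilin_eq_sympForm]; exact hD.2.2 j k hjk u hu v hv

theorem IsOD.restrict {D : Fin t → Submodule F (Fin d ⊕ Fin d → F)} (hD : IsOD a D) (j : Fin t) :
    ((sympBilin d F).restrict (D j)).Nondegenerate := by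
  have key : ∀ u : D j, (∀ v : D j, sympBilin d F u.1 v.1 = 0) → u = 0 := fun u h => by
    by_contra hu
    obtain ⟨v, hv, hne⟩ := hD.2.1 j u.1 u.2 (fun e => hu (Subtype.ext e))
    exact hne (by rw [← sympBilin_eq_sympForm]; exact h ⟨v, hv⟩)
  refine ⟨fun u hu => key u hu, fun u hu => key u fun v => ?_⟩
  rw [← (sympBilin_isAlt d F).neg_eq v.1 u.1, neg_eq_zero]
  exact hu v

theorem IsOD.map {D : Fin t → Submodule F (Fin d ⊕ Fin d → F)} (hD : IsOD a D)
    (g : (Fin d ⊕ Fin d → F) ≃ₗ[F] (Fin d ⊕ Fin d → F)) (hg : ∀ u v, sympBilin d F (g u) (g v) = sympBilin d F u v) :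
    IsOD a (fun j => (D j).map g.toLinearMap) := by
  refine ⟨⟨hD.1.two_le, hD.1.pos, fun j => (LinearEquiv.finrank_map_eq g _).trans (hD.1.finrank_eq j),
    hD.1.indep.map_orderIso (Submodule.orderIsoMapComap g), ?_⟩, ?_, ?_⟩
  · rw [← Submodule.map_iSup, hD.1.iSup_eq_top, Submodule.map_top, LinearEquiv.range]
  · rintro j _ ⟨u, hu, rfl⟩ hne
    obtain ⟨v, hv, hv'⟩ := hD.2.1 j u hu (fun e => hne (by simp [e]))
    refine ⟨g v, Submodule.mem_map_of_mem hv, ?_⟩
    rw [← sympBilin_eq_sympForm] at hv' ⊢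
    exact fun e => hv' (by rw [← hg]; exact e)
  · rintro j k hjk _ ⟨u, hu, rfl⟩ _ ⟨v, hv, rfl⟩
    rw [← sympBilin_eq_sympForm]
    show sympBilin d F (g u) (g v) = 0
    rw [hg]
    exact hD.orth hjk hu hv

theorem IsOD.injective {D : Fin t → Submodule F (Fin d ⊕ Fin d → F)} (hD : IsOD a D) : Function.Injective D := by
  intro j l h
  by_contra hne
  have h1 : D j ≤ ⨆ (m) (_ : m ≠ j), D m := h.trans_le (le_iSup₂_of_le l (Ne.symm hne) le_rfl)
  have h2 := hD.1.finrank_eq j
  rw [(hD.1.indep j).eq_bot_of_le h1, finrank_bot] at h2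
  exact hD.1.pos.ne h2

section Model

/-- The slice at a block. -/
def slice (F : Type u) [Field F] (h t : ℕ) (j : Fin t) : (((Fin h ⊕ Fin h) × Fin t) → F) →ₗ[F] (Fin h ⊕ Fin h → F) :=
  LinearMap.funLeft F F fun i => (i, j)

/-- A block vector. -/
def emb (F : Type u) [Field F] (h t : ℕ) (j : Fin t) : (Fin h ⊕ Fin h → F) →ₗ[F] (((Fin h ⊕ Fin h) × Fin t) → F) :=
  LinearMap.pi fun p => if p.2 = j then LinearMap.proj p.1 else 0

theorem slice_emb (j k : Fin t) (w : Fin h ⊕ Fin h → F) :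
    slice F h t k (emb F h t j w) = if k = j then w else 0 := by
  ext i
  by_cases e : k = j <;> simp [slice, emb, LinearMap.funLeft, e]

theorem sum_emb (u : ((Fin h ⊕ Fin h) × Fin t) → F) : ∑ j, emb F h t j (slice F h t j u) = u := by
  funext p
  rw [Finset.sum_apply, Finset.sum_eq_single p.2]
  · simp [slice, emb, LinearMap.funLeft]
  · intro j _ hj
    simp [emb, Ne.symm hj]
  · simp

theorem emb_injective (j : Fin t) : Function.Injective (emb F h t j) := fun w w' e => by
  have := congrArg (slice F h t j) e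
  simpa [slice_emb] using this

/-- The orthogonal sum of `t` standard forms. -/
noncomputable def sumForm (F : Type u) [Field F] (h t : ℕ) : LinearMap.BilinForm F (((Fin h ⊕ Fin h) × Fin t) → F) :=
  ∑ j : Fin t, (sympBilin h F).compl₁₂ (slice F h t j) (slice F h t j)

theorem sumForm_apply (u v : ((Fin h ⊕ Fin h) × Fin t) → F) :
    sumForm F h t u v = ∑ j, sympBilin h F (slice F h t j u) (slice F h t j v) := by
  simp [sumForm, LinearMap.sum_apply]

theorem sumForm_emb (j k : Fin t) (w w' : Fin h ⊕ Fin h → F) :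
    sumForm F h t (emb F h t j w) (emb F h t k w') = if j = k then sympBilin h F w w' else 0 := by
  rw [sumForm_apply, Finset.sum_eq_single j]
  · by_cases e : j = k
    · simp [slice_emb, e]
    · simp [slice_emb, e]
  · intro l _ hl
    simp [slice_emb, hl]
  · simp

theorem sumForm_alt : (sumForm F h t).IsAlt := fun u => by
  rw [sumForm_apply]
  exact Finset.sum_eq_zero fun j _ => sympBilin_isAlt h F _

theorem sumForm_nondeg : (sumForm F h t).Nondegenerate := by
  have key : ∀ u, (∀ v, sumForm F h t u v = 0) → u = 0 := fun u hu => by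
    rw [← sum_emb u]
    refine Finset.sum_eq_zero fun j _ => ?_
    rw [(sympBilin_nondegenerate h F).1 (slice F h t j u) fun w => ?_, map_zero]
    have := hu (emb F h t j w)
    rw [sumForm_apply, Finset.sum_eq_single j] at this
    · simpa [slice_emb] using this
    · intro l _ hl
      simp [slice_emb, hl]
    · simp
  refine ⟨key, fun u hu => key u fun v => ?_⟩
  rw [← sumForm_alt.neg_eq v u, neg_eq_zero]
  exact hu v

theorem finrank_model : Module.finrank F (((Fin h ⊕ Fin h) × Fin t) → F) = 2 * (h * t) := by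
  rw [Module.finrank_fintype_fun_eq_card, Fintype.card_prod, Fintype.card_sum, Fintype.card_fin, Fintype.card_fin]
  ring

/-- The decomposition attached to a model. -/
theorem od_of_iso (ht : 2 ≤ t) (hh : 0 < h) (E : (((Fin h ⊕ Fin h) × Fin t) → F) ≃ₗ[F] (Fin d ⊕ Fin d → F))
    (hE : ∀ u v, sympBilin d F (E u) (E v) = sumForm F h t u v) :
    IsOD (2 * h) (fun j => (LinearMap.range (emb F h t j)).map E.toLinearMap) := by
  refine ⟨⟨ht, by omega, fun j => ?_, ?_, ?_⟩, ?_, ?_⟩
  · rw [LinearEquiv.finrank_map_eq, LinearMap.finrank_range_of_inj (emb_injective j), finrank_sympSpace]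
  · refine iSupIndep.map_orderIso (Submodule.orderIsoMapComap E) (fun j => ?_)
    rw [Submodule.disjoint_def]
    rintro _ ⟨w, rfl⟩ hw
    have hle : (⨆ (k) (_ : k ≠ j), LinearMap.range (emb F h t k)) ≤ LinearMap.ker (slice F h t j) :=
      iSup₂_le fun k hk => by
        rintro _ ⟨w', rfl⟩
        simp [slice_emb, Ne.symm hk]
    have := hle hw
    rw [LinearMap.mem_ker, slice_emb, if_pos rfl] at this
    rw [this, map_zero]
  · rw [← Submodule.map_iSup, eq_top_iff]
    intro v _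
    refine ⟨E.symm v, ?_, E.apply_symm_apply v⟩
    rw [← sum_emb (E.symm v)]
    exact Submodule.sum_mem _ fun j _ => Submodule.mem_iSup_of_mem j (LinearMap.mem_range_self _ _)
  · rintro j _ ⟨_, ⟨w, rfl⟩, rfl⟩ hne
    have hw : w ≠ 0 := fun e => hne (by simp [e])
    by_contra hcon
    push Not at hcon
    refine hw ((sympBilin_nondegenerate h F).1 w fun w' => ?_)
    have := hcon (E (emb F h t j w')) (Submodule.mem_map_of_mem (LinearMap.mem_range_self _ _))
    rw [← sympBilin_eq_sympForm] at this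
    simpa [hE, sumForm_emb] using this
  · rintro j k hjk _ ⟨_, ⟨w, rfl⟩, rfl⟩ _ ⟨_, ⟨w', rfl⟩, rfl⟩
    rw [← sympBilin_eq_sympForm]
    simp [hE, sumForm_emb, hjk]

/-- Every decomposition comes from a model. -/
theorem exists_iso {D : Fin t → Submodule F (Fin d ⊕ Fin d → F)} (hD : IsOD (2 * h) D) (hdt : d = h * t) :
    ∃ E : (((Fin h ⊕ Fin h) × Fin t) → F) ≃ₗ[F] (Fin d ⊕ Fin d → F),
      (∀ u v, sympBilin d F (E u) (E v) = sumForm F h t u v) ∧
      ∀ j, (LinearMap.range (emb F h t j)).map E.toLinearMap = D j := by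
  classical
  have he : ∀ j, ∃ e : D j ≃ₗ[F] (Fin h ⊕ Fin h → F),
      ∀ x y, sympBilin h F (e x) (e y) = sympBilin d F (x : Fin d ⊕ Fin d → F) y := fun j =>
    exists_isometry_sympBilin (B := (sympBilin d F).restrict (D j)) (fun x => sympBilin_isAlt d F _) (hD.restrict j)
      (hD.1.finrank_eq j)
  choose e he using he
  let ψ : (((Fin h ⊕ Fin h) × Fin t) → F) →ₗ[F] (Fin d ⊕ Fin d → F) :=
    ∑ j, (D j).subtype ∘ₗ (e j).symm.toLinearMap ∘ₗ slice F h t j
  have hψ : ∀ u, ψ u = ∑ j, ((e j).symm (slice F h t j u) : Fin d ⊕ Fin d → F) := fun u => by simp [ψ]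
  have hiso : ∀ u v, sympBilin d F (ψ u) (ψ v) = sumForm F h t u v := by
    intro u v
    rw [hψ, hψ, sumForm_apply, map_sum (sympBilin d F), LinearMap.sum_apply]
    refine Finset.sum_congr rfl fun j _ => ?_
    rw [map_sum, Finset.sum_eq_single j]
    · rw [← he, LinearEquiv.apply_symm_apply, LinearEquiv.apply_symm_apply]
    · intro k _ hk
      exact hD.orth (Ne.symm hk) (Subtype.coe_prop _) (Subtype.coe_prop _)
    · simp
  have hinj : Function.Injective ψ := by
    rw [injective_iff_map_eq_zero]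
    exact fun u hu => sumForm_nondeg.1 u fun v => by rw [← hiso, hu]; simp
  let E := LinearMap.linearEquivOfInjective ψ hinj (by rw [finrank_model, finrank_sympSpace, hdt])
  have hE : ∀ u, E u = ψ u := fun u => rfl
  have hemb : ∀ j w, E (emb F h t j w) = ((e j).symm w : Fin d ⊕ Fin d → F) := fun j w => by
    rw [hE, hψ, Finset.sum_eq_single j]
    · simp [slice_emb]
    · intro k _ hk
      simp [slice_emb, hk]
    · simp
  refine ⟨E, fun u v => by rw [hE, hE]; exact hiso u v, fun j => le_antisymm ?_ fun x hx => ?_⟩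
  · rintro _ ⟨_, ⟨w, rfl⟩, rfl⟩
    show E (emb F h t j w) ∈ D j
    rw [hemb]; exact Subtype.coe_prop _
  · refine ⟨emb F h t j (e j ⟨x, hx⟩), LinearMap.mem_range_self _ _, ?_⟩
    show E (emb F h t j _) = x
    rw [hemb, LinearEquiv.symm_apply_apply]

theorem blockDiagonal_mulVec (A : Fin t → Matrix (Fin h ⊕ Fin h) (Fin h ⊕ Fin h) F) (u : ((Fin h ⊕ Fin h) × Fin t) → F)
    (j : Fin t) : slice F h t j (Matrix.blockDiagonal A *ᵥ u) = A j *ᵥ slice F h t j u := by
  funext i
  simp only [slice, LinearMap.funLeft_apply, Matrix.mulVec, dotProduct, Fintype.sum_prod_type]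
  refine Finset.sum_congr rfl fun k _ => ?_
  rw [Finset.sum_eq_single j]
  · simp [Matrix.blockDiagonal_apply]
  · intro l _ hl
    simp [Matrix.blockDiagonal_apply, Ne.symm hl]
  · simp

theorem charpoly_blockDiagonal {m : Type*} [Fintype m] [DecidableEq m] {o : Type*} [Fintype o] [DecidableEq o]
    (A : o → Matrix m m F) : (Matrix.blockDiagonal A).charpoly = ∏ k, (A k).charpoly := by
  have e : Matrix.charmatrix (Matrix.blockDiagonal A) = Matrix.blockDiagonal fun k => Matrix.charmatrix (A k) := by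
    ext ⟨i, k⟩ ⟨j, l⟩
    simp only [Matrix.charmatrix_apply, Matrix.blockDiagonal_apply, Matrix.diagonal_apply, Prod.mk.injEq]
    by_cases hkl : k = l <;> by_cases hij : i = j <;> simp [hkl, hij]
  unfold Matrix.charpoly
  rw [e, Matrix.det_blockDiagonal]

end Model

section Poly

variable [Fintype F] {p r : ℕ} [Fact p.Prime] [CharP F p] [Fact r.Prime]

theorem dual_pow (f : F[X]) : ∀ k : ℕ, dual (RingHom.id F) (f ^ k) = dual (RingHom.id F) f ^ k
  | 0 => by rw [pow_zero, pow_zero, dual_C_one]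
  | k + 1 => by rw [pow_succ, pow_succ, dual_mul, dual_pow f k]

/-- Self-dual irreducible blocks. -/
def Atom (r c : ℕ) (u : F[X]) : Prop :=
  u.Monic ∧ u.natDegree = c ∧ dual (RingHom.id F) u = u ∧ u ∣ (X ^ r - 1) ^ c ∧ u.eval 1 ≠ 0

theorem eval_one_ne (hrp : r ≠ p) {g : F[X]} (hg : g ∈ factorSet F r) : g.eval 1 ≠ 0 := fun e => by
  obtain ⟨hm, hi, -⟩ := mem_factorSet g hg
  refine one_notMem (F := F) hrp ?_
  rw [← eq_of_monic_of_associated hm (monic_X_sub_C 1)
    ((irreducible_X_sub_C 1).associated_of_dvd hi (dvd_iff_isRoot.mpr e)).symm]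
  exact hg

theorem atom_of_factor (hr2 : r ≠ 2) (hrp : r ≠ p) {i c : ℕ} (hi : i = orderOf (Fintype.card F : ZMod r)) (hi0 : 0 < i)
    (hc : c = if Even i then i else 2 * i) {g : F[X]} (hg : g ∈ factorSet F r) :
    ∃ u, Atom r c u ∧ g ∣ u ∧ ∀ f : F[X], dual (RingHom.id F) f = f → g ∣ f → u ∣ f := by
  obtain ⟨hm, hir, hd⟩ := mem_factorSet g hg
  have hdX : g ∣ X ^ r - 1 := hd.trans (cyclotomic.dvd_X_pow_sub_one r F)
  have hdeg : g.natDegree = i := (natDegree_factorSet hrp g hg).trans hi.symm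
  have hfix : dual (RingHom.id F) g = g ↔ Even i := by
    rw [dual_fixed_iff (fun _ => rfl) (k := 0) (fun x => by simp) hrp hg, ← DualCount.exists_neg_one_iff hr2 hi hi0,
      pow_zero]
  by_cases he : Even i
  · rw [if_pos he] at hc
    exact ⟨g, ⟨hm, hdeg.trans hc.symm, hfix.mpr he, hdX.trans (dvd_pow_self _ (by omega)), eval_one_ne hrp hg⟩,
      dvd_rfl, fun f _ h => h⟩
  · rw [if_neg he] at hc
    have h0 := coeff_zero_factor hg
    set g' := dual (RingHom.id F) g with hg'
    have hg'S : g' ∈ factorSet F r := dual_mem (fun _ => rfl) hrp hg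
    obtain ⟨hm', hir', hd'⟩ := mem_factorSet g' hg'S
    have hne : g' ≠ g := fun e => he (hfix.mp e)
    refine ⟨g * g', ⟨hm.mul hm', ?_, ?_, ?_, ?_⟩, dvd_mul_right _ _, fun f hf hgf => ?_⟩
    · rw [hm.natDegree_mul hm', hdeg, hg', dual_natDegree h0, hdeg]; omega
    · rw [dual_mul, hg', dual_dual (fun _ => rfl) hm h0, mul_comm]
    · refine (mul_dvd_mul hdX (hd'.trans (cyclotomic.dvd_X_pow_sub_one r F))).trans ?_
      rw [← sq]; exact pow_dvd_pow _ (by omega)
    · rw [eval_mul]; exact mul_ne_zero (eval_one_ne hrp hg) (eval_one_ne hrp hg'S)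
    · have hcop : IsCoprime g g' := hir.coprime_iff_not_dvd.mpr fun hdv =>
        hne (eq_of_monic_of_associated hm' hm (hir.associated_of_dvd hir' hdv).symm)
      refine hcop.mul_dvd hgf ?_
      obtain ⟨k, hk⟩ := hgf
      exact ⟨dual (RingHom.id F) k, by rw [hg', ← dual_mul, ← hk, hf]⟩

/-- Splitting into blocks. -/
theorem exists_atoms (hr2 : r ≠ 2) (hrp : r ≠ p) {i c : ℕ} (hi : i = orderOf (Fintype.card F : ZMod r)) (hi0 : 0 < i)
    (hc : c = if Even i then i else 2 * i) : ∀ (n : ℕ) (f : F[X]), f.Monic → f.natDegree = n →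
    (∀ g, g.Monic → Irreducible g → g ∣ f → g ∣ X ^ r - 1) → dual (RingHom.id F) f = f →
    ∃ (e : ℕ) (L : Multiset F[X]), (∀ u ∈ L, Atom r c u) ∧ f = (X - C 1) ^ e * L.prod := by
  classical
  intro n
  induction n using Nat.strong_induction_on with
  | _ n ih =>
  intro f hf hn hfac hfd
  rcases Nat.eq_zero_or_pos n with h0 | h0
  · refine ⟨0, 0, by simp, ?_⟩
    rw [hf.natDegree_eq_zero.1 (hn.trans h0)]; simp
  obtain ⟨g₀, hg₀, hg₀f⟩ := WfDvdMonoid.exists_irreducible_factor
    (fun h => by have := natDegree_eq_zero_of_isUnit h; omega) hf.ne_zero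
  set g := normalize g₀ with hgdef
  have hgm : g.Monic := Polynomial.monic_normalize hg₀.ne_zero
  have hgi : Irreducible g := (normalize_associated g₀).symm.irreducible hg₀
  have hgf : g ∣ f := (normalize_associated g₀).dvd_iff_dvd_left.mpr hg₀f
  have step : ∀ u f' : F[X], u.Monic → 0 < u.natDegree → dual (RingHom.id F) u = u → f = u * f' →
      ∃ (e : ℕ) (L : Multiset F[X]), (∀ v ∈ L, Atom r c v) ∧ f' = (X - C 1) ^ e * L.prod := by
    intro u f' hu hpos hud he
    have hf' : f'.Monic := hu.of_mul_monic_left (he ▸ hf)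
    refine ih f'.natDegree ?_ f' hf' rfl (fun g hg hgi hd => hfac g hg hgi (hd.trans ⟨u, by rw [he, mul_comm]⟩)) ?_
    · rw [← hn, he, hu.natDegree_mul hf']; omega
    · have h1 := hfd
      rw [he, dual_mul, hud] at h1
      exact mul_left_cancel₀ hu.ne_zero h1
  rcases (irreducible_dvd g hgm hgi).mp (hfac g hgm hgi hgf) with hg1 | hgS
  · obtain ⟨f', he⟩ := hgf
    rw [hg1] at he
    obtain ⟨e, L, hL, hf'⟩ := step _ f' (monic_X_sub_C 1) (by rw [natDegree_X_sub_C]; omega) dual_X_sub_one he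
    exact ⟨e + 1, L, hL, by rw [he, hf', pow_succ]; ring⟩
  · obtain ⟨u, hu, -, hdiv⟩ := atom_of_factor hr2 hrp hi hi0 hc hgS
    obtain ⟨f', he⟩ := hdiv f hfd hgf
    obtain ⟨e, L, hL, hf'⟩ := step u f' hu.1 (by rw [hu.2.1, hc]; split_ifs <;> omega) hu.2.2.1 he
    refine ⟨e, u ::ₘ L, fun v hv => ?_, by rw [he, hf', Multiset.prod_cons]; ring⟩
    rcases Multiset.mem_cons.mp hv with rfl | hv
    · exact hu
    · exact hL v hv

theorem distribute {α : Type*} (A : ℕ) : ∀ (t : ℕ) (L : Multiset α), L.card ≤ t * A →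
    ∃ f : Fin t → Multiset α, ∑ j, f j = L ∧ ∀ j, (f j).card ≤ A := by
  intro t
  induction t with
  | zero => exact fun L hL => ⟨fun j => 0, by rw [Multiset.card_eq_zero.mp (by omega : L.card = 0)]; simp, fun j => j.elim0⟩
  | succ t ih =>
    intro L hL
    induction L using Quotient.inductionOn with
    | h l =>
    rw [Multiset.quot_mk_to_coe, Multiset.coe_card] at hL
    obtain ⟨f, hf, hfc⟩ := ih (l.drop A : Multiset α) (by
      rw [Multiset.coe_card, List.length_drop]; rw [Nat.succ_mul] at hL; omega)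
    refine ⟨Fin.cons (l.take A : Multiset α) f, ?_, fun j => ?_⟩
    · rw [Fin.sum_cons, hf, Multiset.coe_add, List.take_append_drop]; rfl
    · refine Fin.cases ?_ (fun j => ?_) j
      · rw [Fin.cons_zero, Multiset.coe_card, List.length_take]; omega
      · rw [Fin.cons_succ]; exact hfc j

theorem atoms_facts {c : ℕ} {L : Multiset F[X]} (hL : ∀ u ∈ L, Atom r c u) :
    L.prod.Monic ∧ L.prod.natDegree = c * L.card ∧ dual (RingHom.id F) L.prod = L.prod ∧
      L.prod ∣ (X ^ r - 1) ^ (c * L.card) ∧ L.prod.eval 1 ≠ 0 := by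
  induction L using Multiset.induction with
  | empty => simp [dual_C_one]
  | cons u L ih =>
    obtain ⟨h1, h2, h3, h4, h5⟩ := hL u (Multiset.mem_cons_self _ _)
    obtain ⟨i1, i2, i3, i4, i5⟩ := ih fun v hv => hL v (Multiset.mem_cons_of_mem hv)
    rw [Multiset.prod_cons, Multiset.card_cons, Nat.mul_succ, Nat.add_comm]
    exact ⟨h1.mul i1, by rw [h1.natDegree_mul i1, h2, i2], by rw [dual_mul, h3, i3],
      by rw [pow_add]; exact mul_dvd_mul h4 i4, by rw [eval_mul]; exact mul_ne_zero h5 i5⟩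

include p in
/-- The model element with prescribed blocks and fixed space. -/
theorem exists_elt (hr2 : r ≠ 2) {c : ℕ} {L : Multiset F[X]} (hL : ∀ u ∈ L, Atom r c u) {n e : ℕ}
    (hn : e + c * L.card = 2 * n) :
    ∃ A : Matrix.symplecticGroup (Fin n) F, A ^ r = 1 ∧
      (A : Matrix (Fin n ⊕ Fin n) (Fin n ⊕ Fin n) F).charpoly = (X - C 1) ^ e * L.prod := by
  obtain ⟨h1, h2, h3, h4, -⟩ := atoms_facts hL
  set f := (X - C (1 : F)) ^ e * L.prod with hf
  have hfm : f.Monic := ((monic_X_sub_C 1).pow e).mul h1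
  have hdeg : f.natDegree = 2 * n := by
    rw [hf, ((monic_X_sub_C 1).pow e).natDegree_mul h1, (monic_X_sub_C 1).natDegree_pow, natDegree_X_sub_C, mul_one, h2, hn]
  have hd : dual (RingHom.id F) f = f := by rw [hf, dual_mul, dual_pow, dual_X_sub_one, h3]
  have hdvd : f ∣ (X ^ r - 1) ^ (2 * n) := by
    rw [← hn, pow_add]
    refine mul_dvd_mul (pow_dvd_pow_of_dvd ?_ e) h4
    rw [dvd_iff_isRoot]; simp
  obtain ⟨A, hA, hAc⟩ := SympModel.exists_model p n f hfm hdeg (DualCount.reverse_eq_self (p := p) hr2 hfm hdeg hd hdvd)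
  refine ⟨A, Subtype.ext ?_, hAc⟩
  rw [SubmonoidClass.coe_pow, Submonoid.coe_one]
  exact DualCount.pow_eq_one (A : Matrix (Fin n ⊕ Fin n) (Fin n ⊕ Fin n) F) hA
    (by rw [← SubmonoidClass.coe_pow, pow_orderOf_eq_one, Submonoid.coe_one]) (hAc ▸ hdvd)

end Poly

section Finite

variable [Fintype F] {p r : ℕ} [Fact p.Prime] [CharP F p] [Fact r.Prime]

theorem coprime_of_pow {n : ℕ} (hrp : r ≠ p) {A : Matrix.symplecticGroup (Fin n) F} (hA : A ^ r = 1) :
    (orderOf A).Coprime p :=
  Nat.Coprime.coprime_dvd_left (orderOf_dvd_of_pow_eq_one hA)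
    ((Nat.coprime_primes (Fact.out : r.Prime) (Fact.out : p.Prime)).2 hrp)

theorem dual_charpoly (g : Matrix.symplecticGroup (Fin d) F) :
    dual (RingHom.id F) (g : Matrix (Fin d ⊕ Fin d) (Fin d ⊕ Fin d) F).charpoly =
      (g : Matrix (Fin d ⊕ Fin d) (Fin d ⊕ Fin d) F).charpoly := by
  have hJ : Matrix.J (Fin d) F * -Matrix.J (Fin d) F = 1 := by
    rw [Matrix.mul_neg, Matrix.J_squared, neg_neg]
  rw [DualCount.dual_charpoly _ _ ((Matrix.isUnit_iff_isUnit_det _).2 (SymplecticGroup.symplectic_det g.2)),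
    RingHom.coe_id, Matrix.map_id, SymplecticGroup.inv_eq_symplectic_inv _ g.2, Matrix.charpoly_mul_comm,
    ← Matrix.mul_assoc, hJ, Matrix.one_mul, Matrix.charpoly_transpose]

/-- Stabilised decompositions exist. -/
theorem exists_stable (hr2 : r ≠ 2) (hrp : r ≠ p) {i c : ℕ} (hi : i = orderOf (Fintype.card F : ZMod r)) (hi0 : 0 < i)
    (hc : c = if Even i then i else 2 * i) (ht : 2 ≤ t) (hh : 0 < h) (hdt : d = h * t) (hca : c ≤ 2 * h)
    (hcond : (2 * d) % c = t * ((2 * h) % c)) (y : Matrix.symplecticGroup (Fin d) F) (hy : y ^ r = 1) :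
    ∃ D : Fin t → Submodule F (Fin d ⊕ Fin d → F), IsOD (2 * h) D ∧
      ∀ j, (D j).map (Matrix.toLin' (y : Matrix (Fin d ⊕ Fin d) (Fin d ⊕ Fin d) F)) = D j := by
  classical
  have hyM : (y : Matrix (Fin d ⊕ Fin d) (Fin d ⊕ Fin d) F) ^ r = 1 := by
    rw [← SubmonoidClass.coe_pow, hy, Submonoid.coe_one]
  obtain ⟨e, L, hL, hf⟩ := exists_atoms hr2 hrp hi hi0 hc _ _ (Matrix.charpoly_monic _) rfl
    (DualCount.factors_of_pow_eq_one _ hyM) (dual_charpoly y)
  obtain ⟨h1, h2, -, -, -⟩ := atoms_facts hL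
  have hc0 : 0 < c := by rw [hc]; split_ifs <;> omega
  have hcev : Even c := by
    rw [hc]; split_ifs with he
    · exact he
    · exact even_two_mul i
  have hdeg : e + c * L.card = 2 * d := by
    have := congrArg natDegree hf
    rw [Matrix.charpoly_natDegree_eq_dim, ((monic_X_sub_C 1).pow e).natDegree_mul h1, (monic_X_sub_C 1).natDegree_pow,
      natDegree_X_sub_C, mul_one, h2] at this
    simp at this
    omega
  have hcard : L.card ≤ t * ((2 * h) / c) := by
    have h3 : L.card ≤ (2 * d) / c := by rw [Nat.le_div_iff_mul_le hc0, mul_comm]; omega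
    have h4 : 2 * d = c * (t * ((2 * h) / c)) + t * ((2 * h) % c) := by
      conv_lhs => rw [hdt, show 2 * (h * t) = t * (2 * h) by ring, ← Nat.div_add_mod (2 * h) c]
      ring
    have h5 := Nat.div_add_mod (2 * d) c
    rw [hcond] at h5
    have h6 : (2 * d) / c = t * ((2 * h) / c) := Nat.eq_of_mul_eq_mul_left hc0 (by omega)
    omega
  obtain ⟨P, hP, hPc⟩ := distribute ((2 * h) / c) t L hcard
  have hPm : ∀ j, ∀ u ∈ P j, Atom r c u := fun j u hu => hL u (by
    rw [← hP, Multiset.mem_sum]; exact ⟨j, Finset.mem_univ _, hu⟩)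
  have hle : ∀ j, c * (P j).card ≤ 2 * h := fun j =>
    (Nat.mul_le_mul_left c (hPc j)).trans (Nat.mul_div_le _ _)
  choose A hA hAc using fun j => exists_elt (p := p) hr2 (hPm j) (n := h) (e := 2 * h - c * (P j).card)
    (by have := hle j; omega)
  obtain ⟨E, hE⟩ : ∃ E : (((Fin h ⊕ Fin h) × Fin t) → F) ≃ₗ[F] (Fin d ⊕ Fin d → F),
      ∀ u v, sympBilin d F (E u) (E v) = sumForm F h t u v :=
    exists_isometry_sympBilin sumForm_alt sumForm_nondeg (by rw [finrank_model, hdt])
  let M : Fin t → Matrix (Fin h ⊕ Fin h) (Fin h ⊕ Fin h) F := fun j => (A j : Matrix (Fin h ⊕ Fin h) (Fin h ⊕ Fin h) F)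
  let φ : Module.End F (Fin d ⊕ Fin d → F) := E.conj (Matrix.toLin' (Matrix.blockDiagonal M))
  have hφ : ∀ u, φ (E u) = E (Matrix.blockDiagonal M *ᵥ u) := fun u => by
    simp [φ, LinearEquiv.conj_apply_apply, Matrix.toLin'_apply]
  let B : Matrix.symplecticGroup (Fin d) F := ⟨LinearMap.toMatrix' φ, (mem_symplectic_iff_form _).2 fun x x' => by
    obtain ⟨u, rfl⟩ := E.surjective x
    obtain ⟨v, rfl⟩ := E.surjective x'
    rw [LinearMap.toMatrix'_mulVec, LinearMap.toMatrix'_mulVec, hφ, hφ, hE, hE, sumForm_apply, sumForm_apply]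
    refine Finset.sum_congr rfl fun j _ => ?_
    rw [blockDiagonal_mulVec, blockDiagonal_mulVec]
    exact (mem_symplectic_iff_form _).1 (A j).2 _ _⟩
  have hBlin : Matrix.toLin' (B : Matrix (Fin d ⊕ Fin d) (Fin d ⊕ Fin d) F) = φ := Matrix.toLin'_toMatrix' _
  have hBr : B ^ r = 1 := by
    refine Subtype.ext (Matrix.toLin'.injective ?_)
    rw [SubmonoidClass.coe_pow, Submonoid.coe_one, Matrix.toLin'_pow, hBlin, Matrix.toLin'_one]
    have : Matrix.blockDiagonal M ^ r = 1 := by
      rw [← Matrix.blockDiagonal_pow, show M ^ r = 1 from funext fun j => ?_, Matrix.blockDiagonal_one]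
      show M j ^ r = 1
      rw [← SubmonoidClass.coe_pow, hA j, Submonoid.coe_one]
    have e1 : ∀ k : ℕ, ∀ u, (φ ^ k) (E u) = E ((Matrix.blockDiagonal M ^ k) *ᵥ u) := fun k => by
      induction k with
      | zero => intro u; simp
      | succ k ih => intro u; rw [pow_succ', Module.End.mul_apply, ih, hφ, Matrix.mulVec_mulVec, ← pow_succ']
    refine LinearMap.ext fun x => ?_
    obtain ⟨u, rfl⟩ := E.surjective x
    rw [e1, this, Matrix.one_mulVec]; rfl
  have hBc : (B : Matrix (Fin d ⊕ Fin d) (Fin d ⊕ Fin d) F).charpoly =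
      (y : Matrix (Fin d ⊕ Fin d) (Fin d ⊕ Fin d) F).charpoly := by
    rw [← Matrix.charpoly_toLin', hBlin, LinearEquiv.charpoly_conj, Matrix.charpoly_toLin', charpoly_blockDiagonal, hf,
      Finset.prod_congr rfl fun j _ => hAc j, Finset.prod_mul_distrib, Finset.prod_pow_eq_pow_sum,
      ← Multiset.prod_sum, hP]
    congr 2
    have h7 : ∑ j, (2 * h - c * (P j).card) + c * L.card = 2 * d := by
      rw [← hP, Multiset.card_sum, Finset.mul_sum, ← Finset.sum_add_distrib,
        Finset.sum_congr rfl fun j _ => Nat.sub_add_cancel (hle j), Finset.sum_const, Finset.card_univ, Fintype.card_fin,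
        smul_eq_mul, hdt]
      ring
    omega
  obtain ⟨g, hg⟩ := isConj_iff.1 (SympSemisimple.isConj_of_charpoly B y (coprime_of_pow (p := p) hrp hBr)
    (coprime_of_pow (p := p) hrp hy) hBc)
  refine ⟨_, (od_of_iso ht hh E hE).map ((toIsom g).1) (toIsom g).2, fun j => ?_⟩
  have hcomm : (y : Matrix (Fin d ⊕ Fin d) (Fin d ⊕ Fin d) F) * g = (g : Matrix (Fin d ⊕ Fin d) (Fin d ⊕ Fin d) F) * B := by
    rw [← Submonoid.coe_mul, ← Submonoid.coe_mul, ← hg, inv_mul_cancel_right]
  refine Submodule.eq_of_le_of_finrank_eq ?_ ?_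
  · rintro _ ⟨_, ⟨_, ⟨_, ⟨w, rfl⟩, rfl⟩, rfl⟩, rfl⟩
    refine ⟨φ (E (emb F h t j w)), ⟨_, ⟨M j *ᵥ w, rfl⟩, ?_⟩, ?_⟩
    · show E (emb F h t j (M j *ᵥ w)) = φ (E (emb F h t j w))
      rw [hφ]
      congr 1
      rw [← sum_emb (Matrix.blockDiagonal M *ᵥ emb F h t j w), Finset.sum_eq_single j]
      · rw [blockDiagonal_mulVec, slice_emb, if_pos rfl]
      · intro k _ hk
        rw [blockDiagonal_mulVec, slice_emb, if_neg hk, Matrix.mulVec_zero, map_zero]
      · simp
    · show (toIsom g).1 (φ (E (emb F h t j w))) = Matrix.toLin' _ ((toIsom g).1 (E (emb F h t j w)))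
      rw [toIsom_apply, toIsom_apply, Matrix.toLin'_apply, Matrix.mulVec_mulVec, hcomm, ← Matrix.mulVec_mulVec]
      congr 1
      rw [← hBlin, Matrix.toLin'_apply]
  · refine (Submodule.equivMapOfInjective _ (fun v w e => ?_) _).finrank_eq.symm
    have := congrArg (Matrix.toLin' ((y⁻¹ : Matrix.symplecticGroup (Fin d) F) : Matrix (Fin d ⊕ Fin d) (Fin d ⊕ Fin d) F)) e
    rwa [← LinearMap.comp_apply, ← LinearMap.comp_apply, ← Matrix.toLin'_mul, ← Submonoid.coe_mul, inv_mul_cancel,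
      Submonoid.coe_one, Matrix.toLin'_one] at this

/-- An element with a prescribed fixed space. -/
theorem exists_fix (hr2 : r ≠ 2) (hrp : r ≠ p) {i c : ℕ} (hi : i = orderOf (Fintype.card F : ZMod r)) (hi0 : 0 < i)
    (hc : c = if Even i then i else 2 * i) {K : ℕ} (hK : K * c ≤ 2 * d) :
    ∃ y : Matrix.symplecticGroup (Fin d) F, y ^ r = 1 ∧
      Module.finrank F (PrimeOrd.fix (Matrix.toLin' (y : Matrix (Fin d ⊕ Fin d) (Fin d ⊕ Fin d) F))) = 2 * d - K * c := by
  classical
  obtain ⟨g, hg⟩ : (factorSet F r).Nonempty := by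
    rw [Finset.nonempty_iff_ne_empty]
    intro e
    have := card_factorSet (F := F) (p := p) (r := r) hrp
    rw [e, Finset.card_empty, zero_mul] at this
    have := (Fact.out : r.Prime).two_le
    omega
  obtain ⟨u, hu, -, -⟩ := atom_of_factor hr2 hrp hi hi0 hc hg
  have hL : ∀ v ∈ Multiset.replicate K u, Atom r c v := fun v hv => Multiset.eq_of_mem_replicate hv ▸ hu
  obtain ⟨h1, h2, h3, h4, h5⟩ := atoms_facts hL
  rw [Multiset.card_replicate] at h2
  set e := 2 * d - K * c with he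
  obtain ⟨y, hy, hyc⟩ := exists_elt (p := p) hr2 hL (n := d) (e := e)
    (by rw [Multiset.card_replicate, mul_comm c K]; omega)
  refine ⟨y, hy, ?_⟩
  set U := (Multiset.replicate K u).prod
  obtain ⟨M, N, hMc, hN, hMN⟩ := SemisimpleCharpoly.exists_model p (c * K) U h1 h2 (fun e0 => by
    obtain ⟨k, hk⟩ := h4
    have := congrArg (fun f => f.coeff 0) hk
    simp only [mul_coeff_zero, e0, zero_mul, coeff_zero_eq_eval_zero, eval_pow, eval_sub, eval_X, eval_one,
      zero_pow (Fact.out : r.Prime).ne_zero, zero_sub] at this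
    rw [eval_mul, ← coeff_zero_eq_eval_zero, e0, zero_mul] at this
    exact pow_ne_zero _ (neg_ne_zero.mpr one_ne_zero) this)
  let W := (Fin e → F) × (Fin (c * K) → F)
  let b : Module.End F W := (1 : Module.End F (Fin e → F)).prodMap (Matrix.toLin' M)
  have hbN : b ^ N = 1 := by
    have e1 : ∀ k : ℕ, b ^ k = (1 : Module.End F (Fin e → F)).prodMap (Matrix.toLin' (M ^ k)) := fun k => by
      induction k with
      | zero =>
        rw [pow_zero, pow_zero, Matrix.toLin'_one]
        exact LinearMap.ext fun x => rfl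
      | succ k ih =>
        rw [pow_succ, ih, pow_succ, Matrix.toLin'_mul]
        exact LinearMap.ext fun x => Prod.ext rfl rfl
    rw [e1, hMN, Matrix.toLin'_one]
    exact LinearMap.ext fun x => rfl
  have hcast : (N : F) ≠ 0 := fun h =>
    (Fact.out : p.Prime).not_dvd_one (hN ▸ Nat.dvd_gcd ((CharP.cast_eq_zero_iff F p N).1 h) dvd_rfl)
  have hrc : (r : F) ≠ 0 := cast_prime_ne_zero (Fact.out : r.Prime) hrp
  have hyM : Matrix.toLin' (y : Matrix (Fin d ⊕ Fin d) (Fin d ⊕ Fin d) F) ^ r = 1 := by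
    rw [← Matrix.toLin'_pow, ← SubmonoidClass.coe_pow, hy, Submonoid.coe_one, Matrix.toLin'_one]; rfl
  have hone : (1 : Module.End F (Fin e → F)).charpoly = (X - C 1) ^ e := by
    rw [show (1 : Module.End F (Fin e → F)) = Matrix.toLin' (1 : Matrix (Fin e) (Fin e) F) from Matrix.toLin'_one.symm,
      Matrix.charpoly_toLin', Matrix.charpoly_one, Fintype.card_fin, map_one]
  obtain ⟨T, hT⟩ := SemisimpleSimilar.similar (F := F) _ W (Fin d ⊕ Fin d → F) b
    (Matrix.toLin' (y : Matrix (Fin d ⊕ Fin d) (Fin d ⊕ Fin d) F))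
    (PrimeOrd.semisimple (r := N) hcast one_ne_zero (by rw [hbN, one_smul]))
    (PrimeOrd.semisimple (r := r) hrc one_ne_zero (by rw [hyM, one_smul]))
    (by rw [LinearMap.charpoly_prodMap, hone, Matrix.charpoly_toLin', hMc, Matrix.charpoly_toLin', hyc]) rfl
  have hfix : PrimeOrd.fix (Matrix.toLin' (y : Matrix (Fin d ⊕ Fin d) (Fin d ⊕ Fin d) F)) =
      (LinearMap.range (LinearMap.inl F (Fin e → F) (Fin (c * K) → F))).map T.toLinearMap := by
    refine le_antisymm (fun v hv => ?_) ?_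
    · obtain ⟨⟨x, z⟩, rfl⟩ := T.surjective v
      rw [PrimeOrd.mem_fix, ← hT, T.injective.eq_iff] at hv
      have hz : Matrix.toLin' M z = z := congrArg Prod.snd hv
      have hdet : (1 - M).det ≠ 0 := by
        have := Matrix.eval_charpoly M (1 : F)
        rw [hMc, map_one] at this
        rw [← this]; exact h5
      have : z = 0 := (Matrix.mulVec_injective_iff_isUnit.2 ((Matrix.isUnit_iff_isUnit_det _).2 (isUnit_iff_ne_zero.2 hdet)))
        (by rw [Matrix.sub_mulVec, Matrix.one_mulVec, ← Matrix.toLin'_apply, hz, sub_self, Matrix.mulVec_zero])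
      exact ⟨(x, z), ⟨x, by rw [this]; rfl⟩, rfl⟩
    · rintro _ ⟨_, ⟨x, rfl⟩, rfl⟩
      rw [PrimeOrd.mem_fix]
      show Matrix.toLin' _ (T _) = T _
      rw [← hT]
      congr 1
      exact Prod.ext rfl (map_zero (Matrix.toLin' M))
  rw [hfix, LinearEquiv.finrank_map_eq, LinearMap.finrank_range_of_inj LinearMap.inl_injective,
    Module.finrank_fintype_fun_eq_card, Fintype.card_fin]

/-- The number of decompositions divides the group order. -/
theorem dvd_card (ht : 2 ≤ t) (hh : 0 < h) (hdt : d = h * t)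
    (hΩ : r ∣ Nat.card {D : Fin t → Submodule F (Fin d ⊕ Fin d → F) // IsOD (2 * h) D} / Nat.factorial t) :
    r ∣ Nat.card (Matrix.symplecticGroup (Fin d) F) := by
  classical
  set X := {D : Fin t → Submodule F (Fin d ⊕ Fin d → F) // IsOD (2 * h) D}
  obtain ⟨E₀, hE₀⟩ : ∃ E : (((Fin h ⊕ Fin h) × Fin t) → F) ≃ₗ[F] (Fin d ⊕ Fin d → F),
      ∀ u v, sympBilin d F (E u) (E v) = sumForm F h t u v :=
    exists_isometry_sympBilin sumForm_alt sumForm_nondeg (by rw [finrank_model, hdt])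
  let D₀ : X := ⟨_, od_of_iso ht hh E₀ hE₀⟩
  haveI : Finite X := inferInstance
  letI : MulAction (Equiv.Perm (Fin t)) X :=
    { smul := fun σ D => ⟨fun l => D.1 (σ⁻¹ l), ⟨D.2.1.two_le, D.2.1.pos, fun l => D.2.1.finrank_eq _,
        D.2.1.indep.comp (σ⁻¹ : Equiv.Perm (Fin t)).injective, by
          rw [show iSup (fun l => D.1 (σ⁻¹ l)) = iSup D.1 from (σ⁻¹ : Equiv.Perm (Fin t)).iSup_congr fun _ => rfl]
          exact D.2.1.iSup_eq_top⟩, fun l => D.2.2.1 _,
        fun j k hjk => D.2.2.2 _ _ ((σ⁻¹ : Equiv.Perm (Fin t)).injective.ne hjk)⟩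
      one_smul := fun D => Subtype.ext rfl
      mul_smul := fun σ τ D => Subtype.ext (funext fun l => by
        show D.1 ((σ * τ)⁻¹ l) = D.1 (τ⁻¹ (σ⁻¹ l))
        rw [mul_inv_rev]
        rfl) }
  have hfact : Nat.factorial t ∣ Nat.card X := by
    haveI := Fintype.ofFinite X
    haveI := Fintype.ofFinite (MulAction.orbitRel.Quotient (Equiv.Perm (Fin t)) X)
    rw [Nat.card_congr (MulAction.selfEquivSigmaOrbits (Equiv.Perm (Fin t)) X), Nat.card_sigma]
    refine Finset.dvd_sum fun ω _ => dvd_of_eq ?_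
    have hinj : Function.Injective fun σ : Equiv.Perm (Fin t) => (⟨σ • ω.out, ⟨σ, rfl⟩⟩ : MulAction.orbit (Equiv.Perm (Fin t)) ω.out) := by
      intro σ τ e
      have e' : σ • ω.out = τ • ω.out := congrArg Subtype.val e
      refine inv_injective (Equiv.ext fun l => ω.out.2.injective ?_)
      exact congrFun (congrArg Subtype.val e') l
    rw [← Nat.card_congr (Equiv.ofBijective _ ⟨hinj, fun ⟨D, σ, hD⟩ => ⟨σ, Subtype.ext hD⟩⟩), Nat.card_perm, Nat.card_fin]
  letI : MulAction (BilinIsom (sympBilin d F)) X :=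
    { smul := fun g D => ⟨_, D.2.map g.1 g.2⟩
      one_smul := fun D => Subtype.ext (funext fun l => Submodule.map_id _)
      mul_smul := fun g g' D => Subtype.ext (funext fun l => Submodule.map_comp _ _ _) }
  haveI : Finite (BilinIsom (sympBilin d F)) := Finite.of_equiv _ (sympEquiv d F).toEquiv
  haveI : MulAction.IsPretransitive (BilinIsom (sympBilin d F)) X := ⟨fun D D' => by
    obtain ⟨E, hE, hED⟩ := exists_iso D.2 hdt
    obtain ⟨E', hE', hED'⟩ := exists_iso D'.2 hdt
    refine ⟨⟨E.symm ≪≫ₗ E', fun u v => ?_⟩, Subtype.ext (funext fun l => ?_)⟩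
    · obtain ⟨u, rfl⟩ := E.surjective u
      obtain ⟨v, rfl⟩ := E.surjective v
      simp [hE, hE']
    · show (D.1 l).map (E.symm ≪≫ₗ E').toLinearMap = D'.1 l
      rw [← hED l, ← hED' l, ← Submodule.map_comp]
      congr 1
      exact LinearMap.ext fun x => by simp⟩
  have hG : Nat.card X ∣ Nat.card (Matrix.symplecticGroup (Fin d) F) := by
    rw [Nat.card_congr (sympEquiv d F).toEquiv, ← MulAction.index_stabilizer_of_transitive (BilinIsom (sympBilin d F)) D₀]
    exact Subgroup.index_dvd_card _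
  exact (hΩ.trans (Nat.div_dvd_of_dvd hfact)).trans hG

/-- The block order is at most the dimension. -/
theorem order_le (hrp : r ≠ p) {i c : ℕ} (hi : i = orderOf (Fintype.card F : ZMod r))
    (hc : c = if Even i then i else 2 * i) (hG : r ∣ Nat.card (Matrix.symplecticGroup (Fin d) F)) : c ≤ 2 * d := by
  have hr : r.Prime := Fact.out
  rw [card_symplecticGroup, Nat.card_eq_fintype_card] at hG
  rcases hr.dvd_mul.mp hG with hG | hG
  · exact absurd (hr.dvd_of_dvd_pow hG) (PrimeOrd.not_dvd_card hr hrp)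
  obtain ⟨j, hj, hd⟩ := (Prime.dvd_finsetProd_iff hr.prime _).mp hG
  rw [Finset.mem_range] at hj
  have h := (PrimeOrd.dvd_pow_sub_one _).mp hd
  rw [← hi] at h
  have hle := Nat.le_of_dvd (by omega) h
  rw [hc]
  split_ifs with he
  · omega
  · have hodd : Odd i := Nat.not_even_iff_odd.mp he
    have := ((Nat.coprime_two_left.mpr hodd).symm).dvd_of_dvd_mul_left h
    have := Nat.le_of_dvd (by omega) this
    omega

/-- A decomposition fixed summand by summand needs enough fixed points. -/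
theorem fix_lower (hrp : r ≠ p) {i c : ℕ} (hi : i = orderOf (Fintype.card F : ZMod r))
    (hc : c = if Even i then i else 2 * i) {D : Fin t → Submodule F (Fin d ⊕ Fin d → F)} (hD : IsOD (2 * h) D)
    (y : Matrix.symplecticGroup (Fin d) F) (hy : y ^ r = 1)
    (hinv : ∀ j, (D j).map (Matrix.toLin' (y : Matrix (Fin d ⊕ Fin d) (Fin d ⊕ Fin d) F)) = D j) :
    t * ((2 * h) % c) ≤ Module.finrank F (PrimeOrd.fix (Matrix.toLin' (y : Matrix (Fin d ⊕ Fin d) (Fin d ⊕ Fin d) F))) := by
  classical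
  set x := Matrix.toLin' (y : Matrix (Fin d ⊕ Fin d) (Fin d ⊕ Fin d) F) with hxdef
  have hrc : (r : F) ≠ 0 := cast_prime_ne_zero (Fact.out : r.Prime) hrp
  have hx : x ^ r = 1 := by
    rw [hxdef, ← Matrix.toLin'_pow, ← SubmonoidClass.coe_pow, hy, Submonoid.coe_one, Matrix.toLin'_one]; rfl
  have hiso : ∀ u v, sympBilin d F (x u) (x v) = sympBilin d F u v := fun u v => by
    rw [hxdef, Matrix.toLin'_apply, Matrix.toLin'_apply]; exact (mem_symplectic_iff_form _).1 y.2 u v
  -- each summand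
  have key : ∀ j, (2 * h) % c ≤ Module.finrank F (PrimeOrd.fix x ⊓ D j : Submodule F (Fin d ⊕ Fin d → F)) := by
    intro j
    have hDj : PrimeOrd.Inv x (D j) := PrimeOrd.inv_iff_map_le.mpr (hinv j).le
    obtain ⟨C, hC, hcompl⟩ := PrimeOrd.exists_compl
      (PrimeOrd.semisimple (c := (1 : F)) hrc one_ne_zero (by rw [hx, one_smul])) ((PrimeOrd.inv_fix x).inf hDj)
    set P := PrimeOrd.fix x ⊓ D j with hP
    have e : P ⊔ C ⊓ D j = D j := by rw [← sup_inf_assoc_of_le C inf_le_right, hcompl.sup_eq_top, top_inf_eq]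
    have hfr := Submodule.finrank_sup_add_finrank_inf_eq P (C ⊓ D j)
    rw [(hcompl.disjoint.mono_right inf_le_left).eq_bot, finrank_bot, e, hD.1.finrank_eq] at hfr
    have hfree : C ⊓ D j ⊓ PrimeOrd.fix x = ⊥ := by
      rw [eq_bot_iff]
      rintro w ⟨⟨hwC, hwW⟩, hwf⟩
      exact hcompl.disjoint.le_bot ⟨⟨hwf, hwW⟩, hwC⟩
    have hdvd := PrimeOrd.dvd_of_fpf hx (hC.inf hDj) hfree
    rw [← hi] at hdvd
    -- the fixed part is nondegenerate
    have horth : ∀ u ∈ P, ∀ v ∈ C ⊓ D j, sympBilin d F u v = 0 := by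
      intro u hu v hv
      have hinj : Function.Injective ((x - 1).restrict (p := C ⊓ D j) (q := C ⊓ D j) fun w hw => by
          rw [LinearMap.sub_apply, Module.End.one_apply]
          exact sub_mem ((hC.inf hDj) w hw) hw) := by
        rw [injective_iff_map_eq_zero]
        intro w hw
        have hw' : (x - 1) w.1 = 0 := congrArg Subtype.val hw
        refine Subtype.ext ((Submodule.mem_bot F).mp (hfree ▸ ⟨w.2, ?_⟩))
        rw [SetLike.mem_coe, PrimeOrd.mem_fix]
        rwa [LinearMap.sub_apply, Module.End.one_apply, sub_eq_zero] at hw'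
      obtain ⟨w, hw⟩ := LinearMap.surjective_of_injective hinj ⟨v, hv⟩
      have hw' : x w.1 - w.1 = v := by
        have := congrArg Subtype.val hw
        simpa using this
      have hux : x u = u := PrimeOrd.mem_fix.mp hu.1
      have h3 : sympBilin d F u (x w.1) = sympBilin d F u w.1 := by
        conv_lhs => rw [← hux]
        exact hiso u w.1
      rw [← hw', map_sub, h3, sub_self]
    have hnd : ((sympBilin d F).restrict P).Nondegenerate := by
      have key : ∀ u : P, (∀ v : P, sympBilin d F u.1 v.1 = 0) → u = 0 := fun u hu => by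
        refine Subtype.ext (show u.1 = 0 from congrArg Subtype.val ((hD.restrict j).1 ⟨u.1, u.2.2⟩ fun v => ?_))
        have hv : v.1 ∈ P ⊔ C ⊓ D j := e.symm ▸ v.2
        obtain ⟨a', ha', b', hb', hab⟩ := Submodule.mem_sup.mp hv
        show sympBilin d F u.1 v.1 = 0
        rw [← hab, map_add, hu ⟨a', ha'⟩, horth u.1 u.2 b' hb', add_zero]
      refine ⟨fun u hu => key u hu, fun u hu => key u fun v => ?_⟩
      rw [← (sympBilin_isAlt d F).neg_eq v.1 u.1, neg_eq_zero]
      exact hu v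
    obtain ⟨m, hm⟩ := Classical.even_finrank_of_symplectic (B := (sympBilin d F).restrict P)
      (fun v => sympBilin_isAlt d F _) hnd
    -- congruence modulo c
    have hcd : c ∣ Module.finrank F (C ⊓ D j : Submodule F (Fin d ⊕ Fin d → F)) := by
      rw [hc]
      split_ifs with he
      · exact hdvd
      · exact Nat.Coprime.mul_dvd_of_dvd_of_dvd (Nat.coprime_two_left.mpr (Nat.not_even_iff_odd.mp he))
          ⟨h - m, by omega⟩ hdvd
    obtain ⟨k, hk⟩ := hcd
    calc (2 * h) % c = (Module.finrank F P + c * k) % c := by rw [← hk]; congr 1; try omega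
      _ = Module.finrank F P % c := Nat.add_mul_mod_self_left _ _ _
      _ ≤ _ := Nat.mod_le _ _
  let ψ : (∀ l, (PrimeOrd.fix x ⊓ D l : Submodule F (Fin d ⊕ Fin d → F))) →ₗ[F] PrimeOrd.fix x :=
    ∑ l, (Submodule.inclusion inf_le_left).comp (LinearMap.proj l)
  have hψ : Function.Injective ψ := by
    rw [injective_iff_map_eq_zero]
    intro w hw
    have hw' : ∑ l, (w l : Fin d ⊕ Fin d → F) = 0 := by
      have := congrArg Subtype.val hw
      simpa [ψ, LinearMap.sum_apply] using this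
    funext j
    refine Subtype.ext (Submodule.disjoint_def.mp (hD.1.indep j) _ (w j).2.2 ?_)
    rw [← Finset.add_sum_erase _ _ (Finset.mem_univ j)] at hw'
    rw [eq_neg_of_add_eq_zero_left hw']
    refine neg_mem (sum_mem fun l hl => ?_)
    exact Submodule.mem_iSup_of_mem l (Submodule.mem_iSup_of_mem (Finset.ne_of_mem_erase hl) (w l).2.2)
  refine le_trans ?_ (LinearMap.finrank_le_finrank_of_injective hψ)
  rw [Module.finrank_pi_fintype]
  exact le_trans (le_of_eq (by simp)) (Finset.sum_le_sum (s := Finset.univ) fun l _ => key l)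

/-- Bounds when a summand is moved. -/
theorem moved {D : Fin t → Submodule F (Fin d ⊕ Fin d → F)} (hD : IsOD a D) {x : Module.End F (Fin d ⊕ Fin d → F)}
    {σ : Equiv.Perm (Fin t)} (hσ : ∀ j, (D j).map x = D (σ j)) (hx : x ^ r = 1) {j : Fin t} (hj : σ j ≠ j) :
    a ≤ Module.finrank F (PrimeOrd.fix x) ∧ (r - 1) * a + Module.finrank F (PrimeOrd.fix x) ≤ 2 * d := by
  let e : Fin (2 * d) ≃ Fin d ⊕ Fin d := (finCongr (two_mul d)).trans finSumFinEquiv.symm
  let T : (Fin d ⊕ Fin d → F) ≃ₗ[F] (Fin (2 * d) → F) := LinearEquiv.funCongrLeft F F e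
  let x' := T.conj x
  have hx'T : ∀ v, x' (T v) = T (x v) := fun v => by simp [x', LinearEquiv.conj_apply_apply]
  have hD' : Cfsg.Geo.IsMDecomposition a (fun l => (D l).map T.toLinearMap) :=
    ⟨hD.1.two_le, hD.1.pos, fun l => (LinearEquiv.finrank_map_eq T _).trans (hD.1.finrank_eq l),
      hD.1.indep.map_orderIso (Submodule.orderIsoMapComap T), by
        rw [← Submodule.map_iSup, hD.1.iSup_eq_top, Submodule.map_top, LinearEquiv.range]⟩
  have hσ' : ∀ l, ((D l).map T.toLinearMap).map x' = (D (σ l)).map T.toLinearMap := fun l => by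
    rw [← hσ l, ← Submodule.map_comp, ← Submodule.map_comp]
    congr 1
    exact LinearMap.ext fun v => hx'T v
  have hxp : ∀ k : ℕ, ∀ v, (x' ^ k) (T v) = T ((x ^ k) v) := fun k => by
    induction k with
    | zero => intro v; simp
    | succ k ih => intro v; rw [pow_succ', pow_succ', Module.End.mul_apply, Module.End.mul_apply, ih, hx'T]
  have hx' : x' ^ r = 1 := LinearMap.ext fun w => by
    obtain ⟨v, rfl⟩ := T.surjective w
    rw [hxp, hx]; rfl
  have hfix : Module.finrank F (PrimeOrd.fix x') = Module.finrank F (PrimeOrd.fix x) := by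
    rw [← LinearEquiv.finrank_map_eq T (PrimeOrd.fix x)]
    refine congrArg (fun S : Submodule F (Fin (2 * d) → F) => Module.finrank F S) (Submodule.ext fun w => ?_)
    obtain ⟨v, rfl⟩ := T.surjective w
    rw [PrimeOrd.mem_fix, hx'T, T.injective.eq_iff]
    exact ⟨fun h => ⟨v, PrimeOrd.mem_fix.mpr h, rfl⟩, fun ⟨u, hu, he⟩ => T.injective he ▸ PrimeOrd.mem_fix.mp hu⟩
  have h1 := OddImprim.fix_bound hD' hσ' hx' hj
  have h2 := OddImprim.mov_bound hD' hσ' hx' hj
  refine ⟨hfix ▸ h1, ?_⟩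
  have h3 := LinearMap.finrank_range_add_finrank_ker (x' - 1)
  rw [Module.finrank_fintype_fun_eq_card, Fintype.card_fin] at h3
  rw [← hfix]
  exact le_trans (Nat.add_le_add_right h2 _) h3.le

theorem eq_one_scalar {z : F} (hd : 0 < d) {M : Matrix.symplecticGroup (Fin d) F}
    (h : (M : Matrix (Fin d ⊕ Fin d) (Fin d ⊕ Fin d) F) = z • 1) : z * z = 1 := by
  have h1 := (mem_symplectic_iff_form _).1 M.2 (Pi.single (Sum.inr ⟨0, hd⟩) 1) (Pi.single (Sum.inl ⟨0, hd⟩) 1)
  rw [h, Matrix.smul_mulVec, Matrix.smul_mulVec, Matrix.one_mulVec, Matrix.one_mulVec, map_smul, map_smul,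
    LinearMap.smul_apply, smul_eq_mul, smul_eq_mul] at h1
  have h2 : sympBilin d F (Pi.single (Sum.inr ⟨0, hd⟩) 1) (Pi.single (Sum.inl ⟨0, hd⟩) 1) = 1 := by
    rw [sympBilin_eq_sum, Finset.sum_eq_single ⟨0, hd⟩] <;> simp +contextual [Pi.single_apply]
  rw [h2, mul_one] at h1
  exact h1

theorem main (d : ℕ) (hd : 2 ≤ d) (a t : ℕ) (hat : 2 * d = a * t) (ha : 2 ≤ a) (hae : Even a) (ht : 2 ≤ t)
    (hr2 : r ≠ 2) (hrp : r ≠ p)
    (hΩ : r ∣ Nat.card {D : Fin t → Submodule F (Fin d ⊕ Fin d → F) // IsOD a D} / Nat.factorial t)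
    (i c : ℕ) (hi : i = orderOf (Fintype.card F : ZMod r)) (hc : c = if Even i then i else 2 * i) :
    (∀ x : ↥(Matrix.symplecticGroup (Fin d) F),
      (∃ z : F, ((x ^ r : ↥(Matrix.symplecticGroup (Fin d) F)) : Matrix (Fin d ⊕ Fin d) (Fin d ⊕ Fin d) F) = z • (1 : Matrix (Fin d ⊕ Fin d) (Fin d ⊕ Fin d) F)) →
      (∀ z : F, (x : Matrix (Fin d ⊕ Fin d) (Fin d ⊕ Fin d) F) ≠ z • (1 : Matrix (Fin d ⊕ Fin d) (Fin d ⊕ Fin d) F)) →
      ∃ D : Fin t → Submodule F (Fin d ⊕ Fin d → F), IsOD a D ∧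
        ∃ σ : Equiv.Perm (Fin t), ∀ j, (D j).map (Matrix.toLin' (x : Matrix (Fin d ⊕ Fin d) (Fin d ⊕ Fin d) F)) = D (σ j)) ↔
    (c ≤ a ∧ (2 * d) % c = t * (a % c)) := by
  classical
  have hr : r.Prime := Fact.out
  obtain ⟨h, rfl⟩ : ∃ h, a = 2 * h := hae.two_dvd
  have hdt : d = h * t := by rw [mul_assoc] at hat; omega
  have hh : 0 < h := by omega
  have hi0 : 0 < i := hi ▸ PrimeOrd.ord_pos (PrimeOrd.not_dvd_card hr hrp)
  have hir : i ∣ r - 1 := by
    rw [hi]
    exact orderOf_dvd_of_pow_eq_one (ZMod.pow_card_sub_one_eq_one fun e =>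
      PrimeOrd.not_dvd_card (F := F) hr hrp ((ZMod.natCast_eq_zero_iff _ _).mp e))
  have hrodd : Odd r := hr.odd_of_ne_two hr2
  have hc0 : 0 < c := by rw [hc]; split_ifs <;> omega
  have hcr : c ∣ r - 1 := by
    rw [hc]
    split_ifs with he
    · exact hir
    · exact Nat.Coprime.mul_dvd_of_dvd_of_dvd (Nat.coprime_two_left.mpr (Nat.not_even_iff_odd.mp he))
        (Nat.Odd.sub_odd hrodd odd_one).two_dvd hir
  constructor
  · intro H
    have hcd : c ≤ 2 * d := order_le hrp hi hc (dvd_card ht hh hdt hΩ)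
    -- the element
    have derange : ∀ K, 0 < K → K * c ≤ 2 * d → ∃ (D : Fin t → Submodule F (Fin d ⊕ Fin d → F)) (σ : Equiv.Perm (Fin t))
        (y : Matrix.symplecticGroup (Fin d) F), y ^ r = 1 ∧ IsOD (2 * h) D ∧
        Module.finrank F (PrimeOrd.fix (Matrix.toLin' (y : Matrix (Fin d ⊕ Fin d) (Fin d ⊕ Fin d) F))) = 2 * d - K * c ∧
        ∀ j, (D j).map (Matrix.toLin' (y : Matrix (Fin d ⊕ Fin d) (Fin d ⊕ Fin d) F)) = D (σ j) := by
      intro K hK hKc
      obtain ⟨y, hy, hfix⟩ := exists_fix hr2 hrp hi hi0 hc hKc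
      obtain ⟨D, hD, σ, hσ⟩ := H y ⟨1, by rw [hy, Submonoid.coe_one, one_smul]⟩ (fun z hz => by
        have hzz := eq_one_scalar (by omega) hz
        have hzr : z ^ r = 1 := by
          have h1 : (y : Matrix (Fin d ⊕ Fin d) (Fin d ⊕ Fin d) F) ^ r = 1 := by
            rw [← SubmonoidClass.coe_pow, hy, Submonoid.coe_one]
          rw [hz, _root_.smul_pow, one_pow] at h1
          have := congrFun (congrFun h1 (Sum.inl ⟨0, by omega⟩)) (Sum.inl ⟨0, by omega⟩)
          simpa using this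
        obtain ⟨k, hk⟩ := hrodd
        have hz1 : z = 1 := by
          rw [hk, pow_succ, pow_mul, sq, hzz, one_pow, one_mul] at hzr; exact hzr
        rw [hz, hz1, one_smul, Matrix.toLin'_one, show PrimeOrd.fix (LinearMap.id : Module.End F (Fin d ⊕ Fin d → F)) = ⊤ from
          Submodule.ext fun v => by simp [PrimeOrd.mem_fix], finrank_top, finrank_sympSpace] at hfix
        have := Nat.mul_pos hK hc0
        omega)
      exact ⟨D, σ, y, hy, hD, hfix, hσ⟩
    by_contra hne
    rw [not_and_or, not_le] at hne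
    have hxr : ∀ y : Matrix.symplecticGroup (Fin d) F, y ^ r = 1 →
        Matrix.toLin' (y : Matrix (Fin d ⊕ Fin d) (Fin d ⊕ Fin d) F) ^ r = 1 := fun y hy => by
      rw [← Matrix.toLin'_pow, ← SubmonoidClass.coe_pow, hy, Submonoid.coe_one, Matrix.toLin'_one]; rfl
    by_cases hca : 2 * h < c
    · obtain ⟨D, σ, y, hy, hD, hfix, hσ⟩ := derange 1 one_pos (by omega)
      by_cases hmove : ∀ j, σ j = j
      · have h1 := fix_lower hrp hi hc hD y hy (fun j => by rw [hσ j, hmove j])
        rw [hfix, Nat.mod_eq_of_lt hca, show t * (2 * h) = 2 * d by rw [hdt]; ring] at h1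
        omega
      · push Not at hmove
        obtain ⟨j, hj⟩ := hmove
        obtain ⟨-, h2⟩ := moved hD hσ (hxr y hy) hj
        rw [hfix] at h2
        have h3 : (r - 1) * 2 ≤ (r - 1) * (2 * h) := Nat.mul_le_mul_left _ (by omega)
        have h4 := Nat.le_of_dvd (by have := hr.two_le; omega) hcr
        have := hr.two_le
        omega
    · push Not at hca
      have hne' : (2 * d) % c ≠ t * ((2 * h) % c) := hne.resolve_left (by omega)
      have hdm := Nat.div_add_mod (2 * d) c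
      obtain ⟨D, σ, y, hy, hD, hfix, hσ⟩ := derange ((2 * d) / c) (Nat.div_pos hcd hc0) (Nat.div_mul_le_self _ _)
      have hfix' : 2 * d - (2 * d) / c * c = (2 * d) % c := by
        rw [mul_comm ((2 * d) / c) c]; omega
      rw [hfix'] at hfix
      have hlt := Nat.mod_lt (2 * d) hc0
      by_cases hmove : ∀ j, σ j = j
      · have h1 := fix_lower hrp hi hc hD y hy (fun j => by rw [hσ j, hmove j])
        rw [hfix] at h1
        refine hne' ?_
        have h4 : 2 * d = c * (t * ((2 * h) / c)) + t * ((2 * h) % c) := by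
          conv_lhs => rw [hdt, show 2 * (h * t) = t * (2 * h) by ring, ← Nat.div_add_mod (2 * h) c]
          ring
        conv_lhs => rw [h4, Nat.mul_add_mod]
        exact Nat.mod_eq_of_lt (h1.trans_lt hlt)
      · push Not at hmove
        obtain ⟨j, hj⟩ := hmove
        obtain ⟨h1, -⟩ := moved hD hσ (hxr y hy) hj
        rw [hfix] at h1
        omega
  · rintro ⟨hca, hcond⟩ x ⟨z, hz⟩ -
    have hzz := eq_one_scalar (by omega) hz
    have hzmem : z • (x : Matrix (Fin d ⊕ Fin d) (Fin d ⊕ Fin d) F) ∈ Matrix.symplecticGroup (Fin d) F :=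
      (mem_symplectic_iff_form _).2 fun u v => by
        rw [Matrix.smul_mulVec, Matrix.smul_mulVec, map_smul, map_smul, LinearMap.smul_apply, smul_eq_mul, smul_eq_mul,
          ← mul_assoc, hzz, one_mul]
        exact (mem_symplectic_iff_form _).1 x.2 u v
    have hy : (⟨_, hzmem⟩ : Matrix.symplecticGroup (Fin d) F) ^ r = 1 := by
      refine Subtype.ext ?_
      rw [SubmonoidClass.coe_pow, _root_.smul_pow, ← SubmonoidClass.coe_pow, hz, smul_smul, Submonoid.coe_one]
      obtain ⟨k, hk⟩ := hrodd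
      rw [← pow_succ, hk, show 2 * k + 1 + 1 = 2 * (k + 1) by ring, pow_mul, sq, hzz, one_pow, one_smul]
    obtain ⟨D, hD, hinv⟩ := exists_stable (p := p) hr2 hrp hi hi0 hc ht hh hdt hca hcond _ hy
    refine ⟨D, hD, 1, fun j => ?_⟩
    have h1 := hinv j
    rw [show Matrix.toLin' (z • (x : Matrix (Fin d ⊕ Fin d) (Fin d ⊕ Fin d) F)) = z • Matrix.toLin' (x : Matrix (Fin d ⊕ Fin d) (Fin d ⊕ Fin d) F) from map_smul _ _ _,
      Submodule.map_smul _ _ _ (fun e => by rw [e, mul_zero] at hzz; exact zero_ne_one hzz)] at h1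
    exact h1

end Finite

end Cfsg.Lib.Classical.SpDecomp
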