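import Mathlib
import Cfsg.Prelude.Def_ClassicalGeometry
import Cfsg.Agent.Classical.Symp.Basic
import Cfsg.Agent.Classical.Symp.Card
import Cfsg.Agent.Classical.Symp.Matrix

/-! Parabolic subgroups of the symplectic group by counting isotropic frames. -/

set_option autoImplicit false
set_option linter.unusedSimpArgs false
set_option linter.unusedSectionVars false
set_option linter.style.haveILetI false
set_option linter.flexible false

namespace Cfsg.Lib.Classical.IsoFrames

open Submodule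

universe u v

variable {F : Type u} [Field F] [Finite F] {V : Type v} [AddCommGroup V] [Module F V] [FiniteDimensional F V]
  {B : LinearMap.BilinForm F V}

theorem card_diff {X Y : Submodule F V} (h : X ≤ Y) :
    Nat.card {v : V // v ∈ Y ∧ v ∉ X} = Nat.card F ^ Module.finrank F Y - Nat.card F ^ Module.finrank F X := by
  haveI : Finite V := Module.finite_of_finite F
  have h1 : Nat.card {v : V // v ∈ Y ∧ v ∉ X} = ((Y : Set V) \ (X : Set V)).ncard := rfl
  rw [h1, Set.ncard_sdiff h (Set.toFinite _), ← Module.natCard_eq_pow_finrank (K := F),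
    ← Module.natCard_eq_pow_finrank (K := F)]
  rfl

omit [Finite F] in
theorem card_step [Finite V] {k : ℕ} (P : (Fin k → V) → Prop) (Q : (Fin k → V) → V → Prop) (c : ℕ)
    (h : ∀ f, P f → Nat.card {v : V // Q f v} = c) :
    Nat.card {g : Fin (k + 1) → V // P (Fin.init g) ∧ Q (Fin.init g) (g (Fin.last k))} =
      Nat.card {f : Fin k → V // P f} * c := by
  classical
  haveI := Fintype.ofFinite V
  have e : Nat.card {g : Fin (k + 1) → V // P (Fin.init g) ∧ Q (Fin.init g) (g (Fin.last k))} =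
      Nat.card (Σ f : {f : Fin k → V // P f}, {v : V // Q f.1 v}) := by
    refine (Nat.card_eq_of_bijective (fun s : Σ f : {f : Fin k → V // P f}, {v : V // Q f.1 v} =>
      (⟨Fin.snoc s.1.1 s.2.1, by rw [Fin.init_snoc, Fin.snoc_last]; exact ⟨s.1.2, s.2.2⟩⟩ :
        {g : Fin (k + 1) → V // P (Fin.init g) ∧ Q (Fin.init g) (g (Fin.last k))})) ⟨?_, ?_⟩).symm
    · rintro ⟨⟨f, hf⟩, ⟨v, hv⟩⟩ ⟨⟨f', hf'⟩, ⟨v', hv'⟩⟩ e
      have e' : Fin.snoc f v = (Fin.snoc f' v' : Fin (k + 1) → V) := congrArg Subtype.val e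
      obtain rfl : f = f' := by simpa using congrArg Fin.init e'
      obtain rfl : v = v' := by simpa using congrFun e' (Fin.last k)
      rfl
    · intro g
      exact ⟨⟨⟨Fin.init g.1, g.2.1⟩, ⟨g.1 (Fin.last k), g.2.2⟩⟩, Subtype.ext (Fin.snoc_init_self g.1)⟩
  rw [e, Nat.card_sigma, Finset.sum_congr rfl (fun f _ => h f.1 f.2), Finset.sum_const,
    Finset.card_univ, smul_eq_mul, Nat.card_eq_fintype_card]

/-- Isotropic frames. -/
def IsFrame (B : LinearMap.BilinForm F V) {k : ℕ} (f : Fin k → V) : Prop :=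
  LinearIndependent F f ∧ ∀ i j, B (f i) (f j) = 0

theorem frame_succ (hA : B.IsAlt) {k : ℕ} (g : Fin (k + 1) → V) :
    IsFrame B g ↔ IsFrame B (Fin.init g) ∧
      (g (Fin.last k) ∈ B.orthogonal (span F (Set.range (Fin.init g))) ∧
        g (Fin.last k) ∉ span F (Set.range (Fin.init g))) := by
  have hli : LinearIndependent F g ↔ LinearIndependent F (Fin.init g) ∧
      g (Fin.last k) ∉ span F (Set.range (Fin.init g)) := by
    conv_lhs => rw [← Fin.snoc_init_self g]
    exact linearIndependent_finSnoc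
  constructor
  · rintro ⟨h1, h2⟩
    refine ⟨⟨(hli.mp h1).1, fun i j => h2 _ _⟩, ?_, (hli.mp h1).2⟩
    intro x hx
    have : span F (Set.range (Fin.init g)) ≤ LinearMap.ker (B.flip (g (Fin.last k))) :=
      span_le.mpr (by rintro _ ⟨i, rfl⟩; exact h2 _ _)
    exact this hx
  · rintro ⟨⟨h1, h2⟩, h3, h4⟩
    refine ⟨hli.mpr ⟨h1, h4⟩, fun i j => ?_⟩
    have h5 : ∀ i : Fin k, B (g i.castSucc) (g (Fin.last k)) = 0 := fun i => h3 _ (subset_span ⟨i, rfl⟩)
    refine Fin.lastCases ?_ (fun i => ?_) i <;> refine Fin.lastCases ?_ (fun j => ?_) j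
    · exact hA _
    · rw [← hA.neg_eq (g j.castSucc) (g (Fin.last k)), h5, neg_zero]
    · exact h5 i
    · exact h2 i j

theorem card_frames (hA : B.IsAlt) (hB : B.Nondegenerate) {d : ℕ} (hd : Module.finrank F V = d) :
    ∀ k, Nat.card {f : Fin k → V // IsFrame B f} =
      ∏ i ∈ Finset.range k, (Nat.card F ^ (d - i) - Nat.card F ^ i) := by
  haveI : Finite V := Module.finite_of_finite F
  intro k
  induction k with
  | zero =>
    haveI : Unique {f : Fin 0 → V // IsFrame B f} :=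
      { default := ⟨Fin.elim0, linearIndependent_empty_type, fun i => i.elim0⟩
        uniq := fun f => Subtype.ext (funext fun i => i.elim0) }
    simp
  | succ k ih =>
    rw [Finset.prod_range_succ, ← ih, Nat.card_congr (Equiv.subtypeEquivRight (frame_succ hA))]
    refine card_step (IsFrame B) (fun f v => v ∈ B.orthogonal (span F (Set.range f)) ∧ v ∉ span F (Set.range f)) _
      fun f hf => ?_
    have hle : span F (Set.range f) ≤ B.orthogonal (span F (Set.range f)) := by
      refine span_le.mpr ?_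
      rintro _ ⟨j, rfl⟩ x hx
      have : span F (Set.range f) ≤ LinearMap.ker (B.flip (f j)) :=
        span_le.mpr (by rintro _ ⟨i, rfl⟩; exact hf.2 _ _)
      exact this hx
    rw [card_diff hle, LinearMap.BilinForm.finrank_orthogonal hB, finrank_span_eq_card hf.1, Fintype.card_fin, hd]

omit [Finite F] in
theorem frame_span {k : ℕ} {f : Fin k → V} (hf : IsFrame B f) {x y : V} (hx : x ∈ span F (Set.range f))
    (hy : y ∈ span F (Set.range f)) : B x y = 0 := by
  have h1 : ∀ i, span F (Set.range f) ≤ LinearMap.ker (B (f i)) := fun i =>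
    span_le.mpr (by rintro _ ⟨j, rfl⟩; exact hf.2 _ _)
  have h2 : span F (Set.range f) ≤ LinearMap.ker (B.flip y) :=
    span_le.mpr (by rintro _ ⟨i, rfl⟩; exact h1 i hy)
  exact h2 hx

/-- The action on a frame. -/
def act {k : ℕ} (g : BilinIsom B) (f : Fin k → V) : Fin k → V := fun i => (g : V ≃ₗ[F] V) (f i)

omit [Finite F] in
theorem act_frame {k : ℕ} (g : BilinIsom B) {f : Fin k → V} (hf : IsFrame B f) : IsFrame B (act g f) :=
  ⟨hf.1.map' (g : V ≃ₗ[F] V).toLinearMap (LinearEquiv.ker _), fun i j => by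
    show B ((g : V ≃ₗ[F] V) (f i)) ((g : V ≃ₗ[F] V) (f j)) = 0
    rw [BilinIsom.map_form, hf.2]⟩

omit [Finite F] in
theorem transitive (hA : B.IsAlt) (hB : B.Nondegenerate) {k : ℕ} {f f' : Fin k → V} (hf : IsFrame B f)
    (hf' : IsFrame B f') : ∃ g : BilinIsom B, act g f = f' := by
  let bs := Module.Basis.span hf.1
  let φ : span F (Set.range f) →ₗ[F] V := bs.constr F f'
  have hφ : ∀ i, φ (bs i) = f' i := fun i => bs.constr_basis F f' i
  obtain ⟨g, hg⟩ := exists_sympIsom_extend hA hB φ (by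
    rw [← LinearMap.ker_eq_bot]
    refine LinearMap.ker_eq_bot'.mpr fun x hx => ?_
    rw [← bs.sum_repr x, map_sum] at hx
    simp only [map_smul, hφ] at hx
    have := Fintype.linearIndependent_iff.mp hf'.1 _ hx
    rw [← bs.sum_repr x]
    simp [this]) fun a b => by
    have hr : ∀ x, φ x ∈ span F (Set.range f') := fun x => by
      rw [← bs.constr_range (S := F) (f := f')]
      exact ⟨x, rfl⟩
    rw [frame_span hf' (hr a) (hr b), frame_span hf a.2 b.2]
  refine ⟨g, funext fun i => ?_⟩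
  show (g : V ≃ₗ[F] V) (f i) = f' i
  have hi : (bs i : V) = f i := congrArg Subtype.val (Module.Basis.span_apply hf.1 i)
  rw [← hi, hg, hφ]

/-- Counting a preimage of a set of frames. -/
theorem card_pre (hA : B.IsAlt) (hB : B.Nondegenerate) {k : ℕ} {f₀ : Fin k → V} (hf₀ : IsFrame B f₀)
    (Φ : (Fin k → V) → Prop) :
    Nat.card {g : BilinIsom B // Φ (act g f₀)} =
      Nat.card {f : Fin k → V // IsFrame B f ∧ Φ f} * Nat.card {g : BilinIsom B // act g f₀ = f₀} := by
  rw [← Nat.card_prod]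
  choose s hs using fun f : {f : Fin k → V // IsFrame B f ∧ Φ f} => transitive hA hB hf₀ f.2.1
  have hmul : ∀ a b : BilinIsom B, act (a * b) f₀ = act a (act b f₀) := fun a b => funext fun i => by
    simp [act, BilinIsom.mul_apply']
  have hinv : ∀ a : BilinIsom B, ∀ f : Fin k → V, act a⁻¹ (act a f) = f := fun a f => funext fun i => by
    simp [act, BilinIsom.inv_apply_self]
  refine (Nat.card_eq_of_bijective
    (fun x : {f : Fin k → V // IsFrame B f ∧ Φ f} × {g : BilinIsom B // act g f₀ = f₀} =>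
      (⟨s x.1 * x.2.1, by rw [hmul, x.2.2, hs]; exact x.1.2.2⟩ : {g : BilinIsom B // Φ (act g f₀)})) ⟨?_, ?_⟩).symm
  · rintro ⟨f, a⟩ ⟨f', a'⟩ e
    have e' : s f * a.1 = s f' * a'.1 := congrArg Subtype.val e
    have h1 : act (s f * a.1) f₀ = f.1 := by rw [hmul, a.2, hs]
    have h2 : act (s f' * a'.1) f₀ = f'.1 := by rw [hmul, a'.2, hs]
    have hff : f = f' := Subtype.ext (by rw [← h1, ← h2, e'])
    subst hff
    exact Prod.ext rfl (Subtype.ext (mul_left_cancel e'))
  · rintro ⟨g, hg⟩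
    let f : {f : Fin k → V // IsFrame B f ∧ Φ f} := ⟨act g f₀, act_frame g hf₀, hg⟩
    refine ⟨⟨f, ⟨(s f)⁻¹ * g, ?_⟩⟩, Subtype.ext (mul_inv_cancel_left _ _)⟩
    rw [hmul, show act g f₀ = act (s f) f₀ from (hs f).symm, hinv]

/-- The basic product formula. -/
theorem count_eq (hA : B.IsAlt) (hB : B.Nondegenerate) {d k : ℕ} (hd : Module.finrank F V = d) {f₀ : Fin k → V}
    (hf₀ : IsFrame B f₀) (Φ : (Fin k → V) → Prop) :
    Nat.card {g : BilinIsom B // Φ (act g f₀)} * ∏ i ∈ Finset.range k, (Nat.card F ^ (d - i) - Nat.card F ^ i) =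
      Nat.card (BilinIsom B) * Nat.card {f : Fin k → V // IsFrame B f ∧ Φ f} := by
  have h1 := card_pre hA hB hf₀ (fun _ => True)
  simp only [and_true] at h1
  rw [Nat.card_congr (Equiv.subtypeUnivEquiv fun _ => trivial)] at h1
  rw [card_pre hA hB hf₀ Φ, h1, ← card_frames hA hB hd]
  ring

theorem prod_identity (q : ℕ) : ∀ k j : ℕ,
    (∏ i ∈ Finset.range k, (q ^ (2 * (j + k) - i) - q ^ i)) *
        (q ^ (k * (k + 1) / 2 + 2 * k * j + j ^ 2) * ∏ i ∈ Finset.range j, (q ^ (2 * (i + 1)) - 1)) =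
      q ^ ((j + k) ^ 2) * ∏ i ∈ Finset.range (j + k), (q ^ (2 * (i + 1)) - 1) := by
  intro k
  induction k with
  | zero => intro j; simp
  | succ k ih =>
    intro j
    have h := ih (j + 1)
    rw [Finset.prod_range_succ (n := j), show j + 1 + k = j + (k + 1) by ring] at h
    rw [Finset.prod_range_succ (n := k), ← h]
    have hT : (k + 1) * (k + 1 + 1) / 2 = k * (k + 1) / 2 + (k + 1) := by
      rw [show (k + 1) * (k + 1 + 1) = k * (k + 1) + (k + 1) * 2 by ring, Nat.add_mul_div_right _ _ two_pos]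
    have e1 : q ^ (2 * (j + (k + 1)) - k) - q ^ k = q ^ k * (q ^ (2 * (j + 1)) - 1) := by
      rw [Nat.mul_sub, mul_one, ← pow_add]; congr 2; omega
    rw [e1, show k * (k + 1) / 2 + 2 * k * (j + 1) + (j + 1) ^ 2 =
      ((k + 1) * (k + 1 + 1) / 2 + 2 * (k + 1) * j + j ^ 2) + k by rw [hT]; ring, pow_add q _ k]
    ring

omit [Finite F] in
theorem prod_pos {q : ℕ} (hq : 2 ≤ q) {m k : ℕ} (hk : k ≤ m) :
    0 < ∏ i ∈ Finset.range k, (q ^ (2 * m - i) - q ^ i) :=
  Finset.prod_pos fun i hi => Nat.sub_pos_of_lt (Nat.pow_lt_pow_right (by omega) (by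
    rw [Finset.mem_range] at hi; omega))

end Cfsg.Lib.Classical.IsoFrames

namespace Cfsg.Lib.Classical.IsoFrames

open Submodule

universe u

variable {F : Type u} [Field F] [Fintype F] {q : ℕ} {m : ℕ}

/-- A stabiliser as a set of isometries. -/
theorem card_stab_eq (P : (Matrix.symplecticGroup (Fin m) F) → Prop) (Q : BilinIsom (sympBilin m F) → Prop)
    (h : ∀ A, P A ↔ Q (sympEquiv m F A)) : Nat.card {A // P A} = Nat.card {g // Q g} :=
  Nat.card_congr ((sympEquiv m F).toEquiv.subtypeEquiv h)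

theorem stab_iff (S : Submodule F (Fin m ⊕ Fin m → F)) (A : Matrix.symplecticGroup (Fin m) F) :
    A ∈ Cfsg.stabilizing (Cfsg.spToMat m F) (S : Set (Fin m ⊕ Fin m → F)) ↔
      ∀ v ∈ S, ((sympEquiv m F A : BilinIsom (sympBilin m F)) : (Fin m ⊕ Fin m → F) ≃ₗ[F] _) v ∈ S := by
  constructor
  · intro h v hv
    exact (h v).mp hv
  · intro h v
    refine ⟨fun hv => h v hv, fun hv => ?_⟩
    let g : (Fin m ⊕ Fin m → F) ≃ₗ[F] (Fin m ⊕ Fin m → F) := (sympEquiv m F A).1
    have hmap : S.map g.toLinearMap = S := eq_of_le_of_finrank_le (by rintro _ ⟨w, hw, rfl⟩; exact h w hw)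
      (LinearEquiv.finrank_map_eq g S).ge
    have hv' : g v ∈ S := hv
    rw [← hmap] at hv'
    obtain ⟨w, hw, e⟩ := hv'
    exact g.injective e ▸ hw

/-- Maximal parabolics. -/
theorem parabolic (hF : Fintype.card F = q) (k : ℕ) (hk : k ≤ m) (W : Submodule F (Fin m ⊕ Fin m → F))
    (hWk : Module.finrank F W = k) (hW : ∀ u ∈ W, ∀ v ∈ W, Cfsg.sympForm m F u v = 0) :
    Nat.card ↥(Cfsg.stabilizing (Cfsg.spToMat m F) (W : Set (Fin m ⊕ Fin m → F))) =
      q ^ (k * (k + 1) / 2 + 2 * k * (m - k)) * (q ^ ((m - k) ^ 2) * ∏ i ∈ Finset.range (m - k), (q ^ (2 * (i + 1)) - 1)) *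
        ∏ i : Fin k, (q ^ k - q ^ (i : ℕ)) := by
  classical
  have hqF : Nat.card F = q := by rw [Nat.card_eq_fintype_card, hF]
  let bW := Module.finBasisOfFinrankEq F W hWk
  let f₀ : Fin k → (Fin m ⊕ Fin m → F) := fun i => (bW i : Fin m ⊕ Fin m → F)
  have hf₀ : IsFrame (sympBilin m F) f₀ := ⟨bW.linearIndependent.map' W.subtype W.ker_subtype, fun i j => by
    rw [sympBilin_eq_sympForm]; exact hW _ (bW i).2 _ (bW j).2⟩
  have hspan : span F (Set.range f₀) = W := by
    rw [show Set.range f₀ = W.subtype '' Set.range bW from Set.range_comp W.subtype bW, ← map_span, bW.span_eq,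
      Submodule.map_top, range_subtype]
  have h := count_eq (sympBilin_isAlt m F) (sympBilin_nondegenerate m F) (finrank_sympSpace m F) hf₀
    (fun f => ∀ i, f i ∈ W)
  have e1 : Nat.card ↥(Cfsg.stabilizing (Cfsg.spToMat m F) (W : Set (Fin m ⊕ Fin m → F))) =
      Nat.card {g : BilinIsom (sympBilin m F) // ∀ i, act g f₀ i ∈ W} := by
    refine card_stab_eq _ _ fun A => ?_
    rw [stab_iff]
    refine ⟨fun hA i => hA _ (bW i).2, fun hA v hv => ?_⟩
    have : span F (Set.range f₀) ≤ W.comap ((sympEquiv m F A : BilinIsom (sympBilin m F)) :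
        (Fin m ⊕ Fin m → F) ≃ₗ[F] _).toLinearMap := span_le.mpr (by rintro _ ⟨i, rfl⟩; exact hA i)
    rw [hspan] at this
    exact this hv
  have e2 : Nat.card {f : Fin k → (Fin m ⊕ Fin m → F) // IsFrame (sympBilin m F) f ∧ ∀ i, f i ∈ W} =
      ∏ i : Fin k, (q ^ k - q ^ (i : ℕ)) := by
    rw [← hF, ← hWk, ← card_linearIndependent (K := F) (V := W) (le_refl _), hWk]
    refine Nat.card_congr
      { toFun := fun f => ⟨fun i => ⟨f.1 i, f.2.2 i⟩, LinearIndependent.of_comp W.subtype f.2.1.1⟩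
        invFun := fun s => ⟨fun i => (s.1 i : Fin m ⊕ Fin m → F), ⟨s.2.map' W.subtype W.ker_subtype, fun i j => by
          rw [sympBilin_eq_sympForm]; exact hW _ (s.1 i).2 _ (s.1 j).2⟩, fun i => (s.1 i).2⟩
        left_inv := fun f => rfl
        right_inv := fun s => rfl }
  obtain ⟨j, rfl⟩ : ∃ j, m = j + k := ⟨m - k, by omega⟩
  rw [← e1, e2, ← Nat.card_congr (sympEquiv (j + k) F).toEquiv, card_symplecticGroup, hqF, ← prod_identity q k j] at h
  rw [Nat.add_sub_cancel]
  have hpos := prod_pos (q := q) (hF ▸ Fintype.one_lt_card) (m := j + k) (k := k) (by omega)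
  refine Nat.eq_of_mul_eq_mul_right hpos (h.trans ?_)
  rw [pow_add q _ (j ^ 2)]
  ring

/-- The coordinate flag. -/
theorem flag_mem (k : Fin m) (v : Fin m ⊕ Fin m → F) :
    ((∀ i : Fin m, (k : ℕ) < (i : ℕ) → v (Sum.inl i) = 0) ∧ ∀ i : Fin m, v (Sum.inr i) = 0) ↔
      v ∈ span F (Set.range fun i : Fin ((k : ℕ) + 1) =>
        (Pi.single (Sum.inl (Fin.castLE k.isLt i)) (1 : F) : Fin m ⊕ Fin m → F)) := by
  constructor
  · rintro ⟨h1, h2⟩
    have : v = ∑ i : Fin m, v (Sum.inl i) • (Pi.single (Sum.inl i) (1 : F) : Fin m ⊕ Fin m → F) := by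
      ext (a | a)
      · simp [Finset.sum_apply, Pi.single_apply]
      · simp [Finset.sum_apply, Pi.single_apply, h2]
    rw [this]
    refine sum_mem fun i _ => ?_
    by_cases hi : (k : ℕ) < i
    · rw [h1 i hi, zero_smul]; exact zero_mem _
    · exact smul_mem _ _ (subset_span ⟨⟨i, by omega⟩, rfl⟩)
  · intro h
    induction h using span_induction with
    | mem x hx =>
      obtain ⟨i, rfl⟩ := hx
      refine ⟨fun l hl => ?_, fun l => by simp⟩
      simp only [Pi.single_apply, Sum.inl.injEq]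
      rw [if_neg]
      intro e
      rw [e] at hl
      simp at hl
      omega
    | zero => exact ⟨fun _ _ => rfl, fun _ => rfl⟩
    | add x y _ _ hx hy => exact ⟨fun i hi => by simp [hx.1 i hi, hy.1 i hi], fun i => by simp [hx.2, hy.2]⟩
    | smul a x _ hx => exact ⟨fun i hi => by simp [hx.1 i hi], fun i => by simp [hx.2]⟩

/-- The Borel subgroup. -/
theorem borel (hF : Fintype.card F = q) : Nat.card ↥(⨅ k : Fin m, Cfsg.stabilizing (Cfsg.spToMat m F)
    {v : Fin m ⊕ Fin m → F | (∀ i : Fin m, (k : ℕ) < (i : ℕ) → v (Sum.inl i) = 0) ∧ ∀ i : Fin m, v (Sum.inr i) = 0}) =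
      q ^ (m ^ 2) * (q - 1) ^ m := by
  classical
  have hqF : Nat.card F = q := by rw [Nat.card_eq_fintype_card, hF]
  let e : Fin m → (Fin m ⊕ Fin m → F) := fun i => Pi.single (Sum.inl i) 1
  let X : (j : ℕ) → j ≤ m → Submodule F (Fin m ⊕ Fin m → F) := fun j hj =>
    span F (Set.range fun i : Fin j => e (Fin.castLE hj i))
  have hXset : ∀ k : Fin m, {v : Fin m ⊕ Fin m → F | (∀ i : Fin m, (k : ℕ) < (i : ℕ) → v (Sum.inl i) = 0) ∧
      ∀ i : Fin m, v (Sum.inr i) = 0} = (X ((k : ℕ) + 1) k.isLt : Set (Fin m ⊕ Fin m → F)) := fun k =>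
    Set.ext (flag_mem k)
  simp only [hXset]
  have he : LinearIndependent F e := by
    have h := (Pi.basisFun F (Fin m ⊕ Fin m)).linearIndependent.comp Sum.inl Sum.inl_injective
    convert h using 1
    funext i
    simp [e, Pi.basisFun_apply]
  have hXdim : ∀ j hj, Module.finrank F (X j hj) = j := fun j hj => by
    exact (finrank_span_eq_card (R := F) (he.comp _ (Fin.castLE_injective hj))).trans (Fintype.card_fin j)
  have hXmono : ∀ a b (ha : a ≤ m) (hb : b ≤ m), a ≤ b → X a ha ≤ X b hb := fun a b ha hb hab =>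
    span_mono (by rintro _ ⟨i, rfl⟩; exact ⟨Fin.castLE hab i, rfl⟩)
  have hXiso : ∀ u ∈ X m le_rfl, ∀ v ∈ X m le_rfl, sympBilin m F u v = 0 := by
    intro u hu v hv
    have hz : ∀ w ∈ X m le_rfl, ∀ i : Fin m, w (Sum.inr i) = 0 := by
      intro w hw i
      have : X m le_rfl ≤ LinearMap.ker (LinearMap.proj (R := F) (φ := fun _ : Fin m ⊕ Fin m => F) (Sum.inr i)) :=
        span_le.mpr (by rintro _ ⟨b, rfl⟩; simp [e])
      exact this hw
    rw [sympBilin_eq_sum]
    exact Finset.sum_eq_zero fun i _ => by rw [hz u hu i, hz v hv i, zero_mul, mul_zero, sub_zero]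
  have hf₀ : IsFrame (sympBilin m F) e := ⟨he, fun i j =>
    hXiso _ (subset_span ⟨i, rfl⟩) _ (subset_span ⟨j, rfl⟩)⟩
  let Φ : (Fin m → (Fin m ⊕ Fin m → F)) → Prop := fun f => ∀ i : Fin m, f i ∈ X ((i : ℕ) + 1) i.isLt
  have h := count_eq (sympBilin_isAlt m F) (sympBilin_nondegenerate m F) (finrank_sympSpace m F) hf₀ Φ
  have e1 : Nat.card ↥(⨅ k : Fin m, Cfsg.stabilizing (Cfsg.spToMat m F)
      (X ((k : ℕ) + 1) k.isLt : Set (Fin m ⊕ Fin m → F))) =
      Nat.card {g : BilinIsom (sympBilin m F) // Φ (act g e)} := by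
    refine card_stab_eq _ _ fun A => ?_
    rw [Subgroup.mem_iInf]
    simp only [stab_iff]
    constructor
    · intro hA i
      exact hA i _ (subset_span ⟨⟨i, Nat.lt_succ_self _⟩, rfl⟩)
    · intro hA k v hv
      have : X ((k : ℕ) + 1) k.isLt ≤ (X ((k : ℕ) + 1) k.isLt).comap ((sympEquiv m F A : BilinIsom (sympBilin m F)) :
          (Fin m ⊕ Fin m → F) ≃ₗ[F] _).toLinearMap := span_le.mpr (by
        rintro _ ⟨i, rfl⟩
        exact hXmono _ _ _ _ (by show (i : ℕ) + 1 ≤ _; omega) (hA (Fin.castLE k.isLt i)))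
      exact this hv
  have e2 : ∀ j (hj : j ≤ m), Nat.card {f : Fin j → (Fin m ⊕ Fin m → F) //
      LinearIndependent F f ∧ ∀ i : Fin j, f i ∈ X ((i : ℕ) + 1) (le_trans i.isLt hj)} =
      ∏ i ∈ Finset.range j, (q ^ (i + 1) - q ^ i) := by
    intro j
    induction j with
    | zero =>
      intro hj
      haveI : Unique {f : Fin 0 → (Fin m ⊕ Fin m → F) //
          LinearIndependent F f ∧ ∀ i : Fin 0, f i ∈ X ((i : ℕ) + 1) (le_trans i.isLt hj)} :=
        { default := ⟨Fin.elim0, linearIndependent_empty_type, fun i => i.elim0⟩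
          uniq := fun f => Subtype.ext (funext fun i => i.elim0) }
      simp
    | succ j ih =>
      intro hj
      rw [Finset.prod_range_succ, ← ih (by omega)]
      have hiff : ∀ g : Fin (j + 1) → (Fin m ⊕ Fin m → F),
          (LinearIndependent F g ∧ ∀ i : Fin (j + 1), g i ∈ X ((i : ℕ) + 1) (le_trans i.isLt hj)) ↔
          ((LinearIndependent F (Fin.init g) ∧ ∀ i : Fin j, Fin.init g i ∈ X ((i : ℕ) + 1) (le_trans i.isLt (by omega))) ∧
            (g (Fin.last j) ∈ X (j + 1) hj ∧ g (Fin.last j) ∉ span F (Set.range (Fin.init g)))) := by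
        intro g
        have hli : LinearIndependent F g ↔ LinearIndependent F (Fin.init g) ∧
            g (Fin.last j) ∉ span F (Set.range (Fin.init g)) := by
          conv_lhs => rw [← Fin.snoc_init_self g]
          exact linearIndependent_finSnoc
        rw [hli]
        constructor
        · rintro ⟨⟨h1, h2⟩, h3⟩
          exact ⟨⟨h1, fun i => h3 i.castSucc⟩, h3 (Fin.last j), h2⟩
        · rintro ⟨⟨h1, h2⟩, h3, h4⟩
          exact ⟨⟨h1, h4⟩, fun i => Fin.lastCases h3 h2 i⟩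
      rw [Nat.card_congr (Equiv.subtypeEquivRight hiff)]
      refine card_step (fun f => LinearIndependent F f ∧ ∀ i : Fin j, f i ∈ X ((i : ℕ) + 1) (le_trans i.isLt (by omega)))
        (fun f v => v ∈ X (j + 1) hj ∧ v ∉ span F (Set.range f)) _ fun f hf => ?_
      have hle : span F (Set.range f) ≤ X (j + 1) hj := span_le.mpr (by
        rintro _ ⟨i, rfl⟩; exact hXmono _ _ _ _ (by omega) (hf.2 i))
      rw [card_diff hle, hXdim, finrank_span_eq_card hf.1, Fintype.card_fin, hqF]
  have e3 : Nat.card {f : Fin m → (Fin m ⊕ Fin m → F) // IsFrame (sympBilin m F) f ∧ Φ f} =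
      ∏ i ∈ Finset.range m, (q ^ (i + 1) - q ^ i) := by
    rw [← e2 m le_rfl]
    refine Nat.card_congr (Equiv.subtypeEquivRight fun f => ?_)
    exact ⟨fun h => ⟨h.1.1, h.2⟩, fun h => ⟨⟨h.1, fun i j =>
      hXiso _ (hXmono _ _ _ _ i.isLt (h.2 i)) _ (hXmono _ _ _ _ j.isLt (h.2 j))⟩, h.2⟩⟩
  have hid := prod_identity q m 0
  simp only [zero_add, Finset.range_zero, Finset.prod_empty, mul_one, mul_zero, add_zero,
    zero_pow two_ne_zero] at hid
  rw [← e1, e3, ← Nat.card_congr (sympEquiv m F).toEquiv, card_symplecticGroup, hqF, ← hid] at h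
  have hpos := prod_pos (q := q) (hF ▸ Fintype.one_lt_card) (le_refl m)
  refine Nat.eq_of_mul_eq_mul_right hpos (h.trans ?_)
  have hprod : ∀ n : ℕ, q ^ (n * (n + 1) / 2) * ∏ i ∈ Finset.range n, (q ^ (i + 1) - q ^ i) =
      q ^ (n ^ 2) * (q - 1) ^ n := by
    intro n
    induction n with
    | zero => simp
    | succ n ih =>
      rw [Finset.prod_range_succ, show (n + 1) * (n + 1 + 1) = n * (n + 1) + (n + 1) * 2 by ring,
        Nat.add_mul_div_right _ _ two_pos, show q ^ (n + 1) - q ^ n = q ^ n * (q - 1) by rw [Nat.mul_sub, mul_one, pow_succ],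
        show q ^ (n * (n + 1) / 2 + (n + 1)) * ((∏ i ∈ Finset.range n, (q ^ (i + 1) - q ^ i)) * (q ^ n * (q - 1))) =
          (q ^ (n * (n + 1) / 2) * ∏ i ∈ Finset.range n, (q ^ (i + 1) - q ^ i)) * (q ^ (n + 1) * q ^ n) * (q - 1) by
            rw [pow_add]; ring,
        ih, show (n + 1) ^ 2 = n ^ 2 + ((n + 1) + n) by ring, pow_add q (n ^ 2), pow_add q (n + 1) n, pow_succ (q - 1)]
      ring
  rw [← hprod m]
  ring

end Cfsg.Lib.Classical.IsoFrames
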