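import Mathlib
import Cfsg.Prelude.Def_ClassicalGeometry
import Cfsg.Agent.Classical.Symp.DecompDerangement
import Cfsg.Agent.Classical.Symp.IsotropicFrames

/-! Elements of prime order of the symplectic group and invariant totally isotropic subspaces. -/

set_option autoImplicit false
set_option linter.unusedSimpArgs false
set_option linter.unusedSectionVars false
set_option linter.unusedVariables false
set_option linter.style.haveILetI false
set_option linter.flexible false

namespace Cfsg.Lib.Classical.SpIso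

open Cfsg.Lib.Classical Cfsg.Lib.PrimeOrderPoly Cfsg.Lib.DualPoly
open Polynomial UniqueFactorizationMonoid
open scoped Matrix

universe u v

variable {F : Type u} [Field F]

section Linear

variable {V : Type v} [AddCommGroup V] [Module F V] [FiniteDimensional F V]

/-- Polynomials in a map preserve its invariant subspaces. -/
theorem aeval_mem {x : Module.End F V} {W : Submodule F V} (hW : PrimeOrd.Inv x W) (P : F[X]) {w : V} (hw : w ∈ W) :
    aeval x P w ∈ W := by
  induction P using Polynomial.induction_on' with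
  | add P Q hP hQ => rw [map_add, LinearMap.add_apply]; exact add_mem hP hQ
  | monomial k a =>
    rw [aeval_monomial, Module.End.mul_apply, Module.algebraMap_end_apply]
    refine W.smul_mem a ?_
    clear a
    induction k with
    | zero => simpa using hw
    | succ k ih => rw [pow_succ', Module.End.mul_apply]; exact hW _ ih

theorem inv_ker_aeval (x : Module.End F V) (P : F[X]) : PrimeOrd.Inv x (LinearMap.ker (aeval x P)) := fun w hw => by
  rw [LinearMap.mem_ker] at hw ⊢
  rw [← Module.End.mul_apply, show aeval x P * x = x * aeval x P by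
    simpa [map_mul] using congrArg (aeval x) (mul_comm P X), Module.End.mul_apply, hw, map_zero]

theorem aeval_res (x : Module.End F V) {W : Submodule F V} (hW : PrimeOrd.Inv x W) (P : F[X]) (w : W) :
    ((aeval (PrimeOrd.res x hW) P) w : V) = aeval x P w := by
  induction P using Polynomial.induction_on' with
  | add P Q hP hQ => simp [hP, hQ]
  | monomial k a =>
    rw [aeval_monomial, aeval_monomial, Module.End.mul_apply, Module.End.mul_apply, Module.algebraMap_end_apply,
      Module.algebraMap_end_apply, Submodule.coe_smul, PrimeOrd.res_pow]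

/-- The characteristic polynomial of a map killed by an irreducible polynomial. -/
theorem chi_pow {U : Type v} [AddCommGroup U] [Module F U] [FiniteDimensional F U] (y : Module.End F U) {g : F[X]}
    (hg : g.Monic) (hgi : Irreducible g) (hy : aeval y g = 0) :
    ∃ k, y.charpoly = g ^ k ∧ Module.finrank F U = g.natDegree * k := by
  classical
  have hall : ∀ h ∈ normalizedFactors y.charpoly, h = g := by
    intro h hh
    have hhi := irreducible_of_normalized_factor h hh
    have hhm : h.Monic := by rw [← normalize_normalized_factor h hh]; exact Polynomial.monic_normalize hhi.ne_zero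
    obtain ⟨w, hw0, hw⟩ := SemisimpleSimilar.exists_ker y hhi (dvd_of_mem_normalizedFactors hh)
    by_contra hne
    obtain ⟨a, b, hab⟩ := hhi.coprime_iff_not_dvd.2 fun hd =>
      hne (eq_of_monic_of_associated hhm hg (hhi.associated_of_dvd hgi hd))
    have e := congrArg (fun P => aeval y P w) hab
    simp only [map_add, map_mul, map_one, LinearMap.add_apply, Module.End.mul_apply, Module.End.one_apply, hw, hy,
      map_zero, LinearMap.zero_apply, add_zero] at e
    exact hw0 e.symm
  have h1 : y.charpoly = g ^ Multiset.card (normalizedFactors y.charpoly) := by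
    conv_lhs => rw [← (LinearMap.charpoly_monic y).normalize_eq_self,
      ← prod_normalizedFactors_eq (LinearMap.charpoly_monic y).ne_zero, Multiset.eq_replicate_of_mem hall,
      Multiset.prod_replicate]
  refine ⟨_, h1, ?_⟩
  rw [← LinearMap.charpoly_natDegree y]
  conv_lhs => rw [h1, hg.natDegree_pow, mul_comm]

/-- The kernel of an irreducible polynomial. -/
theorem ker_pow {x : Module.End F V} (hs : x.IsSemisimple) {g : F[X]} (hg : g.Monic) (hgi : Irreducible g) :
    ∃ k, g ^ k ∣ x.charpoly ∧ Module.finrank F (LinearMap.ker (aeval x g)) = g.natDegree * k := by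
  obtain ⟨C, hC, hcompl⟩ := PrimeOrd.exists_compl hs (inv_ker_aeval x g)
  obtain ⟨k, hk, hdim⟩ := chi_pow (PrimeOrd.res x (inv_ker_aeval x g)) hg hgi
    (LinearMap.ext fun w => Subtype.ext (by rw [aeval_res]; exact w.2))
  exact ⟨k, by rw [SemisimpleSimilar.charpoly_eq_of_isCompl x (inv_ker_aeval x g) hC hcompl, hk]; exact dvd_mul_right _ _,
    hdim⟩

theorem split_two {x : Module.End F V} {W : Submodule F V} (hW : PrimeOrd.Inv x W) {a b : F[X]} (hab : IsCoprime a b) :
    Module.finrank F (W ⊓ LinearMap.ker (aeval x (a * b)) : Submodule F V) =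
      Module.finrank F (W ⊓ LinearMap.ker (aeval x a) : Submodule F V) +
        Module.finrank F (W ⊓ LinearMap.ker (aeval x b) : Submodule F V) := by
  obtain ⟨u, v, huv⟩ := hab
  have h := Submodule.finrank_sup_add_finrank_inf_eq (W ⊓ LinearMap.ker (aeval x a)) (W ⊓ LinearMap.ker (aeval x b))
  have hinf : (W ⊓ LinearMap.ker (aeval x a)) ⊓ (W ⊓ LinearMap.ker (aeval x b)) = (⊥ : Submodule F V) := by
    rw [eq_bot_iff]
    rintro w ⟨⟨-, ha⟩, ⟨-, hb⟩⟩
    rw [SetLike.mem_coe, LinearMap.mem_ker] at ha hb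
    have e := congrArg (fun P => aeval x P w) huv
    simp only [map_add, map_mul, map_one, LinearMap.add_apply, Module.End.mul_apply, Module.End.one_apply, ha, hb,
      map_zero, add_zero] at e
    exact (Submodule.mem_bot F).mpr e.symm
  have hsup : (W ⊓ LinearMap.ker (aeval x a)) ⊔ (W ⊓ LinearMap.ker (aeval x b)) =
      W ⊓ LinearMap.ker (aeval x (a * b)) := by
    refine le_antisymm (sup_le ?_ ?_) ?_
    · refine inf_le_inf_left W fun w hw => ?_
      rw [LinearMap.mem_ker] at hw ⊢
      rw [mul_comm, map_mul, Module.End.mul_apply, hw, map_zero]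
    · refine inf_le_inf_left W fun w hw => ?_
      rw [LinearMap.mem_ker] at hw ⊢
      rw [map_mul, Module.End.mul_apply, hw, map_zero]
    · rintro w ⟨hw, hab⟩
      rw [SetLike.mem_coe, LinearMap.mem_ker] at hab
      have e : aeval x (v * b) w + aeval x (u * a) w = w := by
        rw [← LinearMap.add_apply, ← map_add, add_comm, huv, map_one, Module.End.one_apply]
      rw [← e]
      refine Submodule.add_mem_sup ⟨aeval_mem hW _ hw, ?_⟩ ⟨aeval_mem hW _ hw, ?_⟩
      · rw [SetLike.mem_coe, LinearMap.mem_ker, ← Module.End.mul_apply, ← map_mul,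
          show a * (v * b) = v * (a * b) by ring, map_mul, Module.End.mul_apply, hab, map_zero]
      · rw [SetLike.mem_coe, LinearMap.mem_ker, ← Module.End.mul_apply, ← map_mul,
          show b * (u * a) = u * (a * b) by ring, map_mul, Module.End.mul_apply, hab, map_zero]
  rw [hsup, hinf, finrank_bot] at h
  omega

theorem split_sum {x : Module.End F V} {W : Submodule F V} (hW : PrimeOrd.Inv x W) (T : Finset F[X])
    (hT : ∀ g ∈ T, g.Monic ∧ Irreducible g) :
    Module.finrank F (W ⊓ LinearMap.ker (aeval x (∏ g ∈ T, g)) : Submodule F V) =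
      ∑ g ∈ T, Module.finrank F (W ⊓ LinearMap.ker (aeval x g) : Submodule F V) := by
  classical
  induction T using Finset.induction with
  | empty =>
    rw [Finset.prod_empty, Finset.sum_empty, map_one]
    rw [show LinearMap.ker (1 : Module.End F V) = ⊥ from LinearMap.ker_id, inf_bot_eq, finrank_bot]
  | insert g T hg ih =>
    have hgT := hT g (Finset.mem_insert_self _ _)
    rw [Finset.prod_insert hg, Finset.sum_insert hg, split_two hW, ih fun k hk => hT k (Finset.mem_insert_of_mem hk)]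
    refine hgT.2.coprime_iff_not_dvd.2 fun hd => ?_
    obtain ⟨k, hk, hdk⟩ := (Prime.dvd_finsetProd_iff hgT.2.prime _).mp hd
    have hkT := hT k (Finset.mem_insert_of_mem hk)
    exact hg (eq_of_monic_of_associated hgT.1 hkT.1 (hgT.2.associated_of_dvd hkT.2 hdk) ▸ hk)

variable {B : LinearMap.BilinForm F V} {x : Module.End F V}

theorem iso_pow (hx : ∀ u v, B (x u) (x v) = B u v) : ∀ (k : ℕ) (u v : V), B ((x ^ k) u) ((x ^ k) v) = B u v
  | 0, u, v => by simp
  | k + 1, u, v => by rw [pow_succ', Module.End.mul_apply, Module.End.mul_apply, hx, iso_pow hx k]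

/-- Moving a polynomial across the form. -/
theorem adjoint_reflect (hx : ∀ u v, B (x u) (x v) = B u v) {n : ℕ} (P : F[X]) (hP : P.natDegree ≤ n) (u v : V) :
    B (aeval x P u) v = B ((x ^ n) u) (aeval x (Polynomial.reflect n P) v) := by
  refine Polynomial.induction_with_natDegree_le (fun P => B (aeval x P u) v = B ((x ^ n) u) (aeval x (Polynomial.reflect n P) v))
    n ?_ ?_ ?_ P hP
  · simp
  · intro k a ha hk
    rw [Polynomial.reflect_C_mul_X_pow, Polynomial.revAt_le hk]
    simp only [map_mul, aeval_C, aeval_X_pow, Module.End.mul_apply, Module.algebraMap_end_apply, map_smul,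
      LinearMap.smul_apply]
    congr 1
    obtain ⟨j, rfl⟩ := Nat.exists_eq_add_of_le hk
    rw [Nat.add_sub_cancel_left, add_comm k j, pow_add, Module.End.mul_apply, iso_pow hx]
  · intro P Q hlt hQ h1 h2
    rw [Polynomial.reflect_add, map_add, map_add, LinearMap.add_apply, LinearMap.add_apply, map_add, map_add,
      LinearMap.add_apply, h1, h2]

/-- Kernels of self dual factors are nondegenerate. -/
theorem ker_nondeg (hB : B.Nondegenerate) (hA : B.IsAlt) (hx : ∀ u v, B (x u) (x v) = B u v) {r : ℕ} (hr : (r : F) ≠ 0)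
    (hxr : x ^ r = 1) {g : F[X]} (hg : g.Monic) (hgi : Irreducible g) (hgd : g ∣ X ^ r - 1)
    (hdual : dual (RingHom.id F) g = g) :
    (B.restrict (LinearMap.ker (aeval x g))).Nondegenerate := by
  obtain ⟨h, hh⟩ := hgd
  have h0 : g.coeff 0 ≠ 0 := fun e => by
    have e' := congrArg (fun P => P.coeff 0) hh
    simp only [mul_coeff_zero, e, zero_mul, coeff_sub, coeff_X_pow, coeff_one] at e'
    rcases Nat.eq_zero_or_pos r with rfl | hr0
    · simp at hr
    · rw [if_neg (by omega)] at e'; simp at e'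
  have hrev : g.reverse = C (g.coeff 0) * g := by
    have hd' := hdual
    rw [dual, RingHom.id_apply, Polynomial.map_id] at hd'
    calc g.reverse = C (g.coeff 0) * (C (g.coeff 0)⁻¹ * g.reverse) := by
          rw [← mul_assoc, ← map_mul, mul_inv_cancel₀ h0, C_1, one_mul]
      _ = _ := by rw [hd']
  have horth : ∀ u v, v ∈ LinearMap.ker (aeval x g) → B (aeval x g u) v = 0 := fun u v hv => by
    rw [LinearMap.mem_ker] at hv
    rw [adjoint_reflect hx g le_rfl, show Polynomial.reflect g.natDegree g = g.reverse from rfl, hrev, map_mul,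
      Module.End.mul_apply, hv, map_zero, map_zero]
  have hsq : Squarefree (X ^ r - 1 : F[X]) := by
    have := (separable_X_pow_sub_C (1 : F) hr one_ne_zero).squarefree
    rwa [C_1] at this
  have hcop : IsCoprime g h := hgi.coprime_iff_not_dvd.2 fun hd => by
    refine hgi.not_isUnit (hsq g ?_)
    rw [hh]
    exact mul_dvd_mul_left g hd
  have hdisj : Disjoint (LinearMap.ker (aeval x g)) (LinearMap.range (aeval x g)) := by
    rw [Submodule.disjoint_def]
    rintro _ hw ⟨w, rfl⟩
    rw [LinearMap.mem_ker] at hw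
    obtain ⟨a, b, hab⟩ := hcop
    have e : aeval x ((a * g + b * h) * g) w = 0 := by
      rw [show (a * g + b * h) * g = a * (g * g) + b * (g * h) by ring, ← hh, map_add, LinearMap.add_apply, map_mul,
        map_mul, map_mul, Module.End.mul_apply, Module.End.mul_apply, Module.End.mul_apply, hw, map_zero, zero_add,
        map_sub, map_pow, aeval_X, map_one, hxr, sub_self, LinearMap.zero_apply, map_zero]
    rwa [hab, one_mul] at e
  have htop : LinearMap.ker (aeval x g) ⊔ LinearMap.range (aeval x g) = ⊤ := by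
    refine Submodule.eq_top_of_finrank_eq ?_
    have h1 := Submodule.finrank_sup_add_finrank_inf_eq (LinearMap.ker (aeval x g)) (LinearMap.range (aeval x g))
    rw [hdisj.eq_bot, finrank_bot] at h1
    have h2 := LinearMap.finrank_range_add_finrank_ker (aeval x g)
    omega
  have key : ∀ v : LinearMap.ker (aeval x g), (∀ u : LinearMap.ker (aeval x g), B u.1 v.1 = 0) → v = 0 := fun v hv => by
    refine Subtype.ext (hB.2 v.1 fun w => ?_)
    obtain ⟨a, ha, _, ⟨b, rfl⟩, rfl⟩ := Submodule.mem_sup.mp (htop ▸ Submodule.mem_top (x := w))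
    rw [map_add, LinearMap.add_apply, hv ⟨a, ha⟩, horth b v.1 v.2, add_zero]
  refine ⟨fun v hv => key v fun u => ?_, fun v hv => key v hv⟩
  rw [← hA.neg_eq v.1 u.1, neg_eq_zero]
  exact hv u

/-- An isotropic subspace of a nondegenerate subspace. -/
theorem two_mul_le {U W : Submodule F V} (hU : (B.restrict U).Nondegenerate) (hWU : W ≤ U)
    (hW : ∀ u ∈ W, ∀ v ∈ W, B u v = 0) : 2 * Module.finrank F W ≤ Module.finrank F U := by
  have e := (Submodule.comapSubtypeEquivOfLe hWU).finrank_eq
  have h := LinearMap.BilinForm.finrank_orthogonal hU (W.comap U.subtype)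
  have hle : W.comap U.subtype ≤ (B.restrict U).orthogonal (W.comap U.subtype) := fun w hw w' hw' => hW w'.1 hw' w.1 hw
  have h2 := Submodule.finrank_mono hle
  rw [h, e] at h2
  have h3 := Submodule.finrank_mono hWU
  omega

/-- A totally isotropic subspace of given dimension inside a nondegenerate subspace. -/
theorem exists_iso_in (hA : B.IsAlt) {U : Submodule F V} (hU : (B.restrict U).Nondegenerate) {a k : ℕ}
    (ha : Module.finrank F U = 2 * a) (hk : k ≤ a) :
    ∃ W ≤ U, Module.finrank F W = k ∧ ∀ u ∈ W, ∀ v ∈ W, B u v = 0 := by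
  obtain ⟨e, he⟩ := exists_isometry_sympBilin (B := B.restrict U) (fun v => hA _) hU ha
  let ι : (Fin k → F) →ₗ[F] (Fin a ⊕ Fin a → F) :=
    LinearMap.pi (Sum.elim (fun i : Fin a => if h : (i : ℕ) < k then LinearMap.proj ⟨i, h⟩ else 0) fun _ => 0)
  let φ : (Fin k → F) →ₗ[F] V := U.subtype ∘ₗ e.symm.toLinearMap ∘ₗ ι
  have hι : Function.Injective ι := fun w w' h => funext fun i => by
    have := congrFun h (Sum.inl ⟨i, by omega⟩)
    simpa [ι] using this
  refine ⟨LinearMap.range φ, ?_, ?_, ?_⟩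
  · rintro _ ⟨w, rfl⟩
    exact Subtype.coe_prop _
  · rw [LinearMap.finrank_range_of_inj (show Function.Injective φ from U.injective_subtype.comp (e.symm.injective.comp hι)),
      Module.finrank_fintype_fun_eq_card, Fintype.card_fin]
  · rintro _ ⟨w, rfl⟩ _ ⟨w', rfl⟩
    show B.restrict U (e.symm (ι w)) (e.symm (ι w')) = 0
    rw [← he, LinearEquiv.apply_symm_apply, LinearEquiv.apply_symm_apply, sympBilin_eq_sum]
    exact Finset.sum_eq_zero fun i _ => by simp [ι]

end Linear

section Good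

variable {z : F} {N n n' a a' : ℕ} {f f' : F[X]}

/-- A model element with an invariant totally isotropic subspace. -/
def Good (z : F) (N n a : ℕ) (f : F[X]) : Prop :=
  ∃ y : Module.End F (Fin n ⊕ Fin n → F), (∀ u v, sympBilin n F (y u) (y v) = sympBilin n F u v) ∧ y ^ N = z • 1 ∧
    y.charpoly = f ∧ ∃ W : Submodule F (Fin n ⊕ Fin n → F), Module.finrank F W = a ∧
      (∀ u ∈ W, ∀ v ∈ W, sympBilin n F u v = 0) ∧ ∀ w ∈ W, y w ∈ W

theorem good_of_model {V : Type v} [AddCommGroup V] [Module F V] [FiniteDimensional F V] (B : LinearMap.BilinForm F V)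
    (hA : B.IsAlt) (hB : B.Nondegenerate) (hd : Module.finrank F V = 2 * n) (y : Module.End F V)
    (hy : ∀ u v, B (y u) (y v) = B u v) (hyN : ∀ v, (y ^ N) v = z • v) (W : Submodule F V) (hWd : Module.finrank F W = a)
    (hW : ∀ u ∈ W, ∀ v ∈ W, B u v = 0) (hWy : ∀ w ∈ W, y w ∈ W) : Good z N n a y.charpoly := by
  obtain ⟨E, hE⟩ := exists_isometry_sympBilin hA hB hd
  have hc : ∀ u, E.conj y (E u) = E (y u) := fun u => by simp [LinearEquiv.conj_apply_apply]
  have hp : ∀ (k : ℕ) u, (E.conj y ^ k) (E u) = E ((y ^ k) u) := fun k => by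
    induction k with
    | zero => intro u; simp
    | succ k ih => intro u; rw [pow_succ, pow_succ, Module.End.mul_apply, Module.End.mul_apply, hc, ih]
  refine ⟨E.conj y, fun u v => ?_, LinearMap.ext fun u => ?_, E.charpoly_conj y, W.map E.toLinearMap,
    (LinearEquiv.finrank_map_eq E W).trans hWd, ?_, ?_⟩
  · obtain ⟨u, rfl⟩ := E.surjective u
    obtain ⟨v, rfl⟩ := E.surjective v
    rw [hc, hc, hE, hE, hy]
  · obtain ⟨u, rfl⟩ := E.surjective u
    rw [hp, hyN]
    simp
  · rintro _ ⟨u, hu, rfl⟩ _ ⟨v, hv, rfl⟩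
    exact (hE u v).trans (hW u hu v hv)
  · rintro _ ⟨u, hu, rfl⟩
    exact ⟨y u, hWy u hu, (hc u).symm⟩

theorem good_of_elt (A : Matrix.symplecticGroup (Fin n) F)
    (hA : (A : Matrix (Fin n ⊕ Fin n) (Fin n ⊕ Fin n) F) ^ N = z • 1) :
    Good z N n 0 (A : Matrix (Fin n ⊕ Fin n) (Fin n ⊕ Fin n) F).charpoly := by
  refine ⟨Matrix.toLin' (A : Matrix (Fin n ⊕ Fin n) (Fin n ⊕ Fin n) F), fun u v => ?_, ?_, Matrix.charpoly_toLin' _,
    ⊥, finrank_bot F _, ?_, ?_⟩
  · rw [Matrix.toLin'_apply, Matrix.toLin'_apply]; exact (mem_symplectic_iff_form _).1 A.2 u v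
  · rw [← Matrix.toLin'_pow, hA, map_smul, Matrix.toLin'_one]; rfl
  · intro u hu; simp [(Submodule.mem_bot F).mp hu]
  · intro u hu; simp [(Submodule.mem_bot F).mp hu]

theorem good_add (h : Good z N n a f) (h' : Good z N n' a' f') : Good z N (n + n') (a + a') (f * f') := by
  obtain ⟨y, hy, hyN, hf, W, hWd, hW, hWy⟩ := h
  obtain ⟨y', hy', hyN', hf', W', hWd', hW', hWy'⟩ := h'
  let B : LinearMap.BilinForm F ((Fin n ⊕ Fin n → F) × (Fin n' ⊕ Fin n' → F)) :=
    (sympBilin n F).compl₁₂ (LinearMap.fst F _ _) (LinearMap.fst F _ _) +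
      (sympBilin n' F).compl₁₂ (LinearMap.snd F _ _) (LinearMap.snd F _ _)
  have hBa : ∀ u v, B u v = sympBilin n F u.1 v.1 + sympBilin n' F u.2 v.2 := fun u v => by simp [B]
  have hA : B.IsAlt := fun u => by
    rw [hBa, sympBilin_isAlt n F u.1, sympBilin_isAlt n' F u.2, add_zero]
  have key : ∀ u, (∀ v, B u v = 0) → u = 0 := fun u hu => Prod.ext
    ((sympBilin_nondegenerate n F).1 u.1 fun v => by simpa [hBa] using hu (v, 0))
    ((sympBilin_nondegenerate n' F).1 u.2 fun v => by simpa [hBa] using hu (0, v))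
  have hB : B.Nondegenerate := ⟨key, fun u hu => key u fun v => by rw [← hA.neg_eq v u, hu v, neg_zero]⟩
  have hp : ∀ (k : ℕ) u, (y.prodMap y' ^ k) u = ((y ^ k) u.1, (y' ^ k) u.2) := fun k => by
    induction k with
    | zero => intro u; simp
    | succ k ih => intro u; rw [pow_succ, pow_succ, pow_succ, Module.End.mul_apply, ih]; rfl
  rw [← hf, ← hf', ← LinearMap.charpoly_prodMap]
  refine good_of_model B hA hB (by rw [Module.finrank_prod, finrank_sympSpace, finrank_sympSpace]; ring) _
    (fun u v => by rw [hBa, hBa]; simp [hy, hy']) (fun u => by rw [hp, hyN, hyN']; rfl)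
    (LinearMap.range (W.subtype.prodMap W'.subtype)) ?_ ?_ ?_
  · have hinj : Function.Injective (W.subtype.prodMap W'.subtype) := fun u v e =>
      Prod.ext (Subtype.ext (congrArg Prod.fst e)) (Subtype.ext (congrArg Prod.snd e))
    rw [LinearMap.finrank_range_of_inj hinj, Module.finrank_prod, hWd, hWd']
  · rintro _ ⟨u, rfl⟩ _ ⟨v, rfl⟩
    rw [hBa]
    show sympBilin n F u.1.1 v.1.1 + sympBilin n' F u.2.1 v.2.1 = 0
    rw [hW _ u.1.2 _ v.1.2, hW' _ u.2.2 _ v.2.2, add_zero]
  · rintro _ ⟨u, rfl⟩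
    exact ⟨(⟨y u.1.1, hWy _ u.1.2⟩, ⟨y' u.2.1, hWy' _ u.2.2⟩), rfl⟩

theorem good_diag {ν : Type*} [Fintype ν] [DecidableEq ν] (G G' : Matrix ν ν F) (h : G'.transpose * G = 1)
    (hG : G ^ N = z • 1) (hG' : G' ^ N = z • 1) :
    Good z N (Fintype.card ν) (Fintype.card ν) (G.charpoly * G'.charpoly) := by
  let D : LinearMap.BilinForm F (ν → F) := Matrix.toBilin' (1 : Matrix ν ν F)
  have hD : ∀ u v, D u v = u ⬝ᵥ v := fun u v => by
    show Matrix.toBilin' (1 : Matrix ν ν F) u v = _
    rw [Matrix.toBilin'_apply', Matrix.one_mulVec]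
  let B : LinearMap.BilinForm F ((ν → F) × (ν → F)) :=
    D.compl₁₂ (LinearMap.fst F _ _) (LinearMap.snd F _ _) - D.compl₁₂ (LinearMap.snd F _ _) (LinearMap.fst F _ _)
  have hBa : ∀ u v, B u v = u.1 ⬝ᵥ v.2 - u.2 ⬝ᵥ v.1 := fun u v => by simp [B, hD]
  have hA : B.IsAlt := fun u => by rw [hBa, dotProduct_comm, sub_self]
  have key : ∀ u, (∀ v, B u v = 0) → u = 0 := fun u hu => Prod.ext
    (funext fun i => by simpa [hBa] using hu (0, Pi.single i 1))
    (funext fun i => by simpa [hBa] using hu (Pi.single i 1, 0))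
  have hB : B.Nondegenerate := ⟨key, fun u hu => key u fun v => by rw [← hA.neg_eq v u, hu v, neg_zero]⟩
  have hG2 : G.transpose * G' = 1 := by
    have := congrArg Matrix.transpose h
    rwa [Matrix.transpose_mul, Matrix.transpose_transpose, Matrix.transpose_one] at this
  have hp : ∀ (k : ℕ) u, ((Matrix.toLin' G).prodMap (Matrix.toLin' G') ^ k) u = ((G ^ k) *ᵥ u.1, (G' ^ k) *ᵥ u.2) :=
    fun k => by
      induction k with
      | zero => intro u; simp
      | succ k ih =>
        intro u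
        rw [pow_succ, pow_succ, pow_succ, Module.End.mul_apply, ih]
        simp [Matrix.mulVec_mulVec]
  rw [← Matrix.charpoly_toLin', ← Matrix.charpoly_toLin' G', ← LinearMap.charpoly_prodMap]
  refine good_of_model B hA hB (by rw [Module.finrank_prod, Module.finrank_fintype_fun_eq_card]; ring) _
    (fun u v => ?_) ?_ (LinearMap.range (LinearMap.inl F (ν → F) (ν → F))) ?_ ?_ ?_
  rotate_left
  · intro u
    rw [hp, hG, hG', Matrix.smul_mulVec, Matrix.smul_mulVec, Matrix.one_mulVec, Matrix.one_mulVec]; rfl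
  rotate_left 3
  · rw [hBa, hBa]
    simp only [LinearMap.prodMap_apply, Matrix.toLin'_apply]
    rw [Matrix.dotProduct_mulVec, ← Matrix.mulVec_transpose, Matrix.mulVec_mulVec, Matrix.dotProduct_mulVec,
      ← Matrix.mulVec_transpose, Matrix.mulVec_mulVec, h, hG2, Matrix.one_mulVec, Matrix.one_mulVec]
  · rw [LinearMap.finrank_range_of_inj LinearMap.inl_injective, Module.finrank_fintype_fun_eq_card]
  · rintro _ ⟨u, rfl⟩ _ ⟨v, rfl⟩
    simp [hBa]
  · rintro _ ⟨u, rfl⟩
    exact ⟨G *ᵥ u, by simp⟩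

variable {d m M : ℕ} {p : ℕ} [Fact p.Prime] [CharP F p] [Finite F]

/-- A model with the same characteristic polynomial gives an invariant subspace. -/
theorem stable_of_good (hM : M.Coprime p) {k : ℕ} (hMk : M = N * k) (hzk : z ^ k = 1)
    (hg : Good z N d m f) (y : Matrix.symplecticGroup (Fin d) F)
    (hy : (y : Matrix (Fin d ⊕ Fin d) (Fin d ⊕ Fin d) F) ^ N = z • 1)
    (hf : (y : Matrix (Fin d ⊕ Fin d) (Fin d ⊕ Fin d) F).charpoly = f) :
    ∃ W : Submodule F (Fin d ⊕ Fin d → F), Module.finrank F W = m ∧ (∀ u ∈ W, ∀ v ∈ W, sympBilin d F u v = 0) ∧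
      W.map (Matrix.toLin' (y : Matrix (Fin d ⊕ Fin d) (Fin d ⊕ Fin d) F)) ≤ W := by
  obtain ⟨φ, hφ, hφN, hφf, W, hWd, hW, hWφ⟩ := hg
  let A : Matrix.symplecticGroup (Fin d) F := ⟨LinearMap.toMatrix' φ, (mem_symplectic_iff_form _).2 fun u v => by
    rw [LinearMap.toMatrix'_mulVec, LinearMap.toMatrix'_mulVec]; exact hφ u v⟩
  have hAl : Matrix.toLin' (A : Matrix (Fin d ⊕ Fin d) (Fin d ⊕ Fin d) F) = φ := Matrix.toLin'_toMatrix' φ
  have hcop : ∀ B : Matrix.symplecticGroup (Fin d) F,
      (B : Matrix (Fin d ⊕ Fin d) (Fin d ⊕ Fin d) F) ^ N = z • 1 → (orderOf B).Coprime p := fun B hB => by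
    refine Nat.Coprime.coprime_dvd_left (orderOf_dvd_of_pow_eq_one (Subtype.ext ?_)) hM
    rw [SubmonoidClass.coe_pow, hMk, pow_mul, hB, _root_.smul_pow, hzk, one_pow, one_smul, Submonoid.coe_one]
  have hAN : (A : Matrix (Fin d ⊕ Fin d) (Fin d ⊕ Fin d) F) ^ N = z • 1 := Matrix.toLin'.injective (by
    rw [Matrix.toLin'_pow, hAl, hφN, map_smul, Matrix.toLin'_one]; rfl)
  obtain ⟨c, hc⟩ := isConj_iff.1 (SympSemisimple.isConj_of_charpoly A y (hcop A hAN) (hcop y hy)
    (by rw [← Matrix.charpoly_toLin', hAl, hφf, hf]))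
  let C := Matrix.toLin' (c : Matrix (Fin d ⊕ Fin d) (Fin d ⊕ Fin d) F)
  have hC : ∀ u v, sympBilin d F (C u) (C v) = sympBilin d F u v := fun u v => by
    simp only [C, Matrix.toLin'_apply]; exact (mem_symplectic_iff_form _).1 c.2 u v
  have hCi : Function.Injective C := (injective_iff_map_eq_zero C).2 fun u hu =>
    (sympBilin_nondegenerate d F).1 u fun v => by rw [← hC, hu]; simp
  refine ⟨W.map C, ?_, ?_, ?_⟩
  · rw [← hWd]
    exact (Submodule.equivMapOfInjective C hCi W).finrank_eq.symm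
  · rintro _ ⟨u, hu, rfl⟩ _ ⟨v, hv, rfl⟩
    rw [hC]; exact hW u hu v hv
  · rintro _ ⟨_, ⟨u, hu, rfl⟩, rfl⟩
    refine ⟨φ u, hWφ u hu, ?_⟩
    rw [← hAl]
    have e : (y : Matrix (Fin d ⊕ Fin d) (Fin d ⊕ Fin d) F) * (c : Matrix (Fin d ⊕ Fin d) (Fin d ⊕ Fin d) F) =
        (c : Matrix (Fin d ⊕ Fin d) (Fin d ⊕ Fin d) F) * (A : Matrix (Fin d ⊕ Fin d) (Fin d ⊕ Fin d) F) := by
      rw [← Submonoid.coe_mul, ← Submonoid.coe_mul, ← hc]
      congr 1
      group
    simp only [C, Matrix.toLin'_apply, Matrix.mulVec_mulVec, e]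

end Good

section Counting

variable [Fintype F] {d m : ℕ}

/-- Bases of isotropic subspaces are isotropic frames. -/
theorem card_rel : Nat.card {W : Submodule F (Fin d ⊕ Fin d → F) // Module.finrank F W = m ∧
      (∀ u ∈ W, ∀ v ∈ W, Cfsg.sympForm d F u v = 0)} * ∏ i ∈ Finset.range m, (Fintype.card F ^ m - Fintype.card F ^ i) =
      ∏ i ∈ Finset.range m, (Fintype.card F ^ (2 * d - i) - Fintype.card F ^ i) := by
  classical
  haveI : Finite (Submodule F (Fin d ⊕ Fin d → F)) := Finite.of_injective _ SetLike.coe_injective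
  set Ω := {W : Submodule F (Fin d ⊕ Fin d → F) // Module.finrank F W = m ∧
      (∀ u ∈ W, ∀ v ∈ W, Cfsg.sympForm d F u v = 0)}
  haveI : Fintype Ω := Fintype.ofFinite _
  have hone : ∀ W : Ω, Nat.card {s : Fin m → W.1 // LinearIndependent F s} =
      ∏ i ∈ Finset.range m, (Fintype.card F ^ m - Fintype.card F ^ i) := fun W => by
    rw [card_linearIndependent (by rw [W.2.1]), W.2.1]
    exact Fin.prod_univ_eq_prod_range (fun i => Fintype.card F ^ m - Fintype.card F ^ i) m
  have h1 := IsoFrames.card_frames (sympBilin_isAlt d F) (sympBilin_nondegenerate d F) (finrank_sympSpace d F) m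
  rw [Nat.card_eq_fintype_card (α := F)] at h1
  rw [← h1, ← Nat.card_eq_of_bijective (fun s : Σ W : Ω, {s : Fin m → W.1 // LinearIndependent F s} =>
    (⟨fun i => (s.2.1 i : Fin d ⊕ Fin d → F), s.2.2.map' s.1.1.subtype s.1.1.ker_subtype,
      fun i j => by rw [sympBilin_eq_sympForm]; exact s.1.2.2 _ (s.2.1 i).2 _ (s.2.1 j).2⟩ :
      {f : Fin m → (Fin d ⊕ Fin d → F) // IsoFrames.IsFrame (sympBilin d F) f})) ⟨?_, ?_⟩, Nat.card_sigma,
    Finset.sum_congr rfl (fun W _ => hone W), Finset.sum_const, Finset.card_univ, smul_eq_mul, Nat.card_eq_fintype_card]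
  · rintro ⟨⟨W, hW⟩, ⟨s, hs⟩⟩ ⟨⟨W', hW'⟩, ⟨s', hs'⟩⟩ e
    have e' : (fun i => (s i : Fin d ⊕ Fin d → F)) = fun i => (s' i : Fin d ⊕ Fin d → F) := congrArg Subtype.val e
    have hspan : ∀ (U : Submodule F (Fin d ⊕ Fin d → F)) (t : Fin m → U), Module.finrank F U = m → LinearIndependent F t →
        Submodule.span F (Set.range fun i => (t i : Fin d ⊕ Fin d → F)) = U := fun U t hU ht => by
      refine Submodule.eq_of_le_of_finrank_le (Submodule.span_le.mpr (by rintro _ ⟨i, rfl⟩; exact (t i).2)) ?_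
      rw [finrank_span_eq_card (b := fun i => (t i : Fin d ⊕ Fin d → F)) (ht.map' U.subtype U.ker_subtype),
        Fintype.card_fin, hU]
    obtain rfl : W = W' := by rw [← hspan W s hW.1 hs, e', hspan W' s' hW'.1 hs']
    obtain rfl : s = s' := funext fun i => Subtype.ext (congrFun e' i)
    rfl
  · rintro ⟨f, hf⟩
    refine ⟨⟨⟨Submodule.span F (Set.range f), (finrank_span_eq_card hf.1).trans (Fintype.card_fin m), fun u hu v hv => by
      rw [← sympBilin_eq_sympForm]; exact IsoFrames.frame_span hf hu hv⟩,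
      ⟨fun i => ⟨f i, Submodule.subset_span ⟨i, rfl⟩⟩, LinearIndependent.of_comp (Submodule.subtype _) hf.1⟩⟩, rfl⟩

theorem count_dvd {r : ℕ} (hmd : m ≤ d)
    (hΩ : r ∣ Nat.card {W : Submodule F (Fin d ⊕ Fin d → F) // Module.finrank F W = m ∧
      (∀ u ∈ W, ∀ v ∈ W, Cfsg.sympForm d F u v = 0)}) :
    r ∣ ∏ i ∈ Finset.range m, (Fintype.card F ^ (2 * (d - i)) - 1) := by
  have h := card_rel (F := F) (d := d) (m := m)
  set q := Fintype.card F with hq
  have hq0 : 0 < q := Fintype.card_pos
  rw [Finset.prod_congr rfl (fun i hi => show q ^ m - q ^ i = q ^ i * (q ^ (m - i) - 1) by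
      rw [Finset.mem_range] at hi
      rw [Nat.mul_sub, mul_one, ← pow_add]; congr 2; omega),
    Finset.prod_congr rfl (fun i hi => show q ^ (2 * d - i) - q ^ i = q ^ i * (q ^ (2 * (d - i)) - 1) by
      rw [Finset.mem_range] at hi
      rw [Nat.mul_sub, mul_one, ← pow_add]; congr 2; omega),
    Finset.prod_mul_distrib, Finset.prod_mul_distrib, mul_left_comm] at h
  rw [← Nat.eq_of_mul_eq_mul_left (Finset.prod_pos fun i _ => pow_pos hq0 i) h]
  exact hΩ.mul_right _

variable {p r : ℕ} [Fact p.Prime] [CharP F p]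

theorem char_not_dvd (hmd : m ≤ d) : ¬ p ∣ ∏ i ∈ Finset.range m, (Fintype.card F ^ (2 * (d - i)) - 1) := by
  intro h
  have hp : p.Prime := Fact.out
  obtain ⟨i, hi, hdv⟩ := (Prime.dvd_finsetProd_iff hp.prime _).mp h
  rw [Finset.mem_range] at hi
  obtain ⟨k, -, hk⟩ := FiniteField.card F p
  have h1 : 1 ≤ Fintype.card F ^ (2 * (d - i)) := Nat.one_le_pow _ _ Fintype.card_pos
  have h2 : p ∣ Fintype.card F ^ (2 * (d - i)) := by
    rw [hk, ← pow_mul]
    exact dvd_pow_self p (Nat.mul_ne_zero k.pos.ne' (by omega))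
  have h3 := Nat.dvd_sub h2 hdv
  rw [Nat.sub_sub_self h1] at h3
  exact hp.not_dvd_one h3

/-- Numerical consequences of the counting hypothesis. -/
theorem count_facts [Fact r.Prime] (hr2 : r ≠ 2) (hmd : m ≤ d) {i c : ℕ} (hi : i = orderOf (Fintype.card F : ZMod r))
    (hc : c = if Even i then i else 2 * i)
    (hdv : r ∣ ∏ j ∈ Finset.range m, (Fintype.card F ^ (2 * (d - j)) - 1)) :
    c ≤ 2 * d ∧ (2 * d) % c < 2 * m := by
  have hr : r.Prime := Fact.out
  obtain ⟨j, hj, h⟩ := (Prime.dvd_finsetProd_iff hr.prime _).mp hdv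
  rw [Finset.mem_range] at hj
  have h1 := (PrimeOrd.dvd_pow_sub_one _).mp h
  rw [← hi] at h1
  have h2 : c ∣ 2 * (d - j) := by
    rw [hc]
    split_ifs with he
    · exact h1
    · exact Nat.Coprime.mul_dvd_of_dvd_of_dvd (Nat.coprime_two_left.mpr (Nat.not_even_iff_odd.mp he)) (dvd_mul_right 2 _) h1
  refine ⟨(Nat.le_of_dvd (by omega) h2).trans (by omega), ?_⟩
  obtain ⟨k, hk⟩ := h2
  rw [show 2 * d = c * k + 2 * j by omega, Nat.mul_add_mod]
  exact lt_of_le_of_lt (Nat.mod_le _ _) (by omega)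

end Counting

section Finite

variable [Fintype F] {d m : ℕ} {p r : ℕ} [Fact p.Prime] [CharP F p] [Fact r.Prime]

open Cfsg.Lib.Classical.SpDecomp

theorem factor_facts (hrp : r ≠ p) {i : ℕ} (hi : i = orderOf (Fintype.card F : ZMod r)) {g : F[X]}
    (hg : g ∈ factorSet F r) : g.Monic ∧ Irreducible g ∧ g.natDegree = i ∧ g ∣ X ^ r - 1 := by
  obtain ⟨h1, h2, h3⟩ := mem_factorSet g hg
  exact ⟨h1, h2, (natDegree_factorSet hrp g hg).trans hi.symm, h3.trans (cyclotomic.dvd_X_pow_sub_one r F)⟩

theorem self_dual (hr2 : r ≠ 2) (hrp : r ≠ p) {i : ℕ} (hi : i = orderOf (Fintype.card F : ZMod r)) (hi0 : 0 < i)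
    {g : F[X]} (hg : g ∈ factorSet F r) : dual (RingHom.id F) g = g ↔ Even i := by
  rw [dual_fixed_iff (fun _ => rfl) (k := 0) (fun x => by simp) hrp hg, ← DualCount.exists_neg_one_iff hr2 hi hi0,
    pow_zero]

/-- A factor of an atom. -/
theorem atom_factor (hrp : r ≠ p) {c : ℕ} (hc0 : 0 < c) {u : F[X]} (hu : Atom r c u) :
    ∃ g ∈ factorSet F r, g ∣ u := by
  classical
  obtain ⟨hm, hdeg, -, hdvd, h1⟩ := hu
  obtain ⟨g₀, hg₀, hg₀u⟩ := WfDvdMonoid.exists_irreducible_factor
    (fun h => by have := natDegree_eq_zero_of_isUnit h; omega) hm.ne_zero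
  have hgm : (normalize g₀).Monic := Polynomial.monic_normalize hg₀.ne_zero
  have hgi : Irreducible (normalize g₀) := (normalize_associated g₀).symm.irreducible hg₀
  have hgu : normalize g₀ ∣ u := (normalize_associated g₀).dvd_iff_dvd_left.mpr hg₀u
  refine ⟨normalize g₀, ((irreducible_dvd _ hgm hgi).mp (hgi.prime.dvd_of_dvd_pow (hgu.trans hdvd))).resolve_left ?_, hgu⟩
  intro e
  rw [e] at hgu
  exact h1 (dvd_iff_isRoot.mp hgu)

theorem atom_halves (hr2 : r ≠ 2) (hrp : r ≠ p) {i c : ℕ} (hi : i = orderOf (Fintype.card F : ZMod r)) (hi0 : 0 < i)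
    (hodd : ¬ Even i) (hc : c = 2 * i) : ∀ L : Multiset F[X], (∀ u ∈ L, Atom r c u) →
    ∃ H : Multiset F[X], (∀ g ∈ H, g ∈ factorSet F r) ∧ L = H.map fun g => g * dual (RingHom.id F) g := by
  intro L hL
  induction L using Multiset.induction with
  | empty => exact ⟨0, by simp, by simp⟩
  | cons u L ih =>
    obtain ⟨H, hH, hLH⟩ := ih fun v hv => hL v (Multiset.mem_cons_of_mem hv)
    have hu := hL u (Multiset.mem_cons_self _ _)
    obtain ⟨g, hg, hgu⟩ := atom_factor hrp (by omega) hu
    obtain ⟨hm, hdeg, hdual, -, -⟩ := hu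
    obtain ⟨h1, h2, h3, -⟩ := factor_facts hrp hi hg
    have hg' := dual_mem (σ := RingHom.id F) (fun _ => rfl) hrp hg
    obtain ⟨h1', h2', h3', -⟩ := factor_facts hrp hi hg'
    have hne : dual (RingHom.id F) g ≠ g := fun e => hodd ((self_dual hr2 hrp hi hi0 hg).mp e)
    have hd : dual (RingHom.id F) g ∣ u := by
      obtain ⟨k, hk⟩ := hgu
      exact ⟨dual (RingHom.id F) k, by rw [← dual_mul, ← hk, hdual]⟩
    have hcop : IsCoprime g (dual (RingHom.id F) g) := h2.coprime_iff_not_dvd.mpr fun hdv =>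
      hne (eq_of_monic_of_associated h1' h1 (h2.associated_of_dvd h2' hdv).symm)
    have e : g * dual (RingHom.id F) g = u := (Polynomial.eq_of_monic_of_dvd_of_natDegree_le (h1.mul h1') hm
      (hcop.mul_dvd hgu hd) (by rw [h1.natDegree_mul h1', hdeg, h3, h3', hc]; omega)).symm
    refine ⟨g ::ₘ H, fun k hk => ?_, by rw [Multiset.map_cons, ← hLH, e]⟩
    rcases Multiset.mem_cons.mp hk with rfl | hk
    · exact hg
    · exact hH k hk

theorem atom_even (hrp : r ≠ p) {i : ℕ} (hi : i = orderOf (Fintype.card F : ZMod r)) (hi0 : 0 < i) {u : F[X]}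
    (hu : Atom r i u) : u ∈ factorSet F r := by
  obtain ⟨g, hg, hgu⟩ := atom_factor hrp hi0 hu
  obtain ⟨hm, hdeg, -, -, -⟩ := hu
  obtain ⟨h1, h2, h3, -⟩ := factor_facts hrp hi hg
  rwa [Polynomial.eq_of_monic_of_dvd_of_natDegree_le h1 hm hgu (by omega)]

theorem monic_mprod (H : Multiset F[X]) (hH : ∀ g ∈ H, g.Monic) : H.prod.Monic := by
  simpa using Polynomial.monic_multiset_prod_of_monic H id hH

theorem exists_split {α : Type*} (L : Multiset α) {j : ℕ} (hj : j ≤ L.card) :
    ∃ A B : Multiset α, A + B = L ∧ A.card = j := by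
  induction L using Quotient.inductionOn with
  | h l =>
    rw [Multiset.quot_mk_to_coe, Multiset.coe_card] at hj
    refine ⟨(l.take j : Multiset α), (l.drop j : Multiset α), ?_, ?_⟩
    · rw [Multiset.coe_add, List.take_append_drop]; rfl
    · rw [Multiset.coe_card, List.length_take]; omega

theorem exists_pairs {α : Type*} [DecidableEq α] (L : Multiset α) :
    ∃ P R : Multiset α, R.Nodup ∧ L = P + P + R := by
  induction L using Multiset.induction with
  | empty => exact ⟨0, 0, Multiset.nodup_zero, by simp⟩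
  | cons u L ih =>
    obtain ⟨P, R, hR, hL⟩ := ih
    by_cases hu : u ∈ R
    · refine ⟨u ::ₘ P, R.erase u, hR.erase u, ?_⟩
      rw [hL]
      nth_rw 1 [← Multiset.cons_erase hu]
      simp only [← Multiset.singleton_add]
      abel
    · refine ⟨P, u ::ₘ R, Multiset.nodup_cons.mpr ⟨hu, hR⟩, ?_⟩
      rw [hL]
      simp only [← Multiset.singleton_add]
      abel

include p in
/-- Diagonal models. -/
theorem good_pairs (hrp : r ≠ p) : ∀ H : Multiset F[X], (∀ g ∈ H, g.Monic ∧ g ∣ X ^ r - 1) →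
    Good (1 : F) r H.prod.natDegree H.prod.natDegree (H.prod * dual (RingHom.id F) H.prod) := by
  intro H
  induction H using Multiset.induction with
  | empty =>
    intro _
    have h := good_of_elt (z := (1 : F)) (N := r) (n := 0) (1 : Matrix.symplecticGroup (Fin 0) F)
      (by rw [Submonoid.coe_one, one_pow, one_smul])
    rw [Submonoid.coe_one, Matrix.charpoly_one] at h
    simpa [dual_C_one] using h
  | cons g H ih =>
    intro hH
    obtain ⟨hgm, hgd⟩ := hH g (Multiset.mem_cons_self _ _)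
    have ih' := ih fun k hk => hH k (Multiset.mem_cons_of_mem hk)
    have hHm : H.prod.Monic := monic_mprod _ fun k hk => (hH k (Multiset.mem_cons_of_mem hk)).1
    rw [Multiset.prod_cons, dual_mul, hgm.natDegree_mul hHm,
      show g * H.prod * (dual (RingHom.id F) g * dual (RingHom.id F) H.prod) =
        (g * dual (RingHom.id F) g) * (H.prod * dual (RingHom.id F) H.prod) by ring]
    refine good_add ?_ ih'
    have h0 : g.coeff 0 ≠ 0 := fun e => by
      obtain ⟨k, hk⟩ := hgd
      have e' := congrArg (fun P => P.coeff 0) hk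
      simp only [mul_coeff_zero, e, zero_mul, coeff_sub, coeff_X_pow, coeff_one] at e'
      rw [if_neg (Fact.out : r.Prime).ne_zero.symm] at e'
      simp at e'
    obtain ⟨G, N, hG, hN, hGN⟩ := SemisimpleCharpoly.exists_model p g.natDegree g hgm rfl h0
    have hGr : G ^ r = 1 := DualCount.pow_eq_one (r := r) (k := 1) G hN hGN (by rw [hG, pow_one]; exact hgd)
    have hu : IsUnit G := (isUnit_pow_iff (Fact.out : r.Prime).ne_zero).mp (by rw [hGr]; exact isUnit_one)
    have hdet := (Matrix.isUnit_iff_isUnit_det G).mp hu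
    have h := good_diag (z := (1 : F)) (N := r) G G⁻¹.transpose
      (by rw [Matrix.transpose_transpose]; exact Matrix.nonsing_inv_mul G hdet) (by rw [hGr, one_smul])
      (by rw [← Matrix.transpose_pow, Matrix.inv_pow', hGr, inv_one, Matrix.transpose_one, one_smul])
    rw [Fintype.card_fin, hG, Matrix.charpoly_transpose] at h
    rw [← hG, DualCount.dual_charpoly _ _ hu, RingHom.coe_id, Matrix.map_id, hG]
    exact h

include p in
/-- An element with the given blocks fixes an isotropic subspace. -/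
theorem stable_blocks (hr2 : r ≠ 2) (hrp : r ≠ p) {c : ℕ} (hmd : m ≤ d) (H L₂ : Multiset F[X]) (e₂ : ℕ)
    (hH : ∀ g ∈ H, g.Monic ∧ g ∣ X ^ r - 1) (hHd : H.prod.natDegree = m) (hL₂ : ∀ u ∈ L₂, Atom r c u)
    (he₂ : e₂ + c * L₂.card = 2 * (d - m)) (y : Matrix.symplecticGroup (Fin d) F) (hy : y ^ r = 1)
    (hf : (y : Matrix (Fin d ⊕ Fin d) (Fin d ⊕ Fin d) F).charpoly =
      H.prod * dual (RingHom.id F) H.prod * ((X - C 1) ^ e₂ * L₂.prod)) :
    ∃ W : Submodule F (Fin d ⊕ Fin d → F), Module.finrank F W = m ∧ (∀ u ∈ W, ∀ v ∈ W, sympBilin d F u v = 0) ∧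
      W.map (Matrix.toLin' (y : Matrix (Fin d ⊕ Fin d) (Fin d ⊕ Fin d) F)) ≤ W := by
  obtain ⟨A, hA, hAc⟩ := exists_elt (p := p) hr2 hL₂ he₂
  have h2 := good_of_elt (z := (1 : F)) (N := r) A (by rw [← SubmonoidClass.coe_pow, hA, Submonoid.coe_one, one_smul])
  have h1 := good_pairs (p := p) hrp H hH
  rw [hHd] at h1
  have h := good_add h1 h2
  rw [Nat.add_sub_cancel' hmd, add_zero, hAc, ← hf] at h
  exact stable_of_good (p := p) (M := r) (k := 1) ((Nat.coprime_primes (Fact.out : r.Prime) Fact.out).2 hrp)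
    (mul_one r).symm (pow_one _) h y (by rw [← SubmonoidClass.coe_pow, hy, Submonoid.coe_one, one_smul]) rfl

/-- Necessary conditions from an invariant isotropic subspace. -/
theorem necessary (hrp : r ≠ p) {i : ℕ} (hi : i = orderOf (Fintype.card F : ZMod r)) (hi0 : 0 < i)
    {e : ℕ} {P : F[X]} (hP : P.eval 1 ≠ 0) (y : Matrix.symplecticGroup (Fin d) F) (hy : y ^ r = 1)
    (hf : (y : Matrix (Fin d ⊕ Fin d) (Fin d ⊕ Fin d) F).charpoly = (X - C 1) ^ e * P)
    (W : Submodule F (Fin d ⊕ Fin d → F)) (hWd : Module.finrank F W = m)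
    (hW : ∀ u ∈ W, ∀ v ∈ W, sympBilin d F u v = 0)
    (hWy : W.map (Matrix.toLin' (y : Matrix (Fin d ⊕ Fin d) (Fin d ⊕ Fin d) F)) ≤ W) :
    ∃ (w₀ : ℕ) (l : F[X] → ℕ), 2 * w₀ ≤ e ∧ m = w₀ + i * ∑ g ∈ factorSet F r, l g ∧
      ∀ g ∈ factorSet F r, dual (RingHom.id F) g = g → ∃ k, 2 * l g ≤ k ∧ g ^ k ∣ P := by
  classical
  set x := Matrix.toLin' (y : Matrix (Fin d ⊕ Fin d) (Fin d ⊕ Fin d) F) with hxdef
  have hrc : (r : F) ≠ 0 := cast_prime_ne_zero (Fact.out : r.Prime) hrp
  have hx : x ^ r = 1 := by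
    rw [hxdef, ← Matrix.toLin'_pow, ← SubmonoidClass.coe_pow, hy, Submonoid.coe_one, Matrix.toLin'_one]; rfl
  have hiso : ∀ u v, sympBilin d F (x u) (x v) = sympBilin d F u v := fun u v => by
    rw [hxdef, Matrix.toLin'_apply, Matrix.toLin'_apply]; exact (mem_symplectic_iff_form _).1 y.2 u v
  have hxc : x.charpoly = (X - C 1) ^ e * P := by rw [hxdef, Matrix.charpoly_toLin', hf]
  have hWi : PrimeOrd.Inv x W := PrimeOrd.inv_iff_map_le.mpr hWy
  have hss := PrimeOrd.semisimple (c := (1 : F)) hrc one_ne_zero (show x ^ r = 1 • 1 by rw [hx, one_smul])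
  have h1d : (X - C (1 : F)) ∣ X ^ r - 1 := by rw [dvd_iff_isRoot]; simp
  have hbound : ∀ g : F[X], g.Monic → Irreducible g → g ∣ X ^ r - 1 → dual (RingHom.id F) g = g →
      ∃ k, 2 * Module.finrank F (W ⊓ LinearMap.ker (aeval x g) : Submodule F (Fin d ⊕ Fin d → F)) ≤ g.natDegree * k ∧
        g ^ k ∣ (X - C 1) ^ e * P := by
    intro g hg hgi hgd hdual
    obtain ⟨k, hk, hdim⟩ := ker_pow hss hg hgi
    refine ⟨k, ?_, hxc ▸ hk⟩
    rw [← hdim]
    exact two_mul_le (ker_nondeg (sympBilin_nondegenerate d F) (sympBilin_isAlt d F) hiso hrc hx hg hgi hgd hdual)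
      inf_le_right fun u hu v hv => hW u hu.1 v hv.1
  -- the parts
  have hdiv : ∀ g ∈ factorSet F r, i ∣ Module.finrank F (W ⊓ LinearMap.ker (aeval x g) : Submodule F (Fin d ⊕ Fin d → F)) := by
    intro g hg
    rw [hi]
    refine PrimeOrd.dvd_of_fpf hx (hWi.inf (inv_ker_aeval x g)) ?_
    rw [eq_bot_iff]
    rintro w ⟨⟨-, hw⟩, hwf⟩
    rw [SetLike.mem_coe, LinearMap.mem_ker] at hw
    rw [SetLike.mem_coe, PrimeOrd.mem_fix] at hwf
    obtain ⟨a, b, hab⟩ := (mem_factorSet g hg).2.1.coprime_iff_not_dvd.2 fun hd : g ∣ X - C 1 =>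
      eval_one_ne hrp hg (dvd_iff_isRoot.mp ((mem_factorSet g hg).2.1.dvd_symm (irreducible_X_sub_C 1) hd))
    have e := congrArg (fun Q => aeval x Q w) hab
    simp only [map_add, map_mul, map_sub, aeval_X, aeval_C, map_one, LinearMap.add_apply, LinearMap.sub_apply,
      Module.End.mul_apply, Module.End.one_apply, hw, hwf, sub_self, map_zero, add_zero] at e
    exact (Submodule.mem_bot F).mpr e.symm
  choose l hl using hdiv
  let L : F[X] → ℕ := fun g => if hg : g ∈ factorSet F r then l g hg else 0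
  have hL : ∀ g ∈ factorSet F r, Module.finrank F (W ⊓ LinearMap.ker (aeval x g) : Submodule F (Fin d ⊕ Fin d → F)) = i * L g :=
    fun g hg => by simp only [L, dif_pos hg]; exact hl g hg
  refine ⟨Module.finrank F (W ⊓ LinearMap.ker (aeval x (X - C (1 : F))) : Submodule F (Fin d ⊕ Fin d → F)), L, ?_, ?_, ?_⟩
  · obtain ⟨k, hk, hkd⟩ := hbound _ (monic_X_sub_C 1) (irreducible_X_sub_C 1) h1d dual_X_sub_one
    rw [natDegree_X_sub_C, one_mul] at hk
    refine hk.trans ?_
    have hcop : IsCoprime ((X - C (1 : F)) ^ k) P := IsCoprime.pow_left ((irreducible_X_sub_C 1).coprime_iff_not_dvd.2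
      fun hd => hP (dvd_iff_isRoot.mp hd))
    have h2 := natDegree_le_of_dvd (hcop.dvd_of_dvd_mul_right hkd) (pow_ne_zero _ (monic_X_sub_C 1).ne_zero)
    rwa [natDegree_pow, natDegree_pow, natDegree_X_sub_C, mul_one, mul_one] at h2
  · have hT : ∀ g ∈ insert (X - C (1 : F)) (factorSet F r), g.Monic ∧ Irreducible g := fun g hg => by
      rcases Finset.mem_insert.mp hg with rfl | hg
      · exact ⟨monic_X_sub_C 1, irreducible_X_sub_C 1⟩
      · exact ⟨(mem_factorSet g hg).1, (mem_factorSet g hg).2.1⟩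
    have hprod : ∏ g ∈ insert (X - C (1 : F)) (factorSet F r), g = X ^ r - 1 := by
      rw [Finset.prod_insert (one_notMem hrp), ← cyclotomic_prime_mul_X_sub_one F r, mul_comm, map_one]
      congr 1
      have hsq : Squarefree (cyclotomic r F) :=
        Squarefree.squarefree_of_dvd (cyclotomic.dvd_X_pow_sub_one r F) (by
          have := (separable_X_pow_sub_C (1 : F) hrc one_ne_zero).squarefree
          rwa [C_1] at this)
      have hnd := (squarefree_iff_nodup_normalizedFactors (cyclotomic_ne_zero r F)).mp hsq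
      show (Multiset.map id (factorSet F r).val).prod = _
      rw [Multiset.map_id, factorSet, Multiset.toFinset_val, Multiset.dedup_eq_self.mpr hnd,
        prod_normalizedFactors_eq (cyclotomic_ne_zero r F), (cyclotomic.monic r F).normalize_eq_self]
    have h := split_sum hWi _ hT
    rw [hprod, map_sub, map_pow, aeval_X, map_one, hx, sub_self, LinearMap.ker_zero, inf_top_eq, hWd,
      Finset.sum_insert (one_notMem hrp), Finset.sum_congr rfl hL, ← Finset.mul_sum] at h
    exact h
  · intro g hg hdual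
    obtain ⟨h1, h2, h3, h4⟩ := factor_facts hrp hi hg
    obtain ⟨k, hk, hkd⟩ := hbound g h1 h2 h4 hdual
    rw [hL g hg, h3, show 2 * (i * L g) = i * (2 * L g) by ring] at hk
    refine ⟨k, Nat.le_of_mul_le_mul_left hk hi0, ?_⟩
    refine (IsCoprime.pow (h2.coprime_iff_not_dvd.2 fun hd => ?_)).dvd_of_dvd_mul_left hkd
    exact eval_one_ne hrp hg (dvd_iff_isRoot.mp (h2.dvd_symm (irreducible_X_sub_C 1) hd))

theorem count_bound {L : Multiset F[X]} [DecidableEq F[X]] (hL : ∀ u ∈ L, u.Monic ∧ Irreducible u) {g : F[X]}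
    (hg : g.Monic) (hgi : Irreducible g) {k : ℕ} (h : g ^ k ∣ L.prod) : k ≤ L.count g := by
  rw [← Multiset.prod_filter_mul_prod_filter_not (fun u => u = g) (s := L), Multiset.filter_eq',
    Multiset.prod_replicate] at h
  have hcop : IsCoprime (g ^ k) (L.filter fun u => ¬ u = g).prod := IsCoprime.pow_left (hgi.coprime_iff_not_dvd.2 fun hd => by
    obtain ⟨u, hu, hdu⟩ := hgi.prime.exists_mem_multiset_dvd hd
    rw [Multiset.mem_filter] at hu
    exact hu.2 (eq_of_monic_of_associated hg (hL u hu.1).1 (hgi.associated_of_dvd (hL u hu.1).2 hdu)).symm)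
  exact (pow_dvd_pow_iff hgi.ne_zero hgi.not_isUnit).mp (hcop.dvd_of_dvd_mul_right h)

set_option maxHeartbeats 1000000 in
/-- The symplectic involution-type criterion for `r = 2`. -/
theorem two_case (hp2 : p ≠ 2) (hd : 0 < d) (hmd : m ≤ d) (hcond : Even m ∨ Fintype.card F % 4 = 1)
    (x : Matrix.symplecticGroup (Fin d) F) (z : F) (hzz : z * z = 1)
    (hx : (x : Matrix (Fin d ⊕ Fin d) (Fin d ⊕ Fin d) F) ^ 2 = z • 1) :
    ∃ W : Submodule F (Fin d ⊕ Fin d → F), Module.finrank F W = m ∧ (∀ u ∈ W, ∀ v ∈ W, sympBilin d F u v = 0) ∧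
      W.map (Matrix.toLin' (x : Matrix (Fin d ⊕ Fin d) (Fin d ⊕ Fin d) F)) ≤ W := by
  classical
  haveI : Fact (Nat.Prime 2) := ⟨Nat.prime_two⟩
  have h2 : (2 : F) ≠ 0 := Ring.two_ne_zero (by rw [ringChar.eq F p]; exact hp2)
  set φ := Matrix.toLin' (x : Matrix (Fin d ⊕ Fin d) (Fin d ⊕ Fin d) F) with hφdef
  have hiso : ∀ u v, sympBilin d F (φ u) (φ v) = sympBilin d F u v := fun u v => by
    rw [hφdef, Matrix.toLin'_apply, Matrix.toLin'_apply]; exact (mem_symplectic_iff_form _).1 x.2 u v
  have hφ2 : ∀ v, φ (φ v) = z • v := fun v => by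
    rw [hφdef, Matrix.toLin'_apply, Matrix.toLin'_apply, Matrix.mulVec_mulVec, ← sq, hx, Matrix.smul_mulVec,
      Matrix.one_mulVec]
  set B := sympBilin d F with hB
  -- eigenspaces for a square root of `z`
  have eig : ∀ ι : F, ι * ι = z → ∀ v, v ∈ LinearMap.ker (φ - ι • 1) ↔ φ v = ι • v := fun ι hι v => by
    simp [sub_eq_zero]
  have top : ∀ ι : F, ι * ι = z → ι ≠ 0 →
      LinearMap.ker (φ - ι • 1) ⊔ LinearMap.ker (φ - (-ι) • 1) = ⊤ := fun ι hι hι0 => by
    rw [eq_top_iff]
    intro v _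
    have e : v = (2 * ι)⁻¹ • (ι • v + φ v) + (2 * ι)⁻¹ • (ι • v - φ v) := by
      rw [← smul_add, show ι • v + φ v + (ι • v - φ v) = (2 * ι) • v by rw [two_mul, add_smul]; abel, smul_smul,
        inv_mul_cancel₀ (mul_ne_zero h2 hι0), one_smul]
    rw [e]
    refine Submodule.add_mem_sup (Submodule.smul_mem _ _ ?_) (Submodule.smul_mem _ _ ?_)
    · rw [eig ι hι, map_add, map_smul, hφ2, smul_add, smul_smul, hι, add_comm]
    · rw [eig (-ι) (by rw [neg_mul_neg, hι]), map_sub, map_smul, hφ2, neg_smul, smul_sub, smul_smul, hι, neg_sub]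
  rcases mul_self_eq_one_iff.mp hzz with rfl | rfl
  · -- involutions
    set P := LinearMap.ker (φ - (1 : F) • 1) with hP
    set M := LinearMap.ker (φ - (-1 : F) • 1) with hM
    have hsup : P ⊔ M = ⊤ := top 1 (one_mul _) one_ne_zero
    have horth : ∀ u ∈ P, ∀ v ∈ M, B u v = 0 ∧ B v u = 0 := by
      intro u hu v hv
      rw [hP, eig 1 (one_mul _), one_smul] at hu
      rw [hM, eig (-1) (by rw [neg_mul_neg, one_mul]), neg_smul, one_smul] at hv
      have h1 := hiso u v
      have h3 := hiso v u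
      rw [hu, hv, map_neg] at h1
      rw [hu, hv, map_neg, LinearMap.neg_apply] at h3
      constructor
      · exact (mul_eq_zero.mp (show (2 : F) * B u v = 0 by linear_combination -h1)).resolve_left h2
      · exact (mul_eq_zero.mp (show (2 : F) * B v u = 0 by linear_combination -h3)).resolve_left h2
    have nd : ∀ U U' : Submodule F (Fin d ⊕ Fin d → F), U ⊔ U' = ⊤ → (∀ u ∈ U, ∀ v ∈ U', B u v = 0) →
        (B.restrict U).Nondegenerate := fun U U' hsup h => by
      have key : ∀ u : U, (∀ v : U, B u.1 v.1 = 0) → u = 0 := fun u hu => Subtype.ext <|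
        (sympBilin_nondegenerate d F).1 u.1 fun w => by
          obtain ⟨a, ha, b, hb, rfl⟩ := Submodule.mem_sup.mp (hsup ▸ Submodule.mem_top (x := w))
          rw [map_add, hu ⟨a, ha⟩, h u.1 u.2 b hb, add_zero]
      refine ⟨fun u hu => key u hu, fun u hu => key u fun v => ?_⟩
      rw [hB, ← (sympBilin_isAlt d F).neg_eq v.1 u.1, neg_eq_zero]
      exact hu v
    have hPn := nd P M hsup fun u hu v hv => (horth u hu v hv).1
    have hMn := nd M P (by rw [sup_comm, hsup]) fun v hv u hu => (horth u hu v hv).2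
    have hdis : P ⊓ M = ⊥ := by
      rw [eq_bot_iff]
      rintro v ⟨hv, hv'⟩
      rw [SetLike.mem_coe, hP, eig 1 (one_mul _), one_smul] at hv
      rw [SetLike.mem_coe, hM, eig (-1) (by rw [neg_mul_neg, one_mul]), neg_smul, one_smul, hv] at hv'
      have h4 : (2 : F) • v = 0 := by
        rw [two_smul]; exact add_eq_zero_iff_eq_neg.mpr hv'
      exact (Submodule.mem_bot F).mpr ((smul_eq_zero.mp h4).resolve_left h2)
    obtain ⟨a, ha⟩ := Classical.even_finrank_of_symplectic (B := B.restrict P) (fun v => sympBilin_isAlt d F _) hPn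
    obtain ⟨b, hb⟩ := Classical.even_finrank_of_symplectic (B := B.restrict M) (fun v => sympBilin_isAlt d F _) hMn
    have hab := Submodule.finrank_sup_add_finrank_inf_eq P M
    rw [hsup, hdis, finrank_top, finrank_bot, finrank_sympSpace] at hab
    obtain ⟨W₁, hW₁, hd₁, hi₁⟩ := exists_iso_in (sympBilin_isAlt d F) hPn (a := a) (k := min m a) (by omega) (min_le_right _ _)
    obtain ⟨W₂, hW₂, hd₂, hi₂⟩ := exists_iso_in (sympBilin_isAlt d F) hMn (a := b) (k := m - min m a) (by omega) (by omega)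
    refine ⟨W₁ ⊔ W₂, ?_, ?_, ?_⟩
    · have h5 := Submodule.finrank_sup_add_finrank_inf_eq W₁ W₂
      rw [eq_bot_iff.mpr ((inf_le_inf hW₁ hW₂).trans hdis.le), finrank_bot] at h5
      omega
    · intro u hu v hv
      obtain ⟨u₁, hu₁, u₂, hu₂, rfl⟩ := Submodule.mem_sup.mp hu
      obtain ⟨v₁, hv₁, v₂, hv₂, rfl⟩ := Submodule.mem_sup.mp hv
      have e₁ : B u₁ v₁ = 0 := hi₁ u₁ hu₁ v₁ hv₁
      have e₂ : B u₂ v₂ = 0 := hi₂ u₂ hu₂ v₂ hv₂
      have e₃ : B u₁ v₂ = 0 := (horth u₁ (hW₁ hu₁) v₂ (hW₂ hv₂)).1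
      have e₄ : B u₂ v₁ = 0 := (horth v₁ (hW₁ hv₁) u₂ (hW₂ hu₂)).2
      simp only [← hB, map_add, LinearMap.add_apply, e₁, e₂, e₃, e₄, add_zero]
    · rw [Submodule.map_sup]
      refine sup_le_sup ?_ ?_
      · rintro _ ⟨u, hu, rfl⟩
        have := hW₁ hu
        rw [hP, eig 1 (one_mul _)] at this
        rw [this]; exact W₁.smul_mem _ hu
      · rintro _ ⟨u, hu, rfl⟩
        have := hW₂ hu
        rw [hM, eig (-1) (by rw [neg_mul_neg, one_mul])] at this
        rw [this]; exact W₂.smul_mem _ hu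
  · by_cases hsq : IsSquare (-1 : F)
    · obtain ⟨ι, hι⟩ := hsq
      have hι0 : ι ≠ 0 := fun e => by rw [e, mul_zero, neg_eq_zero] at hι; exact one_ne_zero hι
      have hiso' : ∀ κ : F, κ * κ = -1 → ∀ u ∈ LinearMap.ker (φ - κ • 1), ∀ v ∈ LinearMap.ker (φ - κ • 1), B u v = 0 := by
        intro κ hκ u hu v hv
        rw [eig κ hκ] at hu hv
        have h1 := hiso u v
        rw [hu, hv, map_smul, map_smul, LinearMap.smul_apply, smul_eq_mul, smul_eq_mul, ← mul_assoc, hκ] at h1
        exact (mul_eq_zero.mp (show (2 : F) * B u v = 0 by linear_combination -h1)).resolve_left h2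
      have hle : ∀ κ : F, κ * κ = -1 → Module.finrank F (LinearMap.ker (φ - κ • 1)) ≤ d := fun κ hκ => by
        have h := two_mul_le (B := B) (U := ⊤) (W := LinearMap.ker (φ - κ • 1))
          (sympBilin_nondegenerate d F |> fun h => ⟨fun u hu => Subtype.ext (h.1 u.1 fun v => hu ⟨v, trivial⟩),
            fun u hu => Subtype.ext (h.2 u.1 fun v => hu ⟨v, trivial⟩)⟩) le_top (hiso' κ hκ)
        rw [finrank_top, finrank_sympSpace] at h
        omega
      have h5 := Submodule.finrank_sup_add_finrank_inf_eq (LinearMap.ker (φ - ι • 1)) (LinearMap.ker (φ - (-ι) • 1))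
      rw [top ι hι.symm hι0, finrank_top, finrank_sympSpace] at h5
      have h6 := hle (-ι) (by rw [neg_mul_neg, ← hι])
      have h7 : d ≤ Module.finrank F (LinearMap.ker (φ - ι • 1)) + Module.finrank F
          (LinearMap.ker (φ - ι • 1) ⊓ LinearMap.ker (φ - (-ι) • 1) : Submodule F (Fin d ⊕ Fin d → F)) := by omega
      have h8 : LinearMap.ker (φ - ι • 1) ⊓ LinearMap.ker (φ - (-ι) • 1) = ⊥ := by
        rw [eq_bot_iff]
        rintro v ⟨hv, hv'⟩
        rw [SetLike.mem_coe, eig ι hι.symm] at hv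
        rw [SetLike.mem_coe, eig (-ι) (by rw [neg_mul_neg, ← hι]), hv] at hv'
        have h9 : (2 * ι) • v = 0 := by
          rw [two_mul, add_smul]; nth_rw 2 [hv']; rw [← add_smul, add_neg_cancel, zero_smul]
        exact (Submodule.mem_bot F).mpr ((smul_eq_zero.mp h9).resolve_left (mul_ne_zero h2 hι0))
      rw [h8, finrank_bot, add_zero] at h7
      let b := Module.finBasis F (LinearMap.ker (φ - ι • 1))
      let e : (Fin m → F) →ₗ[F] (Fin d ⊕ Fin d → F) := Fintype.linearCombination F
        fun i : Fin m => (b (Fin.castLE (hmd.trans h7) i) : Fin d ⊕ Fin d → F)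
      have hli : LinearIndependent F fun i : Fin m => (b (Fin.castLE (hmd.trans h7) i) : Fin d ⊕ Fin d → F) :=
        (b.linearIndependent.comp _ (Fin.castLE_injective _)).map' _ (Submodule.ker_subtype _)
      refine ⟨Submodule.span F (Set.range fun i : Fin m => (b (Fin.castLE (hmd.trans h7) i) : Fin d ⊕ Fin d → F)),
        by rw [finrank_span_eq_card hli, Fintype.card_fin], ?_, ?_⟩
      · have hle' : Submodule.span F (Set.range fun i : Fin m => (b (Fin.castLE (hmd.trans h7) i) : Fin d ⊕ Fin d → F)) ≤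
            LinearMap.ker (φ - ι • 1) := Submodule.span_le.mpr (by rintro _ ⟨i, rfl⟩; exact Subtype.coe_prop _)
        exact fun u hu v hv => hiso' ι hι.symm u (hle' hu) v (hle' hv)
      · rw [Submodule.map_span, Submodule.span_le]
        rintro _ ⟨_, ⟨i, rfl⟩, rfl⟩
        rw [(eig ι hι.symm _).mp (Subtype.coe_prop _)]
        exact Submodule.smul_mem _ _ (Submodule.subset_span ⟨i, rfl⟩)
    · -- no eigenvalue
      have hq : Fintype.card F % 4 = 3 := by
        by_contra h; exact hsq (FiniteField.isSquare_neg_one_iff.mpr h)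
      obtain ⟨k, rfl⟩ := hcond.resolve_right (by omega)
      have hg : Irreducible (X ^ 2 + C (1 : F)) := by
        rw [Polynomial.irreducible_iff_roots_eq_zero_of_degree_le_three (by rw [natDegree_X_pow_add_C])
          (by rw [natDegree_X_pow_add_C]; norm_num)]
        refine Multiset.eq_zero_of_forall_notMem fun a ha => hsq ⟨a, ?_⟩
        rw [mem_roots (monic_X_pow_add_C 1 two_ne_zero).ne_zero] at ha
        simp only [IsRoot, eval_add, eval_pow, eval_X, eval_C] at ha
        linear_combination -ha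
      have hchi : ∀ (n : ℕ) (A : Matrix.symplecticGroup (Fin n) F),
          (A : Matrix (Fin n ⊕ Fin n) (Fin n ⊕ Fin n) F) ^ 2 = (-1 : F) • 1 →
          (A : Matrix (Fin n ⊕ Fin n) (Fin n ⊕ Fin n) F).charpoly = (X ^ 2 + C (1 : F)) ^ n := fun n A hA => by
        obtain ⟨j, hj, hdim⟩ := chi_pow (Matrix.toLin' (A : Matrix (Fin n ⊕ Fin n) (Fin n ⊕ Fin n) F))
          (monic_X_pow_add_C 1 two_ne_zero) hg (by
            rw [map_add, map_pow, aeval_X, aeval_C, ← Matrix.toLin'_pow, hA, map_one, map_smul, Matrix.toLin'_one]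
            exact LinearMap.ext fun v => by simp)
        rw [finrank_sympSpace, natDegree_X_pow_add_C] at hdim
        rw [← Matrix.charpoly_toLin', hj, show j = n by omega]
      let G := Matrix.J (Fin k) F
      have hG : G ^ 2 = (-1 : F) • 1 := by rw [sq, Matrix.J_squared, neg_smul, one_smul]
      have hGd := good_diag (z := (-1 : F)) (N := 2) G G (by
        rw [Matrix.J_transpose, Matrix.neg_mul, Matrix.J_squared, neg_neg]) hG hG
      rw [Fintype.card_sum, Fintype.card_fin] at hGd
      have h := good_add hGd (good_of_elt (z := (-1 : F)) (N := 2) (n := d - (k + k))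
        ⟨Matrix.J (Fin (d - (k + k))) F, SymplecticGroup.J_mem _ _⟩ (by
          show Matrix.J (Fin (d - (k + k))) F ^ 2 = _
          rw [sq, Matrix.J_squared, neg_smul, one_smul]))
      rw [Nat.add_sub_cancel' hmd, add_zero] at h
      obtain ⟨y, hy, hyN, hyf, hW⟩ := h
      let A : Matrix.symplecticGroup (Fin d) F := ⟨LinearMap.toMatrix' y, (mem_symplectic_iff_form _).2 fun u v => by
        rw [LinearMap.toMatrix'_mulVec, LinearMap.toMatrix'_mulVec]; exact hy u v⟩
      have hA2 : (A : Matrix (Fin d ⊕ Fin d) (Fin d ⊕ Fin d) F) ^ 2 = (-1 : F) • 1 := Matrix.toLin'.injective (by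
        rw [Matrix.toLin'_pow, map_smul, Matrix.toLin'_one]
        show Matrix.toLin' (LinearMap.toMatrix' y) ^ 2 = _
        rw [Matrix.toLin'_toMatrix', hyN]; rfl)
      have hyc : y.charpoly = (X ^ 2 + C (1 : F)) ^ d := by
        rw [← hchi d A hA2, ← Matrix.charpoly_toLin']
        show _ = (Matrix.toLin' (LinearMap.toMatrix' y)).charpoly
        rw [Matrix.toLin'_toMatrix']
      refine stable_of_good (p := p) (z := (-1 : F)) (N := 2) (M := 4) (k := 2) ?_ rfl (by norm_num)
        ⟨y, hy, hyN, hyc, hW⟩ x hx (hchi d x hx)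
      rw [show (4 : ℕ) = 2 ^ 2 by norm_num]
      exact Nat.Coprime.pow_left 2 ((Nat.coprime_primes Nat.prime_two Fact.out).2 (Ne.symm hp2))

set_option maxHeartbeats 1000000 in
theorem main (d m : ℕ) (hd : 2 ≤ d) (hm : 1 ≤ m) (hmd : m ≤ d)
    (hΩ : r ∣ Nat.card {W : Submodule F (Fin d ⊕ Fin d → F) // Module.finrank F W = m ∧
      (∀ u ∈ W, ∀ v ∈ W, Cfsg.sympForm d F u v = 0)})
    (i c : ℕ) (hi : i = orderOf (Fintype.card F : ZMod r)) (hc : c = if Even i then i else 2 * i) :
    (∀ x : ↥(Matrix.symplecticGroup (Fin d) F),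
      (∃ z : F, ((x ^ r : ↥(Matrix.symplecticGroup (Fin d) F)) : Matrix (Fin d ⊕ Fin d) (Fin d ⊕ Fin d) F) = z • (1 : Matrix (Fin d ⊕ Fin d) (Fin d ⊕ Fin d) F)) →
      (∀ z : F, (x : Matrix (Fin d ⊕ Fin d) (Fin d ⊕ Fin d) F) ≠ z • (1 : Matrix (Fin d ⊕ Fin d) (Fin d ⊕ Fin d) F)) →
      ∃ W : Submodule F (Fin d ⊕ Fin d → F), Module.finrank F W = m ∧ (∀ u ∈ W, ∀ v ∈ W, Cfsg.sympForm d F u v = 0) ∧
        W.map (Matrix.toLin' (x : Matrix (Fin d ⊕ Fin d) (Fin d ⊕ Fin d) F)) ≤ W) ↔
    ((r = 2 ∧ p ≠ 2 ∧ (Even m ∨ Fintype.card F % 4 = 1)) ∨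
     (r ≠ p ∧ 2 < r ∧ i ≤ m ∧ 2 * (m % i) ≤ (2 * d) % c ∧ (Odd i ∨ (r - 1) / i + 2 * (m / i) ≤ (2 * d) / i))) := by
  classical
  have hr : r.Prime := Fact.out
  simp only [← sympBilin_eq_sympForm]
  have hdv := count_dvd hmd hΩ
  have hrp : r ≠ p := fun e => char_not_dvd (F := F) (p := p) hmd (e ▸ hdv)
  have hzz : ∀ (x : Matrix.symplecticGroup (Fin d) F) (z : F),
      ((x ^ r : Matrix.symplecticGroup (Fin d) F) : Matrix (Fin d ⊕ Fin d) (Fin d ⊕ Fin d) F) = z • 1 → z * z = 1 :=
    fun x z hz => eq_one_scalar (by omega) hz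
  by_cases hr2 : r = 2
  · subst hr2
    have hp2 : p ≠ 2 := Ne.symm hrp
    constructor
    · intro H
      refine Or.inl ⟨rfl, hp2, ?_⟩
      by_contra hcon
      rw [not_or, Nat.not_even_iff_odd] at hcon
      have hsq : ¬ IsSquare (-1 : F) := by
        rw [FiniteField.isSquare_neg_one_iff, not_not]
        have hodd : Fintype.card F % 2 = 1 := FiniteField.odd_card_of_char_ne_two (by rw [ringChar.eq F p]; exact hp2)
        omega
      obtain ⟨W, hWd, hW, hWi⟩ := H ⟨Matrix.J (Fin d) F, SymplecticGroup.J_mem _ _⟩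
        ⟨-1, by rw [SubmonoidClass.coe_pow, sq, Matrix.J_squared, neg_smul, one_smul]⟩ fun z hz => by
          have := congrFun (congrFun hz (Sum.inl ⟨0, by omega⟩)) (Sum.inr ⟨0, by omega⟩)
          simp [Matrix.J] at this
      have hinv := PrimeOrd.inv_iff_map_le.mpr hWi
      have h2 : Matrix.toLin' (Matrix.J (Fin d) F) ^ 2 = (-1 : F) • 1 := by
        rw [← Matrix.toLin'_pow, sq, Matrix.J_squared, map_neg, Matrix.toLin'_one]
        exact LinearMap.ext fun v => by simp
      have h3 := congrArg LinearMap.det (PrimeOrd.res_scalar hinv h2)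
      rw [map_pow, LinearMap.det_smul, map_one, mul_one, hWd, hcon.1.neg_one_pow, sq] at h3
      exact hsq ⟨_, h3.symm⟩
    · rintro (⟨-, -, hcond⟩ | ⟨-, h, -⟩) x ⟨z, hz⟩ -
      · exact two_case hp2 (by omega) hmd hcond x z (hzz x z hz) (by rw [← SubmonoidClass.coe_pow, hz])
      · omega
  have hrodd : Odd r := hr.odd_of_ne_two hr2
  have hr2' : 2 < r := lt_of_le_of_ne hr.two_le (Ne.symm hr2)
  have hi0 : 0 < i := hi ▸ PrimeOrd.ord_pos (PrimeOrd.not_dvd_card hr hrp)
  have hc0 : 0 < c := by rw [hc]; split_ifs <;> omega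
  obtain ⟨hcd, hemod⟩ := count_facts hr2 hmd hi hc hdv
  have hcard : (factorSet F r).card = (r - 1) / i := by
    have h := card_factorSet (F := F) (p := p) (r := r) hrp
    rw [← hi] at h
    rw [← h, Nat.mul_div_cancel _ hi0]
  constructor
  · intro H
    -- derangements
    have derange : ∀ (L : Multiset F[X]) (e : ℕ), (∀ u ∈ L, Atom r c u) → L ≠ 0 → e + c * L.card = 2 * d →
        ∃ (w₀ : ℕ) (l : F[X] → ℕ), 2 * w₀ ≤ e ∧ m = w₀ + i * ∑ g ∈ factorSet F r, l g ∧
          ∀ g ∈ factorSet F r, dual (RingHom.id F) g = g → ∃ k, 2 * l g ≤ k ∧ g ^ k ∣ L.prod := by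
      intro L e hL hL0 he
      obtain ⟨y, hy, hyc⟩ := exists_elt (p := p) hr2 hL he
      obtain ⟨hm1, hdeg, -, -, heval⟩ := atoms_facts hL
      obtain ⟨W, hWd, hW, hWi⟩ := H y ⟨1, by rw [hy, Submonoid.coe_one, one_smul]⟩ (fun z hz => by
        have hzr : z ^ r = 1 := by
          have h1 : (y : Matrix (Fin d ⊕ Fin d) (Fin d ⊕ Fin d) F) ^ r = 1 := by
            rw [← SubmonoidClass.coe_pow, hy, Submonoid.coe_one]
          rw [hz, _root_.smul_pow, one_pow] at h1
          have := congrFun (congrFun h1 (Sum.inl ⟨0, by omega⟩)) (Sum.inl ⟨0, by omega⟩)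
          simpa using this
        have hz1 : z = 1 := by
          obtain ⟨k, hk⟩ := hrodd
          rw [hk, pow_succ, pow_mul, sq, eq_one_scalar (by omega) hz, one_pow, one_mul] at hzr; exact hzr
        rw [hz, hz1, one_smul, Matrix.charpoly_one, Fintype.card_sum, Fintype.card_fin, ← two_mul] at hyc
        have hpos : 0 < c * L.card := Nat.mul_pos hc0 (Multiset.card_pos.mpr hL0)
        rw [show 2 * d = e + c * L.card by omega, pow_add, ← map_one (C : F →+* F[X])] at hyc
        refine heval ?_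
        rw [← mul_left_cancel₀ (pow_ne_zero e (monic_X_sub_C (1 : F)).ne_zero) hyc, eval_pow, eval_sub, eval_X, eval_C,
          sub_self, zero_pow hpos.ne'])
      exact necessary hrp hi hi0 heval y hy hyc W hWd hW hWi
    refine Or.inr ⟨hrp, hr2', ?_⟩
    have hA : ¬ (2 * d) % c < 2 * (m % i) := by
      intro hlt
      obtain ⟨g, hg⟩ := Finset.card_pos.mp (show 0 < (factorSet F r).card by
        have h := card_factorSet (F := F) (p := p) (r := r) hrp
        rcases Nat.eq_zero_or_pos (factorSet F r).card with e | e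
        · rw [e, zero_mul] at h; omega
        · exact e)
      obtain ⟨u, hu, -, -⟩ := atom_of_factor hr2 hrp hi hi0 hc hg
      have hdm := Nat.div_add_mod (2 * d) c
      have hK : 0 < 2 * d / c := Nat.div_pos hcd hc0
      obtain ⟨w₀, l, hw, hmw, -⟩ := derange (Multiset.replicate (2 * d / c) u) ((2 * d) % c)
        (fun v hv => Multiset.eq_of_mem_replicate hv ▸ hu) (by
          intro e
          have := congrArg Multiset.card e
          rw [Multiset.card_replicate, Multiset.card_zero] at this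
          omega) (by rw [Multiset.card_replicate]; omega)
      have : m % i ≤ w₀ := by
        rw [hmw, Nat.add_mul_mod_self_left]; exact Nat.mod_le _ _
      omega
    have him : i ≤ m := by
      by_contra h
      exact hA (by rw [Nat.mod_eq_of_lt (not_le.mp h)]; exact hemod)
    refine ⟨him, not_lt.mp hA, ?_⟩
    by_contra hcon
    rw [not_or, not_le, Nat.not_odd_iff_even] at hcon
    obtain ⟨hev, hS⟩ := hcon
    obtain rfl : c = i := by rw [hc, if_pos hev]
    rw [← hcard] at hS
    set K := 2 * d / c with hK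
    set μ := m / c with hμ
    set S := (factorSet F r).card with hSdef
    have hμ1 : 1 ≤ μ := Nat.div_pos him hc0
    have hK2 : 2 * μ ≤ K := by
      rw [hK, Nat.le_div_iff_mul_le hc0]
      have := Nat.div_mul_le_self m c
      rw [← hμ] at this
      calc 2 * μ * c = 2 * (μ * c) := by ring
        _ ≤ 2 * d := by omega
    have hS1 : 1 ≤ S := by
      have h := card_factorSet (F := F) (p := p) (r := r) hrp
      rcases Nat.eq_zero_or_pos S with e | e
      · rw [← hSdef, e, zero_mul] at h; omega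
      · exact e
    set o := min (K + 2 - 2 * μ) S with ho
    obtain ⟨T, hTS, hTc⟩ := Finset.exists_subset_card_eq (s := factorSet F r) (n := o) (by omega)
    obtain ⟨g₁, hg₁⟩ := Finset.card_pos.mp (show 0 < T.card by omega)
    let L : Multiset F[X] := Multiset.replicate (2 * (μ - 1)) g₁ + T.val
    have hLmem : ∀ u ∈ L, u ∈ factorSet F r := fun u hu => by
      rcases Multiset.mem_add.mp hu with hu | hu
      · rw [Multiset.eq_of_mem_replicate hu]; exact hTS hg₁
      · exact hTS hu
    have hLa : ∀ u ∈ L, Atom r c u := fun u hu => by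
      obtain ⟨v, hv, hdv, -⟩ := atom_of_factor hr2 hrp hi hi0 hc (hLmem u hu)
      obtain ⟨h1, h2, h3, -⟩ := factor_facts hrp hi (hLmem u hu)
      have e : v = u := Polynomial.eq_of_monic_of_dvd_of_natDegree_le h1 hv.1 hdv (by rw [hv.2.1, h3])
      rwa [e] at hv
    have hLc : L.card = 2 * (μ - 1) + o := by
      rw [Multiset.card_add, Multiset.card_replicate, ← hTc]; rfl
    have hLK : K ≤ L.card + 1 ∧ L.card ≤ K := by omega
    have hdm := Nat.div_add_mod (2 * d) c
    have hlt := Nat.mod_lt (2 * d) hc0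
    rw [← hK] at hdm
    have hmul1 : c * L.card ≤ c * K := Nat.mul_le_mul_left _ hLK.2
    have hmul2 : c * K ≤ c * L.card + c := by
      calc c * K ≤ c * (L.card + 1) := Nat.mul_le_mul_left _ hLK.1
        _ = _ := by ring
    obtain ⟨w₀, l, hw, hmw, hl⟩ := derange L (2 * d - c * L.card) hLa (by
      intro e
      have := congrArg Multiset.card e
      rw [hLc, Multiset.card_zero] at this
      omega) (by omega)
    have hw0 : w₀ < c := by omega
    have hsum : μ = ∑ g ∈ factorSet F r, l g := by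
      rw [hμ, hmw, Nat.add_mul_div_left _ _ hc0, Nat.div_eq_of_lt hw0, zero_add]
    have hsmall : ∑ g ∈ factorSet F r, l g ≤ μ - 1 := by
      have hbd : ∀ g ∈ factorSet F r, 2 * l g ≤ L.count g := fun g hg => by
        obtain ⟨k, hk, hkd⟩ := hl g hg ((self_dual hr2 hrp hi hi0 hg).mpr hev)
        refine hk.trans (count_bound (fun u hu => ?_) (mem_factorSet g hg).1 (mem_factorSet g hg).2.1 hkd)
        exact ⟨(mem_factorSet u (hLmem u hu)).1, (mem_factorSet u (hLmem u hu)).2.1⟩
      have hT1 : ∀ g, T.val.count g ≤ 1 := fun g => Multiset.nodup_iff_count_le_one.mp T.nodup g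
      rw [Finset.sum_eq_single g₁]
      · have := hbd g₁ (hTS hg₁)
        rw [Multiset.count_add, Multiset.count_replicate_self] at this
        have := hT1 g₁
        omega
      · intro g hg hne
        have := hbd g hg
        rw [Multiset.count_add, Multiset.count_replicate, if_neg (Ne.symm hne)] at this
        have := hT1 g
        omega
      · exact fun h => absurd (hTS hg₁) h
    omega
  · rintro (⟨h, -⟩ | ⟨-, -, him, hcond, hcond'⟩) x ⟨z, hz⟩ -
    · exact absurd h hr2
    have hz2 := hzz x z hz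
    have hzmem : z • (x : Matrix (Fin d ⊕ Fin d) (Fin d ⊕ Fin d) F) ∈ Matrix.symplecticGroup (Fin d) F :=
      (mem_symplectic_iff_form _).2 fun u v => by
        rw [Matrix.smul_mulVec, Matrix.smul_mulVec, map_smul, map_smul, LinearMap.smul_apply, smul_eq_mul, smul_eq_mul,
          ← mul_assoc, hz2, one_mul]
        exact (mem_symplectic_iff_form _).1 x.2 u v
    set y : Matrix.symplecticGroup (Fin d) F := ⟨_, hzmem⟩ with hydef
    have hy : y ^ r = 1 := by
      refine Subtype.ext ?_
      rw [SubmonoidClass.coe_pow, hydef, _root_.smul_pow, ← SubmonoidClass.coe_pow, hz, smul_smul, Submonoid.coe_one]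
      obtain ⟨k, hk⟩ := hrodd
      rw [← pow_succ, hk, show 2 * k + 1 + 1 = 2 * (k + 1) by ring, pow_mul, sq, hz2, one_pow, one_smul]
    suffices h : ∃ W : Submodule F (Fin d ⊕ Fin d → F), Module.finrank F W = m ∧ (∀ u ∈ W, ∀ v ∈ W, sympBilin d F u v = 0) ∧
        W.map (Matrix.toLin' (y : Matrix (Fin d ⊕ Fin d) (Fin d ⊕ Fin d) F)) ≤ W by
      obtain ⟨W, h1, h2, h3⟩ := h
      refine ⟨W, h1, h2, ?_⟩
      rwa [hydef, show Matrix.toLin' (z • (x : Matrix (Fin d ⊕ Fin d) (Fin d ⊕ Fin d) F)) = z • Matrix.toLin' (x : Matrix (Fin d ⊕ Fin d) (Fin d ⊕ Fin d) F) from map_smul _ _ _,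
        Submodule.map_smul _ _ _ (fun e => by rw [e, mul_zero] at hz2; exact zero_ne_one hz2)] at h3
    obtain ⟨e, L, hL, hf⟩ := exists_atoms hr2 hrp hi hi0 hc _ _ (Matrix.charpoly_monic _) rfl
      (DualCount.factors_of_pow_eq_one _ (by rw [← SubmonoidClass.coe_pow, hy, Submonoid.coe_one])) (dual_charpoly y)
    obtain ⟨hm1, hdeg, -, -, -⟩ := atoms_facts hL
    have he : e + c * L.card = 2 * d := by
      have := congrArg natDegree hf
      rw [Matrix.charpoly_natDegree_eq_dim, ((monic_X_sub_C 1).pow e).natDegree_mul hm1, (monic_X_sub_C 1).natDegree_pow,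
        natDegree_X_sub_C, mul_one, hdeg] at this
      simp at this
      omega
    have hemin : (2 * d) % c ≤ e := by
      rw [← he, Nat.add_mul_mod_self_left]; exact Nat.mod_le _ _
    have hmdm := Nat.div_add_mod m i
    have hdegH : ∀ H : Multiset F[X], (∀ g ∈ H, g ∈ factorSet F r) → H.prod.natDegree = i * H.card := fun H hH => by
      rw [natDegree_multiset_prod_of_monic _ fun g hg => (mem_factorSet g (hH g hg)).1,
        Multiset.map_congr rfl fun g hg => (factor_facts hrp hi (hH g hg)).2.2.1, Multiset.map_const', Multiset.sum_replicate,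
        smul_eq_mul, mul_comm]
    -- the common last step
    have finish : ∀ (H : Multiset F[X]) (L₂ : Multiset F[X]), (∀ g ∈ H, g ∈ factorSet F r) → i * H.card ≤ m →
        2 * (m - i * H.card) ≤ e → (∀ u ∈ L₂, Atom r c u) → L.prod = H.prod * dual (RingHom.id F) H.prod * L₂.prod →
        c * L₂.card + 2 * (i * H.card) = c * L.card →
        ∃ W : Submodule F (Fin d ⊕ Fin d → F), Module.finrank F W = m ∧ (∀ u ∈ W, ∀ v ∈ W, sympBilin d F u v = 0) ∧
          W.map (Matrix.toLin' (y : Matrix (Fin d ⊕ Fin d) (Fin d ⊕ Fin d) F)) ≤ W := by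
      intro H L₂ hH hle hs hL₂ hprod hcnt
      set s := m - i * H.card with hsdef
      refine stable_blocks (p := p) hr2 hrp hmd (Multiset.replicate s (X - C 1) + H) L₂ (e - 2 * s) ?_ ?_ hL₂
        (by omega) y hy ?_
      · intro g hg
        rcases Multiset.mem_add.mp hg with hg | hg
        · rw [Multiset.eq_of_mem_replicate hg]
          exact ⟨monic_X_sub_C 1, by rw [dvd_iff_isRoot]; simp⟩
        · exact ⟨(factor_facts hrp hi (hH g hg)).1, (factor_facts hrp hi (hH g hg)).2.2.2⟩
      · rw [Multiset.prod_add, Multiset.prod_replicate,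
          ((monic_X_sub_C 1).pow s).natDegree_mul (monic_mprod _ fun g hg => (mem_factorSet g (hH g hg)).1),
          (monic_X_sub_C 1).natDegree_pow, natDegree_X_sub_C, hdegH H hH]
        omega
      · rw [hf, hprod, Multiset.prod_add, Multiset.prod_replicate, dual_mul, dual_pow, dual_X_sub_one]
        conv_lhs => rw [show e = s + s + (e - 2 * s) by omega, pow_add, pow_add]
        ring
    by_cases hev : Even i
    · obtain rfl : c = i := by rw [hc, if_pos hev]
      obtain ⟨P, R, hR, hLPR⟩ := exists_pairs L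
      have hLm : ∀ u ∈ L, u ∈ factorSet F r := fun u hu => atom_even hrp hi hi0 (hL u hu)
      have hRS : R.card ≤ (r - 1) / c := by
        rw [← hcard, ← Multiset.toFinset_card_of_nodup hR]
        exact Finset.card_le_card fun u hu => hLm u (by rw [hLPR]; exact Multiset.mem_add.mpr (Or.inr (Multiset.mem_toFinset.mp hu)))
      obtain ⟨A, B, hAB, hAc⟩ := exists_split P (j := min (m / c) P.card) (min_le_right _ _)
      have hAm : ∀ g ∈ A, g ∈ factorSet F r := fun g hg => hLm g (by
        rw [hLPR, ← hAB]; simp [hg])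
      have hcond'' : (r - 1) / c + 2 * (m / c) ≤ 2 * d / c := hcond'.resolve_left (Nat.not_odd_iff_even.mpr hev)
      have hLcard : L.card = P.card + P.card + R.card := by rw [hLPR]; simp
      have hdual : dual (RingHom.id F) A.prod = A.prod := by
        rw [dual_prod, Multiset.map_congr rfl fun g hg => (self_dual hr2 hrp hi hi0 (hAm g hg)).mpr hev, Multiset.map_id']
      have hle : c * A.card ≤ m := by
        rw [hAc]; exact (Nat.mul_le_mul_left c (min_le_left _ _)).trans (Nat.mul_div_le m c)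
      refine finish A (B + B + R) hAm hle ?_ (fun u hu => hL u ?_) ?_ ?_
      · rw [hAc]
        rcases le_total (m / c) P.card with h | h
        · rw [min_eq_left h]; omega
        · rw [min_eq_right h]
          have hdd := Nat.div_add_mod (2 * d) c
          have h1 : c * R.card + c * (2 * (m / c)) ≤ c * (2 * d / c) := by
            rw [← Nat.mul_add]; exact Nat.mul_le_mul_left c (by omega)
          have h3 : c * L.card = c * P.card + c * P.card + c * R.card := by rw [hLcard]; ring
          have h4 : c * (2 * (m / c)) = 2 * (c * (m / c)) := by ring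
          have h5 : c * P.card ≤ c * (m / c) := Nat.mul_le_mul_left c h
          omega
      · rw [hLPR, ← hAB]
        rcases Multiset.mem_add.mp hu with hu | hu
        · rcases Multiset.mem_add.mp hu with hu | hu <;> simp [hu]
        · simp [hu]
      · rw [hLPR, ← hAB, hdual]
        simp only [Multiset.prod_add]
        ring
      · rw [hLPR, ← hAB]
        simp only [Multiset.card_add]
        ring
    · have hc' : c = 2 * i := by rw [hc, if_neg hev]
      obtain ⟨H, hH, hLH⟩ := atom_halves hr2 hrp hi hi0 hev hc' L hL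
      obtain ⟨A, B, hAB, hAc⟩ := exists_split H (j := min (m / i) H.card) (min_le_right _ _)
      have hAm : ∀ g ∈ A, g ∈ factorSet F r := fun g hg => hH g (by rw [← hAB]; simp [hg])
      have hLcard : L.card = H.card := by rw [hLH, Multiset.card_map]
      refine finish A (B.map fun g => g * dual (RingHom.id F) g) hAm
        (by rw [hAc]; exact (Nat.mul_le_mul_left i (min_le_left _ _)).trans (Nat.mul_div_le m i)) ?_
        (fun u hu => hL u ?_) ?_ ?_
      · rw [hAc]
        rcases le_total (m / i) H.card with h | h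
        · rw [min_eq_left h]; omega
        · rw [min_eq_right h]
          have h3 : c * L.card = 2 * (i * H.card) := by rw [hLcard, hc']; ring
          omega
      · rw [hLH, ← hAB, Multiset.map_add]
        exact Multiset.mem_add.mpr (Or.inr hu)
      · rw [hLH, ← hAB, Multiset.map_add, Multiset.prod_add, Multiset.prod_map_mul, Multiset.map_id', ← dual_prod]
      · rw [hLH, ← hAB, Multiset.map_add, Multiset.card_add, Multiset.card_map, Multiset.card_map, hc']
        ring

end Finite

end Cfsg.Lib.Classical.SpIso
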