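import Mathlib
import Cfsg.Prelude.Def_GeometricClasses
import Cfsg.Agent.Classical.Symp.IsotropicDerangement

/-! Elements of prime order of the symplectic group and the normaliser of an extension field. -/

set_option autoImplicit false
set_option linter.unusedSimpArgs false
set_option linter.unusedSectionVars false
set_option linter.unusedVariables false
set_option linter.style.haveILetI false
set_option linter.flexible false

namespace Cfsg.Lib.Classical.SpExtDer

open Cfsg.Lib.Classical Cfsg.Lib.PrimeOrderPoly Cfsg.Lib.DualPoly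
open Polynomial
open scoped Matrix

universe u

variable {F : Type u} [Field F] {d k : ℕ}

local notation "MM" => Matrix (Fin d ⊕ Fin d) (Fin d ⊕ Fin d) F
local notation "VV" => (Fin d ⊕ Fin d → F)

/-- The data of an extension field. -/
structure Ext (k : ℕ) (K : Subalgebra F (Matrix (Fin d ⊕ Fin d) (Fin d ⊕ Fin d) F)) : Prop where
  pr : k.Prime
  field : Cfsg.Geo.IsFieldSubalgebra k K
  adj : ∀ a ∈ K, ∀ u v : VV, sympBilin d F (a *ᵥ u) v = sympBilin d F u (a *ᵥ v)
  alt : ∀ a ∈ K, ∀ v : VV, sympBilin d F (a *ᵥ v) v = 0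

variable {K : Subalgebra F (Matrix (Fin d ⊕ Fin d) (Fin d ⊕ Fin d) F)}

theorem Ext.comm (S : Ext k K) (a b : K) : a * b = b * a := Subtype.ext (S.field.comm a a.2 b b.2)

theorem Ext.pos_dim (S : Ext k K) : 0 < d := by
  rcases Nat.eq_zero_or_pos d with h | h
  · exfalso
    subst h
    have h1 := S.field.finrank_eq
    haveI : Subsingleton K := ⟨fun a b => Subtype.ext (Subsingleton.elim _ _)⟩
    rw [Module.finrank_zero_of_subsingleton] at h1
    exact S.pr.ne_zero h1.symm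
  · exact h

theorem Ext.isField (S : Ext k K) : IsField K where
  exists_pair_ne := ⟨0, 1, fun h => by
    have := congrFun (congrFun (congrArg Subtype.val h) (Sum.inl ⟨0, S.pos_dim⟩)) (Sum.inl ⟨0, S.pos_dim⟩)
    simp at this⟩
  mul_comm := S.comm
  mul_inv_cancel := fun {a} ha => by
    obtain ⟨y, hy, h⟩ := S.field.inv a a.2 (fun h => ha (Subtype.ext h))
    exact ⟨⟨y, hy⟩, Subtype.ext h⟩

theorem Ext.inj (S : Ext k K) {a : MM} (ha : a ∈ K) {v : VV} (h : a *ᵥ v = 0) : a = 0 ∨ v = 0 := by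
  by_cases ha0 : a = 0
  · exact Or.inl ha0
  obtain ⟨y, hy, hay⟩ := S.field.inv a ha ha0
  have hya : y * a = 1 := by rw [S.field.comm y hy a ha, hay]
  have := congrArg (fun w => y *ᵥ w) h
  rw [Matrix.mulVec_mulVec, hya, Matrix.one_mulVec, Matrix.mulVec_zero] at this
  exact Or.inr this

theorem Ext.scal (S : Ext k K) (a b : MM) (ha : a ∈ K) (hb : b ∈ K) (u v : VV) :
    sympBilin d F (a *ᵥ u) (b *ᵥ v) = sympBilin d F ((b * a) *ᵥ u) v := by
  rw [← S.adj b hb, Matrix.mulVec_mulVec]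

theorem Ext.tau_nondeg (S : Ext k K) {τ : Module.Dual F K} (hτ : τ ≠ 0) {a : K} (h : ∀ b : K, τ (a * b) = 0) : a = 0 := by
  by_contra ha
  obtain ⟨y, hy⟩ := S.isField.mul_inv_cancel ha
  refine hτ (LinearMap.ext fun b => ?_)
  have := h (y * b)
  rw [← mul_assoc, hy, one_mul] at this
  exact this

/-- A frame over the extension field. -/
theorem exists_frame (S : Ext k K) (τ : Module.Dual F K) (hτ : τ ≠ 0) : ∀ (D : ℕ) (U : Submodule F VV),
    Module.finrank F U = D → (∀ a ∈ K, ∀ u ∈ U, a *ᵥ u ∈ U) → ((sympBilin d F).restrict U).Nondegenerate →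
    ∃ (e : ℕ) (v w : Fin e → VV), D = 2 * k * e ∧ (∀ l, v l ∈ U ∧ w l ∈ U) ∧
      (∀ (a b : K) l j, sympBilin d F (a.1 *ᵥ v l) (b.1 *ᵥ v j) = 0 ∧ sympBilin d F (a.1 *ᵥ w l) (b.1 *ᵥ w j) = 0 ∧
        sympBilin d F (a.1 *ᵥ w l) (b.1 *ᵥ v j) = if l = j then τ (a * b) else 0) := by
  classical
  intro D
  induction D using Nat.strong_induction_on with
  | _ D ih =>
  intro U hU hUK hUn
  rcases Nat.eq_zero_or_pos D with rfl | hD
  · exact ⟨0, Fin.elim0, Fin.elim0, by simp, fun l => l.elim0, fun a b l => l.elim0⟩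
  obtain ⟨v, hv, hv0⟩ : ∃ v ∈ U, v ≠ 0 := Submodule.exists_mem_ne_zero_of_ne_bot fun e => by
    rw [e, finrank_bot] at hU; omega
  set B := sympBilin d F with hB
  let L : K →ₗ[F] Module.Dual F U :=
    { toFun := fun a => (B.flip (a.1 *ᵥ v)).comp U.subtype
      map_add' := fun a b => by
        refine LinearMap.ext fun w => ?_
        simp [Matrix.add_mulVec, map_add]
      map_smul' := fun c a => by
        refine LinearMap.ext fun w => ?_
        simp [Matrix.smul_mulVec, map_smul] }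
  have hL : Function.Injective L := by
    rw [injective_iff_map_eq_zero]
    intro a ha
    have h0 : (⟨a.1 *ᵥ v, hUK a a.2 v hv⟩ : U) = 0 := hUn.2 _ fun w => LinearMap.congr_fun ha w
    rcases S.inj a.2 (congrArg Subtype.val h0) with h | h
    · exact Subtype.ext h
    · exact absurd h hv0
  obtain ⟨ξ, hξ⟩ := LinearMap.dualMap_surjective_of_injective hL τ
  obtain ⟨⟨w, hw⟩, rfl⟩ := (Module.evalEquiv F U).surjective ξ
  have hwv : ∀ a : K, B w (a.1 *ᵥ v) = τ a := fun a => by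
    rw [← hξ]; rfl
  have hwv' : ∀ a b : K, B (a.1 *ᵥ w) (b.1 *ᵥ v) = τ (a * b) := fun a b => by
    rw [S.adj _ a.2, Matrix.mulVec_mulVec, ← hwv]; rfl
  have hvv : ∀ (u : VV) (a b : K), B (a.1 *ᵥ u) (b.1 *ᵥ u) = 0 := fun u a b => by
    rw [S.scal _ _ a.2 b.2]; exact S.alt _ (K.mul_mem b.2 a.2) u
  let φ : (K × K) →ₗ[F] VV :=
    { toFun := fun p => p.1.1 *ᵥ v + p.2.1 *ᵥ w
      map_add' := fun p q => by simp [Matrix.add_mulVec]; abel
      map_smul' := fun c p => by simp [Matrix.smul_mulVec, smul_add] }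
  have hφv : ∀ (p : K × K) (c : K), B (φ p) (c.1 *ᵥ v) = τ (p.2 * c) := fun p c => by
    show B (p.1.1 *ᵥ v + p.2.1 *ᵥ w) (c.1 *ᵥ v) = _
    rw [map_add, LinearMap.add_apply, hvv, hwv', zero_add]
  have hφw : ∀ (p : K × K) (c : K), B (φ p) (c.1 *ᵥ w) = -τ (c * p.1) := fun p c => by
    show B (p.1.1 *ᵥ v + p.2.1 *ᵥ w) (c.1 *ᵥ w) = _
    rw [map_add, LinearMap.add_apply, hvv, add_zero, ← (sympBilin_isAlt d F).neg_eq (c.1 *ᵥ w), hwv']
  have hker : ∀ p : K × K, (∀ x ∈ LinearMap.range φ, B (φ p) x = 0) → p = 0 := fun p hp => by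
    have h1 : p.2 = 0 := S.tau_nondeg hτ fun c => by
      rw [← hφv p c]; exact hp _ ⟨(c, 0), by simp [φ]⟩
    have h2 : p.1 = 0 := S.tau_nondeg hτ fun c => by
      have := hp (c.1 *ᵥ w) ⟨((0 : K), c), by simp [φ]⟩
      rw [hφw, neg_eq_zero, S.comm] at this
      exact this
    exact Prod.ext h2 h1
  have hφinj : Function.Injective φ := (injective_iff_map_eq_zero φ).2 fun p hp => hker p fun x _ => by
    rw [hp]; simp
  set P := LinearMap.range φ with hP
  have hPU : P ≤ U := by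
    rintro _ ⟨p, rfl⟩
    exact add_mem (hUK _ p.1.2 v hv) (hUK _ p.2.2 w hw)
  have hPn : (B.restrict P).Nondegenerate := by
    have key : ∀ x : P, (∀ y : P, B x.1 y.1 = 0) → x = 0 := by
      rintro ⟨_, p, rfl⟩ hx
      refine Subtype.ext (show φ p = 0 from ?_)
      rw [hker p fun y hy => hx ⟨y, hy⟩, map_zero]
    refine ⟨fun x hx => key x hx, fun x hx => key x fun y => ?_⟩
    rw [hB, ← (sympBilin_isAlt d F).neg_eq y.1 x.1, neg_eq_zero]
    exact hx y
  have hPd : Module.finrank F P = 2 * k := by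
    rw [LinearMap.finrank_range_of_inj hφinj, Module.finrank_prod, S.field.finrank_eq]; ring
  have hcompl := LinearMap.BilinForm.isCompl_orthogonal_of_restrict_nondegenerate (sympBilin_isAlt d F).isRefl hPn
  set U' := B.orthogonal P ⊓ U with hU'
  have hsum : P ⊔ U' = U := by rw [hU', ← sup_inf_assoc_of_le _ hPU, hcompl.sup_eq_top, top_inf_eq]
  have hdim := Submodule.finrank_sup_add_finrank_inf_eq P U'
  rw [hsum, (hcompl.disjoint.mono_right inf_le_left).eq_bot, finrank_bot, hPd, hU] at hdim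
  have hU'K : ∀ a ∈ K, ∀ u ∈ U', a *ᵥ u ∈ U' := by
    rintro a ha u ⟨hu, hu'⟩
    refine ⟨fun x hx => ?_, hUK a ha u hu'⟩
    show B x (a *ᵥ u) = 0
    rw [← S.adj a ha]
    obtain ⟨p, rfl⟩ := hx
    refine hu _ ⟨(⟨a, ha⟩ * p.1, ⟨a, ha⟩ * p.2), ?_⟩
    show (a * p.1.1) *ᵥ v + (a * p.2.1) *ᵥ w = a *ᵥ (p.1.1 *ᵥ v + p.2.1 *ᵥ w)
    rw [Matrix.mulVec_add, Matrix.mulVec_mulVec, Matrix.mulVec_mulVec]
  have hU'n : (B.restrict U').Nondegenerate := by
    have key : ∀ x : U', (∀ y : U', B x.1 y.1 = 0) → x = 0 := fun x hx => by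
      refine Subtype.ext (show x.1 = 0 from congrArg Subtype.val ((hUn.1 ⟨x.1, x.2.2⟩) fun y => ?_))
      show B x.1 y.1 = 0
      obtain ⟨a, ha, b, hb, hab⟩ := Submodule.mem_sup.mp (show y.1 ∈ P ⊔ U' from hsum.symm ▸ y.2)
      rw [← hab, map_add, hx ⟨b, hb⟩, add_zero, hB, ← (sympBilin_isAlt d F).neg_eq a x.1, neg_eq_zero]
      exact x.2.1 a ha
    refine ⟨fun x hx => key x hx, fun x hx => key x fun y => ?_⟩
    rw [hB, ← (sympBilin_isAlt d F).neg_eq y.1 x.1, neg_eq_zero]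
    exact hx y
  obtain ⟨e, vs, ws, he, hmem, hform⟩ := ih (Module.finrank F U') (by have := S.pr.pos; omega) U' rfl hU'K hU'n
  have hPU' : ∀ p ∈ P, ∀ u ∈ U', B p u = 0 ∧ B u p = 0 := fun p hp u hu =>
    ⟨hu.1 p hp, by rw [← (sympBilin_isAlt d F).neg_eq, neg_eq_zero]; exact hu.1 p hp⟩
  have hvP : ∀ a : K, a.1 *ᵥ v ∈ P := fun a => ⟨(a, 0), by simp [φ]⟩
  have hwP : ∀ a : K, a.1 *ᵥ w ∈ P := fun a => ⟨(0, a), by simp [φ]⟩
  refine ⟨e + 1, Fin.cons v vs, Fin.cons w ws, by rw [Nat.mul_succ]; omega, fun l => ?_, fun a b l j => ?_⟩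
  · refine Fin.cases ⟨hv, hw⟩ (fun l => ?_) l
    simp only [Fin.cons_succ]
    exact ⟨(hmem l).1.2, (hmem l).2.2⟩
  · refine Fin.cases ?_ (fun l => ?_) l <;> refine Fin.cases ?_ (fun j => ?_) j <;>
      simp only [Fin.cons_zero, Fin.cons_succ]
    · exact ⟨hvv v a b, hvv w a b, by simpa using hwv' a b⟩
    · refine ⟨(hPU' _ (hvP a) _ (hU'K _ b.2 _ (hmem j).1)).1, (hPU' _ (hwP a) _ (hU'K _ b.2 _ (hmem j).2)).1, ?_⟩
      rw [if_neg (Fin.succ_ne_zero j).symm]
      exact (hPU' _ (hwP a) _ (hU'K _ b.2 _ (hmem j).1)).1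
    · refine ⟨(hPU' _ (hvP b) _ (hU'K _ a.2 _ (hmem l).1)).2, (hPU' _ (hwP b) _ (hU'K _ a.2 _ (hmem l).2)).2, ?_⟩
      rw [if_neg (Fin.succ_ne_zero l)]
      exact (hPU' _ (hvP b) _ (hU'K _ a.2 _ (hmem l).2)).2
    · simp only [Fin.succ_inj]
      exact hform a b l j

theorem Ext.exists_tau (S : Ext k K) : ∃ τ : Module.Dual F K, τ ≠ 0 := by
  haveI : Nontrivial K := ⟨S.isField.exists_pair_ne⟩
  exact exists_ne 0

/-- Invariant nondegenerate subspaces have dimension divisible by `2k`. -/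
theorem Ext.dim_dvd (S : Ext k K) {U : Submodule F VV} (hUK : ∀ a ∈ K, ∀ u ∈ U, a *ᵥ u ∈ U)
    (hUn : ((sympBilin d F).restrict U).Nondegenerate) : 2 * k ∣ Module.finrank F U := by
  obtain ⟨τ, hτ⟩ := S.exists_tau
  obtain ⟨e, v, w, he, -⟩ := exists_frame S τ hτ _ U rfl hUK hUn
  exact ⟨e, he⟩

set_option maxHeartbeats 1600000 in
/-- Coordinates over the extension field. -/
theorem Ext.exists_coord (S : Ext k K) (τ : Module.Dual F K) (hτ : τ ≠ 0) :
    ∃ (e : ℕ) (Φ : (Fin e ⊕ Fin e → K) ≃ₗ[F] VV), d = k * e ∧ (∀ (a : K) x, Φ (fun l => a * x l) = a.1 *ᵥ Φ x) ∧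
      ∀ x y, sympBilin d F (Φ x) (Φ y) = τ (∑ l, (x (Sum.inr l) * y (Sum.inl l) - x (Sum.inl l) * y (Sum.inr l))) := by
  classical
  obtain ⟨e, v, w, he, -, hform⟩ := exists_frame S τ hτ _ ⊤ rfl (fun _ _ _ _ => trivial)
    ⟨fun u hu => Subtype.ext ((sympBilin_nondegenerate d F).1 u.1 fun z => hu ⟨z, trivial⟩),
      fun u hu => Subtype.ext ((sympBilin_nondegenerate d F).2 u.1 fun z => hu ⟨z, trivial⟩)⟩
  rw [finrank_top, finrank_sympSpace] at he
  let Φ : (Fin e ⊕ Fin e → K) →ₗ[F] VV :=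
    { toFun := fun x => ∑ l, ((x (Sum.inl l)).1 *ᵥ v l + (x (Sum.inr l)).1 *ᵥ w l)
      map_add' := fun x y => by
        rw [← Finset.sum_add_distrib]
        refine Finset.sum_congr rfl fun l _ => ?_
        simp [Matrix.add_mulVec]; abel
      map_smul' := fun c x => by
        rw [RingHom.id_apply, Finset.smul_sum]
        refine Finset.sum_congr rfl fun l _ => ?_
        simp [Matrix.smul_mulVec, smul_add] }
  have hB : ∀ x y, sympBilin d F (Φ x) (Φ y) =
      τ (∑ l, (x (Sum.inr l) * y (Sum.inl l) - x (Sum.inl l) * y (Sum.inr l))) := fun x y => by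
    show sympBilin d F (∑ l, ((x (Sum.inl l)).1 *ᵥ v l + (x (Sum.inr l)).1 *ᵥ w l))
      (∑ l, ((y (Sum.inl l)).1 *ᵥ v l + (y (Sum.inr l)).1 *ᵥ w l)) = _
    rw [map_sum (sympBilin d F), LinearMap.sum_apply, map_sum τ]
    refine Finset.sum_congr rfl fun l _ => ?_
    rw [map_sum, Finset.sum_eq_single l]
    · have h3 : sympBilin d F ((x (Sum.inl l)).1 *ᵥ v l) ((y (Sum.inr l)).1 *ᵥ w l) = -τ (x (Sum.inl l) * y (Sum.inr l)) := by
        rw [← (sympBilin_isAlt d F).neg_eq ((y (Sum.inr l)).1 *ᵥ w l), (hform _ _ l l).2.2, if_pos rfl, S.comm]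
      rw [map_add, map_add, LinearMap.add_apply, LinearMap.add_apply, (hform _ _ l l).1, (hform _ _ l l).2.1,
        (hform _ _ l l).2.2, if_pos rfl, h3, map_sub]
      ring
    · intro j _ hj
      have h3 : sympBilin d F ((x (Sum.inl l)).1 *ᵥ v l) ((y (Sum.inr j)).1 *ᵥ w j) = 0 := by
        rw [← (sympBilin_isAlt d F).neg_eq ((y (Sum.inr j)).1 *ᵥ w j), (hform _ _ j l).2.2, if_neg hj, neg_zero]
      rw [map_add, map_add, LinearMap.add_apply, LinearMap.add_apply, (hform _ _ l j).1, (hform _ _ l j).2.1,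
        (hform _ _ l j).2.2, if_neg (Ne.symm hj), h3]
      simp
    · simp
  have hinj : Function.Injective Φ := (injective_iff_map_eq_zero Φ).2 fun x hx => by
    funext o
    rcases o with l | l
    · refine S.tau_nondeg hτ fun b => ?_
      have h := hB x (Pi.single (Sum.inr l) b)
      rw [hx, map_zero, LinearMap.zero_apply, Finset.sum_eq_single l] at h
      · simpa using h
      · intro j _ hj; simp [Pi.single_eq_of_ne, hj]
      · simp
    · refine S.tau_nondeg hτ fun b => ?_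
      have h := hB x (Pi.single (Sum.inl l) b)
      rw [hx, map_zero, LinearMap.zero_apply, Finset.sum_eq_single l] at h
      · simpa using h.symm
      · intro j _ hj; simp [Pi.single_eq_of_ne, hj]
      · simp
  have hdim : Module.finrank F (Fin e ⊕ Fin e → K) = Module.finrank F VV := by
    rw [Module.finrank_pi_fintype (R := F) (ι := Fin e ⊕ Fin e) (M := fun _ => K), Finset.sum_const, Finset.card_univ, Fintype.card_sum, Fintype.card_fin,
      S.field.finrank_eq, finrank_sympSpace, he, smul_eq_mul]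
    ring
  refine ⟨e, LinearMap.linearEquivOfInjective Φ hinj hdim, by rw [mul_assoc] at he; omega, fun a x => ?_, fun x y => hB x y⟩
  show ∑ l, ((a * x (Sum.inl l)).1 *ᵥ v l + (a * x (Sum.inr l)).1 *ᵥ w l) =
    a.1 *ᵥ ∑ l, ((x (Sum.inl l)).1 *ᵥ v l + (x (Sum.inr l)).1 *ᵥ w l)
  rw [← Matrix.mulVecLin_apply, map_sum]
  refine Finset.sum_congr rfl fun l _ => ?_
  simp [Matrix.mulVecLin_apply, Matrix.mulVec_add, Matrix.mulVec_mulVec]

/-- The symplectic group inside `GL`. -/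
noncomputable def toGL (d : ℕ) (F : Type u) [Field F] : Matrix.symplecticGroup (Fin d) F →* GL (Fin d ⊕ Fin d) F :=
  (Matrix.symplecticGroup (Fin d) F).subtype.toHomUnits

theorem toGL_val (A : Matrix.symplecticGroup (Fin d) F) : ((toGL d F A : GL (Fin d ⊕ Fin d) F) : MM) = A := rfl

theorem toGL_injective : Function.Injective (toGL d F) := fun A B h => Subtype.ext (congrArg Units.val h)

theorem mem_spGL_iff (g : GL (Fin d ⊕ Fin d) F) :
    g ∈ Cfsg.spGL d F ↔ (g : MM) ∈ Matrix.symplecticGroup (Fin d) F := by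
  rw [mem_symplectic_iff_form]
  simp only [sympBilin_eq_sympForm]
  rfl

theorem range_toGL : (toGL d F).range = Cfsg.spGL d F := by
  ext g
  constructor
  · rintro ⟨A, rfl⟩
    exact (mem_spGL_iff _).mpr A.2
  · intro hg
    exact ⟨⟨g, (mem_spGL_iff _).mp hg⟩, Units.ext rfl⟩

theorem toGL_mem (A : Matrix.symplecticGroup (Fin d) F) : toGL d F A ∈ Cfsg.spGL d F := (mem_spGL_iff _).mpr A.2

theorem card_spGL : Nat.card (Cfsg.spGL d F) = Nat.card (Matrix.symplecticGroup (Fin d) F) := by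
  rw [← range_toGL, ← Nat.card_congr (MonoidHom.ofInjective toGL_injective).toEquiv]

theorem mem_normalizer_of_comm {g : GL (Fin d ⊕ Fin d) F} (h : ∀ a ∈ K, (g : MM) * a = a * (g : MM)) :
    g ∈ Cfsg.Geo.subalgebraNormalizer K := fun b => by
  have h1 : (g : MM) * ((g⁻¹ : GL (Fin d ⊕ Fin d) F) : MM) = 1 := by
    rw [← Units.val_mul, mul_inv_cancel, Units.val_one]
  have h2 : ((g⁻¹ : GL (Fin d ⊕ Fin d) F) : MM) * (g : MM) = 1 := by
    rw [← Units.val_mul, inv_mul_cancel, Units.val_one]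
  constructor
  · intro hb; rw [h b hb, mul_assoc, h1, mul_one]; exact hb
  · intro hb
    have e : b = ((g⁻¹ : GL (Fin d ⊕ Fin d) F) : MM) * ((g : MM) * b * ((g⁻¹ : GL (Fin d ⊕ Fin d) F) : MM)) * (g : MM) := by
      simp only [mul_assoc, h2, mul_one]
      rw [← mul_assoc, h2, one_mul]
    rw [e, mul_assoc, ← h _ hb, ← mul_assoc, h2, one_mul]
    exact hb

variable [Fintype F]

/-- The lower bound for the stabiliser. -/
theorem Ext.card_dvd (S : Ext k K) : ∃ e, d = k * e ∧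
    (Fintype.card F ^ k) ^ (e ^ 2) * ∏ l ∈ Finset.range e, ((Fintype.card F ^ k) ^ (2 * (l + 1)) - 1) ∣
      Nat.card (Cfsg.Geo.subalgebraNormalizer K ⊓ Cfsg.spGL d F : Subgroup (GL (Fin d ⊕ Fin d) F)) := by
  classical
  obtain ⟨τ, hτ⟩ := S.exists_tau
  obtain ⟨e, Φ, he, hsmul, hform⟩ := S.exists_coord τ hτ
  refine ⟨e, he, ?_⟩
  letI : Field K := S.isField.toField
  haveI : Finite K := Module.finite_of_finite F
  have hq : Nat.card K = Fintype.card F ^ k := by
    rw [Module.natCard_eq_pow_finrank (K := F) (V := K), S.field.finrank_eq, Nat.card_eq_fintype_card]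
  rw [← hq, ← card_symplecticGroup (F := K) e]
  let op : Matrix (Fin e ⊕ Fin e) (Fin e ⊕ Fin e) K → Module.End F VV := fun A =>
    Φ.toLinearMap ∘ₗ (Matrix.mulVecLin A).restrictScalars F ∘ₗ Φ.symm.toLinearMap
  have hop : ∀ A v, op A v = Φ (A *ᵥ Φ.symm v) := fun A v => rfl
  have hopm : ∀ A A', op (A * A') = op A * op A' := fun A A' => LinearMap.ext fun v => by
    rw [Module.End.mul_apply, hop, hop, hop, LinearEquiv.symm_apply_apply, Matrix.mulVec_mulVec]
  have hop1 : op 1 = 1 := LinearMap.ext fun v => by simp [hop]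
  let ψ : Matrix.symplecticGroup (Fin e) K →* MM :=
    { toFun := fun A => LinearMap.toMatrix' (op A.1)
      map_one' := by
        show LinearMap.toMatrix' (op (1 : Matrix (Fin e ⊕ Fin e) (Fin e ⊕ Fin e) K)) = 1
        rw [hop1, Module.End.one_eq_id, LinearMap.toMatrix'_id]
      map_mul' := fun A A' => by
        show LinearMap.toMatrix' (op (A.1 * A'.1)) = _
        rw [hopm, LinearMap.toMatrix'_mul] }
  let χ := ψ.toHomUnits
  have hχ : ∀ A v, ((χ A : GL (Fin d ⊕ Fin d) F) : MM) *ᵥ v = Φ ((A : Matrix (Fin e ⊕ Fin e) (Fin e ⊕ Fin e) K) *ᵥ Φ.symm v) :=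
    fun A v => (LinearMap.toMatrix'_mulVec _ _).trans (hop _ v)
  have hinj : Function.Injective χ := fun A A' h => Subtype.ext (Matrix.ext_of_mulVec_single fun o => by
    have := congrArg (fun g : GL (Fin d ⊕ Fin d) F => (g : MM) *ᵥ Φ (Pi.single o 1)) h
    simp only [hχ, LinearEquiv.symm_apply_apply] at this
    exact Φ.injective this)
  have hle : χ.range ≤ Cfsg.Geo.subalgebraNormalizer K ⊓ Cfsg.spGL d F := by
    rintro _ ⟨A, rfl⟩
    refine ⟨mem_normalizer_of_comm fun a ha => Matrix.ext_of_mulVec_single fun o => ?_,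
      (mem_spGL_iff _).mpr ((mem_symplectic_iff_form _).2 fun u v => ?_)⟩
    · rw [← Matrix.mulVec_mulVec, ← Matrix.mulVec_mulVec, hχ, hχ]
      obtain ⟨x, hx⟩ := Φ.surjective (Pi.single o 1)
      rw [← hx, show a *ᵥ Φ x = Φ (fun l => (⟨a, ha⟩ : K) * x l) from (hsmul ⟨a, ha⟩ x).symm,
        LinearEquiv.symm_apply_apply, LinearEquiv.symm_apply_apply]
      rw [show (fun l => (⟨a, ha⟩ : K) * x l) = (⟨a, ha⟩ : K) • x from rfl, Matrix.mulVec_smul]
      exact hsmul ⟨a, ha⟩ _
    · obtain ⟨x, rfl⟩ := Φ.surjective u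
      obtain ⟨y, rfl⟩ := Φ.surjective v
      rw [hχ, hχ, LinearEquiv.symm_apply_apply, LinearEquiv.symm_apply_apply, hform, hform, ← sympBilin_eq_sum,
        ← sympBilin_eq_sum, (mem_symplectic_iff_form _).1 A.2]
  rw [Nat.card_congr (MonoidHom.ofInjective hinj).toEquiv]
  exact Subgroup.card_dvd_of_le hle

variable {p r : ℕ} [Fact p.Prime] [CharP F p] [Fact r.Prime]

/-- The index avoids primes with compatible orders. -/
theorem Ext.not_dvd_index (S : Ext k K) (hr2 : r ≠ 2) (hrp : r ≠ p) {i c : ℕ}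
    (hi : i = orderOf (Fintype.card F : ZMod r)) (hc : c = if Even i then i else 2 * i) (hkc : 2 * k ∣ c) :
    ¬ r ∣ (Cfsg.Geo.subalgebraNormalizer K).relIndex (Cfsg.spGL d F) := by
  classical
  intro hr
  have hrp' : r.Prime := Fact.out
  obtain ⟨e, he, hdvd⟩ := S.card_dvd
  set q := Fintype.card F with hq
  have hsmall : ∀ j : ℕ, ¬ k ∣ j → ¬ r ∣ q ^ (2 * j) - 1 := fun j hj h => by
    have h1 := (PrimeOrd.dvd_pow_sub_one _).mp h
    rw [← hi] at h1
    have h2 : c ∣ 2 * j := by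
      rw [hc]
      split_ifs with hev
      · exact h1
      · exact Nat.Coprime.mul_dvd_of_dvd_of_dvd (Nat.coprime_two_left.mpr (Nat.not_even_iff_odd.mp hev)) (dvd_mul_right 2 _) h1
    exact hj (Nat.dvd_of_mul_dvd_mul_left (by norm_num : (0 : ℕ) < 2) (hkc.trans h2))
  obtain ⟨k', hk'⟩ : ∃ k', k = k' + 1 := ⟨k - 1, by have := S.pr.pos; omega⟩
  have hsplit : ∀ e : ℕ, ∃ A, ¬ r ∣ A ∧ ∏ j ∈ Finset.range (k * e), (q ^ (2 * (j + 1)) - 1) =
      A * ∏ l ∈ Finset.range e, ((q ^ k) ^ (2 * (l + 1)) - 1) := by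
    intro e
    induction e with
    | zero => exact ⟨1, hrp'.not_dvd_one, by simp⟩
    | succ e ih =>
      obtain ⟨A, hA, hAe⟩ := ih
      refine ⟨A * ∏ s ∈ Finset.range k', (q ^ (2 * (k * e + s + 1)) - 1), fun h => ?_, ?_⟩
      · rcases hrp'.dvd_mul.mp h with h | h
        · exact hA h
        · obtain ⟨s, hs, hd'⟩ := (Prime.dvd_finsetProd_iff hrp'.prime _).mp h
          rw [Finset.mem_range] at hs
          refine hsmall _ (fun hks => ?_) hd'
          have := Nat.le_of_dvd (by omega) ((Nat.dvd_add_right (dvd_mul_right k e)).mp (show k ∣ k * e + (s + 1) by rwa [← add_assoc]))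
          omega
      · rw [Nat.mul_succ, Finset.prod_range_add, hAe, Finset.prod_range_succ _ e]
        nth_rw 2 [hk']
        rw [Finset.prod_range_succ, ← pow_mul, show k * e + k' + 1 = k * (e + 1) by rw [Nat.mul_succ]; omega,
          show k * (2 * (e + 1)) = 2 * (k * (e + 1)) by ring]
        ring
  obtain ⟨A, hA, hAe⟩ := hsplit e
  obtain ⟨m, hm⟩ := hdvd
  set H := Cfsg.Geo.subalgebraNormalizer K
  set G := Cfsg.spGL d F
  have hcard : Nat.card G = H.relIndex G * Nat.card (H ⊓ G : Subgroup (GL (Fin d ⊕ Fin d) F)) := by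
    rw [Subgroup.relIndex, mul_comm, ← Subgroup.card_mul_index (H.subgroupOf G)]
    congr 1
    rw [← Subgroup.inf_subgroupOf_right]
    exact Nat.card_congr (Subgroup.subgroupOfEquivOfLe inf_le_right).toEquiv
  have hAd : ∏ j ∈ Finset.range d, (q ^ (2 * (j + 1)) - 1) = A * ∏ l ∈ Finset.range e, ((q ^ k) ^ (2 * (l + 1)) - 1) := by
    rw [← hAe, ← he]
  rw [card_spGL, card_symplecticGroup, hm, Nat.card_eq_fintype_card, ← hq, hAd] at hcard
  have hpos : 0 < ∏ l ∈ Finset.range e, ((q ^ k) ^ (2 * (l + 1)) - 1) := Finset.prod_pos fun l _ =>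
    Nat.sub_pos_of_lt (Nat.one_lt_pow (by omega) (Nat.one_lt_pow S.pr.ne_zero Fintype.one_lt_card))
  have h1 : r ∣ q ^ (d ^ 2) * A := by
    refine hr.trans ⟨(q ^ k) ^ e ^ 2 * m, Nat.eq_of_mul_eq_mul_right hpos ?_⟩
    rw [mul_assoc, hcard]
    ring
  rcases hrp'.dvd_mul.mp h1 with h | h
  · exact PrimeOrd.not_dvd_card hrp' hrp (hrp'.dvd_of_dvd_pow h)
  · exact hA h

/-- A moved map with small rank is linear over the field. -/
theorem Ext.comm_of_fix (S : Ext k K) {g : GL (Fin d ⊕ Fin d) F} (hg : g ∈ Cfsg.Geo.subalgebraNormalizer K)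
    (hfix : d < Module.finrank F (PrimeOrd.fix (Matrix.toLin' (g : MM)))) : ∀ a ∈ K, (g : MM) * a = a * (g : MM) := by
  intro a ha
  set a' := (g : MM) * a * ((g⁻¹ : GL (Fin d ⊕ Fin d) F) : MM) with ha'
  have hga : (g : MM) * a = a' * (g : MM) := by
    rw [ha', mul_assoc, ← Units.val_mul, inv_mul_cancel, Units.val_one, mul_one]
  by_contra hne
  have hdiff : a' - a ≠ 0 := fun h => hne (by rw [hga, sub_eq_zero.mp h])
  have ha0 : a ≠ 0 := fun h => hne (by rw [h, mul_zero, zero_mul])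
  set W := PrimeOrd.fix (Matrix.toLin' (g : MM))
  have hinj : Function.Injective (Matrix.toLin' a) := (injective_iff_map_eq_zero _).2 fun v hv =>
    (S.inj ha (by rwa [Matrix.toLin'_apply] at hv)).resolve_left ha0
  have hinf : W ⊓ W.map (Matrix.toLin' a) = ⊥ := by
    rw [eq_bot_iff]
    rintro _ ⟨hw, v, hv, rfl⟩
    rw [SetLike.mem_coe, PrimeOrd.mem_fix, Matrix.toLin'_apply, Matrix.toLin'_apply] at hw
    rw [SetLike.mem_coe, PrimeOrd.mem_fix, Matrix.toLin'_apply] at hv
    rw [Matrix.mulVec_mulVec, hga, ← Matrix.mulVec_mulVec, hv] at hw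
    have h0 : v = 0 := (S.inj (K.sub_mem ((hg a).mp ha) ha) (by rw [Matrix.sub_mulVec, hw, sub_self])).resolve_left hdiff
    simp [h0]
  have h1 := Submodule.finrank_sup_add_finrank_inf_eq W (W.map (Matrix.toLin' a))
  rw [hinf, finrank_bot, (Submodule.equivMapOfInjective _ hinj W).symm.finrank_eq] at h1
  have h2 := Submodule.finrank_le (W ⊔ W.map (Matrix.toLin' a))
  rw [finrank_sympSpace] at h2
  omega

/-- An element of prime order different from the degree is linear over the field. -/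
theorem Ext.comm_of_order (S : Ext k K) {g : GL (Fin d ⊕ Fin d) F} (hg : g ∈ Cfsg.Geo.subalgebraNormalizer K)
    (hgr : (g : MM) ^ r = 1) (hrk : r ≠ k) : ∀ a ∈ K, (g : MM) * a = a * (g : MM) := by
  classical
  letI : Field K := S.isField.toField
  haveI : Finite K := Module.finite_of_finite F
  have h1 : (g : MM) * ((g⁻¹ : GL (Fin d ⊕ Fin d) F) : MM) = 1 := by rw [← Units.val_mul, mul_inv_cancel, Units.val_one]
  have h2 : ((g⁻¹ : GL (Fin d ⊕ Fin d) F) : MM) * (g : MM) = 1 := by rw [← Units.val_mul, inv_mul_cancel, Units.val_one]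
  let f : K →ₐ[F] K :=
    { toFun := fun a => ⟨(g : MM) * a.1 * ((g⁻¹ : GL (Fin d ⊕ Fin d) F) : MM), (hg a.1).mp a.2⟩
      map_one' := Subtype.ext (show (g : MM) * 1 * _ = 1 by rw [mul_one, h1])
      map_mul' := fun a b => Subtype.ext (by
        show (g : MM) * (a.1 * b.1) * _ = ((g : MM) * a.1 * _) * ((g : MM) * b.1 * _)
        simp only [mul_assoc]
        rw [← mul_assoc ((g⁻¹ : GL (Fin d ⊕ Fin d) F) : MM) (g : MM), h2, one_mul])
      map_zero' := Subtype.ext (show (g : MM) * 0 * _ = 0 by simp)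
      map_add' := fun a b => Subtype.ext (show (g : MM) * (a.1 + b.1) * _ = _ by simp [mul_add, add_mul])
      commutes' := fun c => Subtype.ext (by
        show (g : MM) * (algebraMap F MM c) * _ = algebraMap F MM c
        rw [← Algebra.commutes c (g : MM), mul_assoc, h1, mul_one]) }
  let σ : K ≃ₐ[F] K := AlgEquiv.ofBijective f ⟨f.toRingHom.injective, Finite.injective_iff_surjective.mp f.toRingHom.injective⟩
  have hσ : ∀ (j : ℕ) (a : K), ((σ ^ j) a).1 * (g : MM) ^ j = (g : MM) ^ j * a.1 := fun j => by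
    induction j with
    | zero => intro a; simp
    | succ j ih =>
      intro a
      rw [pow_succ σ, AlgEquiv.mul_apply, pow_succ (g : MM), ← mul_assoc, ih]
      show (g : MM) ^ j * ((g : MM) * a.1 * ((g⁻¹ : GL (Fin d ⊕ Fin d) F) : MM)) * (g : MM) = _
      simp only [mul_assoc, h2, mul_one]
  have hσr : σ ^ r = 1 := AlgEquiv.ext fun a => Subtype.ext (by
    have := hσ r a
    rw [hgr, mul_one, one_mul] at this
    rw [this]; rfl)
  have hσk : σ ^ k = 1 := by
    have := pow_card_eq_one' (x := σ)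
    rwa [IsGalois.card_aut_eq_finrank F K, S.field.finrank_eq] at this
  have hone : σ = 1 := orderOf_eq_one_iff.mp (Nat.eq_one_of_dvd_coprimes
    ((Nat.coprime_primes (Fact.out : r.Prime) S.pr).2 hrk) (orderOf_dvd_of_pow_eq_one hσr) (orderOf_dvd_of_pow_eq_one hσk))
  intro a ha
  have := hσ 1 ⟨a, ha⟩
  rw [hone, one_pow, pow_one] at this
  exact this.symm

/-- The moved part of a semisimple element. -/
theorem mov_nondeg (hr : (r : F) ≠ 0) {x : Module.End F VV} (hiso : ∀ u v, sympBilin d F (x u) (x v) = sympBilin d F u v)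
    (hx : x ^ r = 1) : ((sympBilin d F).restrict (LinearMap.range (x - 1))).Nondegenerate := by
  set B := sympBilin d F
  have hss := PrimeOrd.semisimple (c := (1 : F)) hr one_ne_zero (show x ^ r = 1 • 1 by rw [hx, one_smul])
  obtain ⟨C, hC, hcompl⟩ := PrimeOrd.exists_compl hss (PrimeOrd.inv_fix x)
  have hle : LinearMap.range (x - 1) ≤ C := by
    rintro _ ⟨v, rfl⟩
    obtain ⟨a, ha, b, hb, rfl⟩ := Submodule.mem_sup.mp (hcompl.sup_eq_top ▸ Submodule.mem_top (x := v))
    rw [map_add, show (x - 1) a = 0 from ha, zero_add, LinearMap.sub_apply, Module.End.one_apply]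
    exact sub_mem (hC b hb) hb
  have heq : LinearMap.range (x - 1) = C := by
    refine Submodule.eq_of_le_of_finrank_le hle ?_
    have h1 := LinearMap.finrank_range_add_finrank_ker (x - 1)
    have h2 := Submodule.finrank_add_eq_of_isCompl hcompl
    unfold PrimeOrd.fix at h2
    omega
  have horth : ∀ a ∈ PrimeOrd.fix x, ∀ c ∈ LinearMap.range (x - 1), B a c = 0 := by
    rintro a ha _ ⟨v, rfl⟩
    rw [LinearMap.sub_apply, Module.End.one_apply, map_sub]
    nth_rw 1 [← PrimeOrd.mem_fix.mp ha]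
    rw [hiso, sub_self]
  have key : ∀ u : LinearMap.range (x - 1), (∀ v : LinearMap.range (x - 1), B u.1 v.1 = 0) → u = 0 := fun u hu =>
    Subtype.ext ((sympBilin_nondegenerate d F).1 u.1 fun v => by
      obtain ⟨a, ha, b, hb, rfl⟩ := Submodule.mem_sup.mp (hcompl.sup_eq_top ▸ Submodule.mem_top (x := v))
      show B u.1 (a + b) = 0
      rw [map_add, hu ⟨b, heq.symm ▸ hb⟩, add_zero, ← (sympBilin_isAlt d F).neg_eq, neg_eq_zero]
      exact horth a ha u.1 u.2)
  refine ⟨fun u hu => key u hu, fun u hu => key u fun v => ?_⟩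
  rw [← (sympBilin_isAlt d F).neg_eq v.1 u.1, neg_eq_zero]
  exact hu v

theorem range_inv {g : GL (Fin d ⊕ Fin d) F} (hcomm : ∀ a ∈ K, (g : MM) * a = a * (g : MM)) :
    ∀ a ∈ K, ∀ u ∈ LinearMap.range (Matrix.toLin' (g : MM) - 1), a *ᵥ u ∈ LinearMap.range (Matrix.toLin' (g : MM) - 1) := by
  rintro a ha _ ⟨v, rfl⟩
  refine ⟨a *ᵥ v, ?_⟩
  simp only [LinearMap.sub_apply, Module.End.one_apply, Matrix.toLin'_apply, Matrix.mulVec_sub, Matrix.mulVec_mulVec,
    hcomm a ha]

theorem fix_conj (g : GL (Fin d ⊕ Fin d) F) (x : GL (Fin d ⊕ Fin d) F) :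
    Module.finrank F (PrimeOrd.fix (Matrix.toLin' ((g⁻¹ * x * g : GL (Fin d ⊕ Fin d) F) : MM))) =
      Module.finrank F (PrimeOrd.fix (Matrix.toLin' (x : MM))) := by
  have h1 : (g : MM) * ((g⁻¹ : GL (Fin d ⊕ Fin d) F) : MM) = 1 := by rw [← Units.val_mul, mul_inv_cancel, Units.val_one]
  have h2 : ((g⁻¹ : GL (Fin d ⊕ Fin d) F) : MM) * (g : MM) = 1 := by rw [← Units.val_mul, inv_mul_cancel, Units.val_one]
  let T : VV ≃ₗ[F] VV := LinearEquiv.ofLinear (Matrix.toLin' (g : MM)) (Matrix.toLin' ((g⁻¹ : GL (Fin d ⊕ Fin d) F) : MM))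
    (by rw [← Matrix.toLin'_mul, h1, Matrix.toLin'_one]) (by rw [← Matrix.toLin'_mul, h2, Matrix.toLin'_one])
  rw [← LinearEquiv.finrank_map_eq T (PrimeOrd.fix (Matrix.toLin' ((g⁻¹ * x * g : GL (Fin d ⊕ Fin d) F) : MM)))]
  refine congrArg (fun S : Submodule F VV => Module.finrank F S) (Submodule.ext fun w => ?_)
  obtain ⟨v, rfl⟩ := T.surjective w
  rw [PrimeOrd.mem_fix, Submodule.mem_map_equiv, LinearEquiv.symm_apply_apply, PrimeOrd.mem_fix]
  show _ ↔ (x : MM).toLin' ((g : MM).toLin' v) = (g : MM).toLin' v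
  simp only [Matrix.toLin'_apply, Units.val_mul, Matrix.mulVec_mulVec]
  constructor
  · intro h
    have := congrArg (fun w => (g : MM) *ᵥ w) h
    simpa only [Matrix.mulVec_mulVec, ← mul_assoc, h1, one_mul] using this
  · intro h
    have := congrArg (fun w => ((g⁻¹ : GL (Fin d ⊕ Fin d) F) : MM) *ᵥ w) h
    simpa only [Matrix.mulVec_mulVec, ← mul_assoc, h2, Matrix.one_mulVec] using this

theorem not_scalar {x : MM} {f : ℕ} (hf : f = Module.finrank F (PrimeOrd.fix (Matrix.toLin' x))) (h0 : 0 < f)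
    (h1 : f < 2 * d) (z : F) : x ≠ z • 1 := fun e => by
  subst e
  by_cases hz : z = 1
  · subst hz
    rw [one_smul, Matrix.toLin'_one, show PrimeOrd.fix (LinearMap.id : Module.End F VV) = ⊤ from
      Submodule.ext fun v => by simp [PrimeOrd.mem_fix], finrank_top, finrank_sympSpace] at hf
    omega
  · rw [show PrimeOrd.fix (Matrix.toLin' (z • (1 : MM))) = ⊥ from by
      rw [eq_bot_iff]
      intro v hv
      rw [PrimeOrd.mem_fix, Matrix.toLin'_apply, Matrix.smul_mulVec, Matrix.one_mulVec] at hv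
      have : (z - 1) • v = 0 := by rw [sub_smul, one_smul, hv, sub_self]
      exact (Submodule.mem_bot F).mpr ((smul_eq_zero.mp this).resolve_left (sub_ne_zero.mpr hz)), finrank_bot] at hf
    omega

/-- A semisimple derangement. -/
theorem Ext.derange (S : Ext k K) (hrp : r ≠ p) (A : Matrix.symplecticGroup (Fin d) F) (hA : (A : MM) ^ r = 1) {c : ℕ}
    (hfix : Module.finrank F (PrimeOrd.fix (Matrix.toLin' (A : MM))) + c = 2 * d) (hkc : ¬ 2 * k ∣ c)
    (hcase : r ≠ k ∨ c < d) : ∀ g ∈ Cfsg.spGL d F, g⁻¹ * toGL d F A * g ∉ Cfsg.Geo.subalgebraNormalizer K := by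
  intro g hg hy
  set y := g⁻¹ * toGL d F A * g with hydef
  have hyG : y ∈ Cfsg.spGL d F := mul_mem (mul_mem (inv_mem hg) (toGL_mem A)) hg
  have hyr : (y : MM) ^ r = 1 := by
    rw [← Units.val_pow_eq_pow_val, hydef, show g⁻¹ * toGL d F A * g = MulAut.conj g⁻¹ (toGL d F A) by simp,
      ← map_pow, show toGL d F A ^ r = 1 from Units.ext (by rw [Units.val_pow_eq_pow_val, toGL_val, hA, Units.val_one]),
      map_one, Units.val_one]
  have hyfix : Module.finrank F (PrimeOrd.fix (Matrix.toLin' (y : MM))) + c = 2 * d := by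
    rw [hydef, fix_conj, toGL_val, hfix]
  have hcomm : ∀ a ∈ K, (y : MM) * a = a * (y : MM) := by
    rcases hcase with h | h
    · exact S.comm_of_order hy hyr h
    · exact S.comm_of_fix hy (by omega)
  have hiso : ∀ u v, sympBilin d F (Matrix.toLin' (y : MM) u) (Matrix.toLin' (y : MM) v) = sympBilin d F u v := fun u v => by
    rw [Matrix.toLin'_apply, Matrix.toLin'_apply]; exact (mem_symplectic_iff_form _).1 ((mem_spGL_iff y).mp hyG) u v
  have h1 := S.dim_dvd (range_inv hcomm) (mov_nondeg (r := r) (cast_prime_ne_zero (Fact.out : r.Prime) hrp) hiso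
    (by rw [← Matrix.toLin'_pow, hyr, Matrix.toLin'_one]; rfl))
  have h2 := LinearMap.finrank_range_add_finrank_ker (Matrix.toLin' (y : MM) - 1)
  rw [finrank_sympSpace] at h2
  unfold PrimeOrd.fix at hyfix
  exact hkc (by rwa [show Module.finrank F (LinearMap.range (Matrix.toLin' (y : MM) - 1)) = c by omega] at h1)

theorem Ext.k_le (S : Ext k K) : k ∣ d ∨ k = 2 := by
  obtain ⟨τ, hτ⟩ := S.exists_tau
  obtain ⟨e, -, he, -⟩ := S.exists_coord τ hτ
  exact Or.inl ⟨e, he⟩

/-- Square roots of scalars in four dimensions. -/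
theorem charpoly_square {F : Type u} [Field F] [Fintype F] {p : ℕ} [Fact p.Prime] [CharP F p] (hp2 : p ≠ 2)
    (A : Matrix.symplecticGroup (Fin 2) F) {z : F} (hzz : z * z = 1)
    (hA : (A : Matrix (Fin 2 ⊕ Fin 2) (Fin 2 ⊕ Fin 2) F) ^ 2 = z • 1)
    (hns : ∀ c : F, (A : Matrix (Fin 2 ⊕ Fin 2) (Fin 2 ⊕ Fin 2) F) ≠ c • 1) :
    (A : Matrix (Fin 2 ⊕ Fin 2) (Fin 2 ⊕ Fin 2) F).charpoly = (X ^ 2 - C z) ^ 2 := by
  classical
  haveI : Fact (Nat.Prime 2) := ⟨Nat.prime_two⟩
  have h2 : (2 : F) ≠ 0 := Ring.two_ne_zero (by rw [ringChar.eq F p]; exact hp2)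
  have hz0 : z ≠ 0 := fun e => by rw [e, mul_zero] at hzz; exact zero_ne_one hzz
  set φ := Matrix.toLin' (A : Matrix (Fin 2 ⊕ Fin 2) (Fin 2 ⊕ Fin 2) F) with hφ
  rw [← Matrix.charpoly_toLin', ← hφ]
  have hφ2 : φ ^ 2 = z • 1 := by rw [hφ, ← Matrix.toLin'_pow, hA, map_smul, Matrix.toLin'_one]; rfl
  have hiso : ∀ u v, sympBilin 2 F (φ u) (φ v) = sympBilin 2 F u v := fun u v => by
    rw [hφ, Matrix.toLin'_apply, Matrix.toLin'_apply]; exact (mem_symplectic_iff_form _).1 A.2 u v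
  have hm : (X ^ 2 - C z : F[X]).Monic := monic_X_pow_sub_C z two_ne_zero
  by_cases hsq : IsSquare z
  · obtain ⟨ι, hι⟩ := hsq
    have hι0 : ι ≠ 0 := fun e => hz0 (by rw [hι, e, mul_zero])
    have hss := PrimeOrd.semisimple (r := 2) (by exact_mod_cast h2) hz0 hφ2
    set B := sympBilin 2 F with hB
    set P := LinearMap.ker (φ - ι • 1) with hP
    set Q := LinearMap.ker (φ - (-ι) • 1) with hQ
    have memP : ∀ v, v ∈ P ↔ φ v = ι • v := fun v => by simp [hP, sub_eq_zero]
    have memQ : ∀ v, v ∈ Q ↔ φ v = (-ι) • v := fun v => by simp [hQ, add_eq_zero_iff_eq_neg]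
    have hff : ∀ v, φ (φ v) = z • v := fun v => by
      rw [← Module.End.mul_apply, ← sq, hφ2]; rfl
    have hsup : P ⊔ Q = ⊤ := by
      rw [eq_top_iff]
      intro v _
      have e : v = (2 * ι)⁻¹ • (ι • v + φ v) + (2 * ι)⁻¹ • (ι • v - φ v) := by
        rw [← smul_add, show ι • v + φ v + (ι • v - φ v) = (2 * ι) • v by rw [two_mul, add_smul]; abel, smul_smul,
          inv_mul_cancel₀ (mul_ne_zero h2 hι0), one_smul]
      rw [e]
      refine Submodule.add_mem_sup (Submodule.smul_mem _ _ ?_) (Submodule.smul_mem _ _ ?_)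
      · rw [memP, map_add, map_smul, hff, smul_add, smul_smul, ← hι, add_comm]
      · rw [memQ, map_sub, map_smul, hff, neg_smul, smul_sub, smul_smul, ← hι, neg_sub]
    have hinf : P ⊓ Q = ⊥ := by
      rw [eq_bot_iff]
      rintro v ⟨hv, hv'⟩
      rw [SetLike.mem_coe, memP] at hv
      rw [SetLike.mem_coe, memQ, hv] at hv'
      have h9 : (2 * ι) • v = 0 := by
        rw [two_mul, add_smul]; nth_rw 2 [hv']; rw [← add_smul, add_neg_cancel, zero_smul]
      exact (Submodule.mem_bot F).mpr ((smul_eq_zero.mp h9).resolve_left (mul_ne_zero h2 hι0))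
    have hsum := Submodule.finrank_sup_add_finrank_inf_eq P Q
    rw [hsup, hinf, finrank_top, finrank_bot, finrank_sympSpace] at hsum
    have hpair : ∀ κ μ : F, κ * μ ≠ 1 → ∀ u v, φ u = κ • u → φ v = μ • v → B u v = 0 := fun κ μ hne u v hu hv => by
      have h1 := hiso u v
      rw [hu, hv, map_smul, map_smul, LinearMap.smul_apply, smul_eq_mul, smul_eq_mul] at h1
      have h3 : (μ * κ - 1) * B u v = 0 := by linear_combination h1
      exact (mul_eq_zero.mp h3).resolve_left (sub_ne_zero.mpr (by rw [mul_comm]; exact hne))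
    have hdims : Module.finrank F P = 2 ∧ Module.finrank F Q = 2 := by
      rcases mul_self_eq_one_iff.mp hzz with rfl | rfl
      · -- nondegenerate eigenspaces
        have hne : ι * -ι ≠ 1 := fun e => h2 (by linear_combination -e - hι.symm)
        have nd : ∀ U U' : Submodule F (Fin 2 ⊕ Fin 2 → F), U ⊔ U' = ⊤ → (∀ u ∈ U, ∀ v ∈ U', B u v = 0) →
            (B.restrict U).Nondegenerate := fun U U' hsup h => by
          have key : ∀ u : U, (∀ v : U, B u.1 v.1 = 0) → u = 0 := fun u hu => Subtype.ext <|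
            (sympBilin_nondegenerate 2 F).1 u.1 fun w => by
              obtain ⟨a, ha, b, hb, rfl⟩ := Submodule.mem_sup.mp (hsup ▸ Submodule.mem_top (x := w))
              rw [map_add, hu ⟨a, ha⟩, h u.1 u.2 b hb, add_zero]
          refine ⟨fun u hu => key u hu, fun u hu => key u fun v => ?_⟩
          rw [hB, ← (sympBilin_isAlt 2 F).neg_eq v.1 u.1, neg_eq_zero]
          exact hu v
        obtain ⟨a, ha⟩ := Classical.even_finrank_of_symplectic (B := B.restrict P) (fun v => sympBilin_isAlt 2 F _)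
          (nd P Q hsup fun u hu v hv => hpair ι (-ι) hne u v ((memP u).mp hu) ((memQ v).mp hv))
        obtain ⟨b, hb⟩ := Classical.even_finrank_of_symplectic (B := B.restrict Q) (fun v => sympBilin_isAlt 2 F _)
          (nd Q P (by rw [sup_comm, hsup]) fun u hu v hv =>
            hpair (-ι) ι (by rw [mul_comm]; exact hne) u v ((memQ u).mp hu) ((memP v).mp hv))
        have hz : ∀ κ : F, ∀ S : Submodule F (Fin 2 ⊕ Fin 2 → F), Module.finrank F S = 4 →
            (∀ v, v ∈ S ↔ φ v = κ • v) → False := fun κ S hS hmem => by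
          refine hns κ (Matrix.toLin'.injective (LinearMap.ext fun v => ?_))
          have hv : v ∈ S := by
            rw [show S = ⊤ from Submodule.eq_top_of_finrank_eq (by rw [hS, finrank_sympSpace])]; trivial
          rw [← hφ, (hmem v).mp hv, map_smul, Matrix.toLin'_one]; rfl
        have h4P : Module.finrank F P ≠ 4 := fun h => hz ι P h memP
        have h4Q : Module.finrank F Q ≠ 4 := fun h => hz (-ι) Q h memQ
        omega
      · -- isotropic eigenspaces
        have hle : ∀ (κ : F) (S : Submodule F (Fin 2 ⊕ Fin 2 → F)), κ * κ ≠ 1 → (∀ v, v ∈ S ↔ φ v = κ • v) →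
            Module.finrank F S ≤ 2 := fun κ S hκ hmem => by
          have h := SpIso.two_mul_le (B := B) (U := ⊤) (W := S)
            ⟨fun u hu => Subtype.ext ((sympBilin_nondegenerate 2 F).1 u.1 fun v => hu ⟨v, trivial⟩),
              fun u hu => Subtype.ext ((sympBilin_nondegenerate 2 F).2 u.1 fun v => hu ⟨v, trivial⟩)⟩ le_top
            fun u hu v hv => hpair κ κ hκ u v ((hmem u).mp hu) ((hmem v).mp hv)
          rw [finrank_top, finrank_sympSpace] at h
          omega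
        have hne : ι * ι ≠ 1 := fun e => h2 (by linear_combination -e + hι.symm)
        have := hle ι P hne memP
        have := hle (-ι) Q (by rw [neg_mul_neg]; exact hne) memQ
        omega
    have hfac : ∀ κ : F, Module.finrank F (LinearMap.ker (φ - κ • 1)) = 2 → (X - C κ) ^ 2 ∣ φ.charpoly := fun κ hκ => by
      obtain ⟨n, hn, hd⟩ := SpIso.ker_pow hss (monic_X_sub_C κ) (irreducible_X_sub_C κ)
      rw [map_sub, aeval_X, aeval_C, Algebra.algebraMap_eq_smul_one, hκ, natDegree_X_sub_C, one_mul] at hd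
      rwa [← hd] at hn
    have hcop : IsCoprime ((X - C ι) ^ 2) ((X - C (-ι)) ^ 2 : F[X]) :=
      (isCoprime_X_sub_C_of_isUnit_sub (isUnit_iff_ne_zero.2 (by
        rw [sub_neg_eq_add, ← two_mul]; exact mul_ne_zero h2 hι0))).pow
    have hprod : ((X : F[X]) - C ι) ^ 2 * (X - C (-ι)) ^ 2 = (X ^ 2 - C z) ^ 2 := by
      rw [← mul_pow, hι, map_mul, map_neg]; congr 1; ring
    refine eq_of_monic_of_dvd_of_natDegree_le (hm.pow 2) (LinearMap.charpoly_monic φ) (hprod ▸ hcop.mul_dvd (hfac ι hdims.1) (hfac (-ι) hdims.2)) ?_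
    rw [LinearMap.charpoly_natDegree, finrank_sympSpace, natDegree_pow, natDegree_X_pow_sub_C]
  · have hirr : Irreducible (X ^ 2 - C z : F[X]) := by
      rw [Polynomial.irreducible_iff_roots_eq_zero_of_degree_le_three (by rw [natDegree_X_pow_sub_C])
        (by rw [natDegree_X_pow_sub_C]; norm_num)]
      refine Multiset.eq_zero_of_forall_notMem fun a ha => hsq ⟨a, ?_⟩
      rw [mem_roots hm.ne_zero] at ha
      simp only [IsRoot, eval_sub, eval_pow, eval_X, eval_C] at ha
      linear_combination -ha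
    obtain ⟨j, hj, hdim⟩ := SpIso.chi_pow φ hm hirr (by
      rw [map_sub, map_pow, aeval_X, aeval_C, hφ2, Algebra.algebraMap_eq_smul_one, sub_self])
    rw [finrank_sympSpace, natDegree_X_pow_sub_C] at hdim
    rw [hj, show j = 2 by omega]

end Cfsg.Lib.Classical.SpExtDer
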