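import Mathlib
import Cfsg.Agent.Classical.Symp.Simple
import Cfsg.Agent.Classical.Symp.Decomp

set_option autoImplicit false
set_option linter.unusedVariables false
set_option linter.unusedSimpArgs false
set_option linter.style.haveILetI false

/-! Maximal subgroups of symplectic groups through the set of transvection centres of an overgroup. -/

namespace Cfsg.Lib.Classical

universe u v

variable {F : Type u} [Field F] {V : Type v} [AddCommGroup V] [Module F V]
  {B : LinearMap.BilinForm F V}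

/-- The vectors whose whole transvection group lies in `H`. -/
def transCentres (hA : B.IsAlt) (H : Subgroup (BilinIsom B)) : Set V :=
  {v | ∀ c : F, sympT hA v c ∈ H}

theorem transCentres_zero (hA : B.IsAlt) (H : Subgroup (BilinIsom B)) :
    (0 : V) ∈ transCentres hA H := fun c => by rw [sympT_zero_vec]; exact H.one_mem

theorem transCentres_smul {hA : B.IsAlt} {H : Subgroup (BilinIsom B)} {v : V}
    (hv : v ∈ transCentres hA H) (a : F) : a • v ∈ transCentres hA H :=
  fun c => by rw [sympT_smul]; exact hv _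

theorem transCentres_map {hA : B.IsAlt} {H : Subgroup (BilinIsom B)} {v : V}
    (hv : v ∈ transCentres hA H) {g : BilinIsom B} (hg : g ∈ H) :
    (g : V ≃ₗ[F] V) v ∈ transCentres hA H :=
  fun c => by rw [← sympT_conj]; exact H.mul_mem (H.mul_mem hg (hv c)) (H.inv_mem hg)

theorem transCentres_span {hA : B.IsAlt} {H : Subgroup (BilinIsom B)} {v w : V}
    (hv : v ∈ transCentres hA H) (hw : w ∈ transCentres hA H) (h : B v w ≠ 0) (a b : F) :
    a • v + b • w ∈ transCentres hA H := by
  rcases eq_or_ne b 0 with rfl | hb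
  · rw [zero_smul, add_zero]; exact transCentres_smul hv a
  have h' : B w v ≠ 0 := fun e => h (hA.isRefl _ _ e)
  have := transCentres_smul (transCentres_map hw (hv (a / (b * B w v)))) b
  rw [sympT_apply, smul_add, smul_smul] at this
  rw [add_comm (a • v)]
  convert this using 3
  field_simp

theorem transCentres_add {hA : B.IsAlt} {H : Subgroup (BilinIsom B)} {v w : V}
    (hv : v ∈ transCentres hA H) (hw : w ∈ transCentres hA H) (h : B v w ≠ 0) :
    v + w ∈ transCentres hA H := by
  simpa using transCentres_span hv hw h 1 1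

theorem transGroupOn_le {hA : B.IsAlt} {H : Subgroup (BilinIsom B)} {S : Set V}
    (h : S ⊆ transCentres hA H) : transGroupOn hA S ≤ H := by
  rw [transGroupOn, Subgroup.closure_le]
  rintro _ ⟨v, hv, c, rfl⟩
  exact h hv c

theorem eq_top_of_transCentres [FiniteDimensional F V] {hA : B.IsAlt} (hB : B.Nondegenerate)
    {H : Subgroup (BilinIsom B)} (h : ∀ v, v ∈ transCentres hA H) : H = ⊤ := by
  rw [eq_top_iff, ← transGroup_eq_top hA hB]
  exact transGroupOn_le (fun v _ => h v)

theorem sympT_mem_subStabilizer (hA : B.IsAlt) {W : Submodule F V} {u : V}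
    (hu : u ∈ B.orthogonal W ∨ u ∈ W) (c : F) : sympT hA u c ∈ subStabilizer B W := by
  intro x
  rw [sympT_apply]
  rcases hu with hu | hu
  · constructor
    · intro hx
      rw [show B x u = 0 from hu x hx, mul_zero, zero_smul, add_zero]; exact hx
    · intro hx
      have h0 : B (x + (c * B x u) • u) u = 0 := hu _ hx
      simp only [map_add, map_smul, LinearMap.add_apply, LinearMap.smul_apply, hA u, smul_zero, add_zero] at h0
      rwa [h0, mul_zero, zero_smul, add_zero] at hx
  · exact (Submodule.add_mem_iff_left _ (W.smul_mem _ hu)).symm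

theorem subset_transCentres_of_subStabilizer_le {hA : B.IsAlt} {H : Subgroup (BilinIsom B)}
    {W : Submodule F V} (h : subStabilizer B W ≤ H) :
    (B.orthogonal W : Set V) ⊆ transCentres hA H ∧ (W : Set V) ⊆ transCentres hA H :=
  ⟨fun u hu c => h (sympT_mem_subStabilizer hA (Or.inl hu) c),
    fun u hu c => h (sympT_mem_subStabilizer hA (Or.inr hu) c)⟩

theorem mem_subStabilizer_of_map_le [FiniteDimensional F V] {W : Submodule F V} {g : BilinIsom B}
    (h : ∀ x ∈ W, (g : V ≃ₗ[F] V) x ∈ W) : g ∈ subStabilizer B W := by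
  intro x
  refine ⟨h x, fun hx => ?_⟩
  have hle : W.map (g : V ≃ₗ[F] V).toLinearMap ≤ W := by rintro _ ⟨y, hy, rfl⟩; exact h y hy
  have := Submodule.eq_of_le_of_finrank_le hle (by rw [LinearEquiv.finrank_map_eq])
  obtain ⟨y, hy, hye⟩ := (this.symm ▸ hx : (g : V ≃ₗ[F] V) x ∈ W.map (g : V ≃ₗ[F] V).toLinearMap)
  exact (g : V ≃ₗ[F] V).injective hye ▸ hy

theorem exists_mem_notMem_two {P : Submodule F V} {W U : Submodule F V} (h1 : ¬ P ≤ W) (h2 : ¬ P ≤ U) :
    ∃ x ∈ P, x ∉ W ∧ x ∉ U := by
  obtain ⟨a, ha, haW⟩ := SetLike.not_le_iff_exists.mp h1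
  obtain ⟨b, hb, hbU⟩ := SetLike.not_le_iff_exists.mp h2
  by_cases h3 : a ∈ U
  · by_cases h4 : b ∈ W
    · refine ⟨a + b, P.add_mem ha hb, fun h => haW ?_, fun h => hbU ?_⟩
      · exact (Submodule.add_mem_iff_left _ h4).mp h
      · exact (Submodule.add_mem_iff_right _ h3).mp h
    · exact ⟨b, hb, h4, hbU⟩
  · exact ⟨a, ha, haW, h3⟩

/-- Some linear automorphism maps a nonzero functional to another one. -/
theorem exists_dual_map {W : Type*} [AddCommGroup W] [Module F W] [FiniteDimensional F W]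
    {φ ψ : Module.Dual F W} (hφ : φ ≠ 0) (hψ : ψ ≠ 0) :
    ∃ A : W ≃ₗ[F] W, ∀ w, φ (A w) = ψ w := by
  let f := (LinearEquiv.toSpanNonzeroSingleton F (Module.Dual F W) φ hφ).symm.trans
    (LinearEquiv.toSpanNonzeroSingleton F (Module.Dual F W) ψ hψ)
  obtain ⟨e, he⟩ := Submodule.exists_linearEquiv_restrict_eq f
  have heφ : e φ = ψ := by
    have h1 := he ⟨φ, Submodule.mem_span_singleton_self φ⟩
    have h2 : (LinearEquiv.toSpanNonzeroSingleton F (Module.Dual F W) φ hφ).symm
        ⟨φ, Submodule.mem_span_singleton_self φ⟩ = 1 := by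
      rw [LinearEquiv.symm_apply_eq]
      exact Subtype.ext (one_smul F φ).symm
    simpa [f, h2] using h1.symm
  refine ⟨((Module.evalEquiv F W).trans e.dualMap).trans (Module.evalEquiv F W).symm, fun w => ?_⟩
  rw [LinearEquiv.trans_apply, Module.apply_evalEquiv_symm_apply]
  simp [heφ]

theorem isCoatom_subStabilizer_isotropic [FiniteDimensional F V] (hA : B.IsAlt) (hB : B.Nondegenerate)
    {W : Submodule F V} (hW0 : W ≠ ⊥) (hW : W ≤ B.orthogonal W) : IsCoatom (subStabilizer B W) := by
  have hWW := LinearMap.BilinForm.orthogonal_orthogonal hB hA.isRefl W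
  obtain ⟨w₀, hw₀, hw₀0⟩ := Submodule.exists_mem_ne_zero_of_ne_bot hW0
  refine ⟨fun htop => ?_, fun H hlt => ?_⟩
  · obtain ⟨d, hd⟩ := exists_hyperbolic_partner hB hw₀0
    have hd0 : d ≠ 0 := by rintro rfl; simp at hd
    obtain ⟨g, hg⟩ := sympIsom_transitive hA hB hw₀0 hd0
    have h := ((htop ▸ Subgroup.mem_top g : g ∈ subStabilizer B W) w₀).mp hw₀
    rw [hg] at h
    have h1 : B w₀ d = 0 := hW h w₀ hw₀
    rw [hd] at h1; exact one_ne_zero h1
  obtain ⟨g, hgH, hgM⟩ := SetLike.exists_of_lt hlt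
  set U := B.orthogonal W with hU
  obtain ⟨hUC, hWC⟩ := subset_transCentres_of_subStabilizer_le (hA := hA) hlt.le
  refine eq_top_of_transCentres hB (hA := hA) fun y => ?_
  by_cases hy : y ∈ U
  · exact hUC hy
  obtain ⟨x, hxU, hxC⟩ : ∃ x, x ∉ U ∧ x ∈ transCentres hA H := by
    by_contra hc
    push Not at hc
    apply hgM
    have hgU : g ∈ subStabilizer B U := mem_subStabilizer_of_map_le fun u hu =>
      by_contra fun h => hc _ h (transCentres_map (hUC hu) hgH)
    refine mem_subStabilizer_of_map_le fun x hx => ?_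
    rw [← hWW] at hx ⊢
    exact subStabilizer_orthogonal (W := U) ⟨g, hgU⟩ hx
  let φ : Module.Dual F W := (B.flip x).domRestrict W
  let ψ : Module.Dual F W := (B.flip y).domRestrict W
  have nz : ∀ z, z ∉ U → (B.flip z).domRestrict W ≠ 0 := fun z hz h => hz fun w hw => by
    have := LinearMap.congr_fun h ⟨w, hw⟩
    exact this
  obtain ⟨A, hAd⟩ := exists_dual_map (φ := ψ) (ψ := φ) (nz y hy) (nz x hxU)
  obtain ⟨h, hh⟩ := exists_sympIsom_extend hA hB (X := W) (W.subtype ∘ₗ A.toLinearMap)
    (W.injective_subtype.comp A.injective) (fun a b => by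
      have e1 : B (A a : V) (A b : V) = 0 := hW (A b).2 _ (A a).2
      have e2 : B (a : V) (b : V) = 0 := hW b.2 _ a.2
      exact e1.trans e2.symm)
  have hhM : h ∈ subStabilizer B W := mem_subStabilizer_of_map_le fun w hw => by
    rw [hh ⟨w, hw⟩]; exact (A ⟨w, hw⟩).2
  set z := (h : V ≃ₗ[F] V) x with hz
  have hzC : z ∈ transCentres hA H := transCentres_map hxC (hlt.le hhM)
  have hu : y - z ∈ U := fun w hw => by
    obtain ⟨a, ha⟩ := A.surjective ⟨w, hw⟩
    have h1 : B w z = B w y := by
      have h2 := hAd a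
      change B (A a : V) y = B (a : V) x at h2
      rw [ha] at h2
      rw [h2, ← BilinIsom.map_form h (a : V) x, hh a]
      simp [hz, ha]
    change B w (y - z) = 0
    rw [map_sub, h1, sub_self]
  obtain ⟨w, hw, hw1, hw2⟩ := exists_mem_ne_zero_pair (D := W) (f := B.flip y) (g := B.flip z)
    (by by_contra hc; push Not at hc; exact hy hc)
    (by
      by_contra hc; push Not at hc
      have hz' : z ∈ U := hc
      exact hy (by simpa using U.add_mem hu hz'))
  -- first reach y + w, then remove w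
  change B w y ≠ 0 at hw1
  change B w z ≠ 0 at hw2
  have hwU : B w (y - z) = 0 := hu w hw
  have step : ∀ u ∈ U, B z u ≠ 0 → z + u ∈ transCentres hA H := fun u hu' hne =>
    transCentres_add hzC (hUC hu') hne
  by_cases hne : B z (y - z) = 0
  · have h1 : z + (y - z + w) ∈ transCentres hA H := step _ (U.add_mem hu (hW hw)) (by
      rw [map_add, hne, zero_add]; exact fun e => hw2 (hA.isRefl _ _ e))
    rw [show z + (y - z + w) = y + w by abel] at h1
    have h2 := transCentres_add h1 (transCentres_smul (hWC hw) (-1)) (by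
      rw [map_smul, map_add, LinearMap.add_apply, hA w, add_zero, smul_eq_mul, neg_one_mul, neg_ne_zero]
      exact fun e => hw1 (hA.isRefl _ _ e))
    rwa [neg_one_smul, add_neg_cancel_right] at h2
  · simpa using step _ hu hne

theorem exists_transGroupOn_move_comp [FiniteDimensional F V] (hA : B.IsAlt) (hB : B.Nondegenerate)
    {U : Submodule F V} (hU : (B.restrict U).Nondegenerate) {a a' : V} (ha : a ∈ U) (ha' : a' ∈ U)
    (ha0 : a ≠ 0) (ha0' : a' ≠ 0) :
    ∃ g ∈ transGroupOn hA (U : Set V), (g : V ≃ₗ[F] V) a = a' ∧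
      ∀ z ∈ B.orthogonal U, (g : V ≃ₗ[F] V) z = z := by
  have hc := LinearMap.BilinForm.isCompl_orthogonal_of_restrict_nondegenerate hA.isRefl hU
  have hn : ∀ z, z ∈ U → z ≠ 0 → z ∉ B.orthogonal U := fun z hz hz0 h =>
    hz0 (Submodule.disjoint_def.mp hc.disjoint z hz h)
  have := exists_transGroup_move hA hB (B.orthogonal U) (hn a ha ha0) (hn a' ha' ha0')
    (fun z hz => by rw [hA.isRefl _ _ (hz a ha), hA.isRefl _ _ (hz a' ha')])
  rwa [LinearMap.BilinForm.orthogonal_orthogonal hB hA.isRefl] at this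

theorem isCoatom_subStabilizer_nondegenerate [FiniteDimensional F V] (hA : B.IsAlt) (hB : B.Nondegenerate)
    {W : Submodule F V} (hW0 : W ≠ ⊥) (hW : (B.restrict W).Nondegenerate)
    (hdim : 2 * Module.finrank F W < Module.finrank F V) : IsCoatom (subStabilizer B W) := by
  set U := B.orthogonal W with hU
  have hUn := restrict_orthogonal_nondegenerate hA hB hW
  have hc := LinearMap.BilinForm.isCompl_orthogonal_of_restrict_nondegenerate hA.isRefl hW
  have hdimU : Module.finrank F W < Module.finrank F U := by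
    rw [hU, LinearMap.BilinForm.finrank_orthogonal hB]; omega
  have hW1 : 1 ≤ Module.finrank F W := Submodule.one_le_finrank_iff.mpr hW0
  obtain ⟨w₀, hw₀, hw₀0⟩ := Submodule.exists_mem_ne_zero_of_ne_bot hW0
  refine ⟨fun htop => ?_, fun H hlt => ?_⟩
  · obtain ⟨u, hu, hu0⟩ := Submodule.exists_mem_ne_zero_of_ne_bot (p := U)
      (fun h => by rw [h, finrank_bot] at hdimU; omega)
    obtain ⟨g, hg⟩ := sympIsom_transitive hA hB hw₀0 hu0
    have h := ((htop ▸ Subgroup.mem_top g : g ∈ subStabilizer B W) w₀).mp hw₀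
    rw [hg] at h
    exact hu0 (Submodule.disjoint_def.mp hc.disjoint u h hu)
  obtain ⟨g, hgH, hgM⟩ := SetLike.exists_of_lt hlt
  obtain ⟨hUC, hWC⟩ := subset_transCentres_of_subStabilizer_le (hA := hA) hlt.le
  refine eq_top_of_transCentres hB (hA := hA) fun y => ?_
  obtain ⟨x, hxU, hxW, hxC⟩ : ∃ x, x ∉ U ∧ x ∉ W ∧ x ∈ transCentres hA H := by
    have h1 : ¬ U.map (g : V ≃ₗ[F] V).toLinearMap ≤ W := fun h => by
      have := Submodule.finrank_mono h
      rw [LinearEquiv.finrank_map_eq] at this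
      omega
    have h2 : ¬ U.map (g : V ≃ₗ[F] V).toLinearMap ≤ U := fun h => by
      apply hgM
      have hgU : g ∈ subStabilizer B U :=
        mem_subStabilizer_of_map_le fun u hu => h (Submodule.mem_map_of_mem hu)
      refine mem_subStabilizer_of_map_le fun x hx => ?_
      rw [← LinearMap.BilinForm.orthogonal_orthogonal hB hA.isRefl W] at hx ⊢
      exact subStabilizer_orthogonal (W := U) ⟨g, hgU⟩ hx
    obtain ⟨x, ⟨u, hu, rfl⟩, hx1, hx2⟩ := exists_mem_notMem_two h2 h1
    exact ⟨_, hx1, hx2, transCentres_map (hUC hu) hgH⟩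
  obtain ⟨a, ha, b, hb, rfl⟩ := Submodule.mem_sup.mp (hc.sup_eq_top ▸ Submodule.mem_top : x ∈ W ⊔ U)
  obtain ⟨a', ha', b', hb', rfl⟩ := Submodule.mem_sup.mp (hc.sup_eq_top ▸ Submodule.mem_top : y ∈ W ⊔ U)
  rcases eq_or_ne a' 0 with rfl | ha'0
  · rw [zero_add]; exact hUC hb'
  rcases eq_or_ne b' 0 with rfl | hb'0
  · rw [add_zero]; exact hWC ha'
  have ha0 : a ≠ 0 := by rintro rfl; exact hxU (by rw [zero_add]; exact hb)
  have hb0 : b ≠ 0 := by rintro rfl; exact hxW (by rw [add_zero]; exact ha)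
  obtain ⟨g₁, hg₁, hg₁a, hg₁U⟩ := exists_transGroupOn_move_comp hA hB hW ha ha' ha0 ha'0
  obtain ⟨g₂, hg₂, hg₂b, hg₂W⟩ := exists_transGroupOn_move_comp hA hB hUn hb hb' hb0 hb'0
  have := transCentres_map (transCentres_map hxC (transGroupOn_le hWC hg₁)) (transGroupOn_le hUC hg₂)
  rwa [map_add, hg₁a, hg₁U b hb, map_add, hg₂b, hg₂W a' (by
    rw [LinearMap.BilinForm.orthogonal_orthogonal hB hA.isRefl]; exact ha')] at this

end Cfsg.Lib.Classical
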