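import Mathlib
import Cfsg.Agent.Classical.Subfield.SympElements
import Cfsg.Agent.Classical.MaxBridge

set_option autoImplicit false
set_option linter.unusedVariables false
set_option linter.unusedSimpArgs false
set_option linter.style.haveILetI false

/-! The stabiliser of two complementary Lagrangians is maximal in symplectic groups of odd characteristic. -/

namespace Cfsg.Lib.Classical

universe u v

variable {F : Type u} [Field F] {V : Type v} [AddCommGroup V] [Module F V] {B : LinearMap.BilinForm F V}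

/-- All short root elements on the pair `u, w` lie in `K`. -/
def SympPr (hA : B.IsAlt) (K : Subgroup (BilinIsom B)) (u w : V) : Prop :=
  B u w = 0 ∧ ∀ c : F, sympS hA u w c ∈ K

variable {hA : B.IsAlt} {K : Subgroup (BilinIsom B)}

theorem SympPr.map {u w : V} (h : SympPr hA K u w) {g : BilinIsom B} (hg : g ∈ K) :
    SympPr hA K ((g : V ≃ₗ[F] V) u) ((g : V ≃ₗ[F] V) w) :=
  ⟨by rw [BilinIsom.map_form, h.1], fun c => by
    rw [← sympS_conj hA g]; exact K.mul_mem (K.mul_mem hg (h.2 c)) (K.inv_mem hg)⟩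

theorem SympPr.symm {u w : V} (h : SympPr hA K u w) : SympPr hA K w u :=
  ⟨hA.isRefl _ _ h.1, fun c => by rw [← sympS_symm hA h.1]; exact h.2 c⟩

theorem SympPr.centre (h2 : (2 : F) ≠ 0) {u w w' : V} (h : SympPr hA K u w) (h' : SympPr hA K u w')
    (hne : B w w' ≠ 0) : u ∈ transCentres hA K := fun t => by
  have e := sympS_commutator hA h.1 h'.1 1 (t / (B w w' + B w w'))
  have : t = 1 * (t / (B w w' + B w w')) * B w w' + 1 * (t / (B w w' + B w w')) * B w w' := by
    rw [one_mul, ← mul_add, div_mul_cancel₀]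
    rw [← two_mul]; exact mul_ne_zero h2 hne
  rw [← this] at e
  rw [← e]
  exact K.mul_mem (K.mul_mem (K.mul_mem (h'.2 _) (h.2 _)) (h'.2 _)) (h.2 _)

theorem SympPr.zero (u : V) : SympPr hA K u 0 :=
  ⟨map_zero _, fun c => by
    convert K.one_mem
    exact BilinIsom.ext' fun x => by rw [sympS_apply hA (map_zero _)]; simp⟩

theorem SympPr.add {u w w' : V} (h : SympPr hA K u w) (h' : SympPr hA K u w') (hww' : B w w' = 0) (b : F) :
    SympPr hA K u (w + b • w') := by
  refine ⟨by rw [map_add, map_smul, h.1, h'.1, smul_zero, add_zero], fun d => ?_⟩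
  rw [sympS_add_right hA h.1 h'.1, hA.isRefl _ _ hww', mul_zero, neg_zero, sympT_zero, mul_one]
  exact K.mul_mem (h.2 _) (h'.2 _)

/-- A centre turns a short root pair into a centre. -/
theorem sympCentre_of_fixed (h2 : (2 : F) ≠ 0) {x u w : V} (hx : x ∈ transCentres hA K) (h : SympPr hA K u w)
    (hux : B u x = 0) (hwx : B w x ≠ 0) : u ∈ transCentres hA K := by
  have h' := h.map (hx 1)
  rw [sympT_apply, sympT_apply, hux, mul_zero, zero_smul, add_zero, one_mul] at h'
  refine h.centre h2 h' ?_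
  rw [map_add, hA w, zero_add, map_smul, smul_eq_mul]
  exact mul_ne_zero hwx hwx

/-- Two complementary totally singular subspaces for an alternating form. -/
structure SympPair (B : LinearMap.BilinForm F V) (W₁ W₂ : Submodule F V) (k : ℕ) : Prop where
  alt : B.IsAlt
  nondeg : B.Nondegenerate
  two : (2 : F) ≠ 0
  compl : IsCompl W₁ W₂
  iso₁ : ∀ x ∈ W₁, ∀ y ∈ W₁, B x y = 0
  iso₂ : ∀ x ∈ W₂, ∀ y ∈ W₂, B x y = 0
  dim₁ : Module.finrank F W₁ = k
  dim₂ : Module.finrank F W₂ = k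
  big : 3 ≤ k

namespace SympPair

variable {W₁ W₂ : Submodule F V} {k : ℕ} (S : SympPair B W₁ W₂ k)
include S

theorem symm : SympPair B W₂ W₁ k :=
  ⟨S.alt, S.nondeg, S.two, S.compl.symm, S.iso₂, S.iso₁, S.dim₂, S.dim₁, S.big⟩

theorem exists_split (x : V) : ∃ a ∈ W₁, ∃ b ∈ W₂, x = a + b := by
  obtain ⟨a, ha, b, hb, e⟩ := Submodule.mem_sup.mp (S.compl.sup_eq_top ▸ Submodule.mem_top : x ∈ W₁ ⊔ W₂)
  exact ⟨a, ha, b, hb, e.symm⟩

theorem eq_zero {a : V} (ha : a ∈ W₁) (h : ∀ w ∈ W₂, B w a = 0) : a = 0 :=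
  S.nondeg.2 a fun x => by
    obtain ⟨p, hp, q, hq, rfl⟩ := S.exists_split x
    rw [map_add, LinearMap.add_apply, S.iso₁ p hp a ha, h q hq, add_zero]

theorem exists_test {a u : V} (ha : a ∈ W₁) (hu : u ∈ W₁) (hau : a ∉ Submodule.span F {u}) :
    ∃ w ∈ W₂, B w u = 0 ∧ B w a ≠ 0 := by
  by_contra hc
  push Not at hc
  by_cases hu0 : ∀ w ∈ W₂, B w u = 0
  · apply hau
    rw [S.eq_zero ha fun w hw => hc w hw (hu0 w hw)]
    exact Submodule.zero_mem _
  push Not at hu0
  obtain ⟨w₀, hw₀, hne⟩ := hu0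
  apply hau
  rw [Submodule.mem_span_singleton]
  refine ⟨B w₀ a / B w₀ u, sub_eq_zero.mp (S.eq_zero (W₁.sub_mem (W₁.smul_mem _ hu) ha) fun w hw => ?_)⟩
  have hk := hc (w - (B w u / B w₀ u) • w₀) (W₂.sub_mem hw (W₂.smul_mem _ hw₀))
    (by rw [map_sub, map_smul, LinearMap.sub_apply, LinearMap.smul_apply, smul_eq_mul, div_mul_cancel₀ _ hne,
      sub_self])
  rw [map_sub, map_smul, LinearMap.sub_apply, LinearMap.smul_apply, smul_eq_mul, sub_eq_zero] at hk
  rw [map_sub, map_smul, smul_eq_mul, hk]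
  ring

variable [FiniteDimensional F V]

theorem exists_pick (p a : V) : ∃ v ∈ W₁, v ∉ Submodule.span F {a} ∧ B v p = 0 := by
  set f : W₁ →ₗ[F] F := (B.flip p).domRestrict W₁ with hf
  have hd : 2 ≤ Module.finrank F ↥((LinearMap.ker f).map W₁.subtype) := by
    have h1 := f.finrank_range_add_finrank_ker
    have h2 := Submodule.finrank_le (LinearMap.range f)
    rw [Module.finrank_self] at h2
    rw [S.dim₁] at h1
    rw [Submodule.finrank_map_subtype_eq]
    have := S.big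
    omega
  have hle : ¬ (LinearMap.ker f).map W₁.subtype ≤ Submodule.span F {a} := fun h => by
    have := (Submodule.finrank_mono h).trans (finrank_span_le_card ({a} : Set V))
    simp at this hd
    omega
  obtain ⟨v, hv, hva⟩ := SetLike.not_le_iff_exists.mp hle
  obtain ⟨⟨v, hvW⟩, hvk, rfl⟩ := hv
  exact ⟨v, hvW, hva, LinearMap.mem_ker.mp hvk⟩

theorem exists_pick₂ (p q a : V) (hq : B a p ≠ 0 ∨ 4 ≤ k ∨ q = p) :
    ∃ v ∈ W₁, v ∉ Submodule.span F {a} ∧ B v p = 0 ∧ B v q = 0 := by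
  by_cases hqp : q = p
  · obtain ⟨v, hv, hva, hvp⟩ := S.exists_pick p a
    exact ⟨v, hv, hva, hvp, hqp ▸ hvp⟩
  set f : W₁ →ₗ[F] Fin 2 → F := LinearMap.pi ![(B.flip p).domRestrict W₁, (B.flip q).domRestrict W₁] with hf
  have h1 := f.finrank_range_add_finrank_ker
  have h2 := Submodule.finrank_le (LinearMap.range f)
  rw [Module.finrank_fin_fun] at h2
  rw [S.dim₁] at h1
  have hbig := S.big
  by_cases hle : (LinearMap.ker f).map W₁.subtype ≤ Submodule.span F {a}
  swap
  · obtain ⟨v, hv, hva⟩ := SetLike.not_le_iff_exists.mp hle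
    obtain ⟨⟨v, hvW⟩, hvk, rfl⟩ := hv
    have hz := LinearMap.mem_ker.mp hvk
    exact ⟨v, hvW, hva, congrFun hz 0, congrFun hz 1⟩
  exfalso
  have h3 := (Submodule.finrank_mono hle).trans (finrank_span_le_card ({a} : Set V))
  rw [Submodule.finrank_map_subtype_eq] at h3
  simp only [Set.toFinset_singleton, Finset.card_singleton] at h3
  rcases hq with hap | h4 | h
  · obtain ⟨v, hv, hv0⟩ := Submodule.exists_mem_ne_zero_of_ne_bot (p := LinearMap.ker f)
      (fun h => by rw [h, finrank_bot] at h1; omega)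
    obtain ⟨c, hc⟩ := Submodule.mem_span_singleton.mp (hle (Submodule.mem_map_of_mem hv))
    have hz : B (v : V) p = 0 := congrFun (LinearMap.mem_ker.mp hv) 0
    rw [← show c • a = (v : V) from hc, map_smul, LinearMap.smul_apply, smul_eq_mul, mul_eq_zero] at hz
    refine hv0 (Subtype.ext ?_)
    rw [← show c • a = (v : V) from hc, hz.resolve_right hap, zero_smul]
    rfl
  · omega
  · exact hqp h

variable {hA : B.IsAlt} {K : Subgroup (BilinIsom B)} (hR : ∀ u ∈ W₁, ∀ w ∈ W₂, B w u = 0 → SympPr hA K u w)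
include hR

theorem root_symm : ∀ u ∈ W₂, ∀ w ∈ W₁, B w u = 0 → SympPr hA K u w :=
  fun u hu w hw h => (hR w hw u hu (hA.isRefl _ _ h)).symm

theorem centres_step {a b u : V} (ha : a ∈ W₁) (hb : b ∈ W₂) (hx : a + b ∈ transCentres hA K) (ha0 : a ≠ 0)
    (hu : u ∈ W₁) (hub : B u b = 0) (hua : u ∉ Submodule.span F {a}) : u ∈ transCentres hA K := by
  have hau : a ∉ Submodule.span F {u} := fun h => by
    obtain ⟨c, rfl⟩ := Submodule.mem_span_singleton.mp h
    have hc : c ≠ 0 := fun h => ha0 (by rw [h, zero_smul])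
    exact hua (Submodule.mem_span_singleton.mpr ⟨c⁻¹, by rw [smul_smul, inv_mul_cancel₀ hc, one_smul]⟩)
  obtain ⟨w, hw, hwu, hwa⟩ := S.exists_test ha hu hau
  refine sympCentre_of_fixed S.two hx (hR u hu w hw hwu) ?_ ?_
  · rw [map_add, S.iso₁ u hu a ha, hub, add_zero]
  · rwa [map_add, S.iso₂ w hw b hb, add_zero]

theorem centres_left {a b : V} (ha : a ∈ W₁) (hb : b ∈ W₂) (hx : a + b ∈ transCentres hA K) (ha0 : a ≠ 0)
    {u : V} (hu : u ∈ W₁) : u ∈ transCentres hA K := by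
  obtain ⟨v, hv, hva, hvb⟩ := S.exists_pick b a
  have hv0 : v ≠ 0 := fun h => hva (by rw [h]; exact Submodule.zero_mem _)
  have hvC := S.centres_step hR ha hb hx ha0 hv hvb hva
  by_cases huv : u ∈ Submodule.span F {v}
  · obtain ⟨c, rfl⟩ := Submodule.mem_span_singleton.mp huv
    exact transCentres_smul hvC c
  exact S.centres_step hR hv W₂.zero_mem (by rwa [add_zero]) hv0 hu (map_zero _) huv

theorem top_of_centre {s : BilinIsom B} (hs : s ∈ K) (hs₁ : ∀ x ∈ W₁, (s : V ≃ₗ[F] V) x ∈ W₂)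
    (hs₂ : ∀ x ∈ W₂, (s : V ≃ₗ[F] V) x ∈ W₁) {x : V} (hx : x ∈ transCentres hA K) (hx0 : x ≠ 0) : K = ⊤ := by
  have hinj : ∀ z : V, z ≠ 0 → (s : V ≃ₗ[F] V) z ≠ 0 := fun z hz => by simpa using hz
  have h1 : ∀ u ∈ W₁, u ∈ transCentres hA K := by
    intro u hu
    obtain ⟨a, ha, b, hb, rfl⟩ := S.exists_split x
    by_cases ha0 : a = 0
    · subst ha0
      rw [zero_add] at hx hx0
      exact S.centres_left hR (hs₂ b hb) W₂.zero_mem (by rw [add_zero]; exact transCentres_map hx hs)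
        (hinj b hx0) hu
    · exact S.centres_left hR ha hb hx ha0 hu
  have h2 : ∀ u ∈ W₂, u ∈ transCentres hA K := by
    intro u hu
    obtain ⟨v, hv, hv0, -⟩ := S.exists_pick 0 0
    have hv0' : v ≠ 0 := fun h => hv0 (by rw [h]; exact Submodule.zero_mem _)
    exact S.symm.centres_left (S.root_symm hR) (hs₁ v hv) W₁.zero_mem
      (by rw [add_zero]; exact transCentres_map (h1 v hv) hs) (hinj v hv0') hu
  refine eq_top_of_transCentres (hA := hA) S.nondeg fun y => ?_
  obtain ⟨a, ha, b, hb, rfl⟩ := S.exists_split y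
  by_cases hb0 : b = 0
  · rw [hb0, add_zero]; exact h1 a ha
  by_cases hab : B a b = 0
  swap
  · exact transCentres_add (h1 a ha) (h2 b hb) hab
  obtain ⟨u, hu, hub⟩ : ∃ u ∈ W₁, B u b ≠ 0 := by
    by_contra hc
    push Not at hc
    exact hb0 (S.symm.eq_zero hb hc)
  have hTK : sympT hA u 1 ∈ K := h1 u hu 1
  have e : ((sympT hA u 1 : BilinIsom B) : V ≃ₗ[F] V) (a + b) = (a + B b u • u) + b := by
    rw [sympT_apply, one_mul, map_add, LinearMap.add_apply, S.iso₁ a ha u hu, zero_add, add_right_comm]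
  have hC : ((sympT hA u 1 : BilinIsom B) : V ≃ₗ[F] V) (a + b) ∈ transCentres hA K := by
    rw [e]
    refine transCentres_add (h1 _ (W₁.add_mem ha (W₁.smul_mem _ hu))) (h2 b hb) ?_
    rw [map_add, LinearMap.add_apply, hab, zero_add, map_smul, LinearMap.smul_apply, smul_eq_mul]
    exact mul_ne_zero (fun h => hub (hA.isRefl _ _ h)) hub
  have hC' := transCentres_map hC (K.inv_mem hTK)
  rwa [BilinIsom.inv_apply_self] at hC'

theorem split_false (hno : ∀ z, z ∈ transCentres hA K → z = 0) {a b v : V} (ha : a ∈ W₁) (hb : b ∈ W₂)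
    (ha0 : a ≠ 0) (hv : v ∈ W₁) (hva : v ∉ Submodule.span F {a}) (hP : SympPr hA K (a + b) v) : False := by
  have hxv := hP.symm.1
  have hvb : B v b = 0 := by rw [map_add, S.iso₁ v hv a ha, zero_add] at hxv; exact hxv
  have hbv : B b v = 0 := hA.isRefl _ _ hvb
  have hav : B a v = 0 := S.iso₁ a ha v hv
  have hva' : B v a = 0 := S.iso₁ v hv a ha
  set η := -B a b with hη'
  have hf : sympS hA v a 1 * sympT hA v η ∈ K := by
    have e := sympS_add_right hA hvb hva' 1 1
    simp only [one_smul, one_mul, one_pow, mul_one] at e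
    rw [add_comm b a, mul_assoc] at e
    have h := K.mul_mem (K.inv_mem ((hR v hv b hb hbv).2 1)) (hP.symm.2 1)
    rwa [e, inv_mul_cancel_left] at h
  obtain ⟨w, hw, hwa, hwv⟩ := S.exists_test hv ha hva
  have hvw : B v w ≠ 0 := fun h => hwv (hA.isRefl _ _ h)
  have haw : B a w = 0 := hA.isRefl _ _ hwa
  have hD : ∀ s : F, sympS hA v a (η * s) * sympT hA a (s + s + s * s * η) ∈ K := by
    intro s
    set m := sympS hA a w (s / B v w) with hm
    have hma : (m : V ≃ₗ[F] V) a = a := by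
      rw [hm, sympS_apply hA haw, haw, hA a]; simp
    have hmv : (m : V ≃ₗ[F] V) v = v + s • a := by
      rw [hm, sympS_apply hA haw, hva', div_mul_cancel₀ _ hvw]; simp
    have hmK : m ∈ K := (hR a ha w hw hwa).2 _
    have hmem := K.mul_mem (K.mul_mem (K.mul_mem hmK hf) (K.inv_mem hmK)) (K.inv_mem hf)
    convert hmem using 1
    rw [eq_mul_inv_iff_mul_eq]
    have e : m * (sympS hA v a 1 * sympT hA v η) * m⁻¹ =
        m * sympS hA v a 1 * m⁻¹ * (m * sympT hA v η * m⁻¹) := by group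
    rw [e, sympS_conj, sympT_conj, hma, hmv]
    refine BilinIsom.ext' fun x => ?_
    simp only [BilinIsom.mul_apply', sympS_apply hA hva', sympS_apply hA (show B (v + s • a) a = 0 by simp [hva', hA a]),
      sympT_apply, map_add, map_smul, LinearMap.add_apply, LinearMap.smul_apply, hA v, hA a, hav, hva',
      smul_eq_mul, mul_zero, add_zero]
    module
  refine ha0 (hno a fun t => ?_)
  have h2 := S.two
  by_cases hη0 : η = 0
  · have h := hD (t / 2)
    rw [hη0, zero_mul, mul_zero, add_zero, ← two_mul, mul_div_cancel₀ _ h2] at h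
    convert h using 1
    refine BilinIsom.ext' fun x => ?_
    simp [sympS_apply hA hva']
  · obtain ⟨r, hr⟩ : ∃ r, t = η * (r + r) := ⟨t / (η + η), by
      rw [← two_mul, ← two_mul]; field_simp⟩
    convert K.mul_mem (K.inv_mem (K.mul_mem (hD r) (hD 1))) (hD (r + 1)) using 1
    rw [eq_inv_mul_iff_mul_eq]
    refine BilinIsom.ext' fun x => ?_
    simp only [BilinIsom.mul_apply', sympS_apply hA hva', sympT_apply, map_add, map_smul, LinearMap.add_apply,
      LinearMap.smul_apply, hA v, hA a, hav, hva', hr, smul_eq_mul, mul_zero, add_zero]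
    module

theorem orth_of_no_root (hno : ∀ z, z ∈ transCentres hA K → z = 0) {a b : V} (ha : a ∈ W₁) (hb : b ∈ W₂)
    (hp : ∀ v ∈ W₁, SympPr hA K (a + b) v → v ∈ Submodule.span F {a}) {y w : V} (hy : SympPr hA K (a + b) y)
    (hw : w ∈ W₂) (hwa : B w a = 0) (ha0 : a ≠ 0) (hq : B a b ≠ 0 ∨ 4 ≤ k ∨ w = b) : B y w = 0 := by
  by_contra hne
  obtain ⟨v, hv, hva, hvb, hvw⟩ := S.exists_pick₂ b w a hq
  have h := hR v hv w hw (hA.isRefl _ _ hvw)
  by_cases hvy : B v y = 0
  swap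
  · set m := sympS hA v w (B y w)⁻¹ with hm
    have hmx : (m : V ≃ₗ[F] V) (a + b) = a + b := by
      rw [hm, sympS_apply hA h.1]
      simp [hA.isRefl _ _ hwa, S.iso₂ b hb w hw, S.iso₁ a ha v hv, hA.isRefl _ _ hvb]
    have h1 := hy.map (h.2 (B y w)⁻¹)
    rw [← hm, hmx] at h1
    refine ha0 ?_
    have hx0 := hno _ (hy.centre S.two h1 ?_)
    · exact Submodule.disjoint_def.mp S.compl.disjoint a ha
        (by rw [eq_neg_of_add_eq_zero_left hx0]; exact W₂.neg_mem hb)
    rw [hm, sympS_apply hA h.1, map_add, map_add, map_smul, map_smul, hA y, zero_add, smul_eq_mul, smul_eq_mul,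
      inv_mul_cancel₀ hne, one_mul, mul_right_comm, inv_mul_cancel₀ hne, one_mul, ← two_mul]
    exact mul_ne_zero S.two fun h0 => hvy (hA.isRefl _ _ h0)
  set m := sympS hA v w (B y w)⁻¹ with hm
  have hmx : (m : V ≃ₗ[F] V) (a + b) = a + b := by
    rw [hm, sympS_apply hA h.1]
    simp [hA.isRefl _ _ hwa, S.iso₂ b hb w hw, S.iso₁ a ha v hv, hA.isRefl _ _ hvb]
  have hmy : (m : V ≃ₗ[F] V) y = y + v := by
    rw [hm, sympS_apply hA h.1, inv_mul_cancel₀ hne, hA.isRefl _ _ hvy]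
    simp
  have h1 := hy.map (h.2 (B y w)⁻¹)
  rw [← hm, hmx, hmy] at h1
  have h2 := h1.add hy (by rw [map_add, LinearMap.add_apply, hA y, hvy, add_zero]) (-1)
  rw [show y + v + (-1 : F) • y = v by module] at h2
  exact hva (hp v hv h2)

theorem diag_false (hno : ∀ z, z ∈ transCentres hA K → z = 0) {a b : V} (ha : a ∈ W₁) (hb : b ∈ W₂)
    (ha0 : a ≠ 0) (hab : B a b = 0) {α β : F} (hα : α ≠ 0) (hD : ∀ d, sympT hA a (α * d) * sympT hA b (β * d) ∈ K) :
    False := by
  obtain ⟨v, hv, hva, hvb⟩ := S.exists_pick b a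
  have hv0 : v ≠ 0 := fun h => hva (by rw [h]; exact Submodule.zero_mem _)
  have hav : a ∉ Submodule.span F {v} := fun h => by
    obtain ⟨c, hc⟩ := Submodule.mem_span_singleton.mp h
    have hc0 : c ≠ 0 := fun h => ha0 (by rw [← hc, h, zero_smul])
    exact hva (Submodule.mem_span_singleton.mpr ⟨c⁻¹, by rw [← hc, smul_smul, inv_mul_cancel₀ hc0, one_smul]⟩)
  obtain ⟨w, hw, hwv, hwa⟩ := S.exists_test ha hv hav
  have haw : B a w ≠ 0 := fun h => hwa (hA.isRefl _ _ h)
  have h := hR v hv w hw hwv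
  have hmove : ∀ t d : F, sympT hA (a + t • v) (α * d) * sympT hA b (β * d) ∈ K := fun t d => by
    have hm := K.mul_mem (K.mul_mem (h.2 (t / B a w)) (hD d)) (K.inv_mem (h.2 (t / B a w)))
    rw [show ∀ m x y : BilinIsom B, m * (x * y) * m⁻¹ = m * x * m⁻¹ * (m * y * m⁻¹) from fun m x y => by group,
      sympT_conj, sympT_conj, sympS_apply hA h.1, sympS_apply hA h.1, S.iso₁ a ha v hv, S.iso₂ b hb w hw,
      hA.isRefl _ _ hvb, div_mul_cancel₀ _ haw, mul_zero, zero_smul, zero_smul, add_zero, add_zero, add_zero] at hm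
    exact hm
  refine hv0 (hno v fun d => ?_)
  set e := d / (α + α) with he
  have he' : α * e + α * e = d := by
    rw [← add_mul, he, mul_div_cancel₀]
    rw [← two_mul]; exact mul_ne_zero S.two hα
  have hm := K.mul_mem (K.mul_mem (hmove 1 e) (hmove (-1) e)) (hmove 0 (-(e + e)))
  convert hm using 1
  refine BilinIsom.ext' fun x => ?_
  rw [← he']
  simp only [BilinIsom.mul_apply', sympT_apply, one_smul, neg_one_smul, zero_smul, map_add, map_neg, map_smul,
    LinearMap.add_apply, LinearMap.neg_apply, LinearMap.smul_apply, hA a, hA b, hA v, hab, hA.isRefl _ _ hab,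
    hvb, hA.isRefl _ _ hvb, S.iso₁ a ha v hv, S.iso₁ v hv a ha, smul_eq_mul, mul_zero, add_zero, neg_zero, smul_add,
    smul_neg]
  module

theorem point {g : BilinIsom B} (hg : g ∈ K) (hno : ∀ z, z ∈ transCentres hA K → z = 0) {u : V} (hu : u ∈ W₁) :
    (g : V ≃ₗ[F] V) u ∈ W₁ ∨ (g : V ≃ₗ[F] V) u ∈ W₂ := by
  obtain ⟨a, ha, b, hb, e⟩ := S.exists_split ((g : V ≃ₗ[F] V) u)
  by_cases ha0 : a = 0
  · right; rw [e, ha0, zero_add]; exact hb
  by_cases hb0 : b = 0
  · left; rw [e, hb0, add_zero]; exact ha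
  exfalso
  have hp₁ : ∀ v ∈ W₁, SympPr hA K (a + b) v → v ∈ Submodule.span F {a} := fun v hv h =>
    by_contra fun hn => S.split_false hR hno ha hb ha0 hv hn h
  have hp₂ : ∀ v ∈ W₂, SympPr hA K (b + a) v → v ∈ Submodule.span F {b} := fun v hv h =>
    by_contra fun hn => S.symm.split_false (S.root_symm hR) hno hb ha hb0 hv hn h
  have hY : ∀ w ∈ W₂, B w u = 0 → SympPr hA K (a + b) ((g : V ≃ₗ[F] V) w) := fun w hw hwu => by
    rw [← e]; exact (hR u hu w hw hwu).map hg
  obtain ⟨v, hv, hva, hvb⟩ := S.exists_pick b a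
  obtain ⟨w, hw, hwa, hwv⟩ := S.exists_test hv ha hva
  have hback : ∀ z, B z (a + b) = 0 → (∀ y, SympPr hA K (a + b) y → B y z = 0) →
      ∃ c : F, ∃ q ∈ W₂, B q u = 0 ∧ ((g⁻¹ : BilinIsom B) : V ≃ₗ[F] V) z = c • u + q := by
    intro z hzx hzy
    obtain ⟨p, hp, q, hq, ez⟩ := S.exists_split (((g⁻¹ : BilinIsom B) : V ≃ₗ[F] V) z)
    have hgz : (g : V ≃ₗ[F] V) (((g⁻¹ : BilinIsom B) : V ≃ₗ[F] V) z) = z := BilinIsom.apply_inv_self g z
    have hqu : B q u = 0 := by
      rw [← e, ← hgz, BilinIsom.map_form, ez, map_add, LinearMap.add_apply, S.iso₁ p hp u hu, zero_add] at hzx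
      exact hzx
    by_cases hpu : p ∈ Submodule.span F {u}
    · obtain ⟨c, rfl⟩ := Submodule.mem_span_singleton.mp hpu
      exact ⟨c, q, hq, hqu, ez⟩
    obtain ⟨y, hy, hyu, hyp⟩ := S.exists_test hp hu hpu
    have := hzy _ (hY y hy hyu)
    rw [← hgz, BilinIsom.map_form, ez, map_add, S.iso₂ y hy q hq, add_zero] at this
    exact absurd this hyp
  have hv1 : B v (a + b) = 0 := by rw [map_add, S.iso₁ v hv a ha, hvb, add_zero]
  have hw1 : B w (a + b) = 0 := by rw [map_add, hwa, S.iso₂ w hw b hb, add_zero]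
  by_cases hab : B a b = 0 ∧ ¬ 4 ≤ k
  · have hab' : B b a = 0 := hA.isRefl _ _ hab.1
    have hxa : B a (a + b) = 0 := by rw [map_add, hA a, hab.1, add_zero]
    obtain ⟨c, q, hq, hqu, ea⟩ := hback a hxa fun y hy => by
      have h1 := S.orth_of_no_root hR hno ha hb hp₁ hy hb hab' ha0 (Or.inr (Or.inr rfl))
      have h2 := hy.1
      rw [hA.isRefl.eq_iff, map_add, h1, add_zero] at h2
      exact h2
    have hgq : (g : V ≃ₗ[F] V) q = (1 - c) • a + (-c) • b := by
      have h1 : (g : V ≃ₗ[F] V) (c • u + q) = a := by rw [← ea, BilinIsom.apply_inv_self]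
      rw [map_add, map_smul, e] at h1
      linear_combination (norm := module) h1
    have hP := hY q hq hqu
    rw [hgq] at hP
    have hdiag : ∀ d, sympT hA a (2 * (1 - c) * d) * sympT hA b (2 * (-c) * d) ∈ K := fun d => by
      have hm := K.mul_mem (hP.2 d) ((hR a ha b hb hab').2 (-((1 - c + -c) * d)))
      convert hm using 1
      refine BilinIsom.ext' fun x => ?_
      have h0 : B (a + b) ((1 - c) • a + (-c) • b) = 0 := hP.1
      simp only [BilinIsom.mul_apply', sympT_apply, sympS_apply hA h0, sympS_apply hA hab.1, map_add, map_smul,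
        LinearMap.add_apply, LinearMap.smul_apply, hA a, hA b, hab.1, hab', smul_eq_mul, mul_zero, add_zero]
      module
    by_cases hc : (1 : F) - c = 0
    · refine S.symm.diag_false (S.root_symm hR) hno hb ha hb0 hab' (α := 2 * (-c)) (β := 2 * (1 - c))
        (mul_ne_zero S.two (by rw [← sub_eq_zero.mp hc]; exact neg_ne_zero.mpr one_ne_zero)) fun d => ?_
      rw [← (sympT_commute hA hab.1 _ _).eq]
      exact hdiag d
    · exact S.diag_false hR hno ha hb ha0 hab.1 (mul_ne_zero S.two hc) hdiag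
  have hab1 : B a b ≠ 0 ∨ 4 ≤ k := by
    by_contra hh
    push Not at hh
    exact hab ⟨hh.1, by omega⟩
  obtain ⟨c, q, hq, hqu, ev⟩ := hback v hv1 fun y hy =>
    S.symm.orth_of_no_root (S.root_symm hR) hno hb ha hp₂ (by rwa [add_comm]) hv hvb hb0
      (hab1.imp (fun h h' => h (hA.isRefl _ _ h')) Or.inl)
  obtain ⟨c', q', hq', hqu', ew⟩ := hback w hw1 fun y hy => S.orth_of_no_root hR hno ha hb hp₁ hy hw hwa ha0
    (hab1.imp id Or.inl)
  apply hwv
  rw [← BilinIsom.map_form g⁻¹, ew, ev]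
  simp [hA u, S.iso₂ q' hq' q hq, hqu', hA.isRefl _ _ hqu]

omit hR

theorem exists_swap : ∃ s : BilinIsom B, (∀ x ∈ W₁, (s : V ≃ₗ[F] V) x ∈ W₂) ∧ ∀ x ∈ W₂, (s : V ≃ₗ[F] V) x ∈ W₁ := by
  have hBb : ∀ (W W' : Submodule F V), SympPair B W W' k → Function.Injective ((B.domRestrict₁₂ W W').flip) :=
    fun W W' T => (injective_iff_map_eq_zero _).mpr fun b hb => Subtype.ext (T.symm.eq_zero b.2 fun w hw =>
      LinearMap.congr_fun hb ⟨w, hw⟩)
  let p : W₂ ≃ₗ[F] Module.Dual F W₁ := LinearEquiv.ofInjectiveOfFinrankEq _ (hBb W₁ W₂ S)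
    (by rw [Subspace.dual_finrank_eq, S.dim₁, S.dim₂])
  have hp : ∀ (w : W₂) (u : W₁), p w u = B u w := fun w u => rfl
  let e := (Module.finBasisOfFinrankEq F W₁ S.dim₁)
  let A : W₁ ≃ₗ[F] W₂ := (e.toDualEquiv).trans p.symm
  have hA' : ∀ u u' : W₁, B u (A u' : V) = e.toDual u' u := fun u u' => by
    simp only [A, LinearEquiv.trans_apply, ← hp, LinearEquiv.apply_symm_apply]; rfl
  have hflip : e.toDual.flip = e.toDual := e.ext fun i => e.ext fun j => by
    simp only [LinearMap.flip_apply, Module.Basis.toDual_apply, eq_comm]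
  have hsym : ∀ u u' : W₁, e.toDual u' u = e.toDual u u' := fun u u' =>
    LinearMap.congr_fun (LinearMap.congr_fun hflip u) u'
  let C := Submodule.prodEquivOfIsCompl W₁ W₂ S.compl
  let g : V ≃ₗ[F] V := (C.symm.trans ((A.prodCongr A.symm).trans (LinearEquiv.prodComm F W₂ W₁))).trans
    (((LinearEquiv.neg F (M := W₁)).prodCongr (LinearEquiv.refl F W₂)).trans C)
  have hgl : ∀ u : W₁, g (u : V) = (A u : V) := fun u => by
    have : C.symm (u : V) = (u, 0) := by rw [LinearEquiv.symm_apply_eq]; simp [C]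
    simp [g, this, C]
  have hgr : ∀ w : W₂, g (w : V) = -(A.symm w : V) := fun w => by
    have : C.symm (w : V) = (0, w) := by rw [LinearEquiv.symm_apply_eq]; simp [C]
    simp [g, this, C]
  have hiso : ∀ x y, B (g x) (g y) = B x y := fun x y => by
    obtain ⟨a, ha, b, hb, rfl⟩ := S.exists_split x
    obtain ⟨c, hc, d, hd, rfl⟩ := S.exists_split y
    lift a to W₁ using ha
    lift b to W₂ using hb
    lift c to W₁ using hc
    lift d to W₂ using hd
    have key : ∀ (u : W₁) (w : W₂), B (A.symm w : V) (A u : V) = B u w := fun u w => by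
      rw [hA', hsym, ← hA', A.apply_symm_apply]
    have hskew : ∀ z z' : V, B z z' = -B z' z := fun z z' => (S.alt.neg_eq z' z).symm
    simp only [map_add, LinearMap.add_apply, hgl, hgr, map_neg, LinearMap.neg_apply,
      S.iso₁ _ a.2 _ c.2, S.iso₂ _ b.2 _ d.2, S.iso₂ _ (A a).2 _ (A c).2, S.iso₁ _ (A.symm b).2 _ (A.symm d).2,
      key, hskew (A a : V) (A.symm d : V), hskew (b : V) (c : V)]
    ring
  refine ⟨⟨g, hiso⟩, fun x hx => ?_, fun x hx => ?_⟩
  · change g ((⟨x, hx⟩ : W₁) : V) ∈ W₂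
    rw [hgl]; exact (A ⟨x, hx⟩).2
  · change g ((⟨x, hx⟩ : W₂) : V) ∈ W₁
    rw [hgr]; exact W₁.neg_mem (A.symm ⟨x, hx⟩).2

theorem isCoatom (M : Subgroup (BilinIsom B))
    (hM : ∀ g : BilinIsom B, g ∈ M ↔
      (W₁.map (g : V ≃ₗ[F] V).toLinearMap = W₁ ∧ W₂.map (g : V ≃ₗ[F] V).toLinearMap = W₂) ∨
      (W₁.map (g : V ≃ₗ[F] V).toLinearMap = W₂ ∧ W₂.map (g : V ≃ₗ[F] V).toLinearMap = W₁)) : IsCoatom M := by
  have hA := S.alt
  have heq : ∀ (g : BilinIsom B) (A B' : Submodule F V), Module.finrank F B' = Module.finrank F A →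
      (∀ x ∈ A, (g : V ≃ₗ[F] V) x ∈ B') → A.map (g : V ≃ₗ[F] V).toLinearMap = B' := fun g A B' hd h =>
    Submodule.eq_of_le_of_finrank_eq (by rintro _ ⟨x, hx, rfl⟩; exact h x hx)
      (by rw [LinearEquiv.finrank_map_eq, hd])
  constructor
  · intro htop
    obtain ⟨u, hu, hu0, -⟩ := S.exists_pick 0 0
    have hu0' : u ≠ 0 := fun h => hu0 (by rw [h]; exact Submodule.zero_mem _)
    obtain ⟨w, hw, hwu⟩ : ∃ w ∈ W₂, B w u ≠ 0 := by
      by_contra hc
      push Not at hc
      exact hu0' (S.eq_zero hu hc)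
    have h := (hM (sympT hA u 1)).mp (htop ▸ Subgroup.mem_top _)
    rcases h with ⟨-, h2⟩ | ⟨h1, -⟩
    · have hmem : ((sympT hA u 1 : BilinIsom B) : V ≃ₗ[F] V) w ∈ W₂ :=
        (SetLike.ext_iff.mp h2 _).mp (Submodule.mem_map_of_mem hw)
      rw [sympT_apply] at hmem
      have h' := Submodule.disjoint_def.mp S.compl.disjoint _ (W₁.smul_mem _ hu)
        ((Submodule.add_mem_iff_right _ hw).mp hmem)
      simp [hwu, hu0'] at h'
    · have hmem : ((sympT hA u 1 : BilinIsom B) : V ≃ₗ[F] V) u ∈ W₂ :=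
        (SetLike.ext_iff.mp h1 _).mp (Submodule.mem_map_of_mem hu)
      rw [sympT_apply, hA u, mul_zero, zero_smul, add_zero] at hmem
      exact hu0' (Submodule.disjoint_def.mp S.compl.disjoint u hu hmem)
  intro K hlt
  obtain ⟨g, hgK, hgM⟩ := SetLike.exists_of_lt hlt
  have hR : ∀ u ∈ W₁, ∀ w ∈ W₂, B w u = 0 → SympPr hA K u w := fun u hu w hw hwu => by
    have huw : B u w = 0 := hA.isRefl _ _ hwu
    exact ⟨huw, fun c => hlt.le <| (hM _).mpr <| Or.inl
      ⟨heq _ _ _ rfl fun x hx => by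
        rw [sympS_apply hA huw, S.iso₁ x hx u hu, mul_zero, zero_smul, add_zero]
        exact W₁.add_mem hx (W₁.smul_mem _ hu),
      heq _ _ _ rfl fun x hx => by
        rw [sympS_apply hA huw, S.iso₂ x hx w hw, mul_zero, zero_smul, add_zero]
        exact W₂.add_mem hx (W₂.smul_mem _ hw)⟩⟩
  obtain ⟨s, hs₁, hs₂⟩ := S.exists_swap
  have hsK : s ∈ K := hlt.le ((hM s).mpr (Or.inr
    ⟨heq _ _ _ (by rw [S.dim₁, S.dim₂]) hs₁, heq _ _ _ (by rw [S.dim₁, S.dim₂]) hs₂⟩))
  by_contra hne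
  have hno : ∀ z, z ∈ transCentres hA K → z = 0 := fun z hz =>
    by_contra fun hz0 => hne (S.top_of_centre hR hsK hs₁ hs₂ hz hz0)
  have key : ∀ (A : Submodule F V), Module.finrank F A = k →
      (∀ x ∈ A, (g : V ≃ₗ[F] V) x ∈ W₁ ∨ (g : V ≃ₗ[F] V) x ∈ W₂) →
      A.map (g : V ≃ₗ[F] V).toLinearMap = W₁ ∨ A.map (g : V ≃ₗ[F] V).toLinearMap = W₂ := by
    intro A hA' h
    by_cases h1 : ∀ x ∈ A, (g : V ≃ₗ[F] V) x ∈ W₁
    · exact Or.inl (heq _ _ _ (by rw [S.dim₁, hA']) h1)
    refine Or.inr (heq _ _ _ (by rw [S.dim₂, hA']) fun x hx => ?_)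
    push Not at h1
    obtain ⟨y, hy, hy1⟩ := h1
    have hy2 := (h y hy).resolve_left hy1
    rcases h x hx with hx1 | hx2
    swap
    · exact hx2
    rcases h (x + y) (A.add_mem hx hy) with h' | h' <;> rw [map_add] at h'
    · exact absurd ((Submodule.add_mem_iff_right _ hx1).mp h') hy1
    · exact (Submodule.add_mem_iff_left _ hy2).mp h'
  have hsurj : ∀ x ∈ W₂, ∃ u ∈ W₁, (s : V ≃ₗ[F] V) u = x := fun x hx => by
    rw [← heq s W₁ W₂ (by rw [S.dim₁, S.dim₂]) hs₁] at hx
    exact hx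
  have k1 := key W₁ S.dim₁ fun x hx => S.point hR hgK hno hx
  have k2 := key W₂ S.dim₂ fun x hx => by
    obtain ⟨u, hu, rfl⟩ := hsurj x hx
    exact S.point hR (K.mul_mem hgK hsK) hno hu
  have hne12 : W₁.map (g : V ≃ₗ[F] V).toLinearMap ≠ W₂.map (g : V ≃ₗ[F] V).toLinearMap := fun h => by
    have h' := Submodule.map_injective_of_injective (g : V ≃ₗ[F] V).injective h
    have hd := S.compl.disjoint
    rw [← h', disjoint_self] at hd
    have := S.dim₁
    rw [hd, finrank_bot] at this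
    have := S.big
    omega
  apply hgM
  rw [hM]
  rcases k1 with k1 | k1 <;> rcases k2 with k2 | k2
  · exact absurd (k1.trans k2.symm) hne12
  · exact Or.inl ⟨k1, k2⟩
  · exact Or.inr ⟨k1, k2⟩
  · exact absurd (k1.trans k2.symm) hne12

end SympPair

end Cfsg.Lib.Classical
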