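import Mathlib
import Cfsg.Agent.Classical.Symp.SingPair
import Cfsg.Agent.Classical.Unitary.SingPairMatrix

set_option autoImplicit false
set_option linter.unusedVariables false
set_option linter.unusedSimpArgs false
set_option linter.style.haveILetI false

/-! The matrix form of the maximality of Lagrangian pair stabilisers in `Sp_2m(q)`. -/

namespace Cfsg.Lib.Classical

universe u

variable {F : Type u} [Field F] [Fintype F]

theorem two_ne_zero_of_odd_card (hodd : Odd (Fintype.card F)) : (2 : F) ≠ 0 :=
  Ring.two_ne_zero fun h => by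
    have := FiniteField.even_card_of_char_two h
    have := hodd
    rw [Nat.odd_iff] at this
    omega

theorem isMaximalIn_symplectic_singular_pair {m : ℕ} (hm : 3 ≤ m) (hodd : Odd (Fintype.card F))
    (D : Fin 2 → Submodule F (Fin m ⊕ Fin m → F)) (hD : Cfsg.Geo.IsMDecomposition m D)
    (hts : ∀ i, Cfsg.Geo.IsTotallySingularFor (Cfsg.sympForm m F) (D i)) :
    Cfsg.Geo.IsMaximalIn (Cfsg.spGL m F) (Cfsg.Geo.decompositionStabilizer D ⊓ Cfsg.spGL m F) := by
  have S : SympPair (sympBilin m F) (D 0) (D 1) m := ⟨sympBilin_isAlt m F, sympBilin_nondegenerate m F,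
    two_ne_zero_of_odd_card hodd, isCompl_of_decomposition hD,
    fun x hx y hy => by rw [sympBilin_eq_sympForm]; exact hts 0 x hx y hy,
    fun x hx y hy => by rw [sympBilin_eq_sympForm]; exact hts 1 x hx y hy,
    hD.finrank_eq 0, hD.finrank_eq 1, hm⟩
  refine isMaximalIn_of_isCoatom_comap (sympToGL m F) (range_sympToGL m) (S.isCoatom _ fun g => ?_)
  rw [Subgroup.mem_comap, sympToGL, MonoidHom.comp_apply, MulEquiv.coe_toMonoidHom, Subgroup.coe_subtype,
    mem_decompositionStabilizer_iff]
  exact perm_fin_two fun i j => (D i).map (g : (Fin m ⊕ Fin m → F) ≃ₗ[F] _).toLinearMap = D j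

end Cfsg.Lib.Classical
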