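import Mathlib
import Cfsg.Agent.Classical.Orth.OverfieldMax
import Cfsg.Agent.Classical.Symp.SingPairMatrix

/-! The normaliser of a unitary overfield of degree two is maximal in a symplectic group of odd characteristic. -/

set_option autoImplicit false
set_option linter.unusedSimpArgs false
set_option linter.unusedSectionVars false
set_option linter.unusedVariables false
set_option linter.style.haveILetI false
set_option linter.flexible false

namespace Cfsg.Lib.Classical

open Matrix

universe u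

variable {F : Type u} [Field F] [Fintype F] {ι : Type} [Fintype ι] [DecidableEq ι]

/-- A skew-adjoint square root of a non-square for an alternating form. -/
structure SJ (B : LinearMap.BilinForm F (ι → F)) (J : (ι → F) →ₗ[F] (ι → F)) (β : F) : Prop where
  alt : B.IsAlt
  nondeg : B.Nondegenerate
  two : (2 : F) ≠ 0
  sq : ∀ x, J (J x) = β • x
  adj : ∀ x y, B (J x) y = -B x (J y)
  noroot : ∀ r : F, r * r ≠ β
  big : 6 ≤ Fintype.card ι

namespace SJ

variable {B : LinearMap.BilinForm F (ι → F)} {J : (ι → F) →ₗ[F] (ι → F)} {β : F} (S : SJ B J β)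
include S

theorem swap (x y : ι → F) : B y (J x) = B x (J y) := by
  rw [← S.alt.neg_eq (J x) y, S.adj, neg_neg]

theorem neg (x y : ι → F) : B y x = -B x y := (S.alt.neg_eq x y).symm

theorem beta_ne : β ≠ 0 := fun h => S.noroot 0 (by rw [h, mul_zero])

theorem norm_ne {P R : F} (h : ¬ (P = 0 ∧ R = 0)) : R * R - β * (P * P) ≠ 0 := by
  intro e
  by_cases hP : P = 0
  · subst hP
    exact h ⟨rfl, mul_self_eq_zero.mp (by simpa using e)⟩
  · apply S.noroot (R / P)
    field_simp
    linear_combination e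

/-- The quadratic form `x ↦ B x (J x)`. -/
def form (_S : SJ B J β) : QuadraticForm F (ι → F) := LinearMap.BilinMap.toQuadraticMap (B.compl₂ J)

theorem form_apply (x : ι → F) : S.form x = B x (J x) := rfl

theorem polar_form (x y : ι → F) : QuadraticMap.polar (⇑S.form) x y = 2 * B x (J y) := by
  rw [SJ.form, LinearMap.BilinMap.polar_toQuadraticMap, LinearMap.compl₂_apply, LinearMap.compl₂_apply, S.swap x y]
  ring

theorem polar_J (x y : ι → F) : QuadraticMap.polar (⇑S.form) x (J y) = 2 * β * B x y := by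
  rw [S.polar_form, S.sq, map_smul, smul_eq_mul]; ring

theorem form_nondeg : (QuadraticMap.polarBilin S.form).Nondegenerate := by
    refine ⟨fun x hx => S.nondeg.1 x fun y => ?_, fun y hy => S.nondeg.2 y fun x => ?_⟩
    · have h := hx (J y)
      rw [QuadraticMap.polarBilin_apply_apply, S.polar_J] at h
      exact (mul_eq_zero.mp h).resolve_left (mul_ne_zero S.two S.beta_ne)
    · have h := hy (J x)
      rw [QuadraticMap.polarBilin_apply_apply, QuadraticMap.polar_comm, S.polar_J, S.neg x y] at h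
      exact neg_eq_zero.mp ((mul_eq_zero.mp h).resolve_left (mul_ne_zero S.two S.beta_ne))

theorem oj (h10 : 10 ≤ Fintype.card ι) : Refl.OJ S.form J 0 β where
  nondeg := S.form_nondeg
  sq := fun x => by rw [S.sq]; simp
  adj := fun x y => by rw [S.polar_form (J x) y, S.polar_J, S.polar_form x y, S.adj, S.sq, map_smul, smul_eq_mul]; ring
  scale := fun x => by rw [S.form_apply, S.form_apply, S.sq, map_smul, S.adj, smul_eq_mul]; ring
  diag := fun x => by rw [S.polar_J, S.alt x]; ring
  noroot := fun r h => S.noroot r (by linear_combination h)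
  big := h10

theorem form_line {u : ι → F} (hu : B u (J u) = 0) (p q : F) : B (p • u + q • J u) (J (p • u + q • J u)) = 0 := by
  simp only [map_add, map_smul, LinearMap.add_apply, LinearMap.smul_apply, smul_eq_mul, S.sq, S.adj, hu, S.alt u]
  ring

/-- The unitary transvections. -/
noncomputable def nT (u : ι → F) (c : F) : BilinIsom B :=
  sympT S.alt (J u) c * sympT S.alt u (-β * c)

theorem nT_apply {u : ι → F} (hu : B u (J u) = 0) (c : F) (x : ι → F) :
    ((S.nT u c : BilinIsom B) : (ι → F) ≃ₗ[F] (ι → F)) x =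
      x + (c * B x (J u)) • J u + (-β * c * B x u) • u := by
  rw [SJ.nT, BilinIsom.mul_apply', sympT_apply, sympT_apply, map_add, LinearMap.add_apply, map_smul,
    LinearMap.smul_apply, hu, smul_zero, add_zero]
  abel

theorem nT_comm {u : ι → F} (hu : B u (J u) = 0) (c : F) (x : ι → F) :
    ((S.nT u c : BilinIsom B) : (ι → F) ≃ₗ[F] (ι → F)) (J x) =
      J (((S.nT u c : BilinIsom B) : (ι → F) ≃ₗ[F] (ι → F)) x) := by
  rw [S.nT_apply hu, S.nT_apply hu, S.adj, S.adj, S.sq, map_add, map_add, map_smul, map_smul, map_smul, S.sq,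
    smul_eq_mul]
  module

variable {K : Subgroup (BilinIsom B)} (hN : ∀ u, B u (J u) = 0 → ∀ c, S.nT u c ∈ K)
include hN

theorem line_centre {e u : ι → F} (he : e ∈ transCentres S.alt K) (hu : B u (J u) = 0)
    (h : ¬ (B e u = 0 ∧ B e (J u) = 0)) :
    B e (J u) • J u + (-β * B e u) • u ∈ transCentres S.alt K ∧ B e (J u) • J u + (-β * B e u) • u ≠ 0 := by
  set l := B e (J u) • J u + (-β * B e u) • u with hl
  have hel : B e l ≠ 0 := by
    rw [hl, map_add, map_smul, map_smul, smul_eq_mul, smul_eq_mul]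
    intro e0
    exact S.norm_ne h (by linear_combination e0)
  have h' := transCentres_map he (hN u hu 1)
  rw [S.nT_apply hu, one_mul, mul_one, add_assoc] at h'
  have := transCentres_span he h' (by rw [map_add, S.alt e, zero_add]; exact hel) (-1) 1
  refine ⟨?_, fun h0 => hel (by rw [h0, map_zero])⟩
  rw [hl]
  convert this using 1
  module

theorem point {v x : ι → F} (hv : v ∈ transCentres S.alt K) (hx : B x (J x) = 0) (h1 : B v (J x) = 0)
    (h2 : B v x ≠ 0) : x ∈ transCentres S.alt K := by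
  have h := (S.line_centre hN hv hx fun h => h2 h.1).1
  rw [h1, zero_smul, zero_add] at h
  have := transCentres_smul h (-β * B v x)⁻¹
  rwa [smul_smul, inv_mul_cancel₀ (mul_ne_zero (neg_ne_zero.mpr S.beta_ne) h2), one_smul] at this

theorem point_of_line {w x : ι → F} (hw : ∀ p q : F, p • w + q • J w ∈ transCentres S.alt K) (hx : B x (J x) = 0)
    (h : ¬ (B w x = 0 ∧ B w (J x) = 0)) : x ∈ transCentres S.alt K := by
  refine S.point hN (hw (β * B w x) (B w (J x))) hx ?_ ?_
  · simp only [map_add, map_smul, LinearMap.add_apply, LinearMap.smul_apply, smul_eq_mul, S.adj, S.sq]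
    ring
  · simp only [map_add, map_smul, LinearMap.add_apply, LinearMap.smul_apply, smul_eq_mul, S.adj]
    intro e
    exact S.norm_ne h (by linear_combination -e)

omit hN in
theorem partner (h10 : 10 ≤ Fintype.card ι) {z : ι → F} (hz0 : z ≠ 0) (s t : F) :
    ∃ u, B u (J u) = 0 ∧ B z u = s ∧ B z (J u) = t := by
  obtain ⟨u, hu, huv⟩ := (S.oj h10).singular_with ![z, J z] ((S.oj h10).li_two hz0) ![2 * t, -2 * β * s] (by
    have := (S.oj h10).rad_le ![z, J z]; have := h10; omega)
  have e1 : QuadraticMap.polar (⇑S.form) u z = 2 * t := huv 0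
  have e2 : QuadraticMap.polar (⇑S.form) u (J z) = -2 * β * s := huv 1
  rw [S.polar_form, S.swap z u] at e1
  rw [S.polar_J, S.neg z u] at e2
  exact ⟨u, hu, mul_left_cancel₀ (mul_ne_zero S.two S.beta_ne) (by linear_combination -e2),
    mul_left_cancel₀ S.two e1⟩

theorem top_of_centre (h10 : 10 ≤ Fintype.card ι) {e : ι → F} (he : e ∈ transCentres S.alt K) (he0 : e ≠ 0) : K = ⊤ := by
  obtain ⟨u₀, hu₀, heu, -⟩ := S.partner h10 he0 1 0
  obtain ⟨hz, hz0⟩ := S.line_centre hN he hu₀ fun h => one_ne_zero (heu.symm.trans h.1)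
  obtain ⟨z, hz, hz0, hzq⟩ : ∃ z, z ∈ transCentres S.alt K ∧ z ≠ 0 ∧ B z (J z) = 0 :=
    ⟨_, hz, hz0, by rw [add_comm]; exact S.form_line hu₀ _ _⟩
  obtain ⟨u, hu, hzu, hzJu⟩ := S.partner h10 hz0 1 0
  have hpC : u ∈ transCentres S.alt K := S.point hN hz hu hzJu (by rw [hzu]; exact one_ne_zero)
  have hul : u ∉ (S.oj h10).line z := fun h => by
    obtain ⟨c, d, rfl⟩ := Submodule.mem_span_pair.mp h
    simp only [map_add, map_smul, smul_eq_mul, S.alt z, hzq] at hzu
    simp at hzu
  obtain ⟨w, hw, hwv⟩ := (S.oj h10).singular_with _ ((S.oj h10).li_four hz0 hul) ![0, -2 * β, 2, 0] (by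
    have := (S.oj h10).rad_le ![z, J z, u, J u]; have := h10; omega)
  have c1 : QuadraticMap.polar (⇑S.form) w z = 0 := hwv 0
  have c2 : QuadraticMap.polar (⇑S.form) w (J z) = -2 * β := hwv 1
  have c3 : QuadraticMap.polar (⇑S.form) w u = 2 := hwv 2
  have c4 : QuadraticMap.polar (⇑S.form) w (J u) = 0 := hwv 3
  have d1 : B z (J w) = 0 := by
    rw [S.polar_form, S.swap z w] at c1; exact (mul_eq_zero.mp c1).resolve_left S.two
  have d2 : B z w = 1 := by
    rw [S.polar_J, S.neg z w] at c2
    exact mul_left_cancel₀ (mul_ne_zero S.two S.beta_ne) (by linear_combination -c2)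
  have d3 : B u (J w) = 1 := by
    rw [S.polar_form, S.swap u w] at c3; exact mul_left_cancel₀ S.two (by linear_combination c3)
  have d4 : B u w = 0 := by
    rw [S.polar_J, S.neg u w] at c4
    exact neg_eq_zero.mp ((mul_eq_zero.mp c4).resolve_left (mul_ne_zero S.two S.beta_ne))
  have hwfull : ∀ p q : F, p • w + q • J w ∈ transCentres S.alt K := by
    intro p q
    by_cases h0 : q = 0 ∧ p = 0
    · rw [h0.1, h0.2, zero_smul, zero_smul, add_zero]; exact transCentres_zero _ _
    refine S.point hN (transCentres_span hz hpC (by rw [hzu]; exact one_ne_zero) p (-(q * β))) (S.form_line hw p q) ?_ ?_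
    · simp only [map_add, map_smul, LinearMap.add_apply, LinearMap.smul_apply, smul_eq_mul, S.sq, d1, d2, d3, d4]
      ring
    · simp only [map_add, map_smul, LinearMap.add_apply, LinearMap.smul_apply, smul_eq_mul, d1, d2, d3, d4]
      intro e1
      exact S.norm_ne h0 (by linear_combination e1)
  have hw0 : w ≠ 0 := fun h => by rw [h, map_zero] at d2; exact zero_ne_one d2
  have hsing : ∀ x, B x (J x) = 0 → x ∈ transCentres S.alt K := by
    intro x hx
    by_cases hxw : x ∈ (S.oj h10).line w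
    · obtain ⟨p, q, rfl⟩ := Submodule.mem_span_pair.mp hxw
      exact hwfull p q
    obtain ⟨y, hy, hyv⟩ := (S.oj h10).singular_with _ ((S.oj h10).li_four hw0 hxw) ![0, -2 * β, 0, -2 * β] (by
      have := (S.oj h10).rad_le ![w, J w, x, J x]; have := h10; omega)
    have e1 : QuadraticMap.polar (⇑S.form) y w = 0 := hyv 0
    have e2 : QuadraticMap.polar (⇑S.form) y (J w) = -2 * β := hyv 1
    have e4 : QuadraticMap.polar (⇑S.form) y (J x) = -2 * β := hyv 3
    have f1 : B w (J y) = 0 := by
      rw [S.polar_form, S.swap w y] at e1; exact (mul_eq_zero.mp e1).resolve_left S.two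
    have f2 : B w y = 1 := by
      rw [S.polar_J, S.neg w y] at e2
      exact mul_left_cancel₀ (mul_ne_zero S.two S.beta_ne) (by linear_combination -e2)
    have f4 : B y x = -1 := by
      rw [S.polar_J] at e4
      exact mul_left_cancel₀ (mul_ne_zero S.two S.beta_ne) (by linear_combination e4)
    refine S.point_of_line hN (w := y) (fun p q => ?_) hx fun h => by rw [f4] at h; simp at h
    by_cases h0 : p = 0 ∧ q = 0
    · rw [h0.1, h0.2, zero_smul, zero_smul, add_zero]; exact transCentres_zero _ _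
    refine S.point_of_line hN hwfull (S.form_line hy p q) fun h => h0 ?_
    simp only [map_add, map_smul, smul_eq_mul, S.sq, f1, f2] at h
    exact ⟨by linear_combination h.1, (mul_eq_zero.mp (show q * β = 0 by linear_combination h.2)).resolve_right S.beta_ne⟩
  refine eq_top_of_transCentres S.nondeg (hA := S.alt) fun v => ?_
  by_cases hv0 : v = 0
  · rw [hv0]; exact transCentres_zero _ _
  obtain ⟨w', hw', hvw, hvJw⟩ := S.partner h10 hv0 (-1) (B v (J v) / 2)
  have h1 : B (v - w') (J (v - w')) = 0 := by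
    simp only [map_sub, LinearMap.sub_apply, hw', S.swap v w', hvJw]
    field_simp [S.two]
    ring
  have := transCentres_add (hsing _ h1) (hsing w' hw') (by
    rw [map_sub, LinearMap.sub_apply, hvw, S.alt w', sub_zero]; exact neg_ne_zero.mpr one_ne_zero)
  rwa [sub_add_cancel] at this

omit hN in
/-- A singular vector with prescribed products, outside the given span. -/
theorem pick (h10 : 10 ≤ Fintype.card ι) {r : ℕ} (s : Fin r → (ι → F)) (hli : LinearIndependent F s) (val : Fin r → F)
    (h : Module.finrank F ↥(Submodule.span F (Set.range s) ⊓ HypQuad.perp S.form (Submodule.span F (Set.range s))) + r + 3 ≤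
      Fintype.card ι) :
    ∃ v, B v (J v) = 0 ∧ (∀ i, QuadraticMap.polar (⇑S.form) v (s i) = val i) ∧ v ∉ Submodule.span F (Set.range s) := by
  obtain ⟨v, hv, hvv⟩ := (S.oj h10).singular_with s hli val (by omega)
  set T := Submodule.span F (Set.range s) with hT
  by_cases hvT : v ∈ T
  swap
  · exact ⟨v, hv, hvv, hvT⟩
  obtain ⟨C, hC⟩ := (T ⊓ HypQuad.perp S.form T).exists_isCompl
  have h1 := HypQuad.finrank_perp S.form (S.oj h10).nondeg T
  have h2 := Submodule.finrank_add_eq_of_isCompl hC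
  have h3 := Submodule.finrank_sup_add_finrank_inf_eq (HypQuad.perp S.form T) C
  have h4 := Submodule.finrank_le (HypQuad.perp S.form T ⊔ C)
  have hdT : Module.finrank F T = r := (finrank_span_eq_card hli).trans (Fintype.card_fin r)
  rw [Module.finrank_fintype_fun_eq_card] at h1 h2 h4
  obtain ⟨p, hp, hp0, hQp⟩ := Refl.exists_singular S.form (HypQuad.perp S.form T ⊓ C) (by omega)
  have hpT : p ∉ T := fun hh => hp0 (Submodule.disjoint_def.mp hC.disjoint p ⟨hh, hp.1⟩ hp.2)
  refine ⟨v + p, ?_, fun i => ?_, fun hh => hpT ((Submodule.add_mem_iff_right _ hvT).mp hh)⟩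
  · show S.form (v + p) = 0
    rw [QuadraticMap.map_add (f := S.form), hv, hQp, (HypQuad.mem_perp S.form).mp hp.1 v hvT]; simp
  · rw [QuadraticMap.polar_add_left, hvv, QuadraticMap.polar_comm (⇑S.form) p,
      (HypQuad.mem_perp S.form).mp hp.1 _ (Submodule.subset_span ⟨i, rfl⟩), add_zero]

/-- Elements `T(p) T(e)` with a plane that is not a line of the structure give a centre. -/
theorem centre_of_rank_two (h10 : 10 ≤ Fintype.card ι) {e p : ι → F} (he0 : e ≠ 0) (hep : B e p = 0) (hp : p ∉ (S.oj h10).line e) {γ : F} (hγ : γ ≠ 0)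
    (hA : ∀ c, sympT S.alt p c * sympT S.alt e (γ * c) ∈ K) : e ∈ transCentres S.alt K := by
  classical
  set X : (ι → F) → Prop := fun x => B e x = 0 ∧ ∀ c, sympT S.alt x c * sympT S.alt e (γ * c) ∈ K with hX
  have hstable : ∀ g ∈ K, (g : (ι → F) ≃ₗ[F] (ι → F)) e = e → ∀ x, X x → X ((g : (ι → F) ≃ₗ[F] (ι → F)) x) := by
    rintro g hg hge x ⟨h1, h2⟩
    refine ⟨by rw [← hge, BilinIsom.map_form, h1], fun c => ?_⟩
    have := K.mul_mem (K.mul_mem hg (h2 c)) (K.inv_mem hg)
    rw [show g * (sympT S.alt x c * sympT S.alt e (γ * c)) * g⁻¹ =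
      (g * sympT S.alt x c * g⁻¹) * (g * sympT S.alt e (γ * c) * g⁻¹) by group, sympT_conj, sympT_conj, hge] at this
    exact this
  have hmove : ∀ x y, X x → X y → B y x ≠ 0 → ∀ t : F, X (y + t • x) := by
    rintro x y ⟨h1, h2⟩ hy hne t
    have hxe : B x e = 0 := by rw [S.neg e x, h1, neg_zero]
    have hye : B y e = 0 := by rw [S.neg e y, hy.1, neg_zero]
    have := hstable _ (h2 (t / B y x)) (by
      rw [BilinIsom.mul_apply', sympT_apply, sympT_apply, S.alt e, mul_zero, zero_smul, add_zero, h1, mul_zero,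
        zero_smul, add_zero]) y hy
    rwa [BilinIsom.mul_apply', sympT_apply, sympT_apply, hye, mul_zero, zero_smul, add_zero,
      div_mul_cancel₀ _ hne] at this
  have hp' : X p := ⟨hep, hA⟩
  have hseed : ∀ u, B u (J u) = 0 → B u e = 0 → B u (J e) = 0 → B u p = -1 → B u (J p) = 0 → ∀ t : F, X (p + t • u) := by
    intro u hu h1 h2 h3 h4 t
    have a1 : B e (J u) = 0 := by rw [← S.swap]; exact h2
    have a2 : B e u = 0 := by rw [S.neg u e, h1, neg_zero]
    have a3 : B p (J u) = 0 := by rw [← S.swap]; exact h4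
    have a4 : B p u = 1 := by rw [S.neg u p, h3, neg_neg]
    have := hstable _ (hN u hu (-t / β)) (by
      rw [S.nT_apply hu, a1, a2, mul_zero, mul_zero, zero_smul, zero_smul, add_zero, add_zero]) p hp'
    rw [S.nT_apply hu, a3, a4, mul_zero, zero_smul, add_zero, mul_one] at this
    rwa [show -β * (-t / β) = t by field_simp [S.beta_ne]] at this
  have hp0 : p ≠ 0 := fun h => hp (by rw [h]; exact Submodule.zero_mem _)
  have h2b : (2 : F) * β ≠ 0 := mul_ne_zero S.two S.beta_ne
  have hdec : ∀ {u x : ι → F} {v : F}, QuadraticMap.polar (⇑S.form) u (J x) = 2 * β * v → B u x = v := fun h => by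
    rw [S.polar_J] at h; exact mul_left_cancel₀ h2b h
  have hdec' : ∀ {u x : ι → F} {v : F}, QuadraticMap.polar (⇑S.form) u x = 2 * v → B u (J x) = v := fun h => by
    rw [S.polar_form] at h; exact mul_left_cancel₀ S.two h
  have hli := (S.oj h10).li_four he0 hp
  obtain ⟨u₁, q₁, hv₁, hu₁T⟩ : ∃ v, B v (J v) = 0 ∧
      (∀ i, QuadraticMap.polar (⇑S.form) v (![e, J e, p, J p] i) = ![2 * 0, 2 * β * 0, 2 * 0, 2 * β * -1] i) ∧
      v ∉ Submodule.span F (Set.range ![e, J e, p, J p]) := by
    set T := Submodule.span F (Set.range ![e, J e, p, J p]) with hT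
    have hdT : Module.finrank F T = 4 := (finrank_span_eq_card hli).trans (Fintype.card_fin 4)
    have hr := Submodule.finrank_mono (inf_le_left : T ⊓ HypQuad.perp S.form T ≤ T)
    by_cases hiso : T ≤ HypQuad.perp S.form T
    · obtain ⟨v, hv, hvv⟩ := (S.oj h10).singular_with _ hli ![2 * 0, 2 * β * 0, 2 * 0, 2 * β * -1] (by
        change Module.finrank F ↥(T ⊓ HypQuad.perp S.form T) + _ + _ ≤ _; have := h10; omega)
      refine ⟨v, hv, hvv, fun hvT => ?_⟩
      have e3 : QuadraticMap.polar (⇑S.form) v (J p) = 2 * β * -1 := hvv 3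
      have h0 := (HypQuad.mem_perp S.form).mp (hiso hvT) (J p) (Submodule.subset_span ⟨3, rfl⟩)
      rw [QuadraticMap.polar_comm, e3] at h0
      simp [h2b] at h0
    · have hlt := Submodule.finrank_lt_finrank_of_lt (s := T ⊓ HypQuad.perp S.form T) (t := T)
        (lt_of_le_not_ge inf_le_left fun h => hiso (h.trans inf_le_right))
      exact S.pick h10 _ hli _ (by change Module.finrank F ↥(T ⊓ HypQuad.perp S.form T) + _ + _ ≤ _; have := h10; omega)
  have a1 : B u₁ (J e) = 0 := hdec' (hv₁ 0)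
  have a2 : B u₁ e = 0 := hdec (hv₁ 1)
  have a3 : B u₁ (J p) = 0 := hdec' (hv₁ 2)
  have a4 : B u₁ p = -1 := hdec (hv₁ 3)
  have hli6 := (S.oj h10).li_six he0 hp hu₁T
  have hne : QuadraticMap.polar (⇑S.form) (![e, J e, p, J p, u₁, J u₁] 3) (![e, J e, p, J p, u₁, J u₁] 4) ≠ 0 := by
    show QuadraticMap.polar (⇑S.form) (J p) u₁ ≠ 0
    rw [QuadraticMap.polar_comm, S.polar_J, a4]
    simpa using h2b
  have hsol : ∀ t : F, ∃ v, S.form v = 0 ∧ ∀ i, QuadraticMap.polar (⇑S.form) v (![e, J e, p, J p, u₁, J u₁] i) =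
      ![2 * 0, 2 * β * 0, 2 * 0, 2 * β * -1, 2 * t, 2 * β * -1] i := fun t =>
    (S.oj h10).singular_with _ hli6 _ (by
      have := (S.oj h10).rad_six hli6 q₁ fun h => hne (by
        show QuadraticMap.polar (⇑S.form) (J p) u₁ = 0
        rw [QuadraticMap.polar_comm]; exact h.2)
      have := h10; omega)
  obtain ⟨t, u₂, q₂, hv₂, hu₂T⟩ : ∃ t v, B v (J v) = 0 ∧
      (∀ i, QuadraticMap.polar (⇑S.form) v (![e, J e, p, J p, u₁, J u₁] i) =
        ![2 * 0, 2 * β * 0, 2 * 0, 2 * β * -1, 2 * t, 2 * β * -1] i) ∧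
      v ∉ Submodule.span F (Set.range ![e, J e, p, J p, u₁, J u₁]) := by
    set T := Submodule.span F (Set.range ![e, J e, p, J p, u₁, J u₁]) with hT
    by_contra hall
    push Not at hall
    choose v hvq hvv using hsol
    have hvT : ∀ t, v t ∈ T := fun t => hall t (v t) (hvq t) (hvv t)
    have hperp : ∀ w, (∀ i, QuadraticMap.polar (⇑S.form) w (![e, J e, p, J p, u₁, J u₁] i) = 0) →
        ∀ z ∈ T, QuadraticMap.polar (⇑S.form) w z = 0 := fun w hw z hz =>
      (Submodule.span_le.mpr (by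
        rintro _ ⟨i, rfl⟩
        exact hw i) : T ≤ LinearMap.ker (QuadraticMap.polarBilin S.form w)) hz
    set r := v (-1) + v 1 - (2 : F) • v 0 with hr
    have hrT : r ∈ T := sub_mem (add_mem (hvT _) (hvT _)) (T.smul_mem _ (hvT _))
    have hr0 : ∀ z ∈ T, QuadraticMap.polar (⇑S.form) r z = 0 := hperp r fun i => by
      rw [hr, sub_eq_add_neg, QuadraticMap.polar_add_left, QuadraticMap.polar_add_left, QuadraticMap.polar_neg_left,
        QuadraticMap.polar_smul_left, hvv, hvv, hvv, smul_eq_mul]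
      fin_cases i <;> simp <;> ring
    have hrq : S.form r = 0 := by
      have := hr0 r hrT
      rw [QuadraticMap.polar_self, two_nsmul, ← two_mul] at this
      exact (mul_eq_zero.mp this).resolve_left S.two
    have h01 : QuadraticMap.polar (⇑S.form) (v 0) (v 1) = 0 := by
      have e1 := hvq (-1)
      have e2 : v (-1) = ((2 : F) • v 0 + (-1 : F) • v 1) + r := by rw [hr]; module
      have e3 : QuadraticMap.polar (⇑S.form) ((2 : F) • v 0 + (-1 : F) • v 1) r = 0 := by
        rw [QuadraticMap.polar_comm]; exact hr0 _ (add_mem (T.smul_mem _ (hvT _)) (T.smul_mem _ (hvT _)))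
      rw [e2, QuadraticMap.map_add (f := S.form), e3, hrq, QuadraticMap.map_add (f := S.form), QuadraticMap.map_smul,
        QuadraticMap.map_smul, hvq, hvq, QuadraticMap.polar_smul_left, QuadraticMap.polar_smul_right] at e1
      simpa [S.two] using e1
    set y := v 1 - v 0 with hy
    have hy0 : ∀ i, QuadraticMap.polar (⇑S.form) y (![e, J e, p, J p, u₁, J u₁] i) = ![0, 0, 0, 0, 2, 0] i := fun i => by
      rw [hy, QuadraticMap.polar_sub_left, hvv, hvv]
      fin_cases i <;> simp
    have hadj : ∀ z, QuadraticMap.polar (⇑S.form) (J y) z = -QuadraticMap.polar (⇑S.form) y (J z) := fun z => by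
      rw [(S.oj h10).adj, zero_mul, zero_sub]
    have hyJJ : ∀ z, QuadraticMap.polar (⇑S.form) y (J (J z)) = β * QuadraticMap.polar (⇑S.form) y z := fun z => by
      rw [S.sq, QuadraticMap.polar_smul_right, smul_eq_mul]
    have ye : QuadraticMap.polar (⇑S.form) y e = 0 := hy0 0
    have yJe : QuadraticMap.polar (⇑S.form) y (J e) = 0 := hy0 1
    have yp : QuadraticMap.polar (⇑S.form) y p = 0 := hy0 2
    have yJp : QuadraticMap.polar (⇑S.form) y (J p) = 0 := hy0 3
    have yu : QuadraticMap.polar (⇑S.form) y u₁ = 2 := hy0 4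
    have yJu : QuadraticMap.polar (⇑S.form) y (J u₁) = 0 := hy0 5
    have uu : QuadraticMap.polar (⇑S.form) u₁ u₁ = 0 := by rw [QuadraticMap.polar_self, show S.form u₁ = 0 from q₁, smul_zero]
    have uJu : QuadraticMap.polar (⇑S.form) u₁ (J u₁) = 0 := by rw [(S.oj h10).diag, zero_mul]
    have hw := hperp (v 0 - u₁ - J y) (fun i => by
      rw [QuadraticMap.polar_sub_left, QuadraticMap.polar_sub_left, hvv, hadj]
      fin_cases i
      · have : QuadraticMap.polar (⇑S.form) u₁ e = 2 * 0 := hv₁ 0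
        simp [this, yJe]
      · have : QuadraticMap.polar (⇑S.form) u₁ (J e) = 2 * β * 0 := hv₁ 1
        simp [this, hyJJ, ye]
      · have : QuadraticMap.polar (⇑S.form) u₁ p = 2 * 0 := hv₁ 2
        simp [this, yJp]
      · have : QuadraticMap.polar (⇑S.form) u₁ (J p) = 2 * β * -1 := hv₁ 3
        simp [this, hyJJ, yp]
      · simp [uu, yJu]
      · simp [uJu, hyJJ, yu]; ring) y (by rw [hy]; exact sub_mem (hvT _) (hvT _))
    have e4 : QuadraticMap.polar (⇑S.form) (v 0) y = 0 := by
      rw [hy, QuadraticMap.polar_sub_right, h01, QuadraticMap.polar_self, hvq, smul_zero, sub_zero]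
    rw [QuadraticMap.polar_sub_left, QuadraticMap.polar_sub_left, e4, QuadraticMap.polar_comm (⇑S.form) u₁,
      yu, QuadraticMap.polar_comm (⇑S.form) (J y), (S.oj h10).diag, zero_mul] at hw
    simp [S.two] at hw
  have b1 : B u₂ (J e) = 0 := hdec' (hv₂ 0)
  have b2 : B u₂ e = 0 := hdec (hv₂ 1)
  have b3 : B u₂ (J p) = 0 := hdec' (hv₂ 2)
  have b4 : B u₂ p = -1 := hdec (hv₂ 3)
  have b6 : B u₂ u₁ = -1 := hdec (hv₂ 5)
  set b := u₂ - u₁ with hb
  have hbT : J b ∉ Submodule.span F (Set.range ![e, J e, p, J p]) := by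
    intro h
    apply hu₂T
    have hsub : ∀ i : Fin 4, (![e, J e, p, J p] i) ∈ Submodule.span F (Set.range ![e, J e, p, J p, u₁, J u₁]) := fun i => by
      fin_cases i
      exacts [Submodule.subset_span ⟨0, rfl⟩, Submodule.subset_span ⟨1, rfl⟩, Submodule.subset_span ⟨2, rfl⟩,
        Submodule.subset_span ⟨3, rfl⟩]
    have hTJ : ∀ i : Fin 4, J (![e, J e, p, J p] i) ∈ Submodule.span F (Set.range ![e, J e, p, J p]) := fun i => by
      fin_cases i
      · exact Submodule.subset_span ⟨1, rfl⟩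
      · show J (J e) ∈ _
        rw [S.sq]; exact Submodule.smul_mem _ _ (Submodule.subset_span ⟨0, rfl⟩)
      · exact Submodule.subset_span ⟨3, rfl⟩
      · show J (J p) ∈ _
        rw [S.sq]; exact Submodule.smul_mem _ _ (Submodule.subset_span ⟨2, rfl⟩)
    have hJJ : J (J b) ∈ Submodule.span F (Set.range ![e, J e, p, J p]) :=
      (Submodule.span_le.mpr (by rintro _ ⟨i, rfl⟩; exact hTJ i) :
        Submodule.span F (Set.range ![e, J e, p, J p]) ≤ (Submodule.span F (Set.range ![e, J e, p, J p])).comap J) h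
    rw [S.sq, Submodule.smul_mem_iff _ S.beta_ne] at hJJ
    have := (Submodule.span_le.mpr (by rintro _ ⟨i, rfl⟩; exact hsub i) :
      Submodule.span F (Set.range ![e, J e, p, J p]) ≤ _) hJJ
    rw [show u₂ = b + u₁ by rw [hb, sub_add_cancel]]
    exact add_mem this (Submodule.subset_span ⟨4, rfl⟩)
  have hli5 : LinearIndependent F ![J b, e, J e, p, J p] := LinearIndependent.finCons hli hbT
  obtain ⟨u₃, q₃, hv₃⟩ : ∃ v, B v (J v) = 0 ∧ ∀ i, QuadraticMap.polar (⇑S.form) v (![J b, e, J e, p, J p] i) =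
      ![2 * β * -1, 2 * 0, 2 * β * 0, 2 * 0, 2 * β * -1] i := by
    set f := QuadraticMap.polar (⇑S.form) with hf
    have hsym : ∀ x y, f x y = f y x := fun x y => QuadraticMap.polar_comm _ x y
    have hJb : f (J p) (J b) = 0 := by
      have hb0 : f b p = 0 := by
        have e1 : f u₂ p = 2 * 0 := hv₂ 2
        have e2 : f u₁ p = 2 * 0 := hv₁ 2
        rw [hb, hf, QuadraticMap.polar_sub_left, ← hf, e1, e2, sub_self]
      rw [hf, (S.oj h10).JJ, ← hf, hsym, hb0, mul_zero]
    by_cases hJp : ∀ i, f (J p) (![J b, e, J e, p, J p] i) = 0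
    · refine (S.oj h10).singular_with_rad _ hli5 _ 4 hJp ?_ (by simp [h2b])
      have h0 : f (J p) (J p) = 0 := hJp 4
      rw [hf, QuadraticMap.polar_self, two_nsmul, ← two_mul] at h0
      exact (mul_eq_zero.mp h0).resolve_left S.two
    · refine (S.oj h10).singular_with _ hli5 _ ?_
      have hz : ¬ ((f p e = 0 ∧ f (J p) e = 0) ∧ (f p p = 0 ∧ f (J p) p = 0)) := by
        rintro ⟨⟨n1, n2⟩, n3, n4⟩
        apply hJp
        intro i
        fin_cases i
        · exact hJb
        · exact n2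
        · show f (J p) (J e) = 0
          rw [hf, (S.oj h10).JJ, ← hf, n1, mul_zero]
        · exact n4
        · show f (J p) (J p) = 0
          rw [hf, (S.oj h10).JJ, ← hf, n3, mul_zero]
      have hle := (S.oj h10).rad_add_le ![J b, e, J e, p, J p] ((S.oj h10).line p) (Submodule.span_le.mpr (by
        rintro _ (rfl | rfl)
        exacts [Submodule.subset_span ⟨3, rfl⟩, Submodule.subset_span ⟨4, rfl⟩])) (by
        intro w hw hwp
        obtain ⟨c, d, rfl⟩ := Submodule.mem_span_pair.mp hw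
        have hk : ∀ s, (s ∈ Submodule.span F (Set.range ![J b, e, J e, p, J p])) →
            (J s ∈ Submodule.span F (Set.range ![J b, e, J e, p, J p])) →
            ¬ (f p s = 0 ∧ f (J p) s = 0) → c • p + d • J p = 0 := by
          intro s hs hJs hne'
          have e1 := (HypQuad.mem_perp S.form).mp hwp s hs
          have e2 := (HypQuad.mem_perp S.form).mp hwp (J s) hJs
          have e5 : f p (J s) = -f (J p) s := by rw [hf, (S.oj h10).adj]; ring
          have e6 : f (J p) (J s) = -β * f p s := by rw [hf, (S.oj h10).JJ]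
          rw [QuadraticMap.polar_add_right, QuadraticMap.polar_smul_right, QuadraticMap.polar_smul_right, ← hf,
            hsym s, hsym s, smul_eq_mul, smul_eq_mul] at e1
          rw [QuadraticMap.polar_add_right, QuadraticMap.polar_smul_right, QuadraticMap.polar_smul_right, ← hf,
            hsym (J s), hsym (J s), e5, e6, smul_eq_mul, smul_eq_mul] at e2
          have hD := S.norm_ne (P := f p s) (R := f (J p) s) hne'
          have hc : c = 0 := (mul_eq_zero.mp (show (f (J p) s * f (J p) s - β * (f p s * f p s)) * c = 0 by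
            linear_combination -β * f p s * e1 - f (J p) s * e2)).resolve_left hD
          have hd : d = 0 := (mul_eq_zero.mp (show (f (J p) s * f (J p) s - β * (f p s * f p s)) * d = 0 by
            linear_combination f (J p) s * e1 + f p s * e2)).resolve_left hD
          simp [hc, hd]
        by_cases hn : f p e = 0 ∧ f (J p) e = 0
        · exact hk p (Submodule.subset_span ⟨3, rfl⟩) (Submodule.subset_span ⟨4, rfl⟩) fun h => hz ⟨hn, h⟩
        · exact hk e (Submodule.subset_span ⟨1, rfl⟩) (Submodule.subset_span ⟨2, rfl⟩) hn)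
      have h2p : Module.finrank F ((S.oj h10).line p) = 2 := by
        rw [← (S.oj h10).line_eq]; exact (finrank_span_eq_card ((S.oj h10).li_two hp0)).trans (Fintype.card_fin 2)
      have := h10
      omega
  have c0 : B u₃ b = -1 := hdec (hv₃ 0)
  have c1 : B u₃ (J e) = 0 := hdec' (hv₃ 1)
  have c2 : B u₃ e = 0 := hdec (hv₃ 2)
  have c3 : B u₃ (J p) = 0 := hdec' (hv₃ 3)
  have c4 : B u₃ p = -1 := hdec (hv₃ 4)
  have hy := hseed u₁ q₁ a2 a1 a4 a3 1
  have hz := hseed u₂ q₂ b2 b1 b4 b3 1
  have hw := hseed u₃ q₃ c2 c1 c4 c3 1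
  rw [one_smul] at hy hz hw
  have pb : B p b = 0 := by rw [hb, map_sub, S.neg u₂ p, S.neg u₁ p, b4, a4, sub_self]
  have pu : B p u₁ = 1 := by rw [S.neg u₁ p, a4, neg_neg]
  have pu2 : B p u₂ = 1 := by rw [S.neg u₂ p, b4, neg_neg]
  have pu3 : B p u₃ = 1 := by rw [S.neg u₃ p, c4, neg_neg]
  have bu3 : B b u₃ = 1 := by rw [S.neg u₃ b, c0, neg_neg]
  have x1 : X b := by
    have := hmove _ _ hy hz (by simp [map_add, LinearMap.add_apply, S.alt p, pu, b4, b6]) (-1)
    rwa [show p + u₂ + (-1 : F) • (p + u₁) = b by rw [hb]; module] at this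
  have x2 : X (b - p) := by
    have hu2 := hmove _ _ hp' hz (by simp [map_add, LinearMap.add_apply, S.alt p, b4]) (-1)
    rw [show p + u₂ + (-1 : F) • p = u₂ by module] at hu2
    have := hmove _ _ hy hu2 (by rw [map_add, b4, b6]; rw [← neg_add, neg_ne_zero, one_add_one_eq_two]; exact S.two) (-1)
    rwa [show u₂ + (-1 : F) • (p + u₁) = b - p by rw [hb]; module] at this
  have x3 : X (b + p) := by
    have bp : B b p = 0 := by rw [S.neg p b, pb, neg_zero]
    have h1 := hmove _ _ hw x1 (by rw [map_add, bp, bu3, zero_add]; exact one_ne_zero) 1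
    have h2 := hmove _ _ hp' h1 (by simp [map_add, LinearMap.add_apply, S.alt p, bp, c4]) 1
    have h3 := hmove _ _ hw h2 (by
      simp [map_add, LinearMap.add_apply, S.alt p, S.alt u₃, bp, bu3, pu3, c4, one_add_one_eq_two, S.two]) (-1)
    rwa [show b + (1 : F) • (p + u₃) + (1 : F) • p + (-1 : F) • (p + u₃) = b + p by module] at h3
  -- two decompositions of one quadratic form on an isotropic plane
  intro t
  have hkey : ∀ c : F, sympT S.alt p c * sympT S.alt b c =
      sympT S.alt (b + p) (c / 2) * sympT S.alt (b - p) (c / 2) := fun c => BilinIsom.ext' fun x => by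
    have bp : B b p = 0 := by rw [S.neg p b, pb, neg_zero]
    simp only [BilinIsom.mul_apply', sympT_apply, map_add, map_sub, map_smul, LinearMap.add_apply, LinearMap.sub_apply,
      LinearMap.smul_apply, smul_eq_mul, pb, bp, S.alt p, S.alt b, mul_zero, add_zero, sub_zero, sub_self]
    have h2 := S.two
    funext i
    simp only [Pi.add_apply, Pi.sub_apply, Pi.smul_apply, smul_eq_mul]
    field_simp
    ring
  have hcomm : ∀ {x : ι → F}, B e x = 0 → ∀ c d : F, sympT S.alt x c * sympT S.alt e d = sympT S.alt e d * sympT S.alt x c :=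
    fun {x} h c d => (sympT_commute S.alt (by rw [S.neg e x, h, neg_zero]) c d).eq
  set c := t / γ
  have hm := K.mul_mem (K.mul_mem (hp'.2 c) (x1.2 c)) (K.inv_mem (K.mul_mem (x3.2 (c / 2)) (x2.2 (c / 2))))
  have e1 : ∀ (A B' E E' : BilinIsom B), E * B' = B' * E → A * E * (B' * E') = A * B' * (E * E') := fun A B' E E' h => by
    rw [mul_assoc, ← mul_assoc E, h]; group
  rw [e1 _ _ _ _ (hcomm x1.1 _ _).symm, e1 _ _ _ _ (hcomm x2.1 _ _).symm, ← sympT_add, ← sympT_add, ← hkey,
    show γ * (c / 2) + γ * (c / 2) = γ * c by field_simp [S.two]; ring, sympT_add] at hm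
  convert hm using 1
  rw [show γ * c = t from mul_div_cancel₀ _ hγ]
  have hc := (show Commute (sympT S.alt p c) (sympT S.alt e t) from hcomm hep c t).mul_left
    (show Commute (sympT S.alt b c) (sympT S.alt e t) from hcomm x1.1 c t)
  rw [show ∀ P E : BilinIsom B, Commute P E → P * (E * E) * (P * E)⁻¹ = E from fun P E h => by
    rw [show P * (E * E) * (P * E)⁻¹ = P * E * P⁻¹ by group, h.eq, mul_inv_cancel_right]]
  exact hc

omit hN in
/-- The subgroup normalising the field is maximal. -/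
theorem isCoatom (h10 : 10 ≤ Fintype.card ι) (M : Subgroup (BilinIsom B))
    (hM : ∀ g : BilinIsom B, g ∈ M ↔ ∃ c d : F, ∀ x, (g : (ι → F) ≃ₗ[F] (ι → F)) (J x) =
      c • (g : (ι → F) ≃ₗ[F] (ι → F)) x + d • J ((g : (ι → F) ≃ₗ[F] (ι → F)) x)) : IsCoatom M := by
  have hnT : ∀ u, B u (J u) = 0 → ∀ c, S.nT u c ∈ M := fun u hu c =>
    (hM _).mpr ⟨0, 1, fun x => by rw [S.nT_comm hu, zero_smul, one_smul, zero_add]⟩
  refine ⟨fun htop => ?_, fun K hMK => ?_⟩
  · haveI : Nonempty ι := Fintype.card_pos_iff.mp (by have := h10; omega)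
    obtain ⟨z, hz⟩ := exists_ne (0 : ι → F)
    obtain ⟨v, hv, hzv, -⟩ := S.partner h10 hz 1 0
    have hv0 : v ≠ 0 := fun h => by rw [h, map_zero] at hzv; exact zero_ne_one hzv
    obtain ⟨c, d, hcd⟩ := (hM (sympT S.alt v 1)).mp (htop ▸ Subgroup.mem_top _)
    have h1 := hcd v
    simp only [sympT_apply, S.alt v, S.adj, hv, mul_zero, neg_zero, zero_smul, add_zero] at h1
    obtain ⟨rfl, hd⟩ := LinearIndependent.pair_iff.mp ((S.oj h10).li_two hv0) c (d - 1)
      (by linear_combination (norm := module) -h1)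
    obtain rfl : d = 1 := sub_eq_zero.mp hd
    have h2 := hcd z
    simp only [sympT_apply, hzv, one_mul, mul_one, zero_smul, one_smul, zero_add, map_add] at h2
    exact one_ne_zero (neg_eq_zero.mp (LinearIndependent.pair_iff.mp ((S.oj h10).li_two hv0) (B (J z) v) (-1)
      (by linear_combination (norm := module) h2)).2)
  obtain ⟨hle, g, hgK, hgM⟩ := SetLike.lt_iff_le_and_exists.mp hMK
  have hN : ∀ u, B u (J u) = 0 → ∀ c, S.nT u c ∈ K := fun u hu c => hle (hnT u hu c)
  have hbad : ¬ ∀ v, B v (J v) = 0 → (g : (ι → F) ≃ₗ[F] (ι → F)) (J v) ∈ (S.oj h10).line ((g : (ι → F) ≃ₗ[F] (ι → F)) v) := by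
    intro hall
    apply hgM
    set gl := (g : (ι → F) ≃ₗ[F] (ι → F))
    obtain ⟨c, d, hcd⟩ := (S.oj h10).scalar_of_lines (gl.symm.toLinearMap ∘ₗ J ∘ₗ gl.toLinearMap) fun v hv => by
      show gl.symm (J (gl v)) ∈ (S.oj h10).line v
      obtain ⟨c, d, h⟩ := Submodule.mem_span_pair.mp (hall v hv)
      by_cases hv0 : v = 0
      · subst hv0; simp
      have hd : d ≠ 0 := fun hd => by
        rw [hd, zero_smul, add_zero] at h
        have h' : c • v = J v := gl.injective (by rw [map_smul]; exact h)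
        exact one_ne_zero (neg_eq_zero.mp (LinearIndependent.pair_iff.mp ((S.oj h10).li_two hv0) c (-1)
          (by rw [h']; module)).2)
      have e : J (gl v) = gl (d⁻¹ • (J v - c • v)) := by
        rw [map_smul, map_sub, map_smul, ← h, add_sub_cancel_left, smul_smul, inv_mul_cancel₀ hd, one_smul]
      rw [e, LinearEquiv.symm_apply_apply]
      exact Submodule.smul_mem _ _ (sub_mem ((S.oj h10).J_self_mem v) (Submodule.smul_mem _ _ ((S.oj h10).self_mem_line v)))
    have hJg : ∀ x, J (gl x) = c • gl x + d • gl (J x) := fun x => by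
      rw [← map_smul, ← map_smul, ← map_add]
      exact (LinearEquiv.symm_apply_eq gl).mp (hcd x)
    have hd : d ≠ 0 := fun hd => by
      haveI : Nonempty ι := Fintype.card_pos_iff.mp (by have := h10; omega)
      obtain ⟨z, hz⟩ := exists_ne (0 : ι → F)
      have := hJg (gl.symm z)
      rw [hd, zero_smul, add_zero, LinearEquiv.apply_symm_apply] at this
      exact one_ne_zero (neg_eq_zero.mp (LinearIndependent.pair_iff.mp ((S.oj h10).li_two hz) c (-1)
        (by rw [this]; module)).2)
    refine (hM g).mpr ⟨-c / d, d⁻¹, fun x => ?_⟩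
    show gl (J x) = (-c / d) • gl x + d⁻¹ • J (gl x)
    rw [hJg x, smul_add, smul_smul, smul_smul, inv_mul_cancel₀ hd, one_smul, ← add_assoc, ← add_smul]
    rw [show -c / d + d⁻¹ * c = 0 by ring, zero_smul, zero_add]
  push Not at hbad
  obtain ⟨v, hv, hvl⟩ := hbad
  have hv0 : v ≠ 0 := fun h => hvl (by subst h; simp)
  refine S.top_of_centre hN h10 (e := (g : (ι → F) ≃ₗ[F] (ι → F)) v)
    (S.centre_of_rank_two hN h10 (by simpa using hv0) (by rw [BilinIsom.map_form]; exact hv) hvl (neg_ne_zero.mpr S.beta_ne)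
      fun c => ?_) (by simpa using hv0)
  have := K.mul_mem (K.mul_mem hgK (hN v hv c)) (K.inv_mem hgK)
  rw [SJ.nT, show g * (sympT S.alt (J v) c * sympT S.alt v (-β * c)) * g⁻¹ =
    (g * sympT S.alt (J v) c * g⁻¹) * (g * sympT S.alt v (-β * c) * g⁻¹) by group, sympT_conj, sympT_conj] at this
  exact this

end SJ

end Cfsg.Lib.Classical

namespace Cfsg.Lib.Classical

open Matrix

universe u

variable {F : Type u} [Field F] [Fintype F]

theorem mem_normalizer_iff_gen {ι : Type} [Fintype ι] [DecidableEq ι] {A : Subalgebra F (Matrix ι ι F)}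
    {k : Matrix ι ι F} (hk : k ∈ A) (hli : LinearIndependent F ![1, k])
    (hgen : ∀ x ∈ A, ∃ c d : F, x = c • (1 : Matrix ι ι F) + d • k) (g : GL ι F) :
    g ∈ Cfsg.Geo.subalgebraNormalizer A ↔
      ∃ c d : F, (g : Matrix ι ι F) * k = (c • (1 : Matrix ι ι F) + d • k) * (g : Matrix ι ι F) := by
  have h1 : ((g⁻¹ : GL ι F) : Matrix ι ι F) * (g : Matrix ι ι F) = 1 := by
    rw [← Units.val_mul, inv_mul_cancel, Units.val_one]
  have h2 : (g : Matrix ι ι F) * ((g⁻¹ : GL ι F) : Matrix ι ι F) = 1 := by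
    rw [← Units.val_mul, mul_inv_cancel, Units.val_one]
  constructor
  · intro h
    obtain ⟨c, d, e⟩ := hgen _ ((h k).mp hk)
    exact ⟨c, d, by rw [← e, mul_assoc, h1, mul_one]⟩
  · rintro ⟨c, d, e⟩
    have e1 : (g : Matrix ι ι F) * k * ((g⁻¹ : GL ι F) : Matrix ι ι F) = c • (1 : Matrix ι ι F) + d • k := by
      rw [e, mul_assoc, h2, mul_one]
    have hd : d ≠ 0 := fun hd => by
      have e2 : k = c • (1 : Matrix ι ι F) := by
        have := congrArg (fun x => ((g⁻¹ : GL ι F) : Matrix ι ι F) * x) e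
        simp only [hd, zero_smul, add_zero, smul_mul_assoc, mul_smul_comm, one_mul, h1] at this
        rwa [← mul_assoc, h1, one_mul] at this
      exact one_ne_zero (LinearIndependent.pair_iff.mp hli (-c) 1 (by rw [e2]; module)).2
    have e3 : ((g⁻¹ : GL ι F) : Matrix ι ι F) * k * (g : Matrix ι ι F) = d⁻¹ • (k - c • 1) := by
      have : k = d⁻¹ • ((g : Matrix ι ι F) * k * ((g⁻¹ : GL ι F) : Matrix ι ι F) - c • 1) := by
        rw [e1, add_sub_cancel_left, smul_smul, inv_mul_cancel₀ hd, one_smul]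
      conv_lhs => rw [this]
      simp only [mul_smul_comm, smul_mul_assoc, mul_sub, sub_mul, mul_one, one_mul, h1, ← mul_assoc]
      simp only [mul_assoc, h1, mul_one]
    intro x
    constructor
    · intro hx
      obtain ⟨p, q, rfl⟩ := hgen x hx
      rw [mul_add, add_mul, mul_smul_comm, mul_smul_comm, smul_mul_assoc, smul_mul_assoc, e1, mul_one, h2]
      exact A.add_mem (A.smul_mem A.one_mem _) (A.smul_mem (A.add_mem (A.smul_mem A.one_mem _) (A.smul_mem hk _)) _)
    · intro hx
      obtain ⟨p, q, e4⟩ := hgen _ hx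
      have : x = p • (1 : Matrix ι ι F) + q • (((g⁻¹ : GL ι F) : Matrix ι ι F) * k * (g : Matrix ι ι F)) := by
        have := congrArg (fun y => ((g⁻¹ : GL ι F) : Matrix ι ι F) * y * (g : Matrix ι ι F)) e4
        simp only [mul_add, add_mul, mul_smul_comm, smul_mul_assoc, mul_one, h1, ← mul_assoc] at this
        simp only [mul_assoc, h1, mul_one, one_mul] at this ⊢
        exact this
      rw [this, e3]
      exact A.add_mem (A.smul_mem A.one_mem _) (A.smul_mem (A.smul_mem (A.sub_mem hk (A.smul_mem A.one_mem _)) _) _)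

theorem isMaximalIn_symplectic_overfield_of {m : ℕ} (hm : 3 ≤ m) (hodd : Odd (Fintype.card F))
    (hcore : ∀ {J : (Fin m ⊕ Fin m → F) →ₗ[F] (Fin m ⊕ Fin m → F)} {β : F}, SJ (sympBilin m F) J β →
      ∀ M : Subgroup (BilinIsom (sympBilin m F)), (∀ g : BilinIsom (sympBilin m F), g ∈ M ↔ ∃ c d : F, ∀ x,
        (g : (Fin m ⊕ Fin m → F) ≃ₗ[F] (Fin m ⊕ Fin m → F)) (J x) =
          c • (g : (Fin m ⊕ Fin m → F) ≃ₗ[F] (Fin m ⊕ Fin m → F)) x +
            d • J ((g : (Fin m ⊕ Fin m → F) ≃ₗ[F] (Fin m ⊕ Fin m → F)) x)) → IsCoatom M)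
    (A : Subalgebra F (Matrix (Fin m ⊕ Fin m) (Fin m ⊕ Fin m) F)) (hA : Cfsg.Geo.IsFieldSubalgebra 2 A)
    (hac : Cfsg.Geo.IsAdjointClosedFor (Cfsg.sympForm m F) A)
    (hnsa : ¬ Cfsg.Geo.IsSelfAdjointFor (Cfsg.sympForm m F) A) :
    Cfsg.Geo.IsMaximalIn (Cfsg.spGL m F) (Cfsg.Geo.subalgebraNormalizer A ⊓ Cfsg.spGL m F) := by
  classical
  haveI : Nonempty (Fin m ⊕ Fin m) := ⟨Sum.inl ⟨0, by omega⟩⟩
  have h2 := two_ne_zero_of_odd_card (F := F) hodd
  obtain ⟨k₀, hk₀, hli₀, hgen₀⟩ := Refl.two_gens (K := Subalgebra.toSubmodule A) hA.finrank_eq (e := 1) A.one_mem one_ne_zero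
  obtain ⟨b₀, a₀, hab⟩ := hgen₀ (k₀ * k₀) (A.mul_mem hk₀ hk₀)
  set k := k₀ - (a₀ / 2) • (1 : Matrix (Fin m ⊕ Fin m) (Fin m ⊕ Fin m) F) with hkdef
  have hk : k ∈ A := A.sub_mem hk₀ (A.smul_mem A.one_mem _)
  set β := b₀ + (a₀ / 2) * (a₀ / 2) with hβ
  have hkk : k * k = β • 1 := by
    simp only [hkdef, sub_mul, mul_sub, smul_mul_assoc, mul_smul_comm, one_mul, mul_one, hab]
    rw [hβ]
    match_scalars <;> field_simp <;> ring
  have hgen : ∀ x ∈ A, ∃ c d : F, x = c • (1 : Matrix (Fin m ⊕ Fin m) (Fin m ⊕ Fin m) F) + d • k := fun x hx => by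
    obtain ⟨c, d, rfl⟩ := hgen₀ x hx
    exact ⟨c + d * (a₀ / 2), d, by rw [hkdef]; module⟩
  have hli : LinearIndependent F ![1, k] := LinearIndependent.pair_iff.mpr fun c d h => by
    obtain ⟨e1, e2⟩ := LinearIndependent.pair_iff.mp hli₀ (c - d * (a₀ / 2)) d (by rw [← h, hkdef]; module)
    subst e2
    exact ⟨by linear_combination e1, rfl⟩
  have hnoroot : ∀ r : F, r * r ≠ β := by
    intro r hr
    have hne : ∀ s : F, k - s • 1 ≠ 0 := fun s h =>
      one_ne_zero (LinearIndependent.pair_iff.mp hli (-s) 1 (by rw [← h]; module)).2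
    obtain ⟨y, -, hy⟩ := hA.inv _ (A.sub_mem hk (A.smul_mem A.one_mem r)) (hne r)
    apply hne (-r)
    have e : (k - (-r) • 1) * (k - r • 1) = 0 := by
      simp only [sub_mul, mul_sub, smul_mul_assoc, mul_smul_comm, one_mul, mul_one, hkk, ← hr]
      module
    have e' : k - (-r) • 1 = (k - (-r) • 1) * ((k - r • 1) * y) := by rw [hy, mul_one]
    rw [e', ← mul_assoc, e, zero_mul]
  obtain ⟨k', hk', hadj'⟩ := hac k hk
  obtain ⟨c, d, rfl⟩ := hgen k' hk'
  set B := sympBilin m F
  have hAlt : B.IsAlt := sympBilin_isAlt m F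
  have hnd : B.Nondegenerate := sympBilin_nondegenerate m F
  set J := k.mulVecLin with hJ
  have hJJ : ∀ x, J (J x) = β • x := fun x => by
    simp only [hJ, Matrix.mulVecLin_apply]
    rw [Matrix.mulVec_mulVec, hkk, Matrix.smul_mulVec, Matrix.one_mulVec]
  have hB : ∀ x y, B (J x) y = c * B x y + d * B x (J y) := fun x y => by
    rw [sympBilin_eq_sympForm, hJ, Matrix.mulVecLin_apply, hadj', ← sympBilin_eq_sympForm, Matrix.add_mulVec,
      Matrix.smul_mulVec, Matrix.smul_mulVec, Matrix.one_mulVec, map_add, map_smul, map_smul, smul_eq_mul, smul_eq_mul,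
      Matrix.mulVecLin_apply]
  have hB' : ∀ x y, B x (J y) = c * B x y + d * B (J x) y := fun x y => by
    have := hB y x
    rw [← hAlt.neg_eq x (J y), ← hAlt.neg_eq x y, ← hAlt.neg_eq (J x) y] at this
    linear_combination -this
  obtain ⟨x₀, y₀, hxy⟩ : ∃ x y, B x y ≠ 0 := by
    obtain ⟨x, hx⟩ := exists_ne (0 : Fin m ⊕ Fin m → F)
    by_contra h
    push Not at h
    exact hx (hnd.1 x (h x))
  have hlin : ∀ p q : F, (∀ x y, p * B x y + q * B x (J y) = 0) → p = 0 ∧ q = 0 := by
    intro p q h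
    refine LinearIndependent.pair_iff.mp hli p q (Matrix.toLin'.injective (LinearMap.ext fun y => ?_))
    rw [map_zero, LinearMap.zero_apply]
    refine hnd.2 _ fun x => ?_
    rw [Matrix.toLin'_apply, Matrix.add_mulVec, Matrix.smul_mulVec, Matrix.smul_mulVec, Matrix.one_mulVec, map_add,
      map_smul, map_smul, smul_eq_mul, smul_eq_mul]
    exact h x y
  obtain ⟨e1, e2⟩ := hlin (c + d * c) (d * d - 1) fun x y => by
    linear_combination -(hB' x y) - d * hB x y
  obtain ⟨e3, e4⟩ := hlin (c * c + d * d * β - β) (2 * c * d) fun x y => by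
    have h := hB (J x) y
    rw [hJJ, map_smul, LinearMap.smul_apply, smul_eq_mul, hB x y, hB x (J y), hJJ, map_smul, smul_eq_mul] at h
    linear_combination -h
  have hd0 : d ≠ 0 := fun h => by rw [h] at e2; norm_num at e2
  have hc : c = 0 := (mul_eq_zero.mp ((mul_eq_zero.mp e4).resolve_right hd0)).resolve_left h2
  have hd1 : d = -1 := by
    rcases mul_self_eq_one_iff.mp (sub_eq_zero.mp e2) with rfl | rfl
    · refine absurd (fun x hx u v => ?_) hnsa
      obtain ⟨p, q, rfl⟩ := hgen x hx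
      have := hB u v
      rw [hc, zero_mul, zero_add, one_mul] at this
      simp only [hJ, Matrix.mulVecLin_apply] at this
      simp only [← sympBilin_eq_sympForm, Matrix.add_mulVec, Matrix.smul_mulVec, Matrix.one_mulVec, map_add, map_smul,
        LinearMap.add_apply, LinearMap.smul_apply, smul_eq_mul]
      linear_combination q * this
    · rfl
  have S : SJ B J β := ⟨hAlt, hnd, h2, hJJ, fun x y => by rw [hB, hc, hd1]; ring, hnoroot,
    by simp [Fintype.card_sum]; omega⟩
  refine isMaximalIn_of_isCoatom_comap (sympToGL m F) (range_sympToGL m) (hcore S _ fun g => ?_)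
  rw [Subgroup.mem_comap, mem_normalizer_iff_gen hk hli hgen]
  refine exists_congr fun p => exists_congr fun q => ⟨fun h x => ?_, fun h => ?_⟩
  · have := congrArg (fun M => M *ᵥ x) h
    simp only [← Matrix.mulVec_mulVec, Matrix.add_mulVec, Matrix.smul_mulVec, Matrix.one_mulVec, sympToGL_mulVec] at this
    rw [sympToGL_mulVec, sympToGL_mulVec] at this
    simpa only [hJ, Matrix.mulVecLin_apply] using this
  · refine Matrix.toLin'.injective (LinearMap.ext fun x => ?_)
    simp only [Matrix.toLin'_apply, ← Matrix.mulVec_mulVec, Matrix.add_mulVec, Matrix.smul_mulVec, Matrix.one_mulVec,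
      sympToGL_mulVec]
    rw [sympToGL_mulVec, sympToGL_mulVec]
    simpa only [hJ, Matrix.mulVecLin_apply] using h x

theorem isMaximalIn_symplectic_overfield {m : ℕ} (hm : 5 ≤ m) (hodd : Odd (Fintype.card F))
    (A : Subalgebra F (Matrix (Fin m ⊕ Fin m) (Fin m ⊕ Fin m) F)) (hA : Cfsg.Geo.IsFieldSubalgebra 2 A)
    (hac : Cfsg.Geo.IsAdjointClosedFor (Cfsg.sympForm m F) A)
    (hnsa : ¬ Cfsg.Geo.IsSelfAdjointFor (Cfsg.sympForm m F) A) :
    Cfsg.Geo.IsMaximalIn (Cfsg.spGL m F) (Cfsg.Geo.subalgebraNormalizer A ⊓ Cfsg.spGL m F) :=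
  isMaximalIn_symplectic_overfield_of (by omega) hodd
    (fun {J β} S M hM => S.isCoatom (by simp [Fintype.card_sum]; omega) M hM) A hA hac hnsa

end Cfsg.Lib.Classical
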