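import Mathlib
import Cfsg.Prelude.Def_GeometricClasses
import Cfsg.Agent.Classical.Symp.ExtFieldDerangement
import Cfsg.Agent.Classical.Symp.OverfieldMax
import Cfsg.Agent.Classical.Unitary.Card

/-! Elements of prime order of the symplectic group and the normaliser of a unitary extension field. -/

set_option autoImplicit false
set_option linter.unusedSimpArgs false
set_option linter.unusedSectionVars false
set_option linter.unusedVariables false
set_option linter.style.haveILetI false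
set_option linter.flexible false

namespace Cfsg.Lib.Classical.SpUniDer

open Cfsg.Lib.Classical Cfsg.Lib.PrimeOrderPoly Cfsg.Lib.DualPoly
open Cfsg.Lib.Classical.SpExtDer (toGL toGL_val toGL_mem mem_spGL_iff fix_conj not_scalar card_spGL)
open Polynomial
open scoped Matrix

universe u

variable {F : Type u} [Field F] {d : ℕ}

local notation "MM" => Matrix (Fin d ⊕ Fin d) (Fin d ⊕ Fin d) F
local notation "VV" => (Fin d ⊕ Fin d → F)
local notation "GG" => GL (Fin d ⊕ Fin d) F

/-- A skew generator of a quadratic field of matrices. -/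
structure Uni (K : Subalgebra F (Matrix (Fin d ⊕ Fin d) (Fin d ⊕ Fin d) F))
    (J : Matrix (Fin d ⊕ Fin d) (Fin d ⊕ Fin d) F) (δ : F) : Prop where
  field : Cfsg.Geo.IsFieldSubalgebra 2 K
  mem : J ∈ K
  two : (2 : F) ≠ 0
  sq : J * J = δ • 1
  noroot : ∀ s : F, s * s ≠ δ
  skew : ∀ u v : Fin d ⊕ Fin d → F, sympBilin d F (J *ᵥ u) v = -sympBilin d F u (J *ᵥ v)
  gen : ∀ a ∈ K, ∃ s t : F, a = s • (1 : Matrix (Fin d ⊕ Fin d) (Fin d ⊕ Fin d) F) + t • J

variable {K : Subalgebra F (Matrix (Fin d ⊕ Fin d) (Fin d ⊕ Fin d) F)}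
  {J : Matrix (Fin d ⊕ Fin d) (Fin d ⊕ Fin d) F} {δ : F}

theorem exists_uni [Fintype F] (hd : 0 < d) (hodd : Odd (Fintype.card F)) (hA : Cfsg.Geo.IsFieldSubalgebra 2 K)
    (hac : Cfsg.Geo.IsAdjointClosedFor (Cfsg.sympForm d F) K)
    (hnsa : ¬ Cfsg.Geo.IsSelfAdjointFor (Cfsg.sympForm d F) K) : ∃ J δ, Uni K J δ := by
  classical
  haveI : Nonempty (Fin d ⊕ Fin d) := ⟨Sum.inl ⟨0, hd⟩⟩
  have h2 := two_ne_zero_of_odd_card (F := F) hodd
  obtain ⟨k₀, hk₀, hli₀, hgen₀⟩ := Refl.two_gens (K := Subalgebra.toSubmodule K) hA.finrank_eq (e := 1) K.one_mem one_ne_zero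
  obtain ⟨b₀, a₀, hab⟩ := hgen₀ (k₀ * k₀) (K.mul_mem hk₀ hk₀)
  set k := k₀ - (a₀ / 2) • (1 : MM) with hkdef
  have hk : k ∈ K := K.sub_mem hk₀ (K.smul_mem K.one_mem _)
  set β := b₀ + (a₀ / 2) * (a₀ / 2) with hβ
  have hkk : k * k = β • 1 := by
    simp only [hkdef, sub_mul, mul_sub, smul_mul_assoc, mul_smul_comm, one_mul, mul_one, hab]
    rw [hβ]
    match_scalars <;> field_simp <;> ring
  have hgen : ∀ x ∈ K, ∃ c d' : F, x = c • (1 : MM) + d' • k := fun x hx => by
    obtain ⟨c, d', rfl⟩ := hgen₀ x hx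
    exact ⟨c + d' * (a₀ / 2), d', by rw [hkdef]; module⟩
  have hli : LinearIndependent F ![1, k] := LinearIndependent.pair_iff.mpr fun c d' h => by
    obtain ⟨e1, e2⟩ := LinearIndependent.pair_iff.mp hli₀ (c - d' * (a₀ / 2)) d' (by rw [← h, hkdef]; module)
    subst e2
    exact ⟨by linear_combination e1, rfl⟩
  have hnoroot : ∀ r : F, r * r ≠ β := by
    intro r hr
    have hne : ∀ s : F, k - s • 1 ≠ 0 := fun s h =>
      one_ne_zero (LinearIndependent.pair_iff.mp hli (-s) 1 (by rw [← h]; module)).2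
    obtain ⟨y, -, hy⟩ := hA.inv _ (K.sub_mem hk (K.smul_mem K.one_mem r)) (hne r)
    apply hne (-r)
    have e : (k - (-r) • 1) * (k - r • 1) = 0 := by
      simp only [sub_mul, mul_sub, smul_mul_assoc, mul_smul_comm, one_mul, mul_one, hkk, ← hr]
      module
    have e' : k - (-r) • 1 = (k - (-r) • 1) * ((k - r • 1) * y) := by rw [hy, mul_one]
    rw [e', ← mul_assoc, e, zero_mul]
  obtain ⟨k', hk', hadj'⟩ := hac k hk
  obtain ⟨c, d', rfl⟩ := hgen k' hk'
  set B := sympBilin d F
  have hAlt : B.IsAlt := sympBilin_isAlt d F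
  have hnd : B.Nondegenerate := sympBilin_nondegenerate d F
  have hB : ∀ x y, B (k *ᵥ x) y = c * B x y + d' * B x (k *ᵥ y) := fun x y => by
    rw [sympBilin_eq_sympForm, hadj', ← sympBilin_eq_sympForm, Matrix.add_mulVec, Matrix.smul_mulVec,
      Matrix.smul_mulVec, Matrix.one_mulVec, map_add, map_smul, map_smul, smul_eq_mul, smul_eq_mul]
  have hB' : ∀ x y, B x (k *ᵥ y) = c * B x y + d' * B (k *ᵥ x) y := fun x y => by
    have := hB y x
    rw [← hAlt.neg_eq x (k *ᵥ y), ← hAlt.neg_eq x y, ← hAlt.neg_eq (k *ᵥ x) y] at this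
    linear_combination -this
  have hlin : ∀ p q : F, (∀ x y, p * B x y + q * B x (k *ᵥ y) = 0) → p = 0 ∧ q = 0 := by
    intro p q h
    refine LinearIndependent.pair_iff.mp hli p q (Matrix.toLin'.injective (LinearMap.ext fun y => ?_))
    rw [map_zero, LinearMap.zero_apply]
    refine hnd.2 _ fun x => ?_
    rw [Matrix.toLin'_apply, Matrix.add_mulVec, Matrix.smul_mulVec, Matrix.smul_mulVec, Matrix.one_mulVec, map_add,
      map_smul, map_smul, smul_eq_mul, smul_eq_mul]
    exact h x y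
  obtain ⟨e1, e2⟩ := hlin (c + d' * c) (d' * d' - 1) fun x y => by
    linear_combination -(hB' x y) - d' * hB x y
  obtain ⟨e3, e4⟩ := hlin (c * c + d' * d' * β - β) (2 * c * d') fun x y => by
    have h := hB (k *ᵥ x) y
    rw [Matrix.mulVec_mulVec, hkk, Matrix.smul_mulVec, Matrix.one_mulVec, map_smul, LinearMap.smul_apply, smul_eq_mul,
      hB x y, hB x (k *ᵥ y), Matrix.mulVec_mulVec, hkk, Matrix.smul_mulVec, Matrix.one_mulVec, map_smul, smul_eq_mul] at h
    linear_combination -h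
  have hd0 : d' ≠ 0 := fun h => by rw [h] at e2; norm_num at e2
  have hc : c = 0 := (mul_eq_zero.mp ((mul_eq_zero.mp e4).resolve_right hd0)).resolve_left h2
  refine ⟨k, β, hA, hk, h2, hkk, hnoroot, fun u v => ?_, hgen⟩
  rcases mul_self_eq_one_iff.mp (sub_eq_zero.mp e2) with rfl | rfl
  · refine absurd (fun x hx u v => ?_) hnsa
    obtain ⟨p, q, rfl⟩ := hgen x hx
    have := hB u v
    rw [hc, zero_mul, zero_add, one_mul] at this
    simp only [← sympBilin_eq_sympForm, Matrix.add_mulVec, Matrix.smul_mulVec, Matrix.one_mulVec, map_add, map_smul,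
      LinearMap.add_apply, LinearMap.smul_apply, smul_eq_mul]
    linear_combination q * this
  · rw [hB, hc]; ring

theorem Uni.ne_zero (S : Uni K J δ) : δ ≠ 0 := fun h => S.noroot 0 (by rw [h, mul_zero])

theorem Uni.inj (S : Uni K J δ) {v : VV} (h : J *ᵥ v = 0) : v = 0 := by
  have := congrArg (fun w => J *ᵥ w) h
  rw [Matrix.mulVec_mulVec, S.sq, Matrix.smul_mulVec, Matrix.one_mulVec, Matrix.mulVec_zero] at this
  exact (smul_eq_zero.mp this).resolve_left S.ne_zero

theorem gl_cancel (g : GG) : (g : MM) * ((g⁻¹ : GG) : MM) = 1 ∧ ((g⁻¹ : GG) : MM) * (g : MM) = 1 :=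
  ⟨by rw [← Units.val_mul, mul_inv_cancel, Units.val_one], by rw [← Units.val_mul, inv_mul_cancel, Units.val_one]⟩

/-- The normaliser: linear or anti-linear maps. -/
theorem Uni.norm_cases (S : Uni K J δ) {g : GG} (hg : g ∈ Cfsg.Geo.subalgebraNormalizer K) :
    (g : MM) * J = J * (g : MM) ∨ (g : MM) * J = -(J * (g : MM)) := by
  obtain ⟨h1, h2⟩ := gl_cancel g
  set J' := (g : MM) * J * ((g⁻¹ : GG) : MM) with hJ'
  have hJ'K : J' ∈ K := (hg J).mp S.mem
  have hsq : J' * J' = δ • 1 := by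
    rw [hJ', show (g : MM) * J * ((g⁻¹ : GG) : MM) * ((g : MM) * J * ((g⁻¹ : GG) : MM)) =
      (g : MM) * J * (((g⁻¹ : GG) : MM) * (g : MM)) * J * ((g⁻¹ : GG) : MM) by simp only [mul_assoc], h2, mul_one,
      mul_assoc (g : MM), S.sq, mul_smul_comm, mul_one, smul_mul_assoc, h1]
  have hprod : (J' - J) * (J' + J) = 0 := by
    rw [sub_mul, mul_add, mul_add, hsq, S.sq, S.field.comm J S.mem J' hJ'K]; abel
  have hgJ : (g : MM) * J = J' * (g : MM) := by rw [hJ', mul_assoc, h2, mul_one]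
  by_cases h : J' - J = 0
  · left; rw [hgJ, sub_eq_zero.mp h]
  · right
    obtain ⟨y, hy, hyy⟩ := S.field.inv _ (K.sub_mem hJ'K S.mem) h
    have hyy' : y * (J' - J) = 1 := by rw [S.field.comm y hy _ (K.sub_mem hJ'K S.mem), hyy]
    have h0 : J' + J = 0 := by rw [← one_mul (J' + J), ← hyy', mul_assoc, hprod, mul_zero]
    rw [hgJ, eq_neg_of_add_eq_zero_left h0, neg_mul]

theorem Uni.mem_norm (S : Uni K J δ) {g : GG} {ε : F} (hε : ε * ε = 1) (hg : (g : MM) * J = ε • (J * (g : MM))) :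
    g ∈ Cfsg.Geo.subalgebraNormalizer K := by
  obtain ⟨h1, h2⟩ := gl_cancel g
  have conjJ : (g : MM) * J * ((g⁻¹ : GG) : MM) = ε • J := by rw [hg, smul_mul_assoc, mul_assoc, h1, mul_one]
  have conjJ' : ((g⁻¹ : GG) : MM) * J * (g : MM) = ε • J := by
    have e : J = ε • ((g : MM) * J * ((g⁻¹ : GG) : MM)) := by rw [conjJ, smul_smul, hε, one_smul]
    conv_lhs => rw [e]
    simp only [mul_smul_comm, smul_mul_assoc, mul_assoc, h2, mul_one]
    rw [← mul_assoc, h2, one_mul]
  intro a
  constructor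
  · intro ha
    obtain ⟨s, t, rfl⟩ := S.gen a ha
    rw [mul_add, add_mul, mul_smul_comm, mul_smul_comm, smul_mul_assoc, smul_mul_assoc, conjJ, mul_one, h1]
    exact K.add_mem (K.smul_mem K.one_mem _) (K.smul_mem (K.smul_mem S.mem _) _)
  · intro ha
    obtain ⟨s, t, hst⟩ := S.gen _ ha
    have e : a = s • (1 : MM) + t • (ε • J) := by
      have := congrArg (fun Y => ((g⁻¹ : GG) : MM) * Y * (g : MM)) hst
      simp only [mul_add, add_mul, mul_smul_comm, smul_mul_assoc, conjJ', mul_one, h2] at this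
      simp only [mul_assoc, h2, mul_one] at this
      rwa [← mul_assoc, h2, one_mul] at this
    rw [e]
    exact K.add_mem (K.smul_mem K.one_mem _) (K.smul_mem (K.smul_mem S.mem _) _)

theorem Uni.anti_fix (S : Uni K J δ) [Fintype F] {g : GG} (hg : (g : MM) * J = -(J * (g : MM))) :
    Module.finrank F (PrimeOrd.fix (Matrix.toLin' (g : MM))) ≤ d := by
  set W := PrimeOrd.fix (Matrix.toLin' (g : MM))
  have hinj : Function.Injective (Matrix.toLin' J) := (injective_iff_map_eq_zero _).2 fun v hv => S.inj (by rwa [Matrix.toLin'_apply] at hv)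
  have hinf : W ⊓ W.map (Matrix.toLin' J) = ⊥ := by
    rw [eq_bot_iff]
    rintro _ ⟨hw, v, hv, rfl⟩
    rw [SetLike.mem_coe, PrimeOrd.mem_fix, Matrix.toLin'_apply, Matrix.toLin'_apply] at hw
    rw [SetLike.mem_coe, PrimeOrd.mem_fix, Matrix.toLin'_apply] at hv
    rw [Matrix.mulVec_mulVec, hg, Matrix.neg_mulVec, ← Matrix.mulVec_mulVec, hv] at hw
    have h0 : (2 : F) • (J *ᵥ v) = 0 := by
      rw [two_smul]; nth_rw 1 [← hw]; exact neg_add_cancel _
    simp [S.inj ((smul_eq_zero.mp h0).resolve_left S.two)]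
  have h1 := Submodule.finrank_sup_add_finrank_inf_eq W (W.map (Matrix.toLin' J))
  rw [hinf, finrank_bot, (Submodule.equivMapOfInjective _ hinj W).symm.finrank_eq] at h1
  have h2 := Submodule.finrank_le (W ⊔ W.map (Matrix.toLin' J))
  rw [finrank_sympSpace] at h2
  omega

theorem Uni.comm_of_odd (S : Uni K J δ) {g : GG} (hg : g ∈ Cfsg.Geo.subalgebraNormalizer K) {r : ℕ} (hr : Odd r)
    (hgr : (g : MM) ^ r = 1) : (g : MM) * J = J * (g : MM) := by
  refine (S.norm_cases hg).resolve_right fun h => ?_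
  have key : ∀ n : ℕ, (g : MM) ^ n * J = ((-1 : F) ^ n) • (J * (g : MM) ^ n) := fun n => by
    induction n with
    | zero => simp
    | succ n ih =>
      rw [pow_succ, mul_assoc, h, mul_neg, ← mul_assoc, ih, pow_succ (-1 : F), mul_neg_one, neg_smul, smul_mul_assoc,
        mul_assoc]
  have h1 := key r
  rw [hgr, one_mul, hr.neg_one_pow, mul_one, neg_one_smul] at h1
  have h0 : (2 : F) • J = 0 := by rw [two_smul]; nth_rw 2 [h1]; exact add_neg_cancel _
  have := congrArg (fun Y => Y * J) ((smul_eq_zero.mp h0).resolve_left S.two)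
  rw [S.sq, zero_mul] at this
  rcases isEmpty_or_nonempty (Fin d ⊕ Fin d) with he | he
  · obtain ⟨s, hs⟩ : ∃ s : F, s * s = δ := by
      by_contra hno
      exact zero_ne_one (α := F) (by
        have hfin := S.field.finrank_eq
        haveI : Subsingleton K := ⟨fun a b => Subtype.ext (Subsingleton.elim _ _)⟩
        rw [Module.finrank_zero_of_subsingleton] at hfin
        omega)
    exact S.noroot s hs
  · exact S.ne_zero ((smul_eq_zero.mp this).resolve_right one_ne_zero)

end Cfsg.Lib.Classical.SpUniDer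

namespace Cfsg.Lib.Classical.SpUniDer

open Cfsg.Lib.Classical Cfsg.Lib.PrimeOrderPoly Cfsg.Lib.DualPoly
open Cfsg.Lib.Classical.SpExtDer (toGL toGL_val toGL_mem mem_spGL_iff fix_conj not_scalar card_spGL)
open Polynomial
open scoped Matrix

universe u

variable {F : Type u} [Field F] [Fintype F] {d : ℕ}

local notation "MM" => Matrix (Fin d ⊕ Fin d) (Fin d ⊕ Fin d) F
local notation "VV" => (Fin d ⊕ Fin d → F)
local notation "GG" => GL (Fin d ⊕ Fin d) F

variable {K : Subalgebra F (Matrix (Fin d ⊕ Fin d) (Fin d ⊕ Fin d) F)}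
  {J : Matrix (Fin d ⊕ Fin d) (Fin d ⊕ Fin d) F} {δ : F} {p r : ℕ} [Fact p.Prime] [CharP F p] [Fact r.Prime]

/-- A bad element. -/
def Bad (r : ℕ) (K : Subalgebra F (Matrix (Fin d ⊕ Fin d) (Fin d ⊕ Fin d) F)) : Prop :=
  ∃ A : Matrix.symplecticGroup (Fin d) F, (A : Matrix (Fin d ⊕ Fin d) (Fin d ⊕ Fin d) F) ^ r = 1 ∧
    (∀ z : F, (A : Matrix (Fin d ⊕ Fin d) (Fin d ⊕ Fin d) F) ≠ z • 1) ∧
    ∀ g ∈ Cfsg.spGL d F, g⁻¹ * toGL d F A * g ∉ Cfsg.Geo.subalgebraNormalizer K

include p in
theorem Uni.transvection_bad (S : Uni K J δ) (hd : 2 ≤ d) : Bad p K := by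
  classical
  set a : Fin d ⊕ Fin d := Sum.inl ⟨0, by omega⟩ with ha
  set b : Fin d ⊕ Fin d := Sum.inr ⟨0, by omega⟩ with hb
  haveI : Nonempty (Fin d ⊕ Fin d) := ⟨a⟩
  obtain ⟨N, hN⟩ : ∃ N : MM, ∀ v, N *ᵥ v = Pi.single a (v b) := ⟨Matrix.single a b (1 : F), fun v => by
    funext o
    simp only [Matrix.mulVec, dotProduct, Matrix.single_apply, Pi.single_apply]
    by_cases ho : o = a
    · subst ho; simp
    · simp [ho, Ne.symm ho]⟩
  have hN2 : N * N = 0 := Matrix.ext_of_mulVec_single fun o => by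
    rw [← Matrix.mulVec_mulVec, hN, hN, Matrix.zero_mulVec, Pi.single_eq_of_ne (by simp [ha, hb]), Pi.single_zero]
  have hmem : 1 + N ∈ Matrix.symplecticGroup (Fin d) F := (mem_symplectic_iff_form _).2 fun u v => by
    rw [Matrix.add_mulVec, Matrix.add_mulVec, Matrix.one_mulVec, Matrix.one_mulVec, hN, hN, sympBilin_eq_sum,
      sympBilin_eq_sum]
    refine Finset.sum_congr rfl fun i _ => ?_
    by_cases hi : i = ⟨0, by omega⟩
    · subst hi; simp [ha, hb]; ring
    · simp [ha, hb, hi]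
  have hT : ∀ v, (Matrix.toLin' (1 + N) - 1 : Module.End F VV) v = Pi.single a (v b) := fun v => by
    rw [LinearMap.sub_apply, Module.End.one_apply, Matrix.toLin'_apply, Matrix.add_mulVec, Matrix.one_mulVec,
      add_sub_cancel_left, hN]
  have hfix : Module.finrank F (PrimeOrd.fix (Matrix.toLin' (1 + N))) + 1 = 2 * d := by
    have h1 := LinearMap.finrank_range_add_finrank_ker (Matrix.toLin' (1 + N) - 1)
    rw [finrank_sympSpace] at h1
    have e : LinearMap.range (Matrix.toLin' (1 + N) - 1) = F ∙ (Pi.single a (1 : F) : VV) := by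
      refine le_antisymm ?_ ?_
      · rintro _ ⟨v, rfl⟩
        rw [hT]
        exact Submodule.mem_span_singleton.mpr ⟨v b, by rw [← Pi.single_smul, smul_eq_mul, mul_one]⟩
      · rw [Submodule.span_le, Set.singleton_subset_iff]
        exact ⟨Pi.single b 1, by rw [hT, Pi.single_eq_same]⟩
    rw [e, finrank_span_singleton (by simp)] at h1
    unfold PrimeOrd.fix
    omega
  refine ⟨⟨1 + N, hmem⟩, ?_, not_scalar (f := 2 * d - 1) (x := 1 + N) (by omega) (by omega) (by omega), ?_⟩
  · show (1 + N) ^ p = 1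
    rw [add_pow_char_of_commute p (Commute.one_left N), one_pow,
      show N ^ p = 0 from pow_eq_zero_of_le (Fact.out : p.Prime).two_le (by rw [_root_.sq, hN2]), add_zero]
  intro g hg hy
  have hyfix : Module.finrank F (PrimeOrd.fix (Matrix.toLin' ((g⁻¹ * toGL d F ⟨1 + N, hmem⟩ * g : GG) : MM))) + 1 = 2 * d := by
    rw [fix_conj]; exact hfix
  set y := g⁻¹ * toGL d F ⟨1 + N, hmem⟩ * g with hydef
  have hcomm : (y : MM) * J = J * (y : MM) := (S.norm_cases hy).resolve_right fun h => by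
    have := S.anti_fix h; omega
  -- the line is invariant
  have h1 := LinearMap.finrank_range_add_finrank_ker (Matrix.toLin' (y : MM) - 1)
  rw [finrank_sympSpace] at h1
  unfold PrimeOrd.fix at hyfix
  have hr1 : Module.finrank F (LinearMap.range (Matrix.toLin' (y : MM) - 1)) = 1 := by omega
  obtain ⟨v, hv, hv0⟩ : ∃ v ∈ LinearMap.range (Matrix.toLin' (y : MM) - 1), v ≠ 0 :=
    Submodule.exists_mem_ne_zero_of_ne_bot fun e' => by rw [e', finrank_bot] at hr1; omega
  have hspan : F ∙ v = LinearMap.range (Matrix.toLin' (y : MM) - 1) :=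
    Submodule.eq_of_le_of_finrank_le (Submodule.span_le.mpr (Set.singleton_subset_iff.mpr hv))
      (by rw [hr1, finrank_span_singleton hv0])
  have hJv : J *ᵥ v ∈ F ∙ v := by
    rw [hspan]
    obtain ⟨w, rfl⟩ := hv
    exact ⟨J *ᵥ w, by simp only [LinearMap.sub_apply, Module.End.one_apply, Matrix.toLin'_apply, Matrix.mulVec_sub,
      Matrix.mulVec_mulVec, hcomm]⟩
  obtain ⟨s, hs⟩ := Submodule.mem_span_singleton.mp hJv
  refine S.noroot s ?_
  have h2 : J *ᵥ (J *ᵥ v) = (s * s) • v := by rw [← hs, Matrix.mulVec_smul, ← hs, smul_smul]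
  rw [Matrix.mulVec_mulVec, S.sq, Matrix.smul_mulVec, Matrix.one_mulVec] at h2
  exact (smul_left_injective F hv0 h2).symm

theorem pow_iso {x : Module.End F VV} (hiso : ∀ u v, sympBilin d F (x u) (x v) = sympBilin d F u v) {Q : ℕ}
    (hQ : x ^ (Q + 1) = 1) (P : F[X]) (u v : VV) :
    sympBilin d F (aeval x P u) v = sympBilin d F u (aeval x (expand F Q P) v) := by
  induction P using Polynomial.induction_on' with
  | add P Q' hP hQ' => simp only [map_add, LinearMap.add_apply, hP, hQ']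
  | monomial j a =>
    rw [expand_monomial, aeval_monomial, aeval_monomial, Module.End.mul_apply, Module.End.mul_apply,
      Module.algebraMap_end_apply, Module.algebraMap_end_apply, map_smul, map_smul, LinearMap.smul_apply]
    congr 1
    have e : (x ^ j) ((x ^ (j * Q)) v) = v := by
      rw [← Module.End.mul_apply, ← pow_add, show j + j * Q = (Q + 1) * j by ring, pow_mul, hQ, one_pow]; rfl
    conv_lhs => rw [← e]
    exact SpIso.iso_pow hiso j u _

omit [Fintype F] in
theorem expand_card_pow [Fintype F] (n : ℕ) (P : F[X]) :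
    expand F (Fintype.card F ^ n) P = P ^ (Fintype.card F ^ n) := by
  induction n with
  | zero => simp
  | succ n ih => rw [pow_succ', expand_mul, ih, map_pow, FiniteField.expand_card, ← pow_mul]

/-- Commuting with the field gives a contradiction in the good cases. -/
theorem Uni.no_commute (S : Uni K J δ) (hr2 : r ≠ 2) (hrp : r ≠ p) {i : ℕ} (hi : i = orderOf (Fintype.card F : ZMod r))
    (hi0 : 0 < i) (hcase : Odd i ∨ i % 4 = 0) {g : F[X]} (hg : g ∈ factorSet F r) (y : Matrix.symplecticGroup (Fin d) F)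
    (hy : (y : MM) ^ r = 1) (hdim : Module.finrank F (LinearMap.ker (aeval (Matrix.toLin' (y : MM)) g)) = i) :
    (y : MM) * J ≠ J * (y : MM) := by
  classical
  intro hcomm
  set x := Matrix.toLin' (y : MM) with hxdef
  have hrc : (r : F) ≠ 0 := cast_prime_ne_zero (Fact.out : r.Prime) hrp
  have hx : x ^ r = 1 := by rw [hxdef, ← Matrix.toLin'_pow, hy, Matrix.toLin'_one]; rfl
  have hiso : ∀ u v, sympBilin d F (x u) (x v) = sympBilin d F u v := fun u v => by
    rw [hxdef, Matrix.toLin'_apply, Matrix.toLin'_apply]; exact (mem_symplectic_iff_form _).1 y.2 u v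
  set j := Matrix.toLin' J with hjdef
  have hxj : Commute x j := by
    show x * j = j * x
    rw [hxdef, hjdef, Module.End.mul_eq_comp, Module.End.mul_eq_comp, ← Matrix.toLin'_mul, hcomm, Matrix.toLin'_mul]
  have hcommP : ∀ P : F[X], ∀ v, aeval x P (j v) = j (aeval x P v) := fun P v => by
    induction P using Polynomial.induction_on' with
    | add P Q hP hQ => simp only [map_add, LinearMap.add_apply, hP, hQ]
    | monomial k a =>
      rw [aeval_monomial, Module.End.mul_apply, Module.End.mul_apply, Module.algebraMap_end_apply,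
        Module.algebraMap_end_apply, map_smul, ← Module.End.mul_apply, (hxj.pow_left k).eq, Module.End.mul_apply]
  have hjj : ∀ v, j (j v) = δ • v := fun v => by
    rw [hjdef, Matrix.toLin'_apply, Matrix.toLin'_apply, Matrix.mulVec_mulVec, S.sq, Matrix.smul_mulVec, Matrix.one_mulVec]
  set W := LinearMap.ker (aeval x g) with hW
  have hWj : PrimeOrd.Inv j W := fun v hv => by
    rw [hW, LinearMap.mem_ker] at hv ⊢
    rw [hcommP, hv, map_zero]
  rcases hcase with hodd | h4
  · -- odd dimension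
    have h2 : PrimeOrd.res j hWj ^ 2 = δ • 1 := PrimeOrd.res_scalar hWj (LinearMap.ext fun v => by
      rw [_root_.sq, Module.End.mul_apply, hjj]; rfl)
    have h3 := congrArg LinearMap.det h2
    rw [map_pow, LinearMap.det_smul, map_one, mul_one, hdim] at h3
    obtain ⟨k, hk⟩ := hodd
    refine S.noroot (LinearMap.det (PrimeOrd.res j hWj) / δ ^ k) ?_
    rw [div_mul_div_comm, ← _root_.sq, h3, hk,
      div_eq_iff (mul_ne_zero (pow_ne_zero _ S.ne_zero) (pow_ne_zero _ S.ne_zero))]
    ring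
  · obtain ⟨hgm, hgi, hgdeg, hgd⟩ := SpIso.factor_facts hrp hi hg
    have hev : Even i := Nat.even_iff.mpr (by omega)
    have hdual := (SpIso.self_dual hr2 hrp hi hi0 hg).mpr hev
    obtain ⟨w, hwW, hw0⟩ := Submodule.exists_mem_ne_zero_of_ne_bot (p := W) fun e => by
      rw [e, finrank_bot] at hdim; omega
    have hw : aeval x g w = 0 := hwW
    have hrange : LinearMap.range (SemisimpleSimilar.evalAt x g w hw) = W := by
      refine Submodule.eq_of_le_of_finrank_le ?_ ?_
      · rintro _ ⟨a, rfl⟩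
        obtain ⟨R, rfl⟩ := AdjoinRoot.mk_surjective a
        rw [SemisimpleSimilar.evalAt_mk, hW, LinearMap.mem_ker, ← Module.End.mul_apply, ← map_mul, mul_comm, map_mul,
          Module.End.mul_apply, hw, map_zero]
      · rw [hdim, LinearMap.finrank_range_of_inj (SemisimpleSimilar.evalAt_injective x g hgi w hw hw0),
          (AdjoinRoot.powerBasis hgm.ne_zero).finrank, AdjoinRoot.powerBasis_dim, hgdeg]
    have hsurj : ∀ v ∈ W, ∃ R : F[X], aeval x R w = v := fun v hv => by
      obtain ⟨a, ha⟩ := hrange.symm ▸ hv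
      obtain ⟨R, rfl⟩ := AdjoinRoot.mk_surjective a
      exact ⟨R, ha⟩
    obtain ⟨P, hP⟩ := hsurj _ (hWj w hwW)
    have hjP : ∀ v ∈ W, j v = aeval x P v := fun v hv => by
      obtain ⟨R, rfl⟩ := hsurj v hv
      rw [← hcommP, ← hP, ← Module.End.mul_apply, ← Module.End.mul_apply, ← map_mul, ← map_mul, mul_comm]
    have hPpow : ∀ (n : ℕ), ∀ v ∈ W, aeval x (P ^ n) v = (j ^ n) v := fun n => by
      induction n with
      | zero => intro v _; simp
      | succ n ih =>
        intro v hv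
        rw [pow_succ, pow_succ, map_mul, Module.End.mul_apply, Module.End.mul_apply, ← hjP v hv, ih _ (hWj v hv)]
    obtain ⟨m', hm'⟩ : ∃ m', i / 2 = 2 * m' := ⟨i / 4, by omega⟩
    set q := Fintype.card F with hq
    set Q := q ^ (i / 2) with hQ
    have hQr : r ∣ Q + 1 := by
      have hsq : (((q : ZMod r) ^ (i / 2)) * (q : ZMod r) ^ (i / 2)) = 1 := by
        rw [← pow_add, show i / 2 + i / 2 = i by omega, hi, pow_orderOf_eq_one]
      rcases mul_self_eq_one_iff.mp hsq with h | h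
      · have h' := orderOf_dvd_of_pow_eq_one h
        rw [← hi] at h'
        have := Nat.le_of_dvd (by omega) h'
        omega
      · rw [← ZMod.natCast_eq_zero_iff, hQ]; push_cast; rw [h]; ring
    have hxQ : x ^ (Q + 1) = 1 := by
      obtain ⟨k, hk⟩ := hQr
      rw [hk, pow_mul, hx, one_pow]
    have hp2 : p ≠ 2 := fun e => S.two (by rw [← Nat.cast_two, ← e]; exact CharP.cast_eq_zero F p)
    have hqodd : q % 2 = 1 := FiniteField.odd_card_of_char_ne_two (by rw [ringChar.eq F p]; exact hp2)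
    have hjQ : ∀ v, (j ^ Q) v = j v := by
      have hQodd : Q % 2 = 1 := by simp [hQ, Nat.pow_mod, hqodd]
      obtain ⟨t, ht⟩ : ∃ t, Q = 2 * t + 1 := ⟨Q / 2, by omega⟩
      have htd : q - 1 ∣ t := by
        have h1 : (q ^ 2 - 1) ∣ Q - 1 := by
          rw [hQ, hm', pow_mul]
          simpa using Nat.sub_dvd_pow_sub_pow (q ^ 2) 1 m'
        obtain ⟨e, he⟩ : ∃ e, q + 1 = 2 * e := ⟨(q + 1) / 2, by omega⟩
        rw [show q ^ 2 - 1 = 2 * ((q - 1) * e) by
          rw [_root_.sq, ← one_mul 1, Nat.mul_self_sub_mul_self_eq, he]; ring, show Q - 1 = 2 * t by omega] at h1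
        exact (dvd_mul_right _ _).trans (Nat.dvd_of_mul_dvd_mul_left two_pos h1)
      have hδt : δ ^ t = 1 := by
        obtain ⟨e, he⟩ := htd
        rw [he, pow_mul, FiniteField.pow_card_sub_one_eq_one δ S.ne_zero, one_pow]
      have hj2 : j ^ 2 = δ • 1 := LinearMap.ext fun v => by rw [_root_.sq, Module.End.mul_apply, hjj]; rfl
      intro v
      rw [ht, pow_succ, pow_mul, hj2, _root_.smul_pow, one_pow, hδt, one_smul, one_mul]
    have hself : ∀ u ∈ W, ∀ v ∈ W, sympBilin d F (j u) v = sympBilin d F u (j v) := fun u hu v hv => by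
      rw [hjP u hu, pow_iso hiso hxQ, hQ, expand_card_pow, hPpow _ v hv, ← hQ, hjQ]
    have hskew : ∀ u v, sympBilin d F (j u) v = -sympBilin d F u (j v) := fun u v => by
      rw [hjdef, Matrix.toLin'_apply, Matrix.toLin'_apply]; exact S.skew u v
    have hnd := SpIso.ker_nondeg (B := sympBilin d F) (sympBilin_nondegenerate d F) (sympBilin_isAlt d F) hiso hrc hx
      hgm hgi hgd hdual
    have h0 : (⟨j w, hWj w hwW⟩ : W) = 0 := hnd.2 _ fun u => by
      show sympBilin d F u.1 (j w) = 0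
      have h1 := hself u.1 u.2 w hwW
      rw [hskew] at h1
      exact (mul_eq_zero.mp (show (2 : F) * sympBilin d F u.1 (j w) = 0 by linear_combination -h1)).resolve_left S.two
    have h3 : j w = 0 := congrArg Subtype.val h0
    rw [hjdef, Matrix.toLin'_apply] at h3
    exact hw0 (S.inj h3)

include p in
theorem Uni.odd_bad (S : Uni K J δ) (hd : 2 ≤ d) (hr2 : r ≠ 2) (hrp : r ≠ p) {i c : ℕ}
    (hi : i = orderOf (Fintype.card F : ZMod r)) (hc : c = if Even i then i else 2 * i) (hcd : c ≤ 2 * d)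
    (hcase : Odd i ∨ i % 4 = 0) : Bad r K := by
  classical
  have hr : r.Prime := Fact.out
  have hi0 : 0 < i := hi ▸ PrimeOrd.ord_pos (PrimeOrd.not_dvd_card hr hrp)
  have hc0 : 0 < c := by rw [hc]; split_ifs <;> omega
  obtain ⟨g, hg⟩ := Finset.card_pos.mp (show 0 < (factorSet F r).card by
    have h := card_factorSet (F := F) (p := p) (r := r) hrp
    rcases Nat.eq_zero_or_pos (factorSet F r).card with e | e
    · rw [e, zero_mul] at h; have := hr.two_le; omega
    · exact e)
  obtain ⟨u, hu, hgu, -⟩ := SpDecomp.atom_of_factor hr2 hrp hi hi0 hc hg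
  obtain ⟨hgm, hgi, hgdeg, hgd⟩ := SpIso.factor_facts hrp hi hg
  obtain ⟨A, hA, hAc⟩ := SpDecomp.exists_elt (p := p) hr2 (L := {u}) (fun v hv => Multiset.mem_singleton.mp hv ▸ hu)
    (n := d) (e := 2 * d - c) (by rw [Multiset.card_singleton]; omega)
  rw [Multiset.prod_singleton] at hAc
  have hAM : (A : MM) ^ r = 1 := by rw [← SubmonoidClass.coe_pow, hA, Submonoid.coe_one]
  refine ⟨A, hAM, fun z hz => ?_, fun h hh hy => ?_⟩
  · have hz1 : z = 1 := by
      have hzr : z ^ r = 1 := by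
        have h := hAM
        rw [hz, _root_.smul_pow, one_pow] at h
        have := congrFun (congrFun h (Sum.inl ⟨0, by omega⟩)) (Sum.inl ⟨0, by omega⟩)
        simpa using this
      obtain ⟨k, hk⟩ := hr.odd_of_ne_two hr2
      rw [hk, pow_succ, pow_mul, _root_.sq, SpDecomp.eq_one_scalar (by omega) hz, one_pow, one_mul] at hzr
      exact hzr
    rw [hz, hz1, one_smul, Matrix.charpoly_one] at hAc
    have h1 := hgu.trans (dvd_mul_left u ((X - C (1 : F)) ^ (2 * d - c)))
    rw [← hAc, ← map_one (C : F →+* F[X])] at h1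
    exact SpDecomp.eval_one_ne hrp hg (dvd_iff_isRoot.mp
      (hgi.dvd_symm (irreducible_X_sub_C 1) (hgi.prime.dvd_of_dvd_pow h1)))
  set y := h⁻¹ * toGL d F A * h with hydef
  have hyG : y ∈ Cfsg.spGL d F := mul_mem (mul_mem (inv_mem hh) (toGL_mem A)) hh
  let Y : Matrix.symplecticGroup (Fin d) F := ⟨y, (mem_spGL_iff y).mp hyG⟩
  have hyr : (y : MM) ^ r = 1 := by
    rw [← Units.val_pow_eq_pow_val, hydef, show h⁻¹ * toGL d F A * h = MulAut.conj h⁻¹ (toGL d F A) by simp,
      ← map_pow, show toGL d F A ^ r = 1 from Units.ext (by rw [Units.val_pow_eq_pow_val, toGL_val, hAM, Units.val_one]),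
      map_one, Units.val_one]
  have hychar : (y : MM).charpoly = (X - C 1) ^ (2 * d - c) * u := by
    rw [← hAc, hydef, Units.val_mul, Units.val_mul, mul_assoc, Matrix.charpoly_mul_comm, mul_assoc,
      (gl_cancel h).1, mul_one, toGL_val]
  refine S.no_commute hr2 hrp hi hi0 hcase hg Y hyr ?_ (S.comm_of_odd hy (hr.odd_of_ne_two hr2) hyr)
  have hrc : (r : F) ≠ 0 := cast_prime_ne_zero hr hrp
  have hx : (Matrix.toLin' (y : MM)) ^ r = 1 := by rw [← Matrix.toLin'_pow, hyr, Matrix.toLin'_one]; rfl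
  obtain ⟨k, hk, hdim⟩ := SpIso.ker_pow (PrimeOrd.semisimple (c := (1 : F)) hrc one_ne_zero
    (show (Matrix.toLin' (y : MM)) ^ r = 1 • 1 by rw [hx, one_smul])) hgm hgi
  rw [Matrix.charpoly_toLin', hychar] at hk
  obtain ⟨w, hw0, hw⟩ := SemisimpleSimilar.exists_ker (Matrix.toLin' (y : MM)) hgi (by
    rw [Matrix.charpoly_toLin', hychar]; exact hgu.trans (dvd_mul_left _ _))
  rw [hgdeg] at hdim
  have hk1 : k ≠ 0 := fun e => by
    rw [e, mul_zero, Submodule.finrank_eq_zero] at hdim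
    exact hw0 ((Submodule.mem_bot F).mp (hdim ▸ (hw : w ∈ LinearMap.ker (aeval (Matrix.toLin' (y : MM)) g))))
  have hcop : IsCoprime (g ^ k) ((X - C 1) ^ (2 * d - c)) := (hgi.coprime_iff_not_dvd.2 fun hd' =>
    SpDecomp.eval_one_ne hrp hg (dvd_iff_isRoot.mp (hgi.dvd_symm (irreducible_X_sub_C 1) hd'))).pow
  have hku : g ^ k ∣ u := hcop.dvd_of_dvd_mul_left hk
  have hle := natDegree_le_of_dvd hku hu.1.ne_zero
  rw [hgm.natDegree_pow, hgdeg, hu.2.1] at hle
  have hk2 : k < 2 := by
    by_contra h2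
    rw [hc] at hle
    have h2i : 2 * i ≤ k * i := Nat.mul_le_mul_right i (by omega)
    split_ifs at hle with hev
    · omega
    · have hg2 : g ^ 2 ∣ u := (pow_dvd_pow g (by omega)).trans hku
      have hu2 : u = g ^ 2 := Polynomial.eq_of_monic_of_dvd_of_natDegree_le (hgm.pow 2) hu.1 hg2 (by
        rw [hgm.natDegree_pow, hgdeg, hu.2.1, hc, if_neg hev])
      have hd2 := hu.2.2.1
      rw [hu2, SpDecomp.dual_pow] at hd2
      obtain ⟨h1', h2', -, -⟩ := SpIso.factor_facts hrp hi (dual_mem (σ := RingHom.id F) (fun _ => rfl) hrp hg)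
      exact hev ((SpIso.self_dual hr2 hrp hi hi0 hg).mp (eq_of_monic_of_associated h1' hgm
        (h2'.associated_of_dvd hgi (h2'.prime.dvd_of_dvd_pow (hd2 ▸ dvd_pow_self _ two_ne_zero)))))
  rw [hdim, show k = 1 by omega, mul_one]

end Cfsg.Lib.Classical.SpUniDer
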