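import Mathlib
import Cfsg.Agent.Classical.Symp.UnitExtDerangement
import Cfsg.Agent.Classical.Symp.DecompDerangement
import Cfsg.Agent.Known.SympSemisimple

/-! Elements of prime order of the symplectic group fixing points of unitary type cosets. -/

set_option autoImplicit false
set_option linter.unusedSimpArgs false
set_option linter.unusedSectionVars false
set_option linter.unusedVariables false
set_option linter.style.haveILetI false
set_option linter.flexible false

namespace Cfsg.Lib.Classical.SpUniDer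

open Cfsg.Lib.Classical Cfsg.Lib.PrimeOrderPoly Cfsg.Lib.DualPoly
open Cfsg.Lib.Classical.SpExtDer (toGL toGL_val toGL_mem mem_spGL_iff fix_conj not_scalar card_spGL)
open Polynomial
open scoped Matrix

universe u

variable {F : Type u} [Field F] [Fintype F] {d : ℕ}

local notation "MM" => Matrix (Fin d ⊕ Fin d) (Fin d ⊕ Fin d) F
local notation "VV" => (Fin d ⊕ Fin d → F)
local notation "GG" => GL (Fin d ⊕ Fin d) F

variable {K : Subalgebra F (Matrix (Fin d ⊕ Fin d) (Fin d ⊕ Fin d) F)}
  {J : Matrix (Fin d ⊕ Fin d) (Fin d ⊕ Fin d) F} {δ : F}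

theorem Uni.isField (S : Uni K J δ) (hd : 0 < d) : IsField K where
  exists_pair_ne := ⟨0, 1, fun h => by
    have := congrFun (congrFun (congrArg Subtype.val h) (Sum.inl ⟨0, hd⟩)) (Sum.inl ⟨0, hd⟩)
    simp at this⟩
  mul_comm := fun a b => Subtype.ext (S.field.comm a a.2 b b.2)
  mul_inv_cancel := fun {a} ha => by
    obtain ⟨y, hy, h⟩ := S.field.inv a a.2 (fun h => ha (Subtype.ext h))
    exact ⟨⟨y, hy⟩, Subtype.ext h⟩

theorem Uni.coeff (S : Uni K J δ) (hd : 0 < d) {s t s' t' : F}
    (h : s • (1 : MM) + t • J = s' • (1 : MM) + t' • J) : s = s' ∧ t = t' := by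
  haveI : Nonempty (Fin d ⊕ Fin d) := ⟨Sum.inl ⟨0, hd⟩⟩
  have ht : t = t' := by
    by_contra hne
    set u := (s' - s) / (t - t') with hu
    have hJ : J = u • (1 : MM) := by
      have h1 : (t - t') • J = (s' - s) • (1 : MM) := by
        rw [sub_smul, sub_smul, sub_eq_sub_iff_add_eq_add, add_comm (t • J), h]
      have h2 := congrArg (fun Y => (t - t')⁻¹ • Y) h1
      simp only [smul_smul, inv_mul_cancel₀ (sub_ne_zero.mpr hne), one_smul] at h2
      rw [h2, hu, div_eq_inv_mul]
    have h3 := S.sq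
    rw [hJ, smul_mul_assoc, one_mul, smul_smul] at h3
    exact S.noroot u (smul_left_injective F (one_ne_zero (α := MM)) h3)
  subst ht
  exact ⟨smul_left_injective F (one_ne_zero (α := MM)) (add_right_cancel h), rfl⟩

theorem Uni.conj_scalar (S : Uni K J δ) (σ : K →ₐ[F] K) (hJ : σ ⟨J, S.mem⟩ = -⟨J, S.mem⟩) (a : K) {s t : F}
    (ha : a.1 = s • (1 : MM) + t • J) : (σ a).1 = s • (1 : MM) + (-t) • J := by
  have e : a = s • (1 : K) + t • ⟨J, S.mem⟩ := Subtype.ext (by simpa using ha)
  rw [e, map_add, map_smul, map_smul, map_one, hJ]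
  simp

set_option maxHeartbeats 1000000 in
/-- Coordinates in which the form is the imaginary part of the standard hermitian form. -/
theorem Uni.exists_coord (S : Uni K J δ) (hd : 0 < d) :
    ∃ (σ : K →ₐ[F] K) (Φ : (Fin d → K) ≃ₗ[F] VV), (∀ a, σ (σ a) = a) ∧ σ ⟨J, S.mem⟩ = -⟨J, S.mem⟩ ∧
      (∃ c : K, c * σ c = -1) ∧ (∀ (a : K) x, Φ (fun l => a * x l) = a.1 *ᵥ Φ x) ∧
      ∀ x y, (∑ l, x l * σ (y l)).1 =
        sympBilin d F (J *ᵥ Φ x) (Φ y) • (1 : MM) + sympBilin d F (Φ x) (Φ y) • J := by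
  classical
  letI : Field K := (S.isField hd).toField
  haveI : Finite K := Module.finite_of_finite F
  set j : K := ⟨J, S.mem⟩ with hj
  obtain ⟨σ, hσσ, hσJ, hσne⟩ : ∃ σ : K →ₐ[F] K, (∀ a, σ (σ a) = a) ∧ σ j = -j ∧ ∃ a, σ a ≠ a := by
    haveI : Finite (K ≃ₐ[F] K) := Finite.of_injective (fun σ => (σ : K → K)) DFunLike.coe_injective
    have hc : Nat.card (K ≃ₐ[F] K) = 2 := by rw [IsGalois.card_aut_eq_finrank F K, S.field.finrank_eq]
    haveI : Nontrivial (K ≃ₐ[F] K) := (Nat.card_eq_two_iff.mp hc).elim fun a ⟨b, hab, _⟩ => ⟨a, b, hab⟩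
    obtain ⟨σ, hσ⟩ := exists_ne (1 : K ≃ₐ[F] K)
    have hinv : ∀ a, σ (σ a) = a := fun a => by
      have h := pow_card_eq_one' (x := σ)
      rw [hc, _root_.sq] at h
      exact AlgEquiv.congr_fun h a
    have hjj : j * j = δ • 1 := Subtype.ext (by simpa [hj] using S.sq)
    have hσj : σ j = -j := by
      have h : σ j * σ j = j * j := by rw [← map_mul, hjj, map_smul, map_one]
      refine (mul_self_eq_mul_self_iff.mp h).resolve_left fun h1 => hσ (AlgEquiv.ext fun a => ?_)
      obtain ⟨s, t, hst⟩ := S.gen a.1 a.2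
      have e : a = s • (1 : K) + t • j := Subtype.ext (by simpa [hj] using hst)
      rw [AlgEquiv.one_apply, e, map_add, map_smul, map_smul, map_one, h1]
    refine ⟨σ.toAlgHom, hinv, hσj, ?_⟩
    by_contra hall
    push Not at hall
    exact hσ (AlgEquiv.ext hall)
  have hsmul : ∀ (a : K) (v : VV), a • v = a.1 *ᵥ v := fun a v => rfl
  set B := sympBilin d F with hB
  have hskew := S.skew
  have hJJ : ∀ v : VV, J *ᵥ (J *ᵥ v) = δ • v := fun v => by
    rw [Matrix.mulVec_mulVec, S.sq, Matrix.smul_mulVec, Matrix.one_mulVec]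
  have hmem : ∀ s t : F, s • (1 : MM) + t • J ∈ K := fun s t =>
    K.add_mem (K.smul_mem K.one_mem _) (K.smul_mem S.mem _)
  let H : HermSpace K VV :=
    { σ := σ.toRingHom
      h := fun u v => ⟨B (J *ᵥ u) v • (1 : MM) + B u v • J, hmem _ _⟩
      conj := ⟨hσσ, hσne⟩
      add_left := fun x y z => Subtype.ext (by
        simp only [Matrix.mulVec_add, map_add, LinearMap.add_apply, Subalgebra.coe_add]
        module)
      smul_left := fun a x z => Subtype.ext (by
        obtain ⟨s, t, hst⟩ := S.gen a.1 a.2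
        simp only [hsmul, Subalgebra.coe_mul, hst, Matrix.add_mulVec, Matrix.smul_mulVec, Matrix.one_mulVec,
          Matrix.mulVec_add, Matrix.mulVec_smul, hJJ, map_add, map_smul, LinearMap.add_apply, LinearMap.smul_apply,
          smul_eq_mul, add_mul, mul_add, smul_mul_assoc, mul_smul_comm, one_mul, mul_one, S.sq]
        module)
      symm := fun x y => Subtype.ext (by
        show _ = (σ ⟨B (J *ᵥ y) x • (1 : MM) + B y x • J, hmem _ _⟩).1
        rw [S.conj_scalar σ hσJ _ rfl]
        have e1 : B (J *ᵥ x) y = B (J *ᵥ y) x := by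
          rw [hskew, hB, ← (sympBilin_isAlt d F).neg_eq (J *ᵥ y) x, neg_neg]
        have e2 : B x y = -B y x := ((sympBilin_isAlt d F).neg_eq y x).symm
        rw [e1, e2])
      nondeg := fun v hv => (sympBilin_nondegenerate d F).2 v fun x => by
        have h := congrArg Subtype.val (hv x)
        exact (S.coeff hd (s' := 0) (t' := 0) (by simpa using h)).2 }
  haveI : Module.Finite K VV := Module.Finite.of_finite
  have hcard : Nat.card K = Fintype.card F ^ 2 := by
    rw [Module.natCard_eq_pow_finrank (K := F) (V := K), S.field.finrank_eq, Nat.card_eq_fintype_card]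
  have hfr : Module.finrank K VV = d := by
    have h1 : Nat.card VV = Nat.card K ^ Module.finrank K VV := Module.natCard_eq_pow_finrank
    rw [hcard, Nat.card_fun, Nat.card_eq_fintype_card (α := Fin d ⊕ Fin d), Fintype.card_sum, Fintype.card_fin,
      Nat.card_eq_fintype_card, ← pow_mul] at h1
    have := Nat.pow_right_injective Fintype.one_lt_card h1
    omega
  obtain ⟨b₀, hb₀⟩ := H.exists_orthonormal
  obtain ⟨b, hb⟩ : ∃ b : Module.Basis (Fin d) K VV, ∀ i j, H.h (b i) (b j) = if i = j then 1 else 0 :=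
    ⟨b₀.reindex (finCongr hfr), fun i j => by simp [Module.Basis.reindex_apply, hb₀]⟩
  have halg : ∀ (c : F) (v : VV), algebraMap F K c • v = c • v := fun c v => by
    rw [hsmul, Subalgebra.coe_algebraMap, Algebra.algebraMap_eq_smul_one, Matrix.smul_mulVec, Matrix.one_mulVec]
  let Φ : (Fin d → K) ≃ₗ[F] VV :=
    { toFun := b.equivFun.symm
      invFun := b.equivFun
      left_inv := b.equivFun.apply_symm_apply
      right_inv := b.equivFun.symm_apply_apply
      map_add' := map_add b.equivFun.symm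
      map_smul' := fun c x => by
        rw [RingHom.id_apply, show c • x = algebraMap F K c • x from funext fun l => Algebra.smul_def c (x l),
          map_smul, halg] }
  obtain ⟨c, hc⟩ := H.conj.norm_surjective (a := -1) (by simp)
  refine ⟨σ, Φ, hσσ, hσJ, ⟨c, hc⟩, fun a x => ?_, fun x y => ?_⟩
  · exact (map_smul b.equivFun.symm a x).trans (hsmul a _)
  · have h := H.h_eq_sum b hb (Φ x) (Φ y)
    have hx : ∀ x : Fin d → K, ∀ l, b.repr (Φ x) l = x l := fun x l => congrFun (b.equivFun.apply_symm_apply x) l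
    simp only [hx] at h
    exact (congrArg Subtype.val h).symm

variable {p r : ℕ} [Fact p.Prime] [CharP F p] [Fact r.Prime]

set_option maxHeartbeats 800000 in
/-- The lower bound for the stabiliser. -/
theorem Uni.card_dvd (S : Uni K J δ) (hd : 0 < d) :
    cardGUFormula (Fintype.card F) d ∣
      Nat.card (Cfsg.Geo.subalgebraNormalizer K ⊓ Cfsg.spGL d F : Subgroup GG) := by
  classical
  obtain ⟨σ, Φ, hσσ, hσJ, -, hsmul, hform⟩ := S.exists_coord hd
  letI : Field K := (S.isField hd).toField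
  haveI : Finite K := Module.finite_of_finite F
  let H : HermSpace K (Fin d → K) :=
    { σ := σ.toRingHom
      h := fun x y => ∑ l, x l * σ (y l)
      conj := ⟨hσσ, ⟨⟨J, S.mem⟩, fun h => by
        have h' := congrArg Subtype.val (hσJ ▸ h)
        have := (S.coeff hd (s := 0) (t := -1) (s' := 0) (t' := 1) (by simpa using h')).2
        exact S.two (by linear_combination -this)⟩⟩
      add_left := fun x y z => by simp [add_mul, Finset.sum_add_distrib]
      smul_left := fun c x z => by simp [Finset.mul_sum, mul_assoc]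
      symm := fun x y => by
        show _ = σ (∑ l, y l * σ (x l))
        simp only [map_sum, map_mul, hσσ]
        exact Finset.sum_congr rfl fun l _ => mul_comm _ _
      nondeg := fun v hv => funext fun l => by
        have h := hv (Pi.single l 1)
        simp only [Pi.single_apply, ite_mul, one_mul, zero_mul, Finset.sum_ite_eq', Finset.mem_univ, if_true] at h
        show v l = 0
        rw [← hσσ (v l), h, map_zero] }
  have hq : H.q = Fintype.card F := by
    have h1 := H.card_field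
    rw [Module.natCard_eq_pow_finrank (K := F) (V := K), S.field.finrank_eq, Nat.card_eq_fintype_card] at h1
    exact (Nat.pow_left_injective two_ne_zero h1).symm
  have hc := H.card_isom
  rw [hq, Module.finrank_fin_fun] at hc
  rw [← hc]
  let op : H.Isom → Module.End F VV := fun g =>
    Φ.toLinearMap ∘ₗ (g.1.toLinearMap.restrictScalars F) ∘ₗ Φ.symm.toLinearMap
  have hop : ∀ g v, op g v = Φ (g.1 (Φ.symm v)) := fun g v => rfl
  let ψ : H.Isom →* MM :=
    { toFun := fun g => LinearMap.toMatrix' (op g)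
      map_one' := by
        rw [show op 1 = LinearMap.id from LinearMap.ext fun v => (hop 1 v).trans (by simp), LinearMap.toMatrix'_id]
      map_mul' := fun g g' => by
        rw [show op (g * g') = (op g).comp (op g') from LinearMap.ext fun v => by
          show op (g * g') v = op g (op g' v)
          rw [hop, hop, hop, LinearEquiv.symm_apply_apply, HermSpace.mul_apply'],
          LinearMap.toMatrix'_comp] }
  let χ := ψ.toHomUnits
  have hχ : ∀ g v, ((χ g : GG) : MM) *ᵥ v = Φ (g.1 (Φ.symm v)) :=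
    fun g v => (LinearMap.toMatrix'_mulVec _ _).trans (hop g v)
  have hinj : Function.Injective χ := fun g g' h => H.isom_ext fun x => by
    have := congrArg (fun k : GG => (k : MM) *ᵥ Φ x) h
    simp only [hχ, LinearEquiv.symm_apply_apply] at this
    exact Φ.injective this
  have hle : χ.range ≤ Cfsg.Geo.subalgebraNormalizer K ⊓ Cfsg.spGL d F := by
    rintro _ ⟨g, rfl⟩
    refine ⟨SpExtDer.mem_normalizer_of_comm fun a ha => Matrix.ext_of_mulVec_single fun o => ?_,
      (mem_spGL_iff _).mpr ((mem_symplectic_iff_form _).2 fun u v => ?_)⟩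
    · obtain ⟨x, hx⟩ := Φ.surjective (Pi.single o 1)
      rw [← hx, ← Matrix.mulVec_mulVec, ← Matrix.mulVec_mulVec, hχ, hχ]
      simp only [← hsmul ⟨a, ha⟩, LinearEquiv.symm_apply_apply]
      rw [show (fun l => (⟨a, ha⟩ : K) * x l) = (⟨a, ha⟩ : K) • x from rfl, map_smul]
      rfl
    · obtain ⟨x, rfl⟩ := Φ.surjective u
      obtain ⟨y, rfl⟩ := Φ.surjective v
      rw [hχ, hχ, LinearEquiv.symm_apply_apply, LinearEquiv.symm_apply_apply]
      exact (S.coeff hd ((hform _ _).symm.trans ((congrArg Subtype.val (H.map_form g x y)).trans (hform _ _)))).2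
  rw [Nat.card_congr (MonoidHom.ofInjective hinj).toEquiv]
  exact Subgroup.card_dvd_of_le hle

include p in
theorem Uni.not_dvd_index (S : Uni K J δ) (hd : 0 < d) (hr2 : r ≠ 2) (hrp : r ≠ p) {i : ℕ}
    (hi : i = orderOf (Fintype.card F : ZMod r)) (hcase : i % 4 = 2) :
    ¬ r ∣ (Cfsg.Geo.subalgebraNormalizer K).relIndex (Cfsg.spGL d F) := by
  classical
  intro hr
  have hr' : r.Prime := Fact.out
  set q := Fintype.card F with hq
  have hq1 : 1 < q := Fintype.one_lt_card
  have hcomp : ∀ j : ℕ, ¬ r ∣ (if Even j then q ^ (j + 1) - 1 else q ^ (j + 1) + 1) := fun j h => by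
    split_ifs at h with hj
    · have h1 := (PrimeOrd.dvd_pow_sub_one _).mp h
      rw [← hi] at h1
      obtain ⟨t, ht⟩ := hj
      obtain ⟨u', hu'⟩ := h1
      have : (i * u') % 2 = 0 := by rw [Nat.mul_mod, show i % 2 = 0 by omega, zero_mul, Nat.zero_mod]
      omega
    · obtain ⟨t, ht⟩ := Nat.not_even_iff_odd.mp hj
      have h0 : ((q : ZMod r)) ^ (j + 1) = -1 := by
        rw [← ZMod.natCast_eq_zero_iff, Nat.cast_add, Nat.cast_pow, Nat.cast_one] at h
        exact eq_neg_of_add_eq_zero_left h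
      have h1 : ((q : ZMod r)) ^ (2 * (j + 1)) = 1 := by rw [mul_comm, pow_mul, h0, neg_one_sq]
      have h2 := orderOf_dvd_of_pow_eq_one h1
      rw [← hi] at h2
      obtain ⟨m, hm⟩ : ∃ m, i = 2 * m := ⟨i / 2, by omega⟩
      have hmo : Odd m := Nat.odd_iff.mpr (by omega)
      have h3 : m ∣ j + 1 := Nat.dvd_of_mul_dvd_mul_left two_pos (hm ▸ h2)
      have h4 : 2 * m ∣ j + 1 :=
        Nat.Coprime.mul_dvd_of_dvd_of_dvd (Nat.coprime_two_left.mpr hmo) ⟨t + 1, by omega⟩ h3
      rw [← hm, hi] at h4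
      rw [orderOf_dvd_iff_pow_eq_one.mp h4] at h0
      have h5 : ((2 : ℕ) : ZMod r) = 0 := by push_cast; linear_combination h0
      rw [ZMod.natCast_eq_zero_iff] at h5
      exact hr2 ((Nat.prime_dvd_prime_iff_eq hr' Nat.prime_two).mp h5)
  have hprod : ∏ j ∈ Finset.range d, (q ^ (2 * (j + 1)) - 1) =
      (∏ j ∈ Finset.range d, (if Even j then q ^ (j + 1) - 1 else q ^ (j + 1) + 1)) *
        ∏ j ∈ Finset.range d, (if Even j then q ^ (j + 1) + 1 else q ^ (j + 1) - 1) := by
    rw [← Finset.prod_mul_distrib]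
    refine Finset.prod_congr rfl fun j _ => ?_
    rw [show 2 * (j + 1) = (j + 1) + (j + 1) by ring, pow_add]
    split_ifs
    · rw [mul_comm (_ - 1), ← Nat.mul_self_sub_mul_self_eq, one_mul]
    · rw [← Nat.mul_self_sub_mul_self_eq, one_mul]
  obtain ⟨m, hm⟩ := S.card_dvd hd
  set H := Cfsg.Geo.subalgebraNormalizer K
  set G := Cfsg.spGL d F
  have hcard : Nat.card G = H.relIndex G * Nat.card (H ⊓ G : Subgroup GG) := by
    rw [Subgroup.relIndex, mul_comm, ← Subgroup.card_mul_index (H.subgroupOf G)]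
    congr 1
    rw [← Subgroup.inf_subgroupOf_right]
    exact Nat.card_congr (Subgroup.subgroupOfEquivOfLe inf_le_right).toEquiv
  rw [card_spGL, card_symplecticGroup, hm, Nat.card_eq_fintype_card, ← hq, hprod, cardGUFormula] at hcard
  have hpos : 0 < ∏ j ∈ Finset.range d, (if Even j then q ^ (j + 1) + 1 else q ^ (j + 1) - 1) :=
    Finset.prod_pos fun j _ => by
      split_ifs
      · omega
      · exact Nat.sub_pos_of_lt (Nat.one_lt_pow (by omega) hq1)
  have h1 : r ∣ q ^ (d ^ 2) * ∏ j ∈ Finset.range d, (if Even j then q ^ (j + 1) - 1 else q ^ (j + 1) + 1) := by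
    refine hr.trans ⟨q ^ (d * (d - 1) / 2) * m, Nat.eq_of_mul_eq_mul_right hpos ?_⟩
    rw [mul_assoc (q ^ (d ^ 2)), hcard]
    ring
  rcases hr'.dvd_mul.mp h1 with h | h
  · exact PrimeOrd.not_dvd_card hr' hrp (hr'.dvd_of_dvd_pow h)
  · obtain ⟨j, -, hj⟩ := (Prime.dvd_finsetProd_iff hr'.prime _).mp h
    exact hcomp j hj

/-- Eigenspaces of a map squaring to a scalar square. -/
theorem eigen_split {φ : Module.End F VV} {z ι : F} (h2 : (2 : F) ≠ 0) (hι : z = ι * ι) (hι0 : ι ≠ 0)
    (hφ2 : φ ^ 2 = z • 1) :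
    Module.finrank F (LinearMap.ker (φ - ι • 1)) + Module.finrank F (LinearMap.ker (φ - (-ι) • 1)) = 2 * d ∧
      LinearMap.ker (φ - ι • 1) ⊔ LinearMap.ker (φ - (-ι) • 1) = ⊤ ∧
      φ.charpoly = (X - C ι) ^ Module.finrank F (LinearMap.ker (φ - ι • 1)) *
        (X - C (-ι)) ^ Module.finrank F (LinearMap.ker (φ - (-ι) • 1)) := by
  classical
  have hz0 : z ≠ 0 := hι ▸ mul_ne_zero hι0 hι0
  have hss := PrimeOrd.semisimple (r := 2) (by exact_mod_cast h2) hz0 hφ2
  set P := LinearMap.ker (φ - ι • 1) with hP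
  set Q := LinearMap.ker (φ - (-ι) • 1) with hQ
  have memP : ∀ v, v ∈ P ↔ φ v = ι • v := fun v => by simp [hP, sub_eq_zero]
  have memQ : ∀ v, v ∈ Q ↔ φ v = (-ι) • v := fun v => by simp [hQ, add_eq_zero_iff_eq_neg]
  have hff : ∀ v, φ (φ v) = z • v := fun v => by
    rw [← Module.End.mul_apply, ← _root_.sq, hφ2]; rfl
  have hsup : P ⊔ Q = ⊤ := by
    rw [eq_top_iff]
    intro v _
    have e : v = (2 * ι)⁻¹ • (ι • v + φ v) + (2 * ι)⁻¹ • (ι • v - φ v) := by
      rw [← smul_add, show ι • v + φ v + (ι • v - φ v) = (2 * ι) • v by rw [two_mul, add_smul]; abel, smul_smul,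
        inv_mul_cancel₀ (mul_ne_zero h2 hι0), one_smul]
    rw [e]
    refine Submodule.add_mem_sup (Submodule.smul_mem _ _ ?_) (Submodule.smul_mem _ _ ?_)
    · rw [memP, map_add, map_smul, hff, smul_add, smul_smul, ← hι, add_comm]
    · rw [memQ, map_sub, map_smul, hff, neg_smul, smul_sub, smul_smul, ← hι, neg_sub]
  have hinf : P ⊓ Q = ⊥ := by
    rw [eq_bot_iff]
    rintro v ⟨hv, hv'⟩
    rw [SetLike.mem_coe, memP] at hv
    rw [SetLike.mem_coe, memQ, hv] at hv'
    have h9 : (2 * ι) • v = 0 := by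
      rw [two_mul, add_smul]; nth_rw 2 [hv']; rw [← add_smul, add_neg_cancel, zero_smul]
    exact (Submodule.mem_bot F).mpr ((smul_eq_zero.mp h9).resolve_left (mul_ne_zero h2 hι0))
  have hsum := Submodule.finrank_sup_add_finrank_inf_eq P Q
  rw [hsup, hinf, finrank_top, finrank_bot, finrank_sympSpace] at hsum
  refine ⟨by omega, hsup, ?_⟩
  have hfac : ∀ κ : F, (X - C κ) ^ Module.finrank F (LinearMap.ker (φ - κ • 1)) ∣ φ.charpoly := fun κ => by
    obtain ⟨n, hn, hd⟩ := SpIso.ker_pow hss (monic_X_sub_C κ) (irreducible_X_sub_C κ)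
    rw [map_sub, aeval_X, aeval_C, Algebra.algebraMap_eq_smul_one, natDegree_X_sub_C, one_mul] at hd
    rwa [hd]
  refine eq_of_monic_of_dvd_of_natDegree_le
    (((monic_X_sub_C ι).pow _).mul ((monic_X_sub_C (-ι)).pow _)) (LinearMap.charpoly_monic φ)
    ((isCoprime_X_sub_C_of_isUnit_sub (isUnit_iff_ne_zero.2 (by
      rw [sub_neg_eq_add, ← two_mul]; exact mul_ne_zero h2 hι0))).pow.mul_dvd (hfac ι) (hfac (-ι))) ?_
  rw [LinearMap.charpoly_natDegree, finrank_sympSpace,
    ((monic_X_sub_C ι).pow _).natDegree_mul ((monic_X_sub_C (-ι)).pow _), natDegree_pow, natDegree_pow,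
    natDegree_X_sub_C, natDegree_X_sub_C]
  omega

/-- The characteristic polynomial of a symplectic square root of `-1`. -/
theorem charpoly_neg_one (A : Matrix.symplecticGroup (Fin d) F) (h2 : (2 : F) ≠ 0)
    (hA : (A : MM) ^ 2 = (-1 : F) • 1) : (A : MM).charpoly = (X ^ 2 - C (-1)) ^ d := by
  classical
  set φ := Matrix.toLin' (A : MM) with hφ
  rw [← Matrix.charpoly_toLin', ← hφ]
  have hφ2 : φ ^ 2 = (-1 : F) • 1 := by rw [hφ, ← Matrix.toLin'_pow, hA, map_smul, Matrix.toLin'_one]; rfl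
  have hiso : ∀ u v, sympBilin d F (φ u) (φ v) = sympBilin d F u v := fun u v => by
    rw [hφ, Matrix.toLin'_apply, Matrix.toLin'_apply]; exact (mem_symplectic_iff_form _).1 A.2 u v
  by_cases hsq : IsSquare (-1 : F)
  · obtain ⟨ι, hι⟩ := hsq
    have hι0 : ι ≠ 0 := fun e => by rw [e, mul_zero] at hι; exact one_ne_zero (neg_eq_zero.mp hι)
    obtain ⟨hsum, hsup, hchar⟩ := eigen_split h2 hι hι0 hφ2
    have hiso2 : ∀ κ : F, κ * κ = -1 → Module.finrank F (LinearMap.ker (φ - κ • 1)) ≤ d := fun κ hκ => by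
      have h := SpIso.two_mul_le (B := sympBilin d F) (U := ⊤) (W := LinearMap.ker (φ - κ • 1))
        ⟨fun u hu => Subtype.ext ((sympBilin_nondegenerate d F).1 u.1 fun v => hu ⟨v, trivial⟩),
          fun u hu => Subtype.ext ((sympBilin_nondegenerate d F).2 u.1 fun v => hu ⟨v, trivial⟩)⟩ le_top
        fun u hu v hv => by
          rw [LinearMap.mem_ker, LinearMap.sub_apply, sub_eq_zero, LinearMap.smul_apply, Module.End.one_apply] at hu hv
          have h1 := hiso u v
          rw [hu, hv, map_smul, map_smul, LinearMap.smul_apply, smul_eq_mul, smul_eq_mul, ← mul_assoc, hκ] at h1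
          have h3 : (2 : F) * sympBilin d F u v = 0 := by linear_combination -h1
          exact (mul_eq_zero.mp h3).resolve_left h2
      rw [finrank_top, finrank_sympSpace] at h
      omega
    have ha := hiso2 ι hι.symm
    have hb := hiso2 (-ι) (by rw [neg_mul_neg]; exact hι.symm)
    rw [hchar, show Module.finrank F (LinearMap.ker (φ - ι • 1)) = d by omega,
      show Module.finrank F (LinearMap.ker (φ - (-ι) • 1)) = d by omega, ← mul_pow, hι, map_mul, map_neg]
    congr 1
    ring
  · have hm : (X ^ 2 - C (-1) : F[X]).Monic := monic_X_pow_sub_C _ two_ne_zero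
    have hirr : Irreducible (X ^ 2 - C (-1) : F[X]) := by
      rw [Polynomial.irreducible_iff_roots_eq_zero_of_degree_le_three (by rw [natDegree_X_pow_sub_C])
        (by rw [natDegree_X_pow_sub_C]; norm_num)]
      refine Multiset.eq_zero_of_forall_notMem fun a ha => hsq ⟨a, ?_⟩
      rw [mem_roots hm.ne_zero] at ha
      simp only [IsRoot, eval_sub, eval_pow, eval_X, eval_C] at ha
      linear_combination -ha
    obtain ⟨j, hj, hdim⟩ := SpIso.chi_pow φ hm hirr (by
      rw [map_sub, map_pow, aeval_X, aeval_C, hφ2, Algebra.algebraMap_eq_smul_one, sub_self])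
    rw [finrank_sympSpace, natDegree_X_pow_sub_C] at hdim
    rw [hj, show j = d by omega]

/-- The fixed space of an involution is even-dimensional and determines the characteristic polynomial. -/
theorem charpoly_one (A : Matrix.symplecticGroup (Fin d) F) (h2 : (2 : F) ≠ 0) (hA : (A : MM) ^ 2 = 1) :
    Even (Module.finrank F (PrimeOrd.fix (Matrix.toLin' (A : MM)))) ∧
      (A : MM).charpoly = (X - C 1) ^ Module.finrank F (PrimeOrd.fix (Matrix.toLin' (A : MM))) *
        (X - C (-1)) ^ (2 * d - Module.finrank F (PrimeOrd.fix (Matrix.toLin' (A : MM)))) := by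
  classical
  set φ := Matrix.toLin' (A : MM) with hφ
  rw [← Matrix.charpoly_toLin', ← hφ]
  have hφ2 : φ ^ 2 = (1 : F) • 1 := by rw [hφ, ← Matrix.toLin'_pow, hA, Matrix.toLin'_one, one_smul]; rfl
  obtain ⟨hsum, hsup, hchar⟩ := eigen_split h2 (one_mul (1 : F)).symm one_ne_zero hφ2
  have hfix : PrimeOrd.fix φ = LinearMap.ker (φ - (1 : F) • 1) := by unfold PrimeOrd.fix; rw [one_smul]
  rw [hfix]
  refine ⟨?_, ?_⟩
  · have hiso : ∀ u v, sympBilin d F (φ u) (φ v) = sympBilin d F u v := fun u v => by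
      rw [hφ, Matrix.toLin'_apply, Matrix.toLin'_apply]; exact (mem_symplectic_iff_form _).1 A.2 u v
    have horth : ∀ u ∈ LinearMap.ker (φ - (1 : F) • 1), ∀ v ∈ LinearMap.ker (φ - (-1 : F) • 1),
        sympBilin d F u v = 0 := fun u hu v hv => by
      rw [LinearMap.mem_ker, LinearMap.sub_apply, sub_eq_zero, LinearMap.smul_apply, Module.End.one_apply] at hu hv
      have h1 := hiso u v
      rw [hu, hv, one_smul, map_smul, smul_eq_mul] at h1
      have h3 : (2 : F) * sympBilin d F u v = 0 := by linear_combination -h1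
      exact (mul_eq_zero.mp h3).resolve_left h2
    have key : ∀ u : LinearMap.ker (φ - (1 : F) • 1),
        (∀ v : LinearMap.ker (φ - (1 : F) • 1), sympBilin d F u.1 v.1 = 0) → u = 0 := fun u hu => Subtype.ext <|
      (sympBilin_nondegenerate d F).1 u.1 fun w => by
        obtain ⟨a, ha, b, hb, rfl⟩ := Submodule.mem_sup.mp (hsup ▸ Submodule.mem_top (x := w))
        rw [map_add, hu ⟨a, ha⟩, horth u.1 u.2 b hb, add_zero]
    refine Classical.even_finrank_of_symplectic (B := (sympBilin d F).restrict (LinearMap.ker (φ - (1 : F) • 1)))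
      (fun v => sympBilin_isAlt d F _) ⟨fun u hu => key u hu, fun u hu => key u fun v => ?_⟩
    rw [← (sympBilin_isAlt d F).neg_eq v.1 u.1, neg_eq_zero]
    exact hu v
  · rw [hchar, show 2 * d - Module.finrank F (LinearMap.ker (φ - (1 : F) • 1)) =
      Module.finrank F (LinearMap.ker (φ - (-1 : F) • 1)) by omega]

set_option maxHeartbeats 800000 in
/-- Square roots of `1` with any even fixed dimension, and of `-1`, inside the normaliser. -/
theorem Uni.models (S : Uni K J δ) (hd : 0 < d) :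
    (∀ a : ℕ, a ≤ d → ∃ B : Matrix.symplecticGroup (Fin d) F, (B : MM) ^ 2 = 1 ∧
      Module.finrank F (PrimeOrd.fix (Matrix.toLin' (B : MM))) = 2 * a ∧
      toGL d F B ∈ Cfsg.Geo.subalgebraNormalizer K) ∧
    ∃ B : Matrix.symplecticGroup (Fin d) F, (B : MM) ^ 2 = (-1 : F) • 1 ∧
      toGL d F B ∈ Cfsg.Geo.subalgebraNormalizer K := by
  classical
  obtain ⟨σ, Φ, hσσ, hσJ, ⟨c₀, hc₀⟩, hsmul, hform⟩ := S.exists_coord hd
  have mk : ∀ (T : (Fin d → K) →ₗ[F] (Fin d → K)) (ε z : F), ε * ε = 1 →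
      (∀ x y, sympBilin d F (Φ (T x)) (Φ (T y)) = sympBilin d F (Φ x) (Φ y)) →
      (∀ x, T (T x) = z • x) → (∀ x, T (fun l => (⟨J, S.mem⟩ : K) * x l) = ε • fun l => (⟨J, S.mem⟩ : K) * T x l) →
      ∃ B : Matrix.symplecticGroup (Fin d) F, (∀ x, (B : MM) *ᵥ Φ x = Φ (T x)) ∧ (B : MM) ^ 2 = z • 1 ∧
        toGL d F B ∈ Cfsg.Geo.subalgebraNormalizer K := by
    intro T ε z hε hT hT2 hT3
    let f : Module.End F VV := Φ.toLinearMap ∘ₗ T ∘ₗ Φ.symm.toLinearMap
    have hf : ∀ v, LinearMap.toMatrix' f *ᵥ v = Φ (T (Φ.symm v)) := fun v => LinearMap.toMatrix'_mulVec f v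
    refine ⟨⟨LinearMap.toMatrix' f, (mem_symplectic_iff_form _).2 fun u v => by
      rw [hf, hf, hT, LinearEquiv.apply_symm_apply, LinearEquiv.apply_symm_apply]⟩,
      fun x => by show LinearMap.toMatrix' f *ᵥ Φ x = _; rw [hf, LinearEquiv.symm_apply_apply], ?_, ?_⟩
    · refine Matrix.ext_of_mulVec_single fun o => ?_
      show (LinearMap.toMatrix' f ^ 2) *ᵥ _ = _
      rw [_root_.sq, ← Matrix.mulVec_mulVec, hf, hf, LinearEquiv.symm_apply_apply, hT2, map_smul,
        LinearEquiv.apply_symm_apply, Matrix.smul_mulVec, Matrix.one_mulVec]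
    · refine S.mem_norm hε (Matrix.ext_of_mulVec_single fun o => ?_)
      rw [toGL_val]
      show (LinearMap.toMatrix' f * J) *ᵥ _ = (ε • (J * LinearMap.toMatrix' f)) *ᵥ _
      obtain ⟨x, hx⟩ := Φ.surjective (Pi.single o 1)
      rw [← hx, Matrix.smul_mulVec, ← Matrix.mulVec_mulVec, ← Matrix.mulVec_mulVec, hf, hf,
        LinearEquiv.symm_apply_apply, show J *ᵥ Φ x = Φ (fun l => (⟨J, S.mem⟩ : K) * x l) from (hsmul ⟨J, S.mem⟩ x).symm,
        LinearEquiv.symm_apply_apply, hT3, map_smul, hsmul]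
  constructor
  · intro a ha
    let w : Fin d → F := fun l => if (l : ℕ) < a then 1 else -1
    have hw : ∀ l, w l * w l = 1 := fun l => by dsimp only [w]; split_ifs <;> simp
    let T : (Fin d → K) →ₗ[F] (Fin d → K) := LinearMap.pi fun l => w l • LinearMap.proj l
    have hTa : ∀ x l, T x l = w l • x l := fun x l => rfl
    obtain ⟨B, hBv, hB2, hBN⟩ := mk T 1 1 (one_mul 1) (fun x y => by
        have e : (∑ l, T x l * σ (T y l)) = ∑ l, x l * σ (y l) := Finset.sum_congr rfl fun l _ => by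
          rw [hTa, hTa, map_smul, smul_mul_smul_comm, hw, one_smul]
        exact (S.coeff hd ((hform _ _).symm.trans ((congrArg Subtype.val e).trans (hform _ _)))).2)
      (fun x => funext fun l => by rw [hTa, hTa, smul_smul, hw, one_smul, one_smul])
      (fun x => funext fun l => by simp [hTa])
    rw [one_smul] at hB2
    refine ⟨B, hB2, ?_, hBN⟩
    have hfx : ∀ x, Φ x ∈ PrimeOrd.fix (Matrix.toLin' (B : MM)) ↔ ∀ l : Fin d, ¬ (l : ℕ) < a → x l = 0 := fun x => by
      rw [PrimeOrd.mem_fix, Matrix.toLin'_apply, hBv, Φ.injective.eq_iff]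
      refine ⟨fun h l hl => ?_, fun h => funext fun l => ?_⟩
      · have h1 := congrFun h l
        rw [hTa] at h1
        simp only [w, if_neg hl, neg_smul, one_smul] at h1
        have h3 : (2 : F) • x l = 0 := by rw [two_smul]; nth_rw 1 [← h1]; exact neg_add_cancel _
        exact (smul_eq_zero.mp h3).resolve_left S.two
      · by_cases hl : (l : ℕ) < a
        · rw [hTa]; simp only [w, if_pos hl, one_smul]
        · rw [hTa, h l hl, smul_zero]
    let e : (Fin a → K) ≃ PrimeOrd.fix (Matrix.toLin' (B : MM)) :=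
      { toFun := fun y => ⟨Φ (fun l => if h : (l : ℕ) < a then y ⟨l, h⟩ else 0), (hfx _).2 fun l hl => dif_neg hl⟩
        invFun := fun v l => Φ.symm v.1 (Fin.castLE ha l)
        left_inv := fun y => funext fun l => by simp
        right_inv := fun v => Subtype.ext (by
          show Φ _ = v.1
          rw [← Φ.eq_symm_apply]
          funext l
          by_cases hl : (l : ℕ) < a
          · rw [dif_pos hl]; rfl
          · rw [dif_neg hl]; exact ((hfx _).1 (by rw [Φ.apply_symm_apply]; exact v.2) l hl).symm) }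
    have h1 := Nat.card_congr e
    haveI : Finite K := Module.finite_of_finite F
    rw [Nat.card_fun, Module.natCard_eq_pow_finrank (K := F) (V := K), S.field.finrank_eq,
      Module.natCard_eq_pow_finrank (K := F) (V := PrimeOrd.fix (Matrix.toLin' (B : MM))), Nat.card_fin, ← pow_mul,
      Nat.card_eq_fintype_card] at h1
    exact (Nat.pow_right_injective Fintype.one_lt_card h1).symm
  · let T : (Fin d → K) →ₗ[F] (Fin d → K) :=
      LinearMap.pi fun l => (LinearMap.mulLeft F c₀) ∘ₗ σ.toLinearMap ∘ₗ LinearMap.proj l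
    have hTa : ∀ x l, T x l = c₀ * σ (x l) := fun x l => rfl
    have hcomm : ∀ a b : K, a * b = b * a := fun a b => Subtype.ext (S.field.comm a a.2 b b.2)
    obtain ⟨B, -, hB2, hBN⟩ := mk T (-1) (-1) (by simp) (fun x y => by
        have e : (∑ l, T x l * σ (T y l)) = -σ (∑ l, x l * σ (y l)) := by
          rw [map_sum, ← Finset.sum_neg_distrib]
          refine Finset.sum_congr rfl fun l _ => ?_
          rw [hTa, hTa, map_mul, hσσ, mul_assoc, ← mul_assoc (σ (x l)), hcomm (σ (x l)) (σ c₀), mul_assoc,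
            ← mul_assoc, hc₀, map_mul, hσσ]
          exact neg_one_mul (α := K) _
        have h1 := congrArg Subtype.val e
        rw [hform, Subalgebra.coe_neg, S.conj_scalar σ hσJ _ (hform x y), neg_add, ← neg_smul, ← neg_smul,
          neg_neg] at h1
        exact (S.coeff hd h1).2)
      (fun x => funext fun l => by
        rw [hTa, hTa, map_mul, hσσ, ← mul_assoc, hc₀, Pi.smul_apply, neg_one_smul]
        exact neg_one_mul (α := K) _)
      (fun x => funext fun l => by
        rw [Pi.smul_apply, neg_one_smul, hTa, hTa, map_mul, hσJ]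
        refine Subtype.ext ?_
        simp only [Subalgebra.coe_mul, Subalgebra.coe_neg]
        rw [← neg_mul, ← mul_assoc, mul_neg, S.field.comm c₀.1 c₀.2 J S.mem, neg_mul, neg_mul, mul_assoc])
    exact ⟨B, hB2, hBN⟩

include p in
theorem square_fixed (S : Uni K J δ) (hd : 0 < d) (hp2 : p ≠ 2) (x : GG) (hx : x ∈ Cfsg.spGL d F) {z : F}
    (hz : (x : MM) ^ 2 = z • 1) : ∃ g ∈ Cfsg.spGL d F, g⁻¹ * x * g ∈ Cfsg.Geo.subalgebraNormalizer K := by
  classical
  obtain ⟨A, hxA⟩ : ∃ A : Matrix.symplecticGroup (Fin d) F, toGL d F A = x :=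
    ⟨⟨x, (mem_spGL_iff x).mp hx⟩, Units.ext rfl⟩
  rw [← hxA, toGL_val] at hz
  have hzz : z * z = 1 := SpDecomp.eq_one_scalar (M := A ^ 2) hd (by rw [SubmonoidClass.coe_pow]; exact hz)
  obtain ⟨hm1, hm2⟩ := S.models hd
  obtain ⟨B, hB2, hBN, hchar⟩ : ∃ B : Matrix.symplecticGroup (Fin d) F, (B : MM) ^ 2 = z • 1 ∧
      toGL d F B ∈ Cfsg.Geo.subalgebraNormalizer K ∧ (B : MM).charpoly = (A : MM).charpoly := by
    rcases mul_self_eq_one_iff.mp hzz with rfl | rfl
    · rw [one_smul] at hz
      obtain ⟨⟨a, ha⟩, hcA⟩ := charpoly_one A S.two hz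
      have hle := Submodule.finrank_le (PrimeOrd.fix (Matrix.toLin' (A : MM)))
      rw [finrank_sympSpace] at hle
      obtain ⟨B, hB2, hfix, hBN⟩ := hm1 a (by omega)
      refine ⟨B, by rw [hB2, one_smul], hBN, ?_⟩
      rw [(charpoly_one B S.two hB2).2, hcA, hfix, show 2 * a = a + a by omega, ← ha]
    · obtain ⟨B, hB2, hBN⟩ := hm2
      exact ⟨B, hB2, hBN, by rw [charpoly_neg_one B S.two hB2, charpoly_neg_one A S.two hz]⟩
  have hcop : ∀ C : Matrix.symplecticGroup (Fin d) F, (C : MM) ^ 2 = z • 1 → (orderOf C).Coprime p := fun C hC => by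
    refine Nat.Coprime.coprime_dvd_left (orderOf_dvd_of_pow_eq_one (n := 2 ^ 2) (Subtype.ext ?_))
      (Nat.Coprime.pow_left 2 ((Nat.coprime_primes Nat.prime_two Fact.out).2 (Ne.symm hp2)))
    rw [SubmonoidClass.coe_pow, show (2 : ℕ) ^ 2 = 2 * 2 by norm_num, pow_mul, hC, _root_.smul_pow, one_pow,
      _root_.sq, hzz, one_smul, Submonoid.coe_one]
  obtain ⟨g, hg⟩ := isConj_iff.1 (SympSemisimple.isConj_of_charpoly B A (hcop B hB2) (hcop A hz) hchar)
  refine ⟨toGL d F g, toGL_mem g, ?_⟩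
  rw [← hxA, ← hg, ← map_inv, ← map_mul, ← map_mul, show g⁻¹ * (g * B * g⁻¹) * g = B by group]
  exact hBN

end Cfsg.Lib.Classical.SpUniDer

namespace Cfsg.Lib.Classical.SpUniDer

open Cfsg.Lib.Classical
open Cfsg.Lib.Classical.SpExtDer (toGL toGL_val toGL_mem mem_spGL_iff fix_conj not_scalar card_spGL)
open scoped Matrix

universe v

variable {F : Type v} [Field F] [Fintype F] {p : ℕ} [Fact p.Prime] [CharP F p]

include p in
theorem main {r d : ℕ} [Fact r.Prime] (hd : 2 ≤ d) (hodd : Odd (Fintype.card F))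
    (K : Subalgebra F (Matrix (Fin d ⊕ Fin d) (Fin d ⊕ Fin d) F)) (hK : Cfsg.Geo.IsFieldSubalgebra 2 K)
    (hKf : Cfsg.Geo.IsAdjointClosedFor (Cfsg.sympForm d F) K) (hKns : ¬ Cfsg.Geo.IsSelfAdjointFor (Cfsg.sympForm d F) K)
    (hΩ : r ∣ (Cfsg.Geo.subalgebraNormalizer K).relIndex (Cfsg.spGL d F)) :
    (∀ x ∈ Cfsg.spGL d F, (∃ z : F, ((x ^ r : GL (Fin d ⊕ Fin d) F) : Matrix (Fin d ⊕ Fin d) (Fin d ⊕ Fin d) F) = z • (1 : Matrix (Fin d ⊕ Fin d) (Fin d ⊕ Fin d) F)) →
      (∀ z : F, (x : Matrix (Fin d ⊕ Fin d) (Fin d ⊕ Fin d) F) ≠ z • (1 : Matrix (Fin d ⊕ Fin d) (Fin d ⊕ Fin d) F)) →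
      ∃ g ∈ Cfsg.spGL d F, g⁻¹ * x * g ∈ Cfsg.Geo.subalgebraNormalizer K) ↔ r = 2 := by
  classical
  have hr : r.Prime := Fact.out
  obtain ⟨J, δ, S⟩ := exists_uni (F := F) (by omega) hodd hK hKf hKns
  constructor
  · intro H
    by_contra hr2
    have hbad : Bad r K := by
      by_cases hrp : r = p
      · subst hrp; exact S.transvection_bad hd
      set i := orderOf (Fintype.card F : ZMod r) with hi
      have hcd : (if Even i then i else 2 * i) ≤ 2 * d := SpDecomp.order_le hrp hi rfl (by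
        rw [← card_spGL]
        exact hΩ.trans (Subgroup.index_dvd_card _))
      refine S.odd_bad (p := p) hd hr2 hrp hi rfl hcd ?_
      by_contra hcase
      rw [not_or, Nat.not_odd_iff_even, Nat.even_iff] at hcase
      exact S.not_dvd_index (p := p) (by omega) hr2 hrp hi (by omega) hΩ
    obtain ⟨A, hA, hns, hno⟩ := hbad
    obtain ⟨g, hg, hy⟩ := H _ (toGL_mem A) ⟨1, by rw [Units.val_pow_eq_pow_val, toGL_val, hA, one_smul]⟩
      (fun z => by rw [toGL_val]; exact hns z)
    exact hno g hg hy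
  · rintro rfl x hx ⟨z, hz⟩ -
    refine square_fixed (p := p) S (by omega) (fun e => S.two ?_) x hx (by rw [← Units.val_pow_eq_pow_val]; exact hz)
    rw [← Nat.cast_two, ← e]; exact CharP.cast_eq_zero F p

end Cfsg.Lib.Classical.SpUniDer
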