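import Cfsg.Agent.Classical.Symp.SpFiveBridge
import Cfsg.Agent.Classical.Misc.TwoSix.Symp
import Cfsg.Agent.Classical.Orth.Frame.Five

set_option autoImplicit false
set_option linter.unusedVariables false
set_option linter.unusedSimpArgs false
set_option linter.unusedSectionVars false
set_option linter.style.haveILetI false
set_option linter.flexible false

/-! Normalisers of `2^{1+4}` of minus type in `Sp_4(p)` are maximal: they stabilise a frame of five points. -/

namespace Cfsg.Lib.Classical.SpFive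

open Matrix Cfsg.Lib.Classical

universe u

variable {F : Type u} [Field F] [Fintype F]

local notation "ι4" => (Fin 2 ⊕ Fin 2)
local notation "ι5" => (Unit ⊕ (Fin 2 ⊕ Fin 2))
local notation "M4" => Matrix (Fin 2 ⊕ Fin 2) (Fin 2 ⊕ Fin 2) F
local notation "J4" => Matrix.J (Fin 2) F

/-- The classes of the five involutions. -/
def fiveIdx : Fin 5 → TwoSix.Idx :=
  ![TwoSix.unitVec 0, TwoSix.unitVec 1, TwoSix.unitVec 2, TwoSix.unitVec 3, fun _ => 1]

theorem frame_normalizer_maximal (hodd : Odd (Fintype.card F)) (h2 : (2 : F) ≠ 0) (hp : (Fintype.card F).Prime)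
    {R : Subgroup (Matrix.GeneralLinearGroup ι4 F)} (hle : R ≤ Cfsg.spGL 2 F)
    {g : Fin 4 → Matrix.GeneralLinearGroup ι4 F} (S : TwoSix.Frame R g) :
    Cfsg.Geo.IsMaximalIn (Cfsg.spGL 2 F) (Cfsg.Geo.subgroupNormalizer R ⊓ Cfsg.spGL 2 F) := by
  classical
  haveI := S.nonempty
  obtain ⟨a, ha⟩ : ∃ a : Fin 5 → Matrix.GeneralLinearGroup ι4 F, ∀ k, a k = TwoSix.word g (fiveIdx k) :=
    ⟨_, fun k => rfl⟩
  have hinj : Function.Injective fiveIdx := by decide
  have hne0 : ∀ k, fiveIdx k ≠ 0 := by decide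
  have hbil : ∀ j k, j ≠ k → TwoSix.bil (fiveIdx j) (fiveIdx k) = 1 := by decide +kernel
  have haR : ∀ k, a k ∈ R := fun k => by rw [ha]; exact S.word_mem _
  have hidx : ∀ i : Fin 4, fiveIdx i.castSucc = TwoSix.unitVec i := by decide
  have hak : ∀ i : Fin 4, a i.castSucc = g i := fun i => by rw [ha, hidx, TwoSix.Frame.word_unit]
  have h4 : a (Fin.last 4) = g 0 * g 1 * g 2 * g 3 := by
    rw [ha, show fiveIdx (Fin.last 4) = (fun _ => 1 : TwoSix.Idx) from rfl]
    simp [TwoSix.word, TwoSix.letter]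
  have ha2 : ∀ k, a k * a k = 1 := fun k => by
    induction k using Fin.lastCases with
    | last => rw [h4]; exact S.mul4_sq
    | cast i => rw [hak]; exact S.sq i
  have haW : ∀ k, IsW (a k : M4) := fun k =>
    ⟨by rw [ha]; exact S.trace_word (hne0 k), (TwoSix.sp_transpose (hle (haR k)) (ha2 k)).symm⟩
  set e : Fin 5 → (ι5 → F) := fun k => co (a k : M4) with he
  have hXe : ∀ k, X (e k) = (a k : M4) := fun k => X_co h2 (haW k)
  have hQ1 : ∀ k, Refl.oddForm 2 F (e k) = 1 := fun k => by
    have h := X_mul_self (e k)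
    rw [hXe, ← Units.val_mul, ha2, Units.val_one] at h
    rw [Refl.oddForm_coe]
    exact (smul_left_injective F (M := M4) (m := (1 : M4)) one_ne_zero
      ((one_smul F (1 : M4)).trans h)).symm
  have hpol : ∀ j k, j ≠ k → QuadraticMap.polar (⇑(Refl.oddForm 2 F)) (e j) (e k) = 0 := fun j k hjk => by
    have h := X_anticomm (e j) (e k)
    have hs := S.sg_word (fiveIdx j) (fiveIdx k)
    rw [hbil j k hjk, TwoSix.Sg.anti] at hs
    rw [hXe, hXe, show (a j : M4) * (a k : M4) + (a k : M4) * (a j : M4) = 0 by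
      rw [ha, ha, hs, neg_add_cancel]] at h
    exact (smul_eq_zero.mp h.symm).resolve_right one_ne_zero
  have hee : ∀ j k, QuadraticMap.polar (⇑(Refl.oddForm 2 F)) (e j) (e k) = if j = k then 2 else 0 := fun j k => by
    split_ifs with h
    · subst h; rw [QuadraticMap.polar_self, hQ1, nsmul_eq_mul, Nat.cast_ofNat, mul_one]
    · exact hpol j k h
  have hli : LinearIndependent F e := Fintype.linearIndependent_iff.mpr fun c hc k => by
    have h : QuadraticMap.polarBilin (Refl.oddForm 2 F) (∑ i, c i • e i) (e k) = 0 := by rw [hc]; simp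
    simp only [map_sum, map_smul, LinearMap.sum_apply, LinearMap.smul_apply, QuadraticMap.polarBilin_apply_apply,
      hee, smul_eq_mul, mul_ite, mul_zero, Finset.sum_ite_eq', Finset.mem_univ, if_true] at h
    exact (mul_eq_zero.mp h).resolve_right h2
  have hsp : Submodule.span F (Set.range e) = ⊤ := hli.span_eq_top_of_card_eq_finrank' (by simp)
  have he0 : ∀ k, e k ≠ 0 := hli.ne_zero
  let D : Fin 5 → Submodule F (ι5 → F) := fun k => Submodule.span F {e k}
  have hD : Cfsg.Geo.IsOrthogonalMDecomposition (⇑(Refl.oddForm 2 F)) 1 D := by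
    refine ⟨⟨⟨by norm_num, one_pos, fun i => finrank_span_singleton (he0 i), hli.iSupIndep_span_singleton, ?_⟩,
      fun i v hv hv0 => ?_, fun i j hij u hu v hv => ?_⟩, fun i j => ?_⟩
    · rw [← hsp, Submodule.span_range_eq_iSup]
    · obtain ⟨s, rfl⟩ := Submodule.mem_span_singleton.mp hv
      have hs : s ≠ 0 := fun h => hv0 (by rw [h, zero_smul])
      refine ⟨⟨e i, Submodule.mem_span_singleton_self _, ?_⟩, e i, Submodule.mem_span_singleton_self _, ?_⟩
      · rw [QuadraticMap.polar_smul_right, hee, if_pos rfl]; exact mul_ne_zero hs h2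
      · rw [QuadraticMap.polar_smul_left, hee, if_pos rfl]; exact mul_ne_zero hs h2
    · obtain ⟨s, rfl⟩ := Submodule.mem_span_singleton.mp hu
      obtain ⟨t, rfl⟩ := Submodule.mem_span_singleton.mp hv
      rw [QuadraticMap.polar_smul_left, QuadraticMap.polar_smul_right, hee, if_neg hij, smul_zero, smul_zero]
    · refine ⟨((LinearEquiv.toSpanNonzeroSingleton F _ (e i) (he0 i)).symm.trans
        (LinearEquiv.toSpanNonzeroSingleton F _ (e j) (he0 j))), fun w => ?_⟩
      obtain ⟨s, rfl⟩ := (LinearEquiv.toSpanNonzeroSingleton F _ (e i) (he0 i)).surjective w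
      rw [LinearEquiv.trans_apply, LinearEquiv.symm_apply_apply]
      show Refl.oddForm 2 F (s • e j) = Refl.oddForm 2 F (s • e i)
      rw [QuadraticMap.map_smul, QuadraticMap.map_smul, hQ1, hQ1]
  have hmax := OFr.frame_maximal_five h2 hp (by simp) hD
  rw [Refl.oddForm_coe] at hmax
  refine maximal_transfer hodd h2 hmax fun h => ⟨fun hh => ?_, fun hh => ?_⟩
  · -- a normalising element permutes the five lines
    have key : ∀ k, ∃ j, ∃ s : F, s ≠ 0 ∧ (psi h2 h : Matrix ι5 ι5 F) *ᵥ e k = s • e j := by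
      intro k
      obtain ⟨f, s, hs⟩ := S.exists_perm hh (fiveIdx k)
      set y := (psi h2 h : Matrix ι5 ι5 F) *ᵥ e k with hy
      have hXy : X y = s • (TwoSix.word g f : M4) := by
        rw [hy, X_psi, hXe, ha, ← hs, Units.val_mul, Units.val_mul]
      have hyr : y ∈ Submodule.span F (Set.range e) := hsp ▸ Submodule.mem_top
      rw [Submodule.mem_span_range_iff_exists_fun] at hyr
      obtain ⟨c, hc⟩ := hyr
      have hs0 : s ≠ 0 := fun h0 => by
        rw [h0, zero_smul] at hs
        exact TwoSix.val_ne S.card_eq _ hs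
      obtain ⟨j, hj⟩ : ∃ j, fiveIdx j = f := by
        by_contra hno
        push Not at hno
        have hrel : ∑ i, c i • (TwoSix.word g (fiveIdx i) : M4) = s • (TwoSix.word g f : M4) := by
          rw [← hXy, ← hc, map_sum]
          exact Finset.sum_congr rfl fun i _ => by rw [map_smul, hXe, ha]
        have hnot := S.independent.notMem_span_image (s := Set.range fiveIdx) (x := f)
          (by rintro ⟨i, hi⟩; exact hno i hi)
        refine hnot ?_
        have hm : s • (TwoSix.word g f : M4) ∈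
            Submodule.span F ((fun i => (TwoSix.word g i : M4)) '' Set.range fiveIdx) :=
          hrel ▸ Submodule.sum_mem _ fun i _ => Submodule.smul_mem _ _ (Submodule.subset_span ⟨_, ⟨i, rfl⟩, rfl⟩)
        simpa [smul_smul, inv_mul_cancel₀ hs0] using Submodule.smul_mem _ s⁻¹ hm
      refine ⟨j, s, hs0, X_injective ?_⟩
      rw [hXy, map_smul, hXe, ha, hj]
    choose σ s hs0 hσ using key
    have hσi : Function.Injective σ := fun i j hij => by
      by_contra hne
      have hinjψ : Function.Injective fun v => (psi h2 h : Matrix ι5 ι5 F) *ᵥ v := fun u v huv =>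
        X_injective (by
          have := congrArg X huv
          simp only [X_psi] at this
          exact (h.1.isUnit.mul_left_cancel ((h.1⁻¹).isUnit.mul_right_cancel this)))
      have e1 : (psi h2 h : Matrix ι5 ι5 F) *ᵥ (s j • e i) = (psi h2 h : Matrix ι5 ι5 F) *ᵥ (s i • e j) := by
        rw [Matrix.mulVec_smul, Matrix.mulVec_smul, hσ, hσ, hij, smul_smul, smul_smul, mul_comm]
      have := hinjψ e1
      have h0 := congrArg (fun v => QuadraticMap.polar (⇑(Refl.oddForm 2 F)) v (e i)) this
      simp only [QuadraticMap.polar_smul_left, hee, if_pos, if_neg (Ne.symm hne), smul_eq_mul, mul_zero] at h0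
      exact mul_ne_zero (hs0 j) h2 h0
    refine ⟨Equiv.ofBijective σ (Finite.injective_iff_bijective.mp hσi), fun k => ?_⟩
    rw [Submodule.map_span, Set.image_singleton, Matrix.toLin'_apply, hσ]
    exact Submodule.span_singleton_smul_eq (hs0 k).isUnit _
  · -- an element permuting the lines normalises the group
    obtain ⟨σ, hσ⟩ := hh
    have hconj : ∀ k, h.1 * a k * h.1⁻¹ ∈ R := by
      intro k
      have h1 : (psi h2 h : Matrix ι5 ι5 F) *ᵥ e k ∈ D (σ k) := by
        rw [← hσ k]
        exact ⟨e k, Submodule.mem_span_singleton_self _, Matrix.toLin'_apply _ _⟩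
      obtain ⟨c, hc⟩ := Submodule.mem_span_singleton.mp h1
      have h3 : ((h.1 * a k * h.1⁻¹ : Matrix.GeneralLinearGroup ι4 F) : M4) = c • (a (σ k) : M4) := by
        rw [← hXe, ← map_smul, hc, X_psi, hXe, Units.val_mul, Units.val_mul]
      have hq : Refl.oddForm 2 F (c • e (σ k)) = 1 := by
        rw [hc, psi_mulVec, Refl.oddForm_coe, act_form h2, ← Refl.oddForm_coe, hQ1]
      rw [QuadraticMap.map_smul, hQ1, smul_eq_mul, mul_one] at hq
      rcases mul_self_eq_one_iff.mp hq with rfl | rfl
      · rw [one_smul] at h3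
        rw [show h.1 * a k * h.1⁻¹ = a (σ k) from Units.ext h3]
        exact haR _
      · rw [neg_one_smul] at h3
        rw [show h.1 * a k * h.1⁻¹ = -1 * a (σ k) from Units.ext (by
          rw [h3, Units.val_mul, Units.val_neg, Units.val_one, neg_one_mul])]
        exact mul_mem S.neg_one_mem (haR _)
    have hgen : ∀ i, h.1 * g i * h.1⁻¹ ∈ R := fun i => by
      have := hconj (Fin.castSucc i)
      rwa [hak] at this
    have hword : ∀ f, h.1 * TwoSix.word g f * h.1⁻¹ ∈ R := fun f => by
      have hl : ∀ i, h.1 * TwoSix.letter g f i * h.1⁻¹ ∈ R := fun i => by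
        rw [TwoSix.letter]
        split_ifs
        · rw [mul_one, mul_inv_cancel]; exact one_mem R
        · exact hgen i
      have := mul_mem (mul_mem (mul_mem (hl 0) (hl 1)) (hl 2)) (hl 3)
      rwa [show ∀ p q r t : Matrix.GeneralLinearGroup ι4 F, h.1 * p * h.1⁻¹ * (h.1 * q * h.1⁻¹) *
        (h.1 * r * h.1⁻¹) * (h.1 * t * h.1⁻¹) = h.1 * (p * q * r * t) * h.1⁻¹ from fun p q r t => by group] at this
    refine TwoSix.mem_normalizer fun x hx => ?_
    obtain ⟨f, t, ht⟩ := S.describe hx
    set z := x * (TwoSix.word g f)⁻¹ with hz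
    have hzR : z ∈ R := mul_mem hx (inv_mem (S.word_mem f))
    have hzs : (z : M4) = t • 1 := by
      rw [hz, Units.val_mul, ht, smul_mul_assoc, Units.mul_inv]
    rw [show x = z * TwoSix.word g f by rw [hz, inv_mul_cancel_right],
      show h.1 * (z * TwoSix.word g f) * h.1⁻¹ = z * (h.1 * TwoSix.word g f * h.1⁻¹) by
        rw [← mul_assoc, ← (TwoSix.scalar_commute hzs h.1).eq]; group]
    exact mul_mem hzR (hword f)

theorem normalizer_maximal (hodd : Odd (Fintype.card F)) (h2 : (2 : F) ≠ 0) (hp : (Fintype.card F).Prime)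
    {R : Subgroup (Matrix.GeneralLinearGroup ι4 F)} (hR : Cfsg.Geo.IsSymplecticTypeGroup 2 R)
    (hirr : Cfsg.Geo.ActsAbsolutelyIrreducibly (Cfsg.Geo.matrixSet R)) (hle : R ≤ Cfsg.spGL 2 F)
    (hcard : Nat.card R = 32) (hm : Cfsg.Geo.IsOfMinusType 2 R) :
    Cfsg.Geo.IsMaximalIn (Cfsg.spGL 2 F) (Cfsg.Geo.subgroupNormalizer R ⊓ Cfsg.spGL 2 F) := by
  obtain ⟨g, S⟩ := TwoSix.frame_of_minus (by simp) h2 hR hirr (by rw [hcard]; norm_num) hm
  exact frame_normalizer_maximal hodd h2 hp hle S

end Cfsg.Lib.Classical.SpFive
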