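import Mathlib
import Cfsg.Agent.Classical.Symp.Matrix
import Cfsg.Agent.Classical.Symp.Decomp

set_option autoImplicit false
set_option linter.unusedVariables false
set_option linter.unusedSimpArgs false
set_option linter.style.haveILetI false

/-! The 2-rank of projective symplectic groups in odd characteristic is less than the dimension. -/

namespace Cfsg.Lib.Classical

universe u v w

/-- Groups with commutators in `{1, c}` have a power of four as index of the centre. -/
theorem exists_center_index_four_pow : ∀ (n : ℕ) (T : Type w) [Group T] [Finite T] (c : T), Nat.card T = n →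
    c * c = 1 → (∀ x, x * c = c * x) → (∀ x y : T, x * y = y * x ∨ x * y = c * (y * x)) →
    ∃ s : ℕ, (Subgroup.center T).index = 4 ^ s := by
  intro n
  induction n using Nat.strong_induction_on with
  | _ n ih =>
    intro T _ _ c hn hc hcz hcomm
    classical
    by_cases hab : ∀ x y : T, x * y = y * x
    · refine ⟨0, ?_⟩
      rw [pow_zero, Subgroup.index_eq_one, eq_top_iff]
      exact fun x _ => Subgroup.mem_center_iff.mpr fun y => hab y x
    push Not at hab
    obtain ⟨s, t, hst⟩ := hab
    have hc1 : c ≠ 1 := fun h => hst ((hcomm s t).elim id fun e => by rw [e, h, one_mul])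
    let ε : T → T → ZMod 2 := fun a x => if x * a = a * x then 0 else 1
    have hε : ∀ a x, x * a = (if ε a x = 0 then 1 else c) * (a * x) := fun a x => by
      by_cases h : x * a = a * x
      · simp [ε, h]
      · simp [ε, h, (hcomm x a).resolve_left h]
    have hadd : ∀ a x y, ε a (x * y) = ε a x + ε a y := fun a x y => by
      have key : ∀ i j : ZMod 2, (if i = 0 then (1 : T) else c) * (if j = 0 then 1 else c) =
          if i + j = 0 then 1 else c := by
        intro i j
        have h01 : ∀ k : ZMod 2, k = 0 ∨ k = 1 := by decide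
        rcases h01 i with rfl | rfl <;> rcases h01 j with rfl | rfl <;>
          simp [hc, show (1 : ZMod 2) + 1 = 0 from rfl]
      have hz : ∀ i : ZMod 2, ∀ z : T, (if i = 0 then (1 : T) else c) * z = z * (if i = 0 then 1 else c) :=
        fun i z => by split_ifs <;> simp [hcz z]
      have e : x * y * a = (if ε a x + ε a y = 0 then 1 else c) * (a * (x * y)) := by
        rw [mul_assoc, hε a y, ← mul_assoc, ← mul_assoc, ← hz, mul_assoc (ite _ _ _) x a, hε a x, ← key]
        simp only [mul_assoc]
        rw [← mul_assoc (if ε a y = 0 then 1 else c), ← mul_assoc (if ε a x = 0 then 1 else c), hz]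
      have hne : c * (a * (x * y)) ≠ a * (x * y) := fun h => hc1 (by simpa using h)
      by_cases h : ε a x + ε a y = 0
      · rw [if_pos h, one_mul] at e; rw [h]; simp [ε, e]
      · rw [if_neg h] at e
        have : ε a (x * y) = 1 := by simp [ε, e, hne]
        rw [this]
        have h01 : ∀ k : ZMod 2, k ≠ 0 → 1 = k := by decide
        exact h01 _ h
    let φ : T →* Multiplicative (ZMod 2 × ZMod 2) := MonoidHom.mk'
      (fun x => Multiplicative.ofAdd (ε s x, ε t x)) fun x y => by rw [hadd, hadd]; rfl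
    have hts : t * s ≠ s * t := fun h => hst h.symm
    have hφs : φ s = Multiplicative.ofAdd ((0, 1) : ZMod 2 × ZMod 2) := by simp [φ, ε, hst]
    have hφt : φ t = Multiplicative.ofAdd ((1, 0) : ZMod 2 × ZMod 2) := by simp [φ, ε, hts]
    have hsurj : Function.Surjective φ := fun z => by
      obtain ⟨⟨i, j⟩, rfl⟩ := Multiplicative.ofAdd.surjective z
      refine ⟨t ^ i.val * s ^ j.val, ?_⟩
      rw [map_mul, map_pow, map_pow, hφs, hφt]
      fin_cases i <;> fin_cases j <;> rfl
    set T₁ := φ.ker with hT₁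
    have hmem : ∀ x ∈ T₁, x * s = s * x ∧ x * t = t * x := fun x hx => by
      rw [hT₁, MonoidHom.mem_ker] at hx
      have hx' := congrArg Multiplicative.toAdd hx
      simp only [φ, MonoidHom.mk'_apply, toAdd_ofAdd, toAdd_one, Prod.mk_eq_zero] at hx'
      simpa [ε] using hx'
    have hidx : T₁.index = 4 := by
      rw [hT₁, Subgroup.index_ker, MonoidHom.range_eq_top.mpr hsurj, Subgroup.card_top,
        Nat.card_congr Multiplicative.toAdd, Nat.card_prod, Nat.card_zmod]
    have hcT : c ∈ T₁ := by
      rw [hT₁, MonoidHom.mem_ker]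
      simp [φ, ε, (hcz s).symm, (hcz t).symm]
    have hlt : Nat.card T₁ < n := by
      have := T₁.card_mul_index
      rw [hidx, hn] at this
      have := Nat.card_pos (α := T₁)
      omega
    obtain ⟨k, hk⟩ := ih _ hlt T₁ ⟨c, hcT⟩ rfl (Subtype.ext hc) (fun x => Subtype.ext (hcz x))
      (fun x y => (hcomm x y).imp Subtype.ext Subtype.ext)
    have hle : Subgroup.center T ≤ T₁ := fun z hz => by
      rw [hT₁, MonoidHom.mem_ker]
      simp [φ, ε, Subgroup.mem_center_iff.mp hz s, Subgroup.mem_center_iff.mp hz t]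
    have hcen : (Subgroup.center T).subgroupOf T₁ = Subgroup.center T₁ := by
      ext z
      rw [Subgroup.mem_subgroupOf, Subgroup.mem_center_iff, Subgroup.mem_center_iff]
      constructor
      · exact fun h y => Subtype.ext (h y)
      · intro h y
        obtain ⟨⟨i, j⟩, hij⟩ := Multiplicative.ofAdd.surjective (φ y)
        set w := t ^ i.val * s ^ j.val with hw
        have hwy : w⁻¹ * y ∈ T₁ := by
          rw [hT₁, MonoidHom.mem_ker, map_mul, map_inv, inv_mul_eq_one, ← hij, hw, map_mul, map_pow, map_pow, hφs,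
            hφt]
          fin_cases i <;> fin_cases j <;> rfl
        have h1 : (w⁻¹ * y) * z = z * (w⁻¹ * y) := congrArg Subtype.val (h ⟨_, hwy⟩)
        obtain ⟨hzs, hzt⟩ := hmem z z.2
        have h2 : Commute (z : T) w := (Commute.pow_right hzt _).mul_right (Commute.pow_right hzs _)
        calc y * (z : T) = w * ((w⁻¹ * y) * z) := by group
          _ = w * (z * (w⁻¹ * y)) := by rw [h1]
          _ = (z * w) * (w⁻¹ * y) := by rw [← mul_assoc, h2.eq]
          _ = z * y := by group
    refine ⟨k + 1, ?_⟩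
    rw [← Subgroup.relIndex_mul_index hle, hidx, Subgroup.relIndex, hcen, hk, pow_succ]

variable {F : Type u} [Field F]

/-- The common decomposition bound for representations with `c ↦ -1`. -/
theorem exists_piece_count (h2 : (2 : F) ≠ 0) {T : Type w} [Group T] [Finite T] (c : T)
    (hcomm : ∀ x y : T, x * y = y * x ∨ x * y = c * (y * x)) {s : ℕ}
    (hs : (Subgroup.center T).index = 4 ^ s) (Z' : Subgroup T) (hZ' : Z' ≤ Subgroup.center T)
    (hsq : ∀ z ∈ Z', z * z = 1) :
    ∀ (n : ℕ) {V : Type v} [AddCommGroup V] [Module F V] [FiniteDimensional F V] (B : LinearMap.BilinForm F V)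
      (hA : B.IsAlt) (hB : B.Nondegenerate) (ρ : T →* BilinIsom B), Module.finrank F V = n → 0 < n →
      (∀ x, (ρ c : V ≃ₗ[F] V) x = -x) →
      ∃ r, 1 ≤ r ∧ 2 * r ≤ n ∧ 2 ^ s * r ≤ n ∧ Nat.card (Z'.map ρ) ≤ 2 ^ r := by
  intro n
  induction n using Nat.strong_induction_on with
  | _ n ih =>
    intro V _ _ _ B hA hB ρ hn hpos hρc
    classical
    obtain ⟨d, hd⟩ := even_finrank_of_symplectic hA hB
    haveI : Nontrivial V := Module.nontrivial_of_finrank_pos (R := F) (by omega)
    by_cases hall : ∀ z ∈ Z', ρ z = 1 ∨ ρ z = ρ c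
    · refine ⟨1, le_rfl, by omega, ?_, ?_⟩
      swap
      · have hsub : (Z'.map ρ : Set (BilinIsom B)) ⊆ {1, ρ c} := by
          rintro _ ⟨z, hz, rfl⟩
          rcases hall z hz with e | e <;> simp [e]
        rw [pow_one, ← SetLike.coe_sort_coe, Nat.card_coe_set_eq]
        calc Set.ncard (Z'.map ρ : Set (BilinIsom B)) ≤ Set.ncard ({1, ρ c} : Set (BilinIsom B)) :=
              Set.ncard_le_ncard hsub
          _ ≤ 2 := (Set.ncard_insert_le _ _).trans (by rw [Set.ncard_singleton])
      -- independence of representatives of `T` modulo its centre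
      let sg : T → T →* F := fun t => MonoidHom.mk ⟨fun u => if u * t = t * u then (1 : F) else -1, by simp⟩ fun x y => by
        change (if x * y * t = t * (x * y) then (1 : F) else -1) = (if x * t = t * x then (1 : F) else -1) * (if y * t = t * y then (1 : F) else -1)
        have hcz : ∀ z, (ρ c) * z = z * ρ c := fun z => BilinIsom.ext' fun v => by
          rw [BilinIsom.mul_apply', BilinIsom.mul_apply', hρc, hρc, map_neg]
        have hρne : ∀ {a b : T}, ρ a = ρ c * ρ b → a ≠ b := fun {a b} e h => by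
          subst h
          obtain ⟨v, hv⟩ := exists_ne (0 : V)
          have e' := DFunLike.congr_fun (congrArg Subtype.val e) (((ρ a)⁻¹ : BilinIsom B).1 v)
          rw [BilinIsom.apply_inv_self, Subgroup.coe_mul, LinearEquiv.mul_apply, BilinIsom.apply_inv_self, hρc,
            eq_neg_iff_add_eq_zero, ← two_smul F v, smul_eq_zero] at e'
          exact hv (e'.resolve_left h2)
        by_cases hx : x * t = t * x <;> by_cases hy : y * t = t * y
        · rw [if_pos hx, if_pos hy, mul_one, if_pos (by rw [mul_assoc, hy, ← mul_assoc, hx, mul_assoc])]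
        · have hy' := (hcomm y t).resolve_left hy
          rw [if_pos hx, if_neg hy, one_mul, if_neg (hρne ?_)]
          rw [mul_assoc x y t, hy', map_mul, map_mul, map_mul, ← mul_assoc, ← hcz, mul_assoc, ← mul_assoc (ρ x),
            ← map_mul, hx, ← map_mul, ← map_mul, mul_assoc]
          exact map_mul ρ _ _
        · have hx' := (hcomm x t).resolve_left hx
          rw [if_neg hx, if_pos hy, mul_one, if_neg (hρne ?_)]
          rw [mul_assoc x y t, hy, ← mul_assoc, hx', mul_assoc, mul_assoc, map_mul]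
        · have hx' := (hcomm x t).resolve_left hx
          have hy' := (hcomm y t).resolve_left hy
          rw [if_neg hx, if_neg hy, neg_mul_neg, one_mul]
          by_cases h : x * y * t = t * (x * y)
          · rw [if_pos h]
          exfalso
          have hcc : ∀ z, ρ c * (ρ c * z) = z := fun z => BilinIsom.ext' fun v => by
            rw [BilinIsom.mul_apply', BilinIsom.mul_apply', hρc, hρc, neg_neg]
          have e1 : ρ (x * y * t) = ρ (t * (x * y)) := by
            rw [mul_assoc x y t, hy', map_mul, map_mul, map_mul, ← mul_assoc, ← hcz, mul_assoc, ← mul_assoc (ρ x),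
              ← map_mul ρ x, hx']
            simp only [map_mul, mul_assoc, hcc]
          have e2 := congrArg ρ ((hcomm (x * y) t).resolve_left h)
          rw [map_mul ρ c] at e2
          exact hρne (e1.symm.trans e2) rfl
      have hsg : ∀ t u x, (ρ u : V ≃ₗ[F] V) ((ρ t : V ≃ₗ[F] V) x) =
          sg t u • (ρ t : V ≃ₗ[F] V) ((ρ u : V ≃ₗ[F] V) x) := fun t u x => by
        change _ = (if u * t = t * u then (1 : F) else -1) • _
        rw [← BilinIsom.mul_apply', ← map_mul]
        by_cases h : u * t = t * u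
        · rw [if_pos h, one_smul, h, map_mul, BilinIsom.mul_apply']
        · rw [if_neg h, (hcomm u t).resolve_left h, map_mul, map_mul, BilinIsom.mul_apply', BilinIsom.mul_apply',
            hρc, neg_smul, one_smul]
      have hinj : Function.Injective fun q : T ⧸ Subgroup.center T => sg q.out := fun p q hpq => by
        rw [← QuotientGroup.out_eq' p, ← QuotientGroup.out_eq' q, QuotientGroup.eq, Subgroup.mem_center_iff]
        intro u
        have e : (u * p.out = p.out * u ↔ u * q.out = q.out * u) := by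
          have e := DFunLike.congr_fun hpq u
          change (if u * p.out = p.out * u then (1 : F) else -1) = (if u * q.out = q.out * u then (1 : F) else -1) at e
          have hne : (1 : F) ≠ -1 := fun h => h2 (by rw [show (2 : F) = 1 + 1 by norm_num]; linear_combination h)
          by_cases h1 : u * p.out = p.out * u <;> by_cases h3 : u * q.out = q.out * u <;>
            simp [h1, h3, hne, hne.symm] at e ⊢
        by_cases h1 : u * p.out = p.out * u
        · have h1' : u * p.out⁻¹ = p.out⁻¹ * u := (Commute.inv_right h1).eq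
          rw [← mul_assoc, h1', mul_assoc, e.mp h1, ← mul_assoc]
        · have hp := (hcomm u p.out).resolve_left h1
          have hq := (hcomm u q.out).resolve_left fun h => h1 (e.mpr h)
          have hp' : p.out⁻¹ * c * (p.out * u) = p.out⁻¹ * u * p.out := by rw [mul_assoc, ← hp, mul_assoc]
          calc u * (p.out⁻¹ * q.out) = p.out⁻¹ * (p.out * u) * p.out⁻¹ * q.out := by group
            _ = p.out⁻¹ * c⁻¹ * (u * p.out) * p.out⁻¹ * q.out := by rw [hp]; group
            _ = p.out⁻¹ * c⁻¹ * (u * q.out) := by group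
            _ = p.out⁻¹ * q.out * u := by rw [hq]; group
      have hli : LinearIndependent F fun q : T ⧸ Subgroup.center T =>
          ((ρ q.out : V ≃ₗ[F] V) : Module.End F V) := by
        letI : Fintype (T ⧸ Subgroup.center T) := Fintype.ofFinite _
        rw [Fintype.linearIndependent_iff]
        intro a ha p
        by_contra hap
        obtain ⟨v, hv⟩ := exists_ne (0 : V)
        obtain ⟨f, hf⟩ := Module.Projective.exists_dual_ne_zero F
          ((ρ p.out : V ≃ₗ[F] V).map_ne_zero_iff.mpr hv)
        have hcomb : ∀ u : T, ∑ q, (a q * f ((ρ q.out : V ≃ₗ[F] V) v)) • (sg q.out) u = 0 := by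
          intro u
          have e := LinearMap.congr_fun ha (((ρ u)⁻¹ : BilinIsom B).1 v)
          have e' := congrArg (fun z => f ((ρ u : V ≃ₗ[F] V) z)) e
          simp only [LinearMap.coe_sum, Finset.sum_apply, LinearMap.smul_apply, map_sum, map_smul,
            LinearEquiv.coe_coe, hsg, BilinIsom.apply_inv_self, LinearMap.zero_apply, map_zero, smul_eq_mul] at e'
          rw [← e']
          exact Finset.sum_congr rfl fun q _ => by simp only [smul_eq_mul]; ring
        have hchar := (linearIndependent_monoidHom T F).comp _ hinj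
        rw [Fintype.linearIndependent_iff] at hchar
        have := hchar _ (funext fun u => by simpa using hcomb u) p
        exact hap ((mul_eq_zero.mp this).resolve_right hf)
      letI : Fintype (T ⧸ Subgroup.center T) := Fintype.ofFinite _
      have h4 := hli.fintype_card_le_finrank
      rw [← Nat.card_eq_fintype_card, ← Subgroup.index_eq_card, hs, Module.finrank_linearMap, hn] at h4
      rw [mul_one]
      refine (Nat.pow_le_pow_iff_left (n := 2) two_ne_zero).mp ?_
      rw [← pow_mul, pow_mul', show (2 : ℕ) ^ 2 = 4 from rfl, sq]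
      exact h4
    push Not at hall
    obtain ⟨z, hz, hz1, hzc⟩ := hall
    have hzz : ∀ x, (ρ z : V ≃ₗ[F] V) ((ρ z : V ≃ₗ[F] V) x) = x := fun x => by
      rw [← BilinIsom.mul_apply', ← map_mul, hsq z hz, map_one]; rfl
    let P : Submodule F V := LinearMap.ker ((ρ z : V ≃ₗ[F] V).toLinearMap - LinearMap.id)
    let N : Submodule F V := LinearMap.ker ((ρ z : V ≃ₗ[F] V).toLinearMap + LinearMap.id)
    have hP : ∀ x, x ∈ P ↔ (ρ z : V ≃ₗ[F] V) x = x := fun x => by simp [P, sub_eq_zero]
    have hN : ∀ x, x ∈ N ↔ (ρ z : V ≃ₗ[F] V) x = -x := fun x => by simp [N, add_eq_zero_iff_eq_neg]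
    have horth : ∀ x ∈ P, ∀ y ∈ N, B x y = 0 := fun x hx y hy => by
      have h := BilinIsom.map_form (ρ z) x y
      rw [(hP x).mp hx, (hN y).mp hy, map_neg, neg_eq_iff_add_eq_zero, ← two_mul, mul_eq_zero] at h
      exact h.resolve_left h2
    have hc' : IsCompl P N := by
      refine ⟨Submodule.disjoint_def.mpr fun x hx hy => ?_, codisjoint_iff.mpr (eq_top_iff.mpr fun x _ => ?_)⟩
      · have e := ((hP x).mp hx).symm.trans ((hN x).mp hy)
        rw [eq_neg_iff_add_eq_zero, ← two_smul F x, smul_eq_zero] at e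
        exact e.resolve_left h2
      · have e : x = (2 : F)⁻¹ • (x + (ρ z : V ≃ₗ[F] V) x) + (2 : F)⁻¹ • (x - (ρ z : V ≃ₗ[F] V) x) := by
          rw [← smul_add, add_add_sub_cancel, ← two_smul F x, smul_smul, inv_mul_cancel₀ h2, one_smul]
        rw [e]
        refine Submodule.add_mem_sup (P.smul_mem _ ((hP _).mpr ?_)) (N.smul_mem _ ((hN _).mpr ?_))
        · rw [map_add, hzz, add_comm]
        · rw [map_sub, hzz, neg_sub]
    have hsplit : ∀ x, ∃ p ∈ P, ∃ q ∈ N, x = p + q := fun x => by
      obtain ⟨p, hp, q, hq, e⟩ := Submodule.mem_sup.mp (hc'.sup_eq_top ▸ Submodule.mem_top : x ∈ P ⊔ N)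
      exact ⟨p, hp, q, hq, e.symm⟩
    have hzt : ∀ t x, (ρ z : V ≃ₗ[F] V) ((ρ t : V ≃ₗ[F] V) x) = (ρ t : V ≃ₗ[F] V) ((ρ z : V ≃ₗ[F] V) x) := fun t x => by
      rw [← BilinIsom.mul_apply', ← BilinIsom.mul_apply', ← map_mul, ← map_mul, Subgroup.mem_center_iff.mp (hZ' hz) t]
    have piece : ∀ W : Submodule F V, W ≠ ⊤ → W ≠ ⊥ → (∀ t, ∀ x ∈ W, (ρ t : V ≃ₗ[F] V) x ∈ W) →
        (∀ w ∈ W, (∀ y ∈ W, B w y = 0) → ∀ y, B w y = 0) →
        ∃ r, 1 ≤ r ∧ 2 * r ≤ Module.finrank F W ∧ 2 ^ s * r ≤ Module.finrank F W ∧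
          ∃ f : Z' →* BilinIsom (B.restrict W), Nat.card f.range ≤ 2 ^ r ∧
            ∀ x : Z', f x = 1 → ∀ w ∈ W, (ρ x : V ≃ₗ[F] V) w = w := by
      intro W hWtop hWbot hinv hrad
      have hlt : Module.finrank F W < n := hn ▸ Submodule.finrank_lt hWtop
      have hWpos : 0 < Module.finrank F W := Nat.pos_of_ne_zero fun h => hWbot (Submodule.finrank_eq_zero.mp h)
      have hnd : (B.restrict W).Nondegenerate := by
        have key : ∀ w : W, (∀ y : W, B w y = 0) → w = 0 := fun w hw =>
          Subtype.ext (hB.1 w (hrad w w.2 fun y hy => hw ⟨y, hy⟩))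
        exact ⟨key, fun w hw => key w fun y => hA.isRefl _ _ (hw y)⟩
      let res : T → BilinIsom (B.restrict W) := fun t =>
        ⟨LinearEquiv.ofLinear ((ρ t : V ≃ₗ[F] V).toLinearMap.restrict (hinv t))
          ((ρ t⁻¹ : V ≃ₗ[F] V).toLinearMap.restrict (hinv t⁻¹))
          (LinearMap.ext fun w => Subtype.ext (by
            change (ρ t : V ≃ₗ[F] V) ((ρ t⁻¹ : V ≃ₗ[F] V) w) = w
            rw [map_inv, BilinIsom.apply_inv_self]))
          (LinearMap.ext fun w => Subtype.ext (by
            change (ρ t⁻¹ : V ≃ₗ[F] V) ((ρ t : V ≃ₗ[F] V) w) = w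
            rw [map_inv, BilinIsom.inv_apply_self])),
          fun x y => BilinIsom.map_form (ρ t) x y⟩
      let ρ' : T →* BilinIsom (B.restrict W) := MonoidHom.mk' res fun a b => BilinIsom.ext' fun w => Subtype.ext (by
        change (ρ (a * b) : V ≃ₗ[F] V) w = (ρ a : V ≃ₗ[F] V) ((ρ b : V ≃ₗ[F] V) w)
        rw [map_mul, BilinIsom.mul_apply'])
      obtain ⟨r, h1, h2', h3, h4⟩ := ih _ hlt (B.restrict W) (fun x => hA _) hnd ρ' rfl hWpos
        fun w => Subtype.ext (hρc w)
      refine ⟨r, h1, h2', h3, ρ'.comp Z'.subtype, ?_, fun x hx w hw => ?_⟩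
      · rwa [MonoidHom.range_comp, Subgroup.range_subtype]
      · exact congrArg Subtype.val (DFunLike.congr_fun (congrArg Subtype.val hx) ⟨w, hw⟩)
    have hPtop : P ≠ ⊤ := fun h => hz1 (BilinIsom.ext' fun x => (hP x).mp (h ▸ Submodule.mem_top))
    have hNtop : N ≠ ⊤ := fun h => hzc (BilinIsom.ext' fun x => by
      rw [hρc]; exact (hN x).mp (h ▸ Submodule.mem_top))
    have hPbot : P ≠ ⊥ := fun h => hNtop (by simpa [h] using hc'.sup_eq_top)
    have hNbot : N ≠ ⊥ := fun h => hPtop (by simpa [h] using hc'.sup_eq_top)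
    obtain ⟨r₁, a1, a2, a3, f₁, a4, a5⟩ := piece P hPtop hPbot
      (fun t x hx => (hP _).mpr (by rw [hzt, (hP x).mp hx]))
      (fun w hw h y => by
        obtain ⟨p, hp, q, hq, rfl⟩ := hsplit y
        rw [map_add, h p hp, horth w hw q hq, add_zero])
    obtain ⟨r₂, b1, b2, b3, f₂, b4, b5⟩ := piece N hNtop hNbot
      (fun t x hx => (hN _).mpr (by rw [hzt, (hN x).mp hx, map_neg]))
      (fun w hw h y => by
        obtain ⟨p, hp, q, hq, rfl⟩ := hsplit y
        rw [map_add, h q hq, hA.isRefl _ _ (horth p hp w hw), add_zero])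
    have hfin := Submodule.finrank_add_eq_of_isCompl hc'
    refine ⟨r₁ + r₂, by omega, by omega, by rw [mul_add]; omega, ?_⟩
    rw [← Subgroup.range_subtype Z', ← MonoidHom.range_comp, ← Subgroup.index_ker, pow_add]
    have hker : f₁.ker ⊓ f₂.ker ≤ (ρ.comp Z'.subtype).ker := fun x hx => by
      refine BilinIsom.ext' fun v => ?_
      obtain ⟨p, hp, q, hq, rfl⟩ := hsplit v
      change (ρ x : V ≃ₗ[F] V) (p + q) = p + q
      rw [map_add, a5 x hx.1 p hp, b5 x hx.2 q hq]
    calc (ρ.comp Z'.subtype).ker.index ≤ (f₁.ker ⊓ f₂.ker).index := by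
          refine Nat.le_of_dvd (Nat.pos_of_ne_zero ?_) (Subgroup.index_dvd_of_le hker)
          exact Subgroup.index_ne_zero_of_finite
      _ ≤ f₁.ker.index * f₂.ker.index := Subgroup.index_inf_le
      _ ≤ 2 ^ r₁ * 2 ^ r₂ := by rw [Subgroup.index_ker, Subgroup.index_ker]; exact Nat.mul_le_mul a4 b4

theorem two_rank_arith {m s r : ℕ} (hm : 3 ≤ m) (hr : 1 ≤ r) (h1 : 2 * r ≤ 2 * m) (h2 : 2 ^ s * r ≤ 2 * m) :
    2 * s + r < 2 * m := by
  rcases s with _ | _ | _ | s
  · omega
  · omega
  · omega
  · have h3 : s + 3 < 2 ^ (s + 2) := by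
      calc s + 3 ≤ 2 * (s + 2) - 1 := by omega
        _ < 2 ^ (s + 2) := by
          have := Nat.lt_two_pow_self (n := s + 1)
          rw [pow_succ]; omega
    have h4 : 2 * (s + 4) * r ≤ 2 * m := by
      refine le_trans ?_ h2
      rw [pow_succ' 2 (s + 2)]
      exact Nat.mul_le_mul_right _ (by omega)
    have h5 : 2 * (s + 3) + r < 2 * (s + 4) * r := by
      obtain ⟨r', rfl⟩ := Nat.exists_eq_add_of_le hr
      nlinarith
    omega

/-- Elementary abelian 2-subgroups of the projective symplectic group in odd characteristic are small. -/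
theorem card_elementary_lt [Finite F] (h2 : (2 : F) ≠ 0) {V : Type v} [AddCommGroup V] [Module F V]
    [FiniteDimensional F V] {B : LinearMap.BilinForm F V} (hA : B.IsAlt) (hB : B.Nondegenerate) {m : ℕ}
    (hm : 3 ≤ m) (hdim : Module.finrank F V = 2 * m) (E : Subgroup (BilinIsom B ⧸ Subgroup.center (BilinIsom B)))
    (hE2 : ∀ x ∈ E, x * x = 1) : Nat.card E < 4 ^ m := by
  classical
  haveI : Finite V := Module.finite_of_finite F
  haveI : Finite (V ≃ₗ[F] V) := Finite.of_injective (fun g => (g : V → V)) DFunLike.coe_injective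
  haveI : Nontrivial V := Module.nontrivial_of_finrank_pos (R := F) (by omega)
  set Z := Subgroup.center (BilinIsom B)
  set T := E.comap (QuotientGroup.mk' Z) with hT
  have hZ : ∀ g ∈ Z, (∀ x, (g : V ≃ₗ[F] V) x = x) ∨ ∀ x, (g : V ≃ₗ[F] V) x = -x := by
    intro g hg
    obtain ⟨a, ha, e⟩ := (mem_center_bilinIsom_iff hA hB).mp hg
    rcases sq_eq_one_iff.mp ha with rfl | rfl
    · exact Or.inl fun x => by rw [e, one_smul]
    · exact Or.inr fun x => by rw [e, neg_smul, one_smul]
  have hmem : (LinearEquiv.neg F (M := V)) ∈ BilinIsom B := fun x y => by simp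
  let c₀ : BilinIsom B := ⟨LinearEquiv.neg F, hmem⟩
  have hc₀ : c₀ ∈ Z := (mem_center_bilinIsom_iff hA hB).mpr ⟨-1, neg_one_sq, fun x => by simp [c₀]⟩
  have hZeq : ∀ g ∈ Z, g = 1 ∨ g = c₀ := fun g hg => (hZ g hg).imp (fun h => BilinIsom.ext' fun x => by rw [h]; rfl)
    (fun h => BilinIsom.ext' fun x => by rw [h]; rfl)
  let c : T := ⟨c₀, by rw [hT, Subgroup.mem_comap, show QuotientGroup.mk' Z c₀ = 1 from (QuotientGroup.eq_one_iff c₀).mpr hc₀]; exact E.one_mem⟩
  have hsqT : ∀ x : T, x * x = 1 ∨ x * x = c := fun x => by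
    have : (x : BilinIsom B) * x ∈ Z := (QuotientGroup.eq_one_iff _).mp (hE2 _ x.2)
    exact (hZeq _ this).imp Subtype.ext Subtype.ext
  have hcc : c * c = 1 := Subtype.ext (BilinIsom.ext' fun x => neg_neg x)
  have hcz : ∀ x : T, x * c = c * x := fun x => Subtype.ext (Subgroup.mem_center_iff.mp hc₀ x)
  have hcommT : ∀ x y : T, x * y = y * x ∨ x * y = c * (y * x) := fun x y => by
    have hab : ∀ a ∈ E, ∀ b ∈ E, a * b = b * a := fun a ha b hb => by
      have e := hE2 _ (E.mul_mem ha hb)
      rw [eq_inv_of_mul_eq_one_left e, _root_.mul_inv_rev, ← eq_inv_of_mul_eq_one_left (hE2 a ha),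
        ← eq_inv_of_mul_eq_one_left (hE2 b hb)]
    have : ((x : BilinIsom B) * y) * ((y : BilinIsom B) * x)⁻¹ ∈ Z := by
      rw [← QuotientGroup.eq_one_iff, ← QuotientGroup.mk'_apply Z, map_mul, map_inv, map_mul, map_mul,
        hab _ x.2 _ y.2, mul_inv_cancel]
    rcases hZeq _ this with h | h
    · exact Or.inl (Subtype.ext (mul_inv_eq_one.mp h))
    · exact Or.inr (Subtype.ext (mul_inv_eq_iff_eq_mul.mp h))
  obtain ⟨s, hs⟩ := exists_center_index_four_pow _ T c rfl hcc hcz hcommT
  let Z' : Subgroup T :=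
    { carrier := {z | z ∈ Subgroup.center T ∧ z * z = 1}
      mul_mem' := fun {a b} ha hb => ⟨mul_mem ha.1 hb.1, by
        have : Commute b a := (Subgroup.mem_center_iff.mp ha.1 b)
        calc a * b * (a * b) = a * (b * a) * b := by group
          _ = a * (a * b) * b := by rw [this.eq]
          _ = (a * a) * (b * b) := by group
          _ = 1 := by rw [ha.2, hb.2, one_mul]⟩
      one_mem' := ⟨one_mem _, one_mul 1⟩
      inv_mem' := fun {a} ha => ⟨inv_mem ha.1, by rw [← _root_.mul_inv_rev, ha.2, inv_one]⟩ }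
  obtain ⟨r, hr1, hr2, hr3, hr4⟩ := exists_piece_count h2 c hcommT hs Z' (fun z hz => hz.1) (fun z hz => hz.2)
    (2 * m) B hA hB T.subtype hdim (by omega) fun x => rfl
  rw [← Nat.card_congr (Subgroup.equivMapOfInjective Z' T.subtype Subtype.val_injective).toEquiv] at hr4
  have hZle : Nat.card (Subgroup.center T) ≤ 2 * Nat.card Z' := by
    let f : Subgroup.center T →* T := MonoidHom.mk' (fun z => (z : T) * z) fun a b => by
      have : Commute (b : T) a := (Subgroup.mem_center_iff.mp a.2 b)
      simp only [Subgroup.coe_mul]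
      calc (a : T) * b * (a * b) = a * (b * a) * b := by group
        _ = a * (a * b) * b := by rw [this.eq]
        _ = (a : T) * a * ((b : T) * b) := by group
    have h1 := f.ker.card_mul_index
    have hr : f.ker.index ≤ 2 := by
      rw [Subgroup.index_ker, ← SetLike.coe_sort_coe, Nat.card_coe_set_eq]
      calc Set.ncard (f.range : Set T) ≤ Set.ncard ({1, c} : Set T) :=
            Set.ncard_le_ncard (by rintro _ ⟨z, rfl⟩; exact (hsqT z).imp id fun h => h)
        _ ≤ 2 := (Set.ncard_insert_le _ _).trans (by rw [Set.ncard_singleton])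
    have hk : Nat.card f.ker = Nat.card Z' := Nat.card_congr
      { toFun := fun z => ⟨z.1.1, z.1.2, z.2⟩
        invFun := fun z => ⟨⟨z.1, z.2.1⟩, z.2.2⟩
        left_inv := fun z => rfl
        right_inv := fun z => rfl }
    rw [← h1, hk, mul_comm]
    exact Nat.mul_le_mul_right _ hr
  have hT2 : Nat.card T = 2 * Nat.card E := by
    have hZc : Nat.card Z = 2 := by
      have hne : (1 : BilinIsom B) ≠ c₀ := fun h => by
        obtain ⟨v, hv⟩ := exists_ne (0 : V)
        have e : v = -v := DFunLike.congr_fun (congrArg Subtype.val h) v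
        rw [eq_neg_iff_add_eq_zero, ← two_smul F v, smul_eq_zero] at e
        exact hv (e.resolve_left h2)
      rw [← SetLike.coe_sort_coe, Nat.card_coe_set_eq, show (Z : Set (BilinIsom B)) = {1, c₀} from
        Set.ext fun g => ⟨hZeq g, by rintro (rfl | rfl); exacts [Z.one_mem, hc₀]⟩, Set.ncard_pair hne]
    have hle : Z ≤ T := fun g hg => by
      rw [hT, Subgroup.mem_comap, show QuotientGroup.mk' Z g = 1 from (QuotientGroup.eq_one_iff g).mpr hg]
      exact E.one_mem
    let φ := (QuotientGroup.mk' Z).subgroupComap E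
    have hsur : Function.Surjective φ := MonoidHom.subgroupComap_surjective_of_surjective _ _ (QuotientGroup.mk'_surjective Z)
    have h := φ.ker.card_mul_index
    rw [Subgroup.index_ker, MonoidHom.range_eq_top.mpr hsur, Subgroup.card_top] at h
    rw [← h, show φ.ker = Z.subgroupOf T from by
      ext g
      rw [MonoidHom.mem_ker, Subgroup.mem_subgroupOf, ← QuotientGroup.eq_one_iff, Subtype.ext_iff]
      rfl, Nat.card_congr (Subgroup.subgroupOfEquivOfLe hle).toEquiv, hZc]
  have hTle : Nat.card T ≤ 2 ^ (2 * s + r + 1) := by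
    rw [← (Subgroup.center T).card_mul_index, hs, pow_succ, pow_add, pow_mul, show (2 : ℕ) ^ 2 = 4 from rfl]
    calc Nat.card (Subgroup.center T) * 4 ^ s ≤ 2 * 2 ^ r * 4 ^ s :=
          Nat.mul_le_mul_right _ (hZle.trans (Nat.mul_le_mul_left _ hr4))
      _ = _ := by ring
  rw [hT2, pow_succ', Nat.mul_le_mul_left_iff two_pos] at hTle
  refine lt_of_le_of_lt hTle ?_
  rw [show (4 : ℕ) = 2 ^ 2 from rfl, ← pow_mul]
  exact Nat.pow_lt_pow_right one_lt_two (two_rank_arith hm hr1 hr2 hr3)

end Cfsg.Lib.Classical
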