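import Mathlib
import Cfsg.Prelude.Def_ClassicalGeometry
import Cfsg.Agent.Classical.Symp.IsotropicFrames

/-! Elements of odd prime order fixing no pair of complementary Lagrangians. -/

set_option autoImplicit false
set_option linter.unusedSimpArgs false
set_option linter.unusedSectionVars false
set_option linter.style.haveILetI false
set_option linter.flexible false

namespace Cfsg.Lib.Classical.PairDerange

open Matrix Submodule

universe u

variable {F : Type u} [Field F] [Fintype F]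

/-- An element of order `r` acts trivially in dimensions below the multiplicative order. -/
theorem trivial_small {ι : Type} [Fintype ι] [DecidableEq ι] {r : ℕ} (hr : r.Prime)
    (hdvd : ∀ l, 0 < l → r ∣ Fintype.card F ^ l - 1 → orderOf (Fintype.card F : ZMod r) ≤ l)
    (hrF : ¬ r ∣ Fintype.card F) (A : Matrix ι ι F) (hA : A ^ r = 1) (W : Submodule F (ι → F))
    (hW : ∀ w ∈ W, A *ᵥ w ∈ W) (hlt : Module.finrank F W < orderOf (Fintype.card F : ZMod r)) :
    ∀ w ∈ W, A *ᵥ w = w := by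
  classical
  set k := Module.finrank F W
  let f : Module.End F W := (Matrix.toLin' A).restrict fun w hw => by simpa using hW w hw
  let b := Module.finBasis F W
  have hpow : ∀ (j : ℕ) (w : W), ((f ^ j) w : ι → F) = (A ^ j) *ᵥ (w : ι → F) := by
    intro j
    induction j with
    | zero => intro w; simp
    | succ j ih =>
      intro w
      rw [pow_succ, pow_succ, Module.End.mul_apply, ih, ← Matrix.mulVec_mulVec]
      rfl
  have hf : f ^ r = 1 := LinearMap.ext fun w => Subtype.ext (by rw [hpow, hA, Matrix.one_mulVec]; rfl)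
  let M := LinearMap.toMatrixAlgEquiv b f
  have hM : M ^ r = 1 := by rw [← map_pow, hf, map_one]
  let u : GL (Fin k) F := ⟨M, M ^ (r - 1),
    by rw [← pow_succ', Nat.sub_add_cancel hr.pos, hM], by rw [← pow_succ, Nat.sub_add_cancel hr.pos, hM]⟩
  have hu : u = 1 := by
    by_contra hne
    have hord : orderOf u = r := by
      haveI := Fact.mk hr
      exact orderOf_eq_prime (Units.ext (by rw [Units.val_pow_eq_pow_val, Units.val_one]; exact hM)) hne
    have h := orderOf_dvd_natCard u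
    rw [hord, Matrix.card_GL_field] at h
    obtain ⟨i, -, hi⟩ := (Prime.dvd_finsetProd_iff hr.prime _).mp h
    have hik : (i : ℕ) ≤ k := i.isLt.le
    have e : Fintype.card F ^ k - Fintype.card F ^ (i : ℕ) = Fintype.card F ^ (i : ℕ) * (Fintype.card F ^ (k - i) - 1) := by
      rw [Nat.mul_sub_one, ← pow_add, Nat.add_sub_cancel' hik]
    rw [e] at hi
    rcases hr.dvd_mul.mp hi with h | h
    · exact hrF (hr.dvd_of_dvd_pow h)
    · have := hdvd _ (by omega) h
      omega
  have hf1 : f = 1 := by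
    have : M = 1 := congrArg Units.val hu
    exact (LinearMap.toMatrixAlgEquiv b).injective (by rw [map_one]; exact this)
  intro w hw
  have := hpow 1 ⟨w, hw⟩
  rw [pow_one, pow_one, hf1] at this
  exact this.symm

/-- The inclusion of coordinates. -/
def incl (F : Type u) [Field F] (e d : ℕ) : Matrix (Fin d) (Fin e) F := Matrix.of fun j i => if (i : ℕ) = j then 1 else 0

theorem incl_transpose_mul {e d : ℕ} (h : e ≤ d) : (incl F e d)ᵀ * incl F e d = 1 := by
  ext i j
  simp only [Matrix.mul_apply, Matrix.transpose_apply, incl, Matrix.of_apply]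
  rw [Finset.sum_eq_single (Fin.castLE h i) (fun l _ hl => by
    rw [if_neg fun e' => hl (Fin.ext e'.symm), zero_mul]) (by simp)]
  simp [Matrix.one_apply, Fin.ext_iff, eq_comm]

/-- The inclusion of the symplectic space. -/
def sincl (F : Type u) [Field F] (e d : ℕ) : Matrix (Fin d ⊕ Fin d) (Fin e ⊕ Fin e) F :=
  Matrix.fromBlocks (incl F e d) 0 0 (incl F e d)

theorem sincl_transpose_mul {e d : ℕ} (h : e ≤ d) : (sincl F e d)ᵀ * sincl F e d = 1 := by
  rw [sincl, Matrix.fromBlocks_transpose, Matrix.fromBlocks_multiply]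
  simp [incl_transpose_mul h, ← Matrix.fromBlocks_one]

theorem sincl_transpose_J {e d : ℕ} :
    (sincl F e d)ᵀ * Matrix.J (Fin d) F = Matrix.J (Fin e) F * (sincl F e d)ᵀ := by
  rw [sincl, Matrix.J, Matrix.J, Matrix.fromBlocks_transpose, Matrix.fromBlocks_multiply, Matrix.fromBlocks_multiply]
  simp

theorem J_sincl {e d : ℕ} : Matrix.J (Fin d) F * sincl F e d = sincl F e d * Matrix.J (Fin e) F := by
  rw [sincl, Matrix.J, Matrix.J, Matrix.fromBlocks_multiply, Matrix.fromBlocks_multiply]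
  simp

/-- Extension of a matrix by the identity. -/
def ext₁ (e d : ℕ) (M : Matrix (Fin e ⊕ Fin e) (Fin e ⊕ Fin e) F) : Matrix (Fin d ⊕ Fin d) (Fin d ⊕ Fin d) F :=
  1 + sincl F e d * (M - 1) * (sincl F e d)ᵀ

theorem ext₁_mul {e d : ℕ} (h : e ≤ d) (A B : Matrix (Fin e ⊕ Fin e) (Fin e ⊕ Fin e) F) :
    ext₁ e d A * ext₁ e d B = ext₁ e d (A * B) := by
  unfold ext₁
  set P := sincl F e d
  have hP : Pᵀ * P = 1 := sincl_transpose_mul h
  have key : P * (A - 1) * Pᵀ * (P * (B - 1) * Pᵀ) = P * ((A - 1) * (B - 1)) * Pᵀ := by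
    rw [show P * (A - 1) * Pᵀ * (P * (B - 1) * Pᵀ) = P * (A - 1) * (Pᵀ * P) * (B - 1) * Pᵀ by
      simp only [Matrix.mul_assoc], hP, Matrix.mul_one]
    simp only [Matrix.mul_assoc]
  rw [Matrix.add_mul, Matrix.mul_add, Matrix.mul_add, Matrix.one_mul, Matrix.one_mul, Matrix.mul_one, key,
    show A * B - 1 = (A - 1) * (B - 1) + (A - 1) + (B - 1) by noncomm_ring]
  simp only [Matrix.mul_add, Matrix.add_mul]
  abel

theorem ext₁_one (e d : ℕ) : ext₁ (F := F) e d 1 = 1 := by simp [ext₁]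

theorem ext₁_mem {e d : ℕ} (h : e ≤ d) {M : Matrix (Fin e ⊕ Fin e) (Fin e ⊕ Fin e) F}
    (hM : M ∈ Matrix.symplecticGroup (Fin e) F) : ext₁ e d M ∈ Matrix.symplecticGroup (Fin d) F := by
  rw [SymplecticGroup.mem_iff] at hM ⊢
  unfold ext₁
  set P := sincl F e d
  have hP : Pᵀ * P = 1 := sincl_transpose_mul h
  have hJ : Pᵀ * Matrix.J (Fin d) F = Matrix.J (Fin e) F * Pᵀ := sincl_transpose_J
  have hJ' : Matrix.J (Fin d) F * P = P * Matrix.J (Fin e) F := J_sincl
  set A := M - 1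
  have e1 : (1 + P * A * Pᵀ)ᵀ = 1 + P * Aᵀ * Pᵀ := by
    simp [Matrix.transpose_mul, Matrix.mul_assoc]
  have hM' : A * Matrix.J (Fin e) F * Aᵀ + A * Matrix.J (Fin e) F + Matrix.J (Fin e) F * Aᵀ = 0 := by
    have hMA : M = A + 1 := by simp [A]
    rw [hMA, Matrix.transpose_add, Matrix.transpose_one] at hM
    have : (A + 1) * Matrix.J (Fin e) F * (Aᵀ + 1) =
        (A * Matrix.J (Fin e) F * Aᵀ + A * Matrix.J (Fin e) F + Matrix.J (Fin e) F * Aᵀ) + Matrix.J (Fin e) F := by
      noncomm_ring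
    rw [this] at hM
    exact add_eq_right.mp hM
  have e2 : P * A * Pᵀ * Matrix.J (Fin d) F * (P * Aᵀ * Pᵀ) = P * (A * Matrix.J (Fin e) F * Aᵀ) * Pᵀ := by
    rw [show P * A * Pᵀ * Matrix.J (Fin d) F * (P * Aᵀ * Pᵀ) = P * A * (Pᵀ * Matrix.J (Fin d) F) * P * Aᵀ * Pᵀ by
      simp only [Matrix.mul_assoc], hJ,
      show P * A * (Matrix.J (Fin e) F * Pᵀ) * P * Aᵀ * Pᵀ = P * A * Matrix.J (Fin e) F * (Pᵀ * P) * Aᵀ * Pᵀ by
      simp only [Matrix.mul_assoc], hP, Matrix.mul_one]
    simp only [Matrix.mul_assoc]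
  have e3 : P * A * Pᵀ * Matrix.J (Fin d) F = P * (A * Matrix.J (Fin e) F) * Pᵀ := by
    rw [Matrix.mul_assoc, hJ]; simp only [Matrix.mul_assoc]
  have e4 : Matrix.J (Fin d) F * (P * Aᵀ * Pᵀ) = P * (Matrix.J (Fin e) F * Aᵀ) * Pᵀ := by
    rw [← Matrix.mul_assoc, ← Matrix.mul_assoc, hJ']; simp only [Matrix.mul_assoc]
  rw [e1, Matrix.add_mul, Matrix.one_mul, Matrix.add_mul, Matrix.mul_add, Matrix.mul_add, Matrix.mul_one,
    Matrix.mul_one, e2, e3, e4]
  rw [show ∀ a b c : Matrix (Fin d ⊕ Fin d) (Fin d ⊕ Fin d) F,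
    Matrix.J (Fin d) F + a + (b + c) = Matrix.J (Fin d) F + (c + b + a) from fun a b c => by abel,
    ← Matrix.add_mul, ← Matrix.add_mul, ← Matrix.mul_add, ← Matrix.mul_add, hM', Matrix.mul_zero, Matrix.zero_mul,
    add_zero]

theorem form_sincl {e d : ℕ} (h : e ≤ d) (x y : Fin e ⊕ Fin e → F) :
    Cfsg.sympForm d F (sincl F e d *ᵥ x) (sincl F e d *ᵥ y) = Cfsg.sympForm e F x y := by
  simp only [Cfsg.sympForm]
  rw [Matrix.mulVec_mulVec, J_sincl, ← Matrix.mulVec_mulVec, Matrix.dotProduct_mulVec, ← Matrix.mulVec_transpose,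
    Matrix.mulVec_mulVec, sincl_transpose_mul h, Matrix.one_mulVec]

/-- An element of order `r` of `Sp_2e` with no invariant subspace. -/
theorem exists_irreducible {p : ℕ} [Fact p.Prime] [CharP F p] {r e : ℕ} (hr : r.Prime) (hrp : r ≠ p)
    (hord : orderOf (Fintype.card F : ZMod r) = 2 * e) (he : 0 < e) :
    ∃ M : Matrix (Fin e ⊕ Fin e) (Fin e ⊕ Fin e) F, M ∈ Matrix.symplecticGroup (Fin e) F ∧ M ^ r = 1 ∧ M ≠ 1 ∧
      ∀ W : Submodule F (Fin e ⊕ Fin e → F), (∀ w ∈ W, M *ᵥ w ∈ W) → W = ⊥ ∨ W = ⊤ := by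
  classical
  haveI := Fact.mk hr
  have hrF : ¬ r ∣ Fintype.card F := by
    obtain ⟨n, -, hn⟩ := FiniteField.card F p
    rw [hn]
    exact fun h => hrp ((Nat.prime_dvd_prime_iff_eq hr Fact.out).mp (hr.dvd_of_dvd_pow h))
  have hdvd : ∀ l, r ∣ Fintype.card F ^ l - 1 ↔ 2 * e ∣ l := fun l => by
    rw [← hord, orderOf_dvd_iff_pow_eq_one, ← ZMod.natCast_eq_zero_iff,
      Nat.cast_sub (Nat.one_le_pow _ _ Fintype.card_pos), sub_eq_zero, Nat.cast_pow, Nat.cast_one]
  obtain ⟨g, hg⟩ := exists_prime_orderOf_dvd_card' (G := Matrix.symplecticGroup (Fin e) F) r (by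
    rw [Cfsg.Lib.Classical.card_symplecticGroup, Nat.card_eq_fintype_card]
    refine Dvd.dvd.mul_left (((hdvd (2 * e)).mpr dvd_rfl).trans ?_) _
    have h := Finset.dvd_prod_of_mem (fun i => Fintype.card F ^ (2 * (i + 1)) - 1)
      (Finset.mem_range.mpr (show e - 1 < e by omega))
    simpa [show e - 1 + 1 = e by omega] using h)
  set M : Matrix (Fin e ⊕ Fin e) (Fin e ⊕ Fin e) F := (g : Matrix (Fin e ⊕ Fin e) (Fin e ⊕ Fin e) F) with hM
  have hMr : M ^ r = 1 := by rw [hM, ← SubmonoidClass.coe_pow, ← hg, pow_orderOf_eq_one]; rfl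
  have hM1 : M ≠ 1 := fun h => hr.ne_one (by rw [← hg, orderOf_eq_one_iff]; exact Subtype.ext h)
  refine ⟨M, g.2, hMr, hM1, fun W hW => ?_⟩
  by_contra hne
  push Not at hne
  have hB := sympBilin_nondegenerate e F
  set W' := (sympBilin e F).orthogonal W
  have hW' : ∀ w ∈ W', M *ᵥ w ∈ W' := by
    intro w hw v hv
    have hmap : W.map (Matrix.toLin' M) = W := eq_of_le_of_finrank_eq (by rintro _ ⟨a, ha, rfl⟩; simpa using hW a ha)
      (LinearMap.finrank_range_of_inj (f := (Matrix.toLin' M).comp W.subtype) (fun a b hab => Subtype.ext (by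
        have h' : M *ᵥ (a : Fin e ⊕ Fin e → F) = M *ᵥ (b : Fin e ⊕ Fin e → F) := by simpa using hab
        have h'' := congrArg (fun z => (M ^ (r - 1)) *ᵥ z) h'
        simp only [Matrix.mulVec_mulVec, ← pow_succ, Nat.sub_add_cancel hr.pos, hMr, Matrix.one_mulVec] at h''
        exact h'')) ▸ by rw [LinearMap.range_comp, Submodule.range_subtype])
    obtain ⟨a, ha, rfl⟩ := hmap.symm ▸ hv
    show sympBilin e F (Matrix.toLin' M a) (M *ᵥ w) = 0
    rw [Matrix.toLin'_apply, (mem_symplectic_iff_form M).mp g.2]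
    exact hw a ha
  have hsum : Module.finrank F W + Module.finrank F W' = 2 * e := by
    rw [LinearMap.BilinForm.finrank_orthogonal hB, finrank_sympSpace]
    have := W.finrank_le
    rw [finrank_sympSpace] at this
    omega
  have h1 : 0 < Module.finrank F W := Nat.pos_of_ne_zero fun h => hne.1 (finrank_eq_zero.mp h)
  have h2 : Module.finrank F W < 2 * e := by
    rcases Nat.lt_or_ge (Module.finrank F W) (2 * e) with h | h
    · exact h
    · exact absurd (eq_top_of_finrank_eq (by rw [finrank_sympSpace]; have := W.finrank_le; rw [finrank_sympSpace] at this; omega)) hne.2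
  have hsmall := fun (U : Submodule F (Fin e ⊕ Fin e → F)) hU (h : Module.finrank F U < 2 * e) =>
    trivial_small hr (fun l hl hl' => by rw [hord]; exact Nat.le_of_dvd hl ((hdvd l).mp hl')) hrF M hMr U hU
      (by rw [hord]; exact h)
  have f1 := hsmall W hW h2
  have f2 := hsmall W' hW' (by omega)
  have hsq : (M - 1) * (M - 1) = 0 := by
    refine Matrix.toLin'.injective (LinearMap.ext fun v => ?_)
    rw [map_zero, LinearMap.zero_apply, Matrix.toLin'_apply, ← Matrix.mulVec_mulVec]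
    have hv : (M - 1) *ᵥ v ∈ W := by
      rw [← LinearMap.BilinForm.orthogonal_orthogonal hB (sympBilin_isAlt e F).isRefl W]
      intro w hw
      rw [Matrix.sub_mulVec, Matrix.one_mulVec, map_sub, sub_eq_zero]
      conv_lhs => rw [← f2 w hw, (mem_symplectic_iff_form M).mp g.2]
    rw [Matrix.sub_mulVec, f1 _ hv, Matrix.one_mulVec, sub_self]
  haveI : Nonempty (Fin e ⊕ Fin e) := ⟨Sum.inl ⟨0, he⟩⟩
  haveI : CharP (Matrix (Fin e ⊕ Fin e) (Fin e ⊕ Fin e) F) p :=
    charP_of_injective_ringHom (Matrix.scalar (Fin e ⊕ Fin e)).injective p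
  have hp : M ^ p = 1 := by
    have h := add_pow_char_of_commute (p := p) (Commute.one_right (M - 1))
    rw [sub_add_cancel, one_pow, show (M - 1) ^ p = 0 from pow_eq_zero_of_le (Fact.out (p := p.Prime)).two_le
      (by rw [sq]; exact hsq), zero_add] at h
    exact h
  have := (pow_gcd_eq_one (a := M) (m := r) (n := p)).mpr ⟨hMr, hp⟩
  rw [show Nat.gcd r p = 1 from (Nat.coprime_primes hr Fact.out).mpr hrp, pow_one] at this
  exact hM1 this

/-- Lagrangians. -/
def IsLag (d : ℕ) (U : Submodule F (Fin d ⊕ Fin d → F)) : Prop := ∀ u ∈ U, ∀ v ∈ U, Cfsg.sympForm d F u v = 0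

theorem finrank_le_of_lag {d : ℕ} {U : Submodule F (Fin d ⊕ Fin d → F)} (hU : IsLag d U) : Module.finrank F U ≤ d := by
  have h : U ≤ (sympBilin d F).orthogonal U := fun v hv u hu => by rw [sympBilin_eq_sympForm]; exact hU u hu v hv
  have := finrank_mono h
  rw [LinearMap.BilinForm.finrank_orthogonal (sympBilin_nondegenerate d F), finrank_sympSpace] at this
  have := U.finrank_le
  omega

theorem finrank_of_compl {d : ℕ} {U W : Submodule F (Fin d ⊕ Fin d → F)} (hc : IsCompl U W) (hU : IsLag d U)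
    (hW : IsLag d W) : Module.finrank F U = d := by
  have := finrank_le_of_lag hU
  have := finrank_le_of_lag hW
  have h := finrank_add_eq_of_isCompl hc
  rw [finrank_sympSpace] at h
  omega

/-- The element fixing no pair. -/
theorem exists_derangement {p : ℕ} [Fact p.Prime] [CharP F p] {r e d : ℕ} (hr : r.Prime) (hr2 : r ≠ 2) (hrp : r ≠ p)
    (hord : orderOf (Fintype.card F : ZMod r) = 2 * e) (he : 0 < e) (hed : e ≤ d) :
    ∃ x : ↥(Matrix.symplecticGroup (Fin d) F),
      (∃ z : F, ((x ^ r : ↥(Matrix.symplecticGroup (Fin d) F)) : Matrix (Fin d ⊕ Fin d) (Fin d ⊕ Fin d) F) = z • (1 : Matrix (Fin d ⊕ Fin d) (Fin d ⊕ Fin d) F)) ∧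
      (∀ z : F, (x : Matrix (Fin d ⊕ Fin d) (Fin d ⊕ Fin d) F) ≠ z • (1 : Matrix (Fin d ⊕ Fin d) (Fin d ⊕ Fin d) F)) ∧
      ¬ (∃ U W : Submodule F (Fin d ⊕ Fin d → F), IsCompl U W ∧ (∀ u ∈ U, ∀ v ∈ U, Cfsg.sympForm d F u v = 0) ∧ (∀ u ∈ W, ∀ v ∈ W, Cfsg.sympForm d F u v = 0) ∧
        ((U.map (Matrix.toLin' (x : Matrix (Fin d ⊕ Fin d) (Fin d ⊕ Fin d) F)) = U ∧ W.map (Matrix.toLin' (x : Matrix (Fin d ⊕ Fin d) (Fin d ⊕ Fin d) F)) = W) ∨
         (U.map (Matrix.toLin' (x : Matrix (Fin d ⊕ Fin d) (Fin d ⊕ Fin d) F)) = W ∧ W.map (Matrix.toLin' (x : Matrix (Fin d ⊕ Fin d) (Fin d ⊕ Fin d) F)) = U))) := by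
  classical
  obtain ⟨M, hM, hMr, hM1, hirr⟩ := exists_irreducible (F := F) hr hrp hord he
  set P := sincl F e d
  have hP : Pᵀ * P = 1 := sincl_transpose_mul hed
  set X : Matrix (Fin d ⊕ Fin d) (Fin d ⊕ Fin d) F := ext₁ e d M with hX
  have hpow : ∀ j, X ^ j = ext₁ e d (M ^ j) := fun j => by
    induction j with
    | zero => simp [ext₁_one]
    | succ j ih => rw [pow_succ, pow_succ, ih, hX, ext₁_mul hed]
  have hXr : X ^ r = 1 := by rw [hpow, hMr, ext₁_one]
  have hXP : ∀ y, X *ᵥ (P *ᵥ y) = P *ᵥ (M *ᵥ y) := fun y => by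
    rw [hX, ext₁, Matrix.add_mulVec, Matrix.one_mulVec, ← Matrix.mulVec_mulVec, ← Matrix.mulVec_mulVec,
      Matrix.mulVec_mulVec y Pᵀ P, hP, Matrix.one_mulVec, ← Matrix.mulVec_add, Matrix.sub_mulVec, Matrix.one_mulVec]
    congr 1; abel
  have hXne : X ≠ 1 := fun h => hM1 (Matrix.toLin'.injective (LinearMap.ext fun y => by
    have := hXP y
    rw [h, Matrix.one_mulVec] at this
    have := congrArg (fun v => Pᵀ *ᵥ v) this
    simp only [Matrix.mulVec_mulVec, hP, Matrix.one_mulVec] at this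
    rw [← Matrix.mul_assoc, hP, Matrix.one_mul] at this
    simpa using this.symm))
  refine ⟨⟨X, ext₁_mem hed hM⟩, ⟨1, by rw [one_smul, SubmonoidClass.coe_pow]; exact hXr⟩, fun z hz => ?_, ?_⟩
  · change X = z • 1 at hz
    have hz2 : z ^ 2 = 1 := by
      have h := (mem_symplectic_iff_form X).mp (ext₁_mem hed hM)
      obtain ⟨i⟩ : Nonempty (Fin d) := ⟨⟨0, by omega⟩⟩
      have := h (Pi.single (Sum.inr i) 1) (Pi.single (Sum.inl i) 1)
      rw [hz, Matrix.smul_mulVec, Matrix.smul_mulVec, Matrix.one_mulVec, Matrix.one_mulVec] at this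
      simp only [map_smul, LinearMap.smul_apply, smul_eq_mul, sympBilin_eq_sum] at this
      simp [Pi.single_apply] at this
      rw [sq]; linear_combination this
    obtain ⟨j, hj⟩ := (hr.odd_of_ne_two hr2)
    have h := hXr
    rw [hz, smul_pow, one_pow, hj, pow_succ, pow_mul, hz2, one_pow, one_mul, ← hz] at h
    exact hXne h
  rintro ⟨U, W, hc, hU, hW, hcase⟩
  change (U.map (Matrix.toLin' X) = U ∧ _) ∨ _ at hcase
  have hfix : U.map (Matrix.toLin' X) = U ∧ W.map (Matrix.toLin' X) = W := by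
    rcases hcase with h | ⟨h1, h2⟩
    · exact h
    exfalso
    have h2k : ∀ k, U.map (Matrix.toLin' (X ^ (2 * k))) = U := fun k => by
      induction k with
      | zero => simp
      | succ k ih =>
        rw [show 2 * (k + 1) = 1 + (1 + 2 * k) by ring, pow_add, pow_add, pow_one, Matrix.toLin'_mul, Matrix.toLin'_mul,
          Submodule.map_comp, Submodule.map_comp, ih, h1, h2]
    obtain ⟨j, hj⟩ := (hr.odd_of_ne_two hr2)
    have h : U.map (Matrix.toLin' (X ^ r)) = W := by
      rw [hj, add_comm, pow_add, pow_one, Matrix.toLin'_mul, Submodule.map_comp, h2k, h1]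
    rw [hXr, Matrix.toLin'_one, Submodule.map_id] at h
    subst h
    have h0 := finrank_add_eq_of_isCompl hc
    have h0' : Module.finrank F U = 0 := by
      rw [disjoint_self.mp hc.disjoint, finrank_bot]
    rw [finrank_sympSpace] at h0
    omega
  have key : ∀ S : Submodule F (Fin d ⊕ Fin d → F), IsLag d S → S.map (Matrix.toLin' X) = S → ∀ s ∈ S, X *ᵥ s = s := by
    intro S hS hmap s hs
    have hsub : X *ᵥ s - s = P *ᵥ ((M - 1) *ᵥ (Pᵀ *ᵥ s)) := by
      rw [hX, ext₁, Matrix.add_mulVec, Matrix.one_mulVec, add_sub_cancel_left, Matrix.mulVec_mulVec, Matrix.mulVec_mulVec,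
        Matrix.mul_assoc]
    set S' : Submodule F (Fin e ⊕ Fin e → F) := S.comap (Matrix.toLin' P)
    have hmemX : ∀ a ∈ S, X *ᵥ a ∈ S := fun a ha => hmap ▸ ⟨a, ha, Matrix.toLin'_apply X a⟩
    rcases hirr S' (fun y hy => by
      show Matrix.toLin' P (M *ᵥ y) ∈ S
      rw [Matrix.toLin'_apply, ← hXP]
      exact hmemX _ (by simpa [S'] using hy)) with h | h
    · have : (M - 1) *ᵥ (Pᵀ *ᵥ s) ∈ S' := by
        show Matrix.toLin' P _ ∈ S
        rw [Matrix.toLin'_apply, ← hsub]
        exact sub_mem (hmemX s hs) hs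
      rw [h, Submodule.mem_bot] at this
      rw [this, Matrix.mulVec_zero, sub_eq_zero] at hsub
      exact hsub
    · exfalso
      obtain ⟨i⟩ : Nonempty (Fin e) := ⟨⟨0, he⟩⟩
      have hmem : ∀ y, P *ᵥ y ∈ S := fun y => by simpa [S'] using (h ▸ Submodule.mem_top : y ∈ S')
      have h' := hS _ (hmem (Pi.single (Sum.inr i) 1)) _ (hmem (Pi.single (Sum.inl i) 1))
      rw [form_sincl hed, ← sympBilin_eq_sympForm, sympBilin_eq_sum] at h'
      simp [Pi.single_apply] at h'
  refine hXne (Matrix.toLin'.injective (LinearMap.ext fun v => ?_))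
  obtain ⟨a, ha, b, hb, rfl⟩ := mem_sup.mp (hc.sup_eq_top ▸ Submodule.mem_top : v ∈ U ⊔ W)
  simp [Matrix.mulVec_add, key U hU hfix.1 a ha, key W hW hfix.2 b hb]

/-- The standard Lagrangian. -/
noncomputable def stdLag (F : Type u) [Field F] (d : ℕ) : Submodule F (Fin d ⊕ Fin d → F) :=
  span F (Set.range fun i : Fin d => Pi.single (Sum.inl i) (1 : F))

/-- The number of pairs only has prime divisors dividing some `q ^ j + 1`. -/
theorem dvd_of_pairs {p : ℕ} [Fact p.Prime] [CharP F p] {r d : ℕ} (hr : r.Prime) (hrp : r ≠ p)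
    (h : r ∣ Nat.card {P : Submodule F (Fin d ⊕ Fin d → F) × Submodule F (Fin d ⊕ Fin d → F) //
      IsCompl P.1 P.2 ∧ IsLag d P.1 ∧ IsLag d P.2}) :
    ∃ j, 0 < j ∧ j ≤ d ∧ r ∣ Fintype.card F ^ j + 1 := by
  classical
  set q := Fintype.card F
  have hqF : Nat.card F = q := Nat.card_eq_fintype_card
  haveI : Finite (Submodule F (Fin d ⊕ Fin d → F)) := Finite.of_injective _ SetLike.coe_injective
  let L := {U : Submodule F (Fin d ⊕ Fin d → F) // IsLag d U ∧ Module.finrank F U = d}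
  haveI := Fintype.ofFinite L
  -- frames
  let B := sympBilin d F
  have hA := sympBilin_isAlt d F
  have hB := sympBilin_nondegenerate d F
  have hframes : Nat.card L * ∏ i : Fin d, (q ^ d - q ^ (i : ℕ)) = ∏ i ∈ Finset.range d, (q ^ (2 * d - i) - q ^ i) := by
    rw [← hqF, ← IsoFrames.card_frames hA hB (finrank_sympSpace d F) d]
    have e : Nat.card {f : Fin d → (Fin d ⊕ Fin d → F) // IsoFrames.IsFrame B f} =
        Nat.card (Σ U : L, {s : Fin d → U.1 // LinearIndependent F s}) := by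
      refine (Nat.card_eq_of_bijective (fun x : (Σ U : L, {s : Fin d → U.1 // LinearIndependent F s}) =>
        (⟨fun i => (x.2.1 i : Fin d ⊕ Fin d → F), x.2.2.map' x.1.1.subtype x.1.1.ker_subtype, fun i j => by
          rw [sympBilin_eq_sympForm]; exact x.1.2.1 _ (x.2.1 i).2 _ (x.2.1 j).2⟩ :
          {f : Fin d → (Fin d ⊕ Fin d → F) // IsoFrames.IsFrame B f})) ⟨?_, ?_⟩).symm
      · rintro ⟨U, s⟩ ⟨U', s'⟩ hss
        have hf : (fun i => (s.1 i : Fin d ⊕ Fin d → F)) = fun i => (s'.1 i : Fin d ⊕ Fin d → F) := congrArg Subtype.val hss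
        have hspan : ∀ (V : L) (t : {s : Fin d → V.1 // LinearIndependent F s}),
            span F (Set.range fun i => (t.1 i : Fin d ⊕ Fin d → F)) = V.1 := fun V t =>
          eq_of_le_of_finrank_eq (span_le.mpr (by rintro _ ⟨i, rfl⟩; exact (t.1 i).2)) (by
            rw [show (fun i => (t.1 i : Fin d ⊕ Fin d → F)) = V.1.subtype ∘ t.1 from rfl,
              finrank_span_eq_card (t.2.map' V.1.subtype V.1.ker_subtype), Fintype.card_fin, V.2.2])
        obtain rfl : U = U' := Subtype.ext (by rw [← hspan U s, hf, hspan U' s'])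
        exact congrArg (Sigma.mk U) (Subtype.ext (funext fun i => Subtype.ext (congrFun hf i)))
      · rintro ⟨f, hf⟩
        refine ⟨⟨⟨span F (Set.range f), fun u hu v hv => ?_, ?_⟩,
          ⟨fun i => ⟨f i, subset_span (Set.mem_range_self i)⟩, LinearIndependent.of_comp (span F (Set.range f)).subtype hf.1⟩⟩, rfl⟩
        · rw [← sympBilin_eq_sympForm]; exact IsoFrames.frame_span hf hu hv
        · rw [finrank_span_eq_card hf.1, Fintype.card_fin]
    rw [e, Nat.card_sigma, Finset.sum_congr rfl fun U _ => (card_linearIndependent (K := F) (V := U.1) (U.2.2.ge))]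
    rw [Finset.sum_congr rfl (g := fun _ => ∏ i : Fin d, (q ^ d - q ^ (i : ℕ))) fun U _ => by rw [U.2.2]]
    simp [Nat.card_eq_fintype_card, q]
  have hprod : ∏ i ∈ Finset.range d, (q ^ (2 * d - i) - q ^ i) =
      (∏ i ∈ Finset.range d, (q ^ d - q ^ i)) * ∏ i ∈ Finset.range d, (q ^ (d - i) + 1) := by
    rw [← Finset.prod_mul_distrib]
    refine Finset.prod_congr rfl fun i hi => ?_
    rw [Finset.mem_range] at hi
    obtain ⟨c, rfl⟩ : ∃ c, d = i + c := ⟨d - i, by omega⟩
    rw [show 2 * (i + c) - i = i + (c + c) by omega, Nat.add_sub_cancel_left]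
    have hc : 1 ≤ q ^ c := Nat.one_le_pow _ _ Fintype.card_pos
    have hi' : q ^ i ≤ q ^ (i + c) := Nat.pow_le_pow_right Fintype.card_pos (Nat.le_add_right i c)
    have hi'' : q ^ i ≤ q ^ (i + (c + c)) := Nat.pow_le_pow_right Fintype.card_pos (Nat.le_add_right i _)
    zify [hc, hi', hi'']
    ring
  rw [hprod, Fin.prod_univ_eq_prod_range (fun i => q ^ d - q ^ i) d, mul_comm] at hframes
  have hcardL : Nat.card L = ∏ i ∈ Finset.range d, (q ^ (d - i) + 1) := by
    refine Nat.eq_of_mul_eq_mul_left (Finset.prod_pos fun i hi => ?_) hframes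
    exact Nat.sub_pos_of_lt (Nat.pow_lt_pow_right Fintype.one_lt_card (Finset.mem_range.mp hi))
  -- complements
  let U₀ := stdLag F d
  let C := fun U : Submodule F (Fin d ⊕ Fin d → F) => {W // IsCompl U W ∧ IsLag d W}
  have hsigma : Nat.card {P : Submodule F (Fin d ⊕ Fin d → F) × Submodule F (Fin d ⊕ Fin d → F) //
      IsCompl P.1 P.2 ∧ IsLag d P.1 ∧ IsLag d P.2} = Nat.card (Σ U : L, C U.1) :=
    Nat.card_congr
      { toFun := fun P => ⟨⟨P.1.1, P.2.2.1, finrank_of_compl P.2.1 P.2.2.1 P.2.2.2⟩, ⟨P.1.2, P.2.1, P.2.2.2⟩⟩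
        invFun := fun x => ⟨(x.1.1, x.2.1), x.2.2.1, x.1.2.1, x.2.2.2⟩
        left_inv := fun P => rfl
        right_inv := fun x => rfl }
  have hU₀mem : ∀ v, v ∈ U₀ ↔ ∀ i, v (Sum.inr i) = 0 := by
    intro v
    constructor
    · intro hv
      induction hv using span_induction with
      | mem x hx => obtain ⟨i, rfl⟩ := hx; intro j; simp
      | zero => exact fun _ => rfl
      | add x y _ _ hx hy => intro i; simp [hx i, hy i]
      | smul a x _ hx => intro i; simp [hx i]
    · intro hv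
      have : v = ∑ i : Fin d, v (Sum.inl i) • (Pi.single (Sum.inl i) (1 : F) : Fin d ⊕ Fin d → F) := by
        ext (a | a) <;> simp [Finset.sum_apply, Pi.single_apply, hv]
      rw [this]
      exact sum_mem fun i _ => smul_mem _ _ (subset_span ⟨i, rfl⟩)
  -- symmetric matrices
  let T : AddSubgroup (Matrix (Fin d) (Fin d) F) :=
    { carrier := {S | Sᵀ = S}
      add_mem' := fun ha hb => by
        show (_ + _)ᵀ = _
        rw [Matrix.transpose_add, ha, hb]
      zero_mem' := Matrix.transpose_zero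
      neg_mem' := fun ha => by
        show (-_)ᵀ = _
        rw [Matrix.transpose_neg, ha] }
  let G : Matrix (Fin d) (Fin d) F → (Fin d → F) →ₗ[F] (Fin d ⊕ Fin d → F) := fun S =>
    { toFun := fun y => Sum.elim (S *ᵥ y) y
      map_add' := fun y z => by ext (a | a) <;> simp [Matrix.mulVec_add]
      map_smul' := fun c y => by ext (a | a) <;> simp [Matrix.mulVec_smul] }
  have hGform : ∀ S y z, sympBilin d F (G S y) (G S z) = y ⬝ᵥ (S *ᵥ z) - (S *ᵥ y) ⬝ᵥ z := fun S y z => by
    rw [sympBilin_eq_sum, Finset.sum_sub_distrib]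
    rfl
  have hCT : Nat.card (C U₀) = Nat.card T := by
    have hmemW : ∀ S : T, IsCompl U₀ (LinearMap.range (G S.1)) ∧ IsLag d (LinearMap.range (G S.1)) := by
      rintro ⟨S, hS : Sᵀ = S⟩
      refine ⟨⟨Submodule.disjoint_def.mpr ?_, codisjoint_iff.mpr (eq_top_iff.mpr fun v _ => ?_)⟩, ?_⟩
      · rintro v hv ⟨y, rfl⟩
        have : y = 0 := funext fun i => (hU₀mem _).mp hv i
        simp [this]
      · refine mem_sup.mpr ⟨v - G S (v ∘ Sum.inr), (hU₀mem _).mpr fun i => ?_, _, ⟨_, rfl⟩, sub_add_cancel _ _⟩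
        simp [G]
      · rintro _ ⟨y, rfl⟩ _ ⟨z, rfl⟩
        rw [← sympBilin_eq_sympForm, hGform, Matrix.dotProduct_mulVec, ← Matrix.mulVec_transpose, hS, sub_self]
    refine (Nat.card_eq_of_bijective (fun S : T => (⟨LinearMap.range (G S.1), hmemW S⟩ : C U₀)) ⟨?_, ?_⟩).symm
    · intro S S' hss
      have h' : LinearMap.range (G S.1) = LinearMap.range (G S'.1) := congrArg Subtype.val hss
      refine Subtype.ext (Matrix.toLin'.injective (LinearMap.ext fun y => ?_))
      obtain ⟨z, hz⟩ := h' ▸ LinearMap.mem_range_self (G S.1) y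
      have hzy : z = y := funext fun i => congrFun hz (Sum.inr i)
      funext i
      have := congrFun hz (Sum.inl i)
      rw [hzy] at this
      simpa [G] using this.symm
    · rintro ⟨W, hc, hW⟩
      let π : W →ₗ[F] (Fin d → F) := (LinearMap.funLeft F F Sum.inr).comp W.subtype
      have hπ : Function.Bijective π := by
        refine ⟨LinearMap.ker_eq_bot.mp (eq_bot_iff.mpr fun w hw => Subtype.ext ?_), fun y => ?_⟩
        · exact Submodule.disjoint_def.mp hc.disjoint _ ((hU₀mem _).mpr fun i => congrFun hw i) w.2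
        · obtain ⟨a, ha, b, hb, hab⟩ := mem_sup.mp (hc.sup_eq_top ▸ Submodule.mem_top : Sum.elim (0 : Fin d → F) y ∈ U₀ ⊔ W)
          refine ⟨⟨b, hb⟩, funext fun i => ?_⟩
          have := congrFun hab (Sum.inr i)
          simpa [π, (hU₀mem a).mp ha i] using this
      let πe := LinearEquiv.ofBijective π hπ
      let S := LinearMap.toMatrix' ((LinearMap.funLeft F F Sum.inl).comp (W.subtype.comp πe.symm.toLinearMap))
      have hG : ∀ y, G S y = (πe.symm y : Fin d ⊕ Fin d → F) := fun y => by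
        funext i
        rcases i with i | i
        · show (S *ᵥ y) i = _
          rw [LinearMap.toMatrix'_mulVec]; rfl
        · show y i = _
          exact (congrFun (πe.apply_symm_apply y) i).symm
      have hS : Sᵀ = S := by
        refine Matrix.ext fun i j => ?_
        have := hGform S (Pi.single j 1) (Pi.single i 1)
        rw [hG, hG, sympBilin_eq_sympForm, hW _ (πe.symm _).2 _ (πe.symm _).2] at this
        simp [Matrix.mulVec_single, Pi.single_apply, dotProduct] at this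
        rw [Matrix.transpose_apply]
        linear_combination -this
      refine ⟨⟨S, hS⟩, Subtype.ext (le_antisymm ?_ fun w hw => ⟨π ⟨w, hw⟩, ?_⟩)⟩
      · rintro _ ⟨y, rfl⟩
        rw [hG]
        exact (πe.symm y).2
      · rw [hG, show π ⟨w, hw⟩ = πe ⟨w, hw⟩ from rfl, πe.symm_apply_apply]
  -- all fibres agree
  have hfib : ∀ U : L, Nat.card (C U.1) = Nat.card T := by
    intro U
    rw [← hCT]
    let bU := Module.finBasisOfFinrankEq F U.1 U.2.2
    have hbU : IsoFrames.IsFrame B fun i => (bU i : Fin d ⊕ Fin d → F) :=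
      ⟨bU.linearIndependent.map' U.1.subtype U.1.ker_subtype, fun i j => by
        rw [sympBilin_eq_sympForm]; exact U.2.1 _ (bU i).2 _ (bU j).2⟩
    have hf₀ : IsoFrames.IsFrame B fun i : Fin d => (Pi.single (Sum.inl i) (1 : F) : Fin d ⊕ Fin d → F) :=
      ⟨by
        refine Fintype.linearIndependent_iff.mpr fun c hc i => ?_
        simpa [Finset.sum_apply, Pi.single_apply] using congrFun hc (Sum.inl i), fun i j => by rw [sympBilin_eq_sum]; simp⟩
    obtain ⟨g, hg⟩ := IsoFrames.transitive hA hB hf₀ hbU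
    have hgU : U₀.map (g : (Fin d ⊕ Fin d → F) ≃ₗ[F] _).toLinearMap = U.1 := by
      show (stdLag F d).map _ = _
      rw [stdLag, map_span, ← Set.range_comp]
      refine Eq.trans (congrArg (fun f => span F (Set.range f)) hg) ?_
      rw [show Set.range (fun i => (bU i : Fin d ⊕ Fin d → F)) = U.1.subtype '' Set.range bU from Set.range_comp U.1.subtype bU,
        ← map_span, bU.span_eq, Submodule.map_top, range_subtype]
    set σ := Submodule.orderIsoMapComap g.1
    refine (Nat.card_congr (σ.toEquiv.subtypeEquiv fun W => ?_)).symm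
    show IsCompl U₀ W ∧ IsLag d W ↔ IsCompl U.1 (σ W) ∧ IsLag d (σ W)
    rw [show U.1 = σ U₀ from hgU.symm]
    refine and_congr (σ.isCompl_iff) ⟨fun hW => ?_, fun hW a ha b hb => ?_⟩
    · rintro _ ⟨a, ha, rfl⟩ _ ⟨b, hb, rfl⟩
      rw [← sympBilin_eq_sympForm]
      show B ((g : (Fin d ⊕ Fin d → F) ≃ₗ[F] _) a) ((g : (Fin d ⊕ Fin d → F) ≃ₗ[F] _) b) = 0
      refine (BilinIsom.map_form g a b).trans ?_
      rw [sympBilin_eq_sympForm]
      exact hW a ha b hb
    · have := hW _ ⟨a, ha, rfl⟩ _ ⟨b, hb, rfl⟩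
      rw [← sympBilin_eq_sympForm] at this ⊢
      exact (BilinIsom.map_form g a b).symm.trans this
  rw [hsigma, Nat.card_sigma, Finset.sum_congr rfl fun U _ => hfib U, Finset.sum_const, Finset.card_univ, smul_eq_mul,
    ← Nat.card_eq_fintype_card, hcardL] at h
  rcases hr.dvd_mul.mp h with h | h
  · obtain ⟨i, hi, hi'⟩ := (Prime.dvd_finsetProd_iff hr.prime _).mp h
    rw [Finset.mem_range] at hi
    exact ⟨d - i, by omega, Nat.sub_le _ _, hi'⟩
  · exfalso
    have hdiv := h.trans T.card_addSubgroup_dvd_card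
    rw [Nat.card_eq_fintype_card, Fintype.card_eq_nat_card] at hdiv
    obtain ⟨n, -, hn⟩ := FiniteField.card F p
    rw [show Nat.card (Matrix (Fin d) (Fin d) F) = (q ^ d) ^ d by simp [Matrix, Nat.card_fun, hqF, q],
      show q = p ^ (n : ℕ) from hn, ← pow_mul, ← pow_mul] at hdiv
    exact hrp ((Nat.prime_dvd_prime_iff_eq hr Fact.out).mp (hr.dvd_of_dvd_pow hdiv))

/-- The derangement. -/
theorem main {p : ℕ} [Fact p.Prime] [CharP F p] {q d r : ℕ} (hq : Fintype.card F = q) (hr : r.Prime) (hr2 : r ≠ 2)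
    (hrp : r ≠ p)
    (h : r ∣ Nat.card {P : Submodule F (Fin d ⊕ Fin d → F) × Submodule F (Fin d ⊕ Fin d → F) //
      IsCompl P.1 P.2 ∧ IsLag d P.1 ∧ IsLag d P.2}) :
    ∃ e, 0 < e ∧ e ≤ d ∧ orderOf (Fintype.card F : ZMod r) = 2 * e := by
  haveI := Fact.mk hr
  obtain ⟨j, hj, hjd, hdvd⟩ := dvd_of_pairs hr hrp h
  set a := (Fintype.card F : ZMod r) with ha
  have hj1 : a ^ j = -1 := by
    have := (ZMod.natCast_eq_zero_iff _ r).mpr hdvd
    push_cast at this
    exact eq_neg_of_add_eq_zero_left this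
  have h2j : orderOf a ∣ 2 * j := orderOf_dvd_of_pow_eq_one (by rw [mul_comm, pow_mul, hj1]; ring)
  have hne : (-1 : ZMod r) ≠ 1 := fun e => by
    have : (2 : ℕ) = (0 : ZMod r) := by push_cast; linear_combination (-1 : ZMod r) * e
    exact hr2 ((Nat.prime_dvd_prime_iff_eq hr Nat.prime_two).mp ((ZMod.natCast_eq_zero_iff _ r).mp this))
  have hnj : ¬ orderOf a ∣ j := fun h' => hne (by rw [← hj1, orderOf_dvd_iff_pow_eq_one.mp h'])
  rcases Nat.even_or_odd (orderOf a) with ⟨e, he⟩ | hodd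
  · refine ⟨e, ?_, ?_, by omega⟩
    · rcases Nat.eq_zero_or_pos e with rfl | hp
      · rw [he] at h2j
        simp at h2j
        omega
      · exact hp
    · have := Nat.le_of_dvd (by omega) h2j
      omega
  · exact absurd ((Nat.Coprime.dvd_mul_left (Nat.coprime_two_right.mpr hodd)).mp h2j) hnj

/-- Ordered pairs come in twos. -/
theorem even_pairs {d : ℕ} (hd : 0 < d) :
    2 ∣ Nat.card {P : Submodule F (Fin d ⊕ Fin d → F) × Submodule F (Fin d ⊕ Fin d → F) //
      IsCompl P.1 P.2 ∧ IsLag d P.1 ∧ IsLag d P.2} := by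
  classical
  haveI : Finite (Submodule F (Fin d ⊕ Fin d → F)) := Finite.of_injective _ SetLike.coe_injective
  set X := {P : Submodule F (Fin d ⊕ Fin d → F) × Submodule F (Fin d ⊕ Fin d → F) //
      IsCompl P.1 P.2 ∧ IsLag d P.1 ∧ IsLag d P.2}
  haveI := Fintype.ofFinite X
  rw [← ZMod.natCast_eq_zero_iff, Nat.card_eq_fintype_card, ← Finset.card_univ, Finset.card_eq_sum_ones, Nat.cast_sum]
  refine Finset.sum_involution (fun P _ => (⟨(P.1.2, P.1.1), P.2.1.symm, P.2.2.2, P.2.2.1⟩ : X))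
    (fun _ _ => by decide) (fun P _ _ e => ?_) (fun _ _ => Finset.mem_univ _) (fun P _ => rfl)
  have e' : P.1.2 = P.1.1 := congrArg (fun z : X => z.1.1) e
  have hc := P.2.1
  rw [e'] at hc
  have h := finrank_add_eq_of_isCompl hc
  rw [disjoint_self.mp hc.disjoint, finrank_bot, finrank_sympSpace] at h
  omega

end Cfsg.Lib.Classical.PairDerange
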