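import Mathlib
import Cfsg.Prelude.Def_GeometricClasses
import Cfsg.Agent.Classical.MaxBridge
import Cfsg.Agent.Classical.Symp.Standard
import Cfsg.Agent.Classical.Subfield.Symp
import Cfsg.Agent.Classical.Subfield.LinearMain

/-! The subfield subgroup is maximal in `Sp₄` in characteristic two. -/

set_option autoImplicit false
set_option linter.unusedVariables false
set_option linter.unusedSimpArgs false
set_option linter.unusedSectionVars false
set_option linter.style.haveILetI false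
set_option linter.flexible false

namespace Cfsg.Lib.Classical.SpFour

open Cfsg.Lib.Classical

universe u v

section generic

variable {F : Type u} [Field F] {V : Type v} [AddCommGroup V] [Module F V] {B : LinearMap.BilinForm F V}

/-- An element of the abelian group fixing the isotropic plane of `u`, `w`. -/
def K3 (hA : B.IsAlt) (u w : V) (a b c : F) : BilinIsom B :=
  sympT hA u a * sympT hA w b * sympS hA u w c

theorem K3_mul (hA : B.IsAlt) {u w : V} (h : B u w = 0) (a b c a' b' c' : F) :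
    K3 hA u w a b c * K3 hA u w a' b' c' = K3 hA u w (a + a') (b + b') (c + c') := by
  refine BilinIsom.ext' fun x => ?_
  have h' : B w u = 0 := hA.isRefl _ _ h
  simp only [K3, BilinIsom.mul_apply', sympS_apply hA h, sympT_apply, map_add, map_smul, LinearMap.add_apply,
    LinearMap.smul_apply, hA u, hA w, h, h', smul_eq_mul, mul_zero, add_zero]
  module

theorem sympS_zero (hA : B.IsAlt) {u w : V} (h : B u w = 0) : sympS hA u w (0 : F) = 1 :=
  BilinIsom.ext' fun x => by rw [sympS_apply hA h]; simp [BilinIsom.one_apply']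

theorem sympS_inv (hA : B.IsAlt) {u w : V} (h : B u w = 0) (c : F) :
    (sympS hA u w c)⁻¹ = sympS hA u w (-c) :=
  (eq_inv_of_mul_eq_one_left (by rw [← sympS_add hA h, neg_add_cancel, sympS_zero hA h])).symm

theorem K3_zero_mid (hA : B.IsAlt) {u w : V} (h : B u w = 0) (a c : F) :
    K3 hA u w a 0 c = sympS hA u w c * sympT hA u a := by
  refine BilinIsom.ext' fun x => ?_
  have h' : B w u = 0 := hA.isRefl _ _ h
  simp only [K3, BilinIsom.mul_apply', sympS_apply hA h, sympT_apply, map_add, map_smul, LinearMap.add_apply,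
    LinearMap.smul_apply, hA u, hA w, h, h', smul_eq_mul, mul_zero, zero_mul, add_zero, zero_smul]

/-- Three short root elements with a common first vector. -/
theorem three (hA : B.IsAlt) {u w w' : V} (hw : B u w = 0) (hw' : B u w' = 0) (p t : F) :
    sympS hA u w p * sympT hA u t * (sympS hA u w' p * sympT hA u t) * (sympS hA u (w + w') p * sympT hA u t)⁻¹ =
      sympT hA u (t + p ^ 2 * B w' w) := by
  rw [mul_inv_eq_iff_eq_mul]
  refine BilinIsom.ext' fun x => ?_
  have h1 : B w u = 0 := hA.isRefl _ _ hw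
  have h2 : B w' u = 0 := hA.isRefl _ _ hw'
  have h3 : B w w' = -B w' w := (hA.neg_eq w' w).symm
  simp only [BilinIsom.mul_apply', sympS_apply hA hw, sympS_apply hA hw',
    sympS_apply hA (show B u (w + w') = 0 by rw [map_add, hw, hw', add_zero]), sympT_apply, map_add, map_smul,
    LinearMap.add_apply, LinearMap.smul_apply, hA u, hA w, hA w', hw, hw', h1, h2, h3, smul_eq_mul, mul_zero,
    add_zero]
  module

theorem K3_conj (hA : B.IsAlt) (g : BilinIsom B) (u w : V) (a b c : F) :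
    g * K3 hA u w a b c * g⁻¹ = K3 hA ((g : V ≃ₗ[F] V) u) ((g : V ≃ₗ[F] V) w) a b c := by
  simp only [K3, ← sympT_conj hA g, ← sympS_conj hA g]
  group

theorem K3_shift (hA : B.IsAlt) [CharP F 2] {u w : V} (h : B u w = 0) (a b c : F) :
    K3 hA u (w + u) a b c = K3 hA u w (a + b) b (c + b) := by
  refine BilinIsom.ext' fun x => ?_
  have h' : B w u = 0 := hA.isRefl _ _ h
  simp only [K3, BilinIsom.mul_apply', sympS_apply hA h,
    sympS_apply hA (show B u (w + u) = 0 by rw [map_add, h, hA, add_zero]), sympT_apply, map_add, map_smul,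
    LinearMap.add_apply, LinearMap.smul_apply, hA u, hA w, h, h', smul_eq_mul, mul_zero, add_zero]
  match_scalars <;> simp only [mul_one, mul_zero, add_zero, zero_add] <;> ring_nf <;>
    simp [CharTwo.two_eq_zero]

/-- Two commuting transvections and their conjugates. -/
theorem four_transv (hA : B.IsAlt) [CharP F 2] {y U W : V} {β γ : F} (hUW : B U W = 0) (hβ : B y U = β)
    (hγ : B y W = γ) :
    sympT hA y 1 * sympT hA (y + (γ • U + β • W)) 1 *
        (sympT hA U 1 * (sympT hA y 1 * sympT hA (y + (γ • U + β • W)) 1) * (sympT hA U 1)⁻¹) =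
      K3 hA U W (γ ^ 2 * β ^ 2) (β ^ 4) (β ^ 2 + γ * β ^ 3) := by
  obtain ⟨z, hz⟩ : ∃ z, z = γ • U + β • W := ⟨_, rfl⟩
  rw [← hz]
  have hyz : B y z = 0 := by
    rw [hz, map_add, map_smul, map_smul, hβ, hγ, smul_eq_mul, smul_eq_mul, mul_comm, CharTwo.add_self_eq_zero]
  have hUz : B U z = 0 := by
    rw [hz, map_add, map_smul, map_smul, hA U, hUW, smul_zero, smul_zero, add_zero]
  have hS : ∀ p : V, B p z = 0 → sympT hA p 1 * sympT hA (p + z) 1 = sympT hA z 1 * sympS hA p z 1 := by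
    intro p hp
    have e := sympT_add_vec hA hp 1 1 1
    simp only [one_smul, one_pow, one_mul] at e
    rw [e, ← mul_assoc, ← mul_assoc, ← sympT_add, CharTwo.add_self_eq_zero, sympT_zero, one_mul]
  have hyU : B (y + β • U) z = 0 := by
    rw [map_add, map_smul, LinearMap.add_apply, LinearMap.smul_apply, hyz, hUz, smul_zero, add_zero]
  have hTy : (sympT hA U 1 : BilinIsom B).1 y = y + β • U := by rw [sympT_apply, hβ, one_mul]
  have hTz : (sympT hA U 1 : BilinIsom B).1 z = z := by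
    rw [sympT_apply, hA.isRefl _ _ hUz, mul_zero, zero_smul, add_zero]
  rw [show sympT hA U 1 * (sympT hA y 1 * sympT hA (y + z) 1) * (sympT hA U 1)⁻¹ =
      (sympT hA U 1 * sympT hA y 1 * (sympT hA U 1)⁻¹) * (sympT hA U 1 * sympT hA (y + z) 1 * (sympT hA U 1)⁻¹) by
    group, sympT_conj, sympT_conj, map_add, hTy, hTz, hS y hyz, hS _ hyU, sympS_symm hA hyz,
    sympS_symm hA hyU]
  have hzy : B z y = 0 := hA.isRefl _ _ hyz
  have hzU : B z U = 0 := hA.isRefl _ _ hUz
  rw [sympS_add_right hA hzy hzU, mul_one, one_pow, mul_one]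
  have hc : Commute (sympS hA z y 1) (sympT hA z 1) := by
    refine Commute.mul_left (Commute.mul_left ?_ ?_) ?_ <;> refine sympT_commute hA ?_ _ _ <;>
      simp [hA z, hzy, hyz]
  have hsq : sympT hA z 1 * sympS hA z y 1 * (sympT hA z 1 * sympS hA z y 1) = 1 := by
    rw [mul_assoc, ← mul_assoc (sympS hA z y 1), hc.eq, mul_assoc (sympT hA z 1) (sympS hA z y 1),
      ← sympS_add hA hzy, ← mul_assoc, ← sympT_add, CharTwo.add_self_eq_zero, sympT_zero,
      sympS_zero hA hzy, mul_one]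
  have hBU : B U y = β := by rw [← hA.neg_eq, CharTwo.neg_eq, hβ]
  rw [hBU, CharTwo.neg_eq, ← sq]
  calc _ = sympT hA z 1 * sympS hA z y 1 * (sympT hA z 1 * sympS hA z y 1) * (sympS hA z U β * sympT hA z (β ^ 2)) := by
        simp only [mul_assoc]
    _ = sympS hA z U β * sympT hA z (β ^ 2) := by rw [hsq, one_mul]
    _ = _ := by
      refine BilinIsom.ext' fun x => ?_
      simp only [K3, BilinIsom.mul_apply', sympS_apply hA hUW, sympS_apply hA hzU, sympT_apply]
      simp only [hz, map_add,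
        map_smul, LinearMap.add_apply, LinearMap.smul_apply, hA U, hA W, hUW, hA.isRefl _ _ hUW, smul_eq_mul,
        mul_zero, add_zero]
      match_scalars <;> simp only [mul_one, mul_zero, add_zero, zero_add] <;> ring_nf <;>
        simp [CharTwo.two_eq_zero]

end generic

variable {F : Type u} [Field F] {F₀ : Subfield F}

local notation "ι4" => (Fin 2 ⊕ Fin 2)

variable {H : Subgroup (BilinIsom (sympBilin 2 F))}

theorem sqrt_mem [Finite F] (h2 : (2 : F) = 0) {c : F} (h : c ^ 2 ∈ F₀) : c ∈ F₀ := by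
  haveI : CharP F₀ 2 := CharTwo.of_one_ne_zero_of_two_eq_zero one_ne_zero (Subtype.ext (by push_cast; exact h2))
  haveI : Finite F₀ := Finite.of_injective _ Subtype.val_injective
  obtain ⟨y, hy⟩ := FiniteField.isSquare_of_char_two (ringChar.eq F₀ 2) (⟨_, h⟩ : F₀)
  have hy' : c ^ 2 = (y : F) * y := congrArg Subtype.val hy
  have : (c - y) ^ 2 = 0 := by linear_combination hy' + ((y : F) * y - c * y) * h2
  rw [sub_eq_zero.mp (pow_eq_zero_iff (n := 2) two_ne_zero |>.mp this)]
  exact y.2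

theorem sympS_rat_mem (hM : ∀ g : BilinIsom (sympBilin 2 F), RatScaled F₀ g.1.toLinearMap → g ∈ H)
    {c : F} (hc : c ∈ F₀) (u w : ι4 → F₀) : sympS (sympBilin_isAlt 2 F) (ratVec F₀ u) (ratVec F₀ w) c ∈ H := by
  rw [sympS, ← ratVec_add]
  exact H.mul_mem (H.mul_mem (sympT_rat_mem hM hc _) (sympT_rat_mem hM (F₀.neg_mem hc) _))
    (sympT_rat_mem hM (F₀.neg_mem hc) _)

/-- A rational vector orthogonal to `u` with its partner. -/
theorem exists_pair {u : ι4 → F₀} (hu : u ≠ 0) :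
    ∃ w v, sympBilin 2 F₀ u w = 0 ∧ sympBilin 2 F₀ u v = 0 ∧ sympBilin 2 F₀ w v = 1 := by
  have hA₀ := sympBilin_isAlt 2 F₀
  have hB₀ := sympBilin_nondegenerate 2 F₀
  obtain ⟨v, hv, hvn⟩ := exists_orth_notMem hB₀ (Submodule.span F₀ {u})
    (by rw [finrank_span_singleton hu, finrank_sympSpace]; omega)
  obtain ⟨x, hx, hxv⟩ := exists_nonorth_of_notMem hA₀ hB₀ (Submodule.span F₀ {u}) hvn
  have hxv' : sympBilin 2 F₀ x v ≠ 0 := fun h => hxv (hA₀.isRefl _ _ h)
  refine ⟨(sympBilin 2 F₀ x v)⁻¹ • x, v, ?_, hv u (Submodule.mem_span_singleton_self u), ?_⟩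
  · rw [map_smul, hx u (Submodule.mem_span_singleton_self u), smul_zero]
  · rw [map_smul, LinearMap.smul_apply, smul_eq_mul, inv_mul_cancel₀ hxv']

theorem notMem_of_pair {u w v : ι4 → F₀} (hu : sympBilin 2 F₀ u v = 0) (h : sympBilin 2 F₀ w v ≠ 0) :
    w ∉ Submodule.span F₀ {u} := fun hm => by
  obtain ⟨j, rfl⟩ := Submodule.mem_span_singleton.mp hm
  rw [map_smul, LinearMap.smul_apply, hu, smul_zero] at h
  exact h rfl

/-- From a short root element mixed with a transvection, a transvection. -/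
theorem of_mixed (h2 : (2 : F) = 0) (hM : ∀ g : BilinIsom (sympBilin 2 F), RatScaled F₀ g.1.toLinearMap → g ∈ H)
    {u x : ι4 → F₀} (hu : u ≠ 0) (hx : sympBilin 2 F₀ u x = 0) (hxu : x ∉ Submodule.span F₀ {u}) (p t : F)
    (hmem : sympS (sympBilin_isAlt 2 F) (ratVec F₀ u) (ratVec F₀ x) p *
      sympT (sympBilin_isAlt 2 F) (ratVec F₀ u) t ∈ H) :
    sympT (sympBilin_isAlt 2 F) (ratVec F₀ u) (t + p ^ 2) ∈ H := by
  have hA₀ := sympBilin_isAlt 2 F₀
  obtain ⟨w, v, hw, hv, hwv⟩ := exists_pair hu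
  have hwu : w ∉ Submodule.span F₀ {u} := notMem_of_pair hv (by rw [hwv]; exact one_ne_zero)
  have hvw : sympBilin 2 F₀ v w = -1 := by rw [← hA₀.neg_eq, hwv]
  have hvu : v ∉ Submodule.span F₀ {u} := notMem_of_pair hw (by rw [hvw]; exact neg_ne_zero.mpr one_ne_zero)
  have hwvu : w + v ∉ Submodule.span F₀ {u} := notMem_of_pair hv (by
    rw [map_add, LinearMap.add_apply, hwv, hA₀ v, add_zero]; exact one_ne_zero)
  have hwv0 : sympBilin 2 F₀ u (w + v) = 0 := by rw [map_add, hw, hv, add_zero]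
  have m1 := sympS_transfer hM hu hx hxu hw hwu p t hmem
  have m2 := sympS_transfer hM hu hx hxu hv hvu p t hmem
  have m3 := sympS_transfer hM hu hx hxu hwv0 hwvu p t hmem
  have key := H.mul_mem (H.mul_mem m1 m2) (H.inv_mem m3)
  rw [ratVec_add, three (sympBilin_isAlt 2 F) (sympBilin_ratVec_eq_zero hw) (sympBilin_ratVec_eq_zero hv),
    sympBilin_ratVec, hvw] at key
  convert key using 2
  push_cast
  linear_combination p ^ 2 * h2

/-- A transvection with irrational parameter and rational centre generates everything. -/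
theorem top_of_nonrational [Finite F] {r : ℕ} (hr : r.Prime) (hcard : Nat.card F = Nat.card F₀ ^ r) (h2 : (2 : F) = 0)
    (hM : ∀ g : BilinIsom (sympBilin 2 F), RatScaled F₀ g.1.toLinearMap → g ∈ H)
    {c : F} (hc : c ∉ F₀) {e : ι4 → F₀} (he : e ≠ 0)
    (hmem : sympT (sympBilin_isAlt 2 F) (ratVec F₀ e) c ∈ H) : H = ⊤ := by
  classical
  have hA := sympBilin_isAlt 2 F
  set L : Set F := {t | ∀ u, sympT hA (ratVec F₀ u) t ∈ H}
  set Sg : Set F := {t | ∀ u w, sympBilin 2 F₀ u w = 0 → sympS hA (ratVec F₀ u) (ratVec F₀ w) t ∈ H}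
  have hcL : c ∈ L := fun u => by
    rcases eq_or_ne u 0 with rfl | hu
    · rw [ratVec_zero, sympT_zero_vec]; exact H.one_mem
    obtain ⟨k, hk, -, hke⟩ := exists_point_lift hM he hu
    have := H.mul_mem (H.mul_mem hk hmem) (H.inv_mem hk)
    rwa [sympT_conj, hke] at this
  have hF0L : (F₀ : Set F) ⊆ L := fun t ht u => sympT_rat_mem hM ht u
  have hLadd : ∀ x ∈ L, ∀ y ∈ L, x + y ∈ L := fun x hx y hy u => by rw [sympT_add]; exact H.mul_mem (hx u) (hy u)
  have hscale : ∀ a ∈ F₀, ∀ x ∈ L, a * x ∈ L := by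
    intro a ha x hx u
    haveI : CharP F₀ 2 := CharTwo.of_one_ne_zero_of_two_eq_zero one_ne_zero (Subtype.ext (by push_cast; exact h2))
    haveI : Finite F₀ := Finite.of_injective _ Subtype.val_injective
    obtain ⟨y, hy⟩ := FiniteField.isSquare_of_char_two (ringChar.eq F₀ 2) (⟨a, ha⟩ : F₀)
    have hy' : a = (y : F) ^ 2 := by rw [sq]; exact congrArg Subtype.val hy
    have := hx (y • u)
    rwa [ratVec_smul, sympT_smul, ← hy'] at this
  have hLS : ∀ t ∈ L, t ∈ Sg := fun t ht u w h => by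
    rw [sympS]
    refine H.mul_mem (H.mul_mem ?_ ?_) ?_
    · rw [← ratVec_add]; exact ht _
    · rw [sympT_neg]; exact H.inv_mem (ht _)
    · rw [sympT_neg]; exact H.inv_mem (ht _)
  have hprod : ∀ t ∈ L, ∀ d ∈ Sg, t * d ^ 2 + (t * d) ^ 2 ∈ L ∧ d ^ 2 ∈ L := by
    intro t ht d hd
    refine ⟨fun u => ?_, fun u => ?_⟩ <;> rcases eq_or_ne u 0 with rfl | hu
    · rw [ratVec_zero, sympT_zero_vec]; exact H.one_mem
    · obtain ⟨w, v, hw, hv, hwv⟩ := exists_pair hu
      have hvu : v ∉ Submodule.span F₀ {u} := notMem_of_pair hw (by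
        rw [← (sympBilin_isAlt 2 F₀).neg_eq, hwv]; exact neg_ne_zero.mpr one_ne_zero)
      exact of_mixed h2 hM hu hv hvu _ _ (sympS_step hM hw hv hwv (ht v) (hd u w hw))
    · rw [ratVec_zero, sympT_zero_vec]; exact H.one_mem
    · obtain ⟨w, v, hw, hv, hwv⟩ := exists_pair hu
      have h1 := sympS_step hM hw hv hwv (sympT_rat_mem hM F₀.one_mem v) (hd u w hw)
      rw [one_mul, one_mul] at h1
      exact (H.mul_mem_cancel_left (hd u v hv)).mp h1
  have hroot : ∀ l ∈ L, ∃ d ∈ L, l = d ^ 2 := by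
    intro l hl
    have hinj : Function.Injective fun x : L => (⟨x.1 ^ 2, (hprod x.1 x.2 x.1 (hLS _ x.2)).2⟩ : L) := fun x y hxy => by
      have e : x.1 ^ 2 = y.1 ^ 2 := congrArg Subtype.val hxy
      have h0 : (x.1 - y.1) ^ 2 = 0 := by linear_combination e + (y.1 ^ 2 - x.1 * y.1) * h2
      exact Subtype.ext (sub_eq_zero.mp (pow_eq_zero_iff (n := 2) two_ne_zero |>.mp h0))
    obtain ⟨d, hd⟩ := Finite.surjective_of_injective hinj ⟨l, hl⟩
    exact ⟨d.1, d.2, (congrArg Subtype.val hd).symm⟩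
  have hmul : ∀ t ∈ L, ∀ l ∈ L, (t + t ^ 2) * l ∈ L := by
    intro t ht l hl
    obtain ⟨d, hd, rfl⟩ := hroot l hl
    have := (hprod t ht d (hLS _ hd)).1
    convert this using 1
    ring
  have hLall : ∀ x, x ∈ L := by
    by_cases hp : ∀ t ∈ L, t + t ^ 2 ∈ F₀
    · have hk := hp c hcL
      set k := c + c ^ 2
      have h1 : ∀ x : F, x ∈ {x : F | ∃ a ∈ F₀, ∃ b ∈ F₀, x = a + b * c} :=
        eq_univ_of_mul_closed hr hcard (fun a ha => ⟨a, ha, 0, F₀.zero_mem, by simp⟩)
          (by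
            rintro _ ⟨a, ha, b, hb, rfl⟩ _ ⟨a', ha', b', hb', rfl⟩
            exact ⟨a + a', F₀.add_mem ha ha', b + b', F₀.add_mem hb hb', by ring⟩)
          (by
            rintro _ ⟨a, ha, b, hb, rfl⟩ _ ⟨a', ha', b', hb', rfl⟩
            exact ⟨a * a' + b * b' * k, F₀.add_mem (F₀.mul_mem ha ha') (F₀.mul_mem (F₀.mul_mem hb hb') hk),
              a * b' + a' * b + b * b', F₀.add_mem (F₀.add_mem (F₀.mul_mem ha hb') (F₀.mul_mem ha' hb)) (F₀.mul_mem hb hb'),
              by simp only [k]; linear_combination -(b * b' * c) * h2⟩)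
          (t := c) ⟨0, F₀.zero_mem, 1, F₀.one_mem, by simp⟩ hc
      intro x
      obtain ⟨a, ha, b, hb, rfl⟩ := h1 x
      exact hLadd _ (hF0L ha) _ (hscale b hb c hcL)
    · push Not at hp
      obtain ⟨t, ht, htn⟩ := hp
      have h1 : ∀ x : F, x ∈ {x : F | ∀ l ∈ L, x * l ∈ L} :=
        eq_univ_of_mul_closed hr hcard (fun a ha l hl => hscale a ha l hl)
          (fun x hx y hy l hl => by rw [add_mul]; exact hLadd _ (hx l hl) _ (hy l hl))
          (fun x hx y hy l hl => by rw [mul_assoc]; exact hx _ (hy l hl)) (fun l hl => hmul t ht l hl) htn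
      exact fun x => by simpa using h1 x 1 (hF0L F₀.one_mem)
  have hrat : ∀ u, ratVec F₀ u ∈ transCentres hA H := fun u x => hLall x u
  have hpair : ∀ (u w : ι4 → F₀) (a b : F), sympBilin 2 F₀ u w = 0 →
      a • ratVec F₀ u + b • ratVec F₀ w ∈ transCentres hA H := fun u w a b h t => by
    rw [sympT_add_vec hA (sympBilin_ratVec_eq_zero h)]
    exact H.mul_mem (H.mul_mem (hrat u _) (hrat w _)) (hLS _ (hLall _) u w h)
  refine eq_top_of_transCentres (hA := hA) (sympBilin_nondegenerate 2 F) fun x => ?_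
  let e' : ι4 → (ι4 → F₀) := fun i => Pi.single i 1
  have hx : x = x (Sum.inl 0) • ratVec F₀ (e' (Sum.inl 0)) + x (Sum.inr 0) • ratVec F₀ (e' (Sum.inr 0)) +
      x (Sum.inl 1) • ratVec F₀ (e' (Sum.inl 1)) + x (Sum.inr 1) • ratVec F₀ (e' (Sum.inr 1)) := by
    funext i
    rcases i with i | i <;> fin_cases i <;> simp [ratVec, e']
  rw [hx]
  set a := x (Sum.inl 0)
  set b := x (Sum.inr 0)
  set a' := x (Sum.inl 1)
  set b' := x (Sum.inr 1)
  have o1 : sympBilin 2 F₀ (e' (Sum.inr 0)) (e' (Sum.inr 1)) = 0 := by simp [sympBilin_eq_sum, e', Fin.sum_univ_two]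
  have o2 : sympBilin 2 F₀ (e' (Sum.inr 0)) (e' (Sum.inl 1)) = 0 := by simp [sympBilin_eq_sum, e', Fin.sum_univ_two]
  have o3 : sympBilin 2 F₀ (e' (Sum.inl 0)) (e' (Sum.inr 1)) = 0 := by simp [sympBilin_eq_sum, e', Fin.sum_univ_two]
  have o4 : sympBilin 2 F₀ (e' (Sum.inl 0)) (e' (Sum.inl 1)) = 0 := by simp [sympBilin_eq_sum, e', Fin.sum_univ_two]
  by_cases hb : b = 0
  · by_cases hb' : b' = 0
    · rw [hb, hb', zero_smul, zero_smul, add_zero, add_zero]
      exact hpair _ _ a a' o4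
    · have := transCentres_span (hpair _ _ a b' o3) (hrat (e' (Sum.inl 1))) (by
        simp [sympBilin_eq_sum, e', ratVec, Fin.sum_univ_two, hb']) 1 a'
      rw [one_smul] at this
      convert this using 1
      rw [hb, zero_smul]; abel
  · have h1 : b • ratVec F₀ (e' (Sum.inr 0)) + a' • ratVec F₀ (e' (Sum.inl 1)) + b' • ratVec F₀ (e' (Sum.inr 1)) ∈
        transCentres hA H := by
      by_cases hb' : b' = 0
      · rw [hb', zero_smul, add_zero]
        exact hpair _ _ b a' o2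
      · have := transCentres_span (hpair _ _ b b' o1) (hrat (e' (Sum.inl 1))) (by
          simp [sympBilin_eq_sum, e', ratVec, Fin.sum_univ_two, hb']) 1 a'
        rw [one_smul] at this
        convert this using 1
        abel
    have := transCentres_span h1 (hrat (e' (Sum.inl 0))) (by
      simp [sympBilin_eq_sum, e', ratVec, Fin.sum_univ_two, hb]) 1 a
    rw [one_smul] at this
    convert this using 1
    abel

/-- Images of rational vectors pair rationally with rational vectors. -/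
theorem image_rat [Finite F] {r : ℕ} (hr : r.Prime) (hcard : Nat.card F = Nat.card F₀ ^ r) (h2 : (2 : F) = 0)
    (hM : ∀ g : BilinIsom (sympBilin 2 F), RatScaled F₀ g.1.toLinearMap → g ∈ H)
    (hnon : ∀ (c : F) e, e ≠ 0 → sympT (sympBilin_isAlt 2 F) (ratVec F₀ e) c ∈ H → c ∈ F₀)
    {y : ι4 → F} (hy : sympT (sympBilin_isAlt 2 F) y 1 ∈ H) (u : ι4 → F₀) :
    sympBilin 2 F y (ratVec F₀ u) ∈ F₀ := by
  classical
  haveI : CharP F 2 := CharTwo.of_one_ne_zero_of_two_eq_zero one_ne_zero h2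
  haveI : Finite F₀ := Finite.of_injective _ Subtype.val_injective
  have hA := sympBilin_isAlt 2 F
  have hA₀ := sympBilin_isAlt 2 F₀
  have hB₀ := sympBilin_nondegenerate 2 F₀
  have hneg : ∀ a : F, -a = a := fun a => CharTwo.neg_eq a
  have hswap : ∀ p q : ι4 → F, sympBilin 2 F q p = sympBilin 2 F p q := fun p q => by
    rw [← hA.neg_eq, hneg]
  -- the key element
  have hN : ∀ u w : ι4 → F₀, sympBilin 2 F₀ u w = 0 →
      K3 hA (ratVec F₀ u) (ratVec F₀ w)
        (sympBilin 2 F y (ratVec F₀ w) ^ 2 * sympBilin 2 F y (ratVec F₀ u) ^ 2)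
        (sympBilin 2 F y (ratVec F₀ u) ^ 4)
        (sympBilin 2 F y (ratVec F₀ u) ^ 2 + sympBilin 2 F y (ratVec F₀ w) * sympBilin 2 F y (ratVec F₀ u) ^ 3) ∈ H := by
    intro u w huw
    set U := ratVec F₀ u
    set W := ratVec F₀ w
    have hUW : sympBilin 2 F U W = 0 := sympBilin_ratVec_eq_zero huw
    set β := sympBilin 2 F y U with hβ
    set γ := sympBilin 2 F y W with hγ
    set z := γ • U + β • W with hz
    have hyz : sympBilin 2 F y z = 0 := by
      rw [hz, map_add, map_smul, map_smul, ← hβ, ← hγ, smul_eq_mul, smul_eq_mul, mul_comm, CharTwo.add_self_eq_zero]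
    have hy' : sympT hA (y + z) 1 ∈ H := by
      have hS := sympS_rat_mem hM F₀.one_mem u w
      have := H.mul_mem (H.mul_mem hS hy) (H.inv_mem hS)
      rw [sympT_conj, sympS_apply hA hUW, one_mul, one_mul, ← hβ, ← hγ, add_assoc, ← hz] at this
      exact this
    have hX := H.mul_mem hy hy'
    have hT := sympT_rat_mem hM F₀.one_mem u
    have hX' := H.mul_mem (H.mul_mem hT hX) (H.inv_mem hT)
    have hUz : sympBilin 2 F U z = 0 := by
      rw [hz, map_add, map_smul, map_smul, hA U, hUW, smul_zero, smul_zero, add_zero]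
    have key := four_transv hA hUW hβ.symm hγ.symm (y := y)
    rw [← key]
    exact H.mul_mem hX hX'
  have hD : ∀ u w : ι4 → F₀, u ≠ 0 → sympBilin 2 F₀ u w = 0 → w ∉ Submodule.span F₀ {u} →
      sympS hA (ratVec F₀ u) (ratVec F₀ w) (sympBilin 2 F y (ratVec F₀ u) ^ 4) *
        sympT hA (ratVec F₀ u) (sympBilin 2 F y (ratVec F₀ u) ^ 4) ∈ H := by
    intro u w hu huw hwu
    obtain ⟨x, hx, hxw⟩ := exists_nonorth_of_notMem hA₀ hB₀ (Submodule.span F₀ {u}) hwu
    set v := (sympBilin 2 F₀ w x)⁻¹ • x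
    have hv : sympBilin 2 F₀ u v = 0 := by rw [map_smul, hx u (Submodule.mem_span_singleton_self u), smul_zero]
    have hwv : sympBilin 2 F₀ w v = 1 := by rw [map_smul, smul_eq_mul, inv_mul_cancel₀ hxw]
    have hk := sympS_rat_mem hM F₀.one_mem u v
    have h0 := sympBilin_ratVec_eq_zero (F := F) huw
    have hku : (sympS hA (ratVec F₀ u) (ratVec F₀ v) (1 : F)).1 (ratVec F₀ u) = ratVec F₀ u := by
      rw [sympS_apply hA (sympBilin_ratVec_eq_zero hv), hA, sympBilin_ratVec_eq_zero hv]; simp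
    have hkw : (sympS hA (ratVec F₀ u) (ratVec F₀ v) (1 : F)).1 (ratVec F₀ w) = ratVec F₀ w + ratVec F₀ u := by
      rw [sympS_apply hA (sympBilin_ratVec_eq_zero hv), hA.isRefl _ _ h0, sympBilin_ratVec, hwv]; simp
    have h1 := hN u w huw
    have h2' := H.mul_mem h1 (H.mul_mem (H.mul_mem hk h1) (H.inv_mem hk))
    set a := sympBilin 2 F y (ratVec F₀ w) ^ 2 * sympBilin 2 F y (ratVec F₀ u) ^ 2
    set b := sympBilin 2 F y (ratVec F₀ u) ^ 4
    set c := sympBilin 2 F y (ratVec F₀ u) ^ 2 + sympBilin 2 F y (ratVec F₀ w) * sympBilin 2 F y (ratVec F₀ u) ^ 3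
    set k := sympS hA (ratVec F₀ u) (ratVec F₀ v) (1 : F)
    have e : k * K3 hA (ratVec F₀ u) (ratVec F₀ w) a b c * k⁻¹ =
        K3 hA (ratVec F₀ u) (ratVec F₀ w) (a + b) b (c + b) := by
      rw [K3_conj, hku, hkw, K3_shift hA h0]
    rw [e, K3_mul hA h0, CharTwo.add_self_eq_zero, ← add_assoc, ← add_assoc, CharTwo.add_self_eq_zero,
      CharTwo.add_self_eq_zero, zero_add, K3_zero_mid hA h0] at h2'
    exact h2'
  have hquad : ∀ u : ι4 → F₀, u ≠ 0 →
      sympBilin 2 F y (ratVec F₀ u) ^ 4 + (sympBilin 2 F y (ratVec F₀ u) ^ 4) ^ 2 ∈ F₀ := fun u hu => by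
    obtain ⟨w, v, hw, hv, hwv⟩ := exists_pair hu
    have hwu : w ∉ Submodule.span F₀ {u} := notMem_of_pair hv (by rw [hwv]; exact one_ne_zero)
    exact hnon _ _ hu (of_mixed h2 hM hu hw hwu _ _ (hD u w hu hw hwu))
  rcases eq_or_ne u 0 with rfl | hu
  · rw [ratVec_zero, map_zero]; exact F₀.zero_mem
  set β := sympBilin 2 F y (ratVec F₀ u) with hβ
  obtain ⟨w, v, hw, hv, hwv⟩ := exists_pair hu
  have hwu : w ∉ Submodule.span F₀ {u} := notMem_of_pair hv (by rw [hwv]; exact one_ne_zero)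
  by_cases hbig : ∃ s : F₀, s ≠ 0 ∧ s ≠ 1
  · obtain ⟨s, hs0, hs1⟩ := hbig
    have hs : (1 : F₀) + s ≠ 0 := fun h => hs1 (by
      haveI : CharP F₀ 2 := CharTwo.of_one_ne_zero_of_two_eq_zero one_ne_zero (Subtype.ext (by push_cast; exact h2))
      exact (CharTwo.add_eq_zero.mp h).symm)
    have m1 := hD u w hu hw hwu
    have hsw : s • w ∉ Submodule.span F₀ {u} := fun h => hwu ((Submodule.smul_mem_iff _ hs0).mp h)
    have hsw0 : sympBilin 2 F₀ u (s • w) = 0 := by rw [map_smul, hw, smul_zero]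
    have m2 := sympS_transfer hM hu hw hwu hsw0 hsw _ _ m1
    have h0 := sympBilin_ratVec_eq_zero (F := F) hw
    rw [ratVec_smul, sympS_smul_right hA h0, ← K3_zero_mid hA h0] at m2
    rw [← K3_zero_mid hA h0] at m1
    have m3 := H.mul_mem m1 m2
    rw [K3_mul hA h0, CharTwo.add_self_eq_zero, add_zero, K3_zero_mid hA h0] at m3
    have hsw' : ((1 + s)⁻¹ : F₀) • w ∉ Submodule.span F₀ {u} := fun h =>
      hwu ((Submodule.smul_mem_iff _ (inv_ne_zero hs)).mp h)
    have m4 := sympS_transfer hM hu hw hwu (by rw [map_smul, hw, smul_zero]) hsw' _ _ m3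
    rw [ratVec_smul, sympS_smul_right hA h0, sympT_zero, mul_one] at m4
    have hsF : (1 : F) + (s : F) ≠ 0 := fun h => hs (Subtype.ext (by push_cast; exact h))
    have e : (((1 + s)⁻¹ : F₀) : F) * (β ^ 4 + (s : F) * β ^ 4) = β ^ 4 := by
      push_cast; field_simp
    rw [e] at m4
    have h5 : β ^ 4 ∈ F₀ := hnon _ _ hu ((H.mul_mem_cancel_left m4).mp (hD u w hu hw hwu))
    exact sqrt_mem h2 (sqrt_mem h2 (by rwa [← pow_mul]))
  -- the field of two elements
  by_contra hβn
  push Not at hbig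
  have hF0 : ∀ a ∈ F₀, a = 0 ∨ a = 1 := fun a ha => by
    by_cases h0 : (⟨a, ha⟩ : F₀) = 0
    · exact Or.inl (congrArg Subtype.val h0)
    · exact Or.inr (congrArg Subtype.val (hbig ⟨a, ha⟩ h0))
  have hroot : ∀ u : ι4 → F₀, sympBilin 2 F y (ratVec F₀ u) ∉ F₀ →
      sympBilin 2 F y (ratVec F₀ u) ^ 2 = sympBilin 2 F y (ratVec F₀ u) + 1 := by
    intro u hun
    set β := sympBilin 2 F y (ratVec F₀ u)
    have hu : u ≠ 0 := fun h => hun (by simp [β, h, ratVec_zero])
    have h1 := hquad u hu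
    rcases hF0 _ h1 with h | h
    · exfalso
      have h' : β ^ 4 * (1 + β ^ 4) = 0 := by linear_combination h
      rcases mul_eq_zero.mp h' with h3 | h3
      · exact hun (by rw [(pow_eq_zero_iff (by norm_num)).mp h3]; exact F₀.zero_mem)
      · have h4 : (1 + β) ^ 4 = 0 := by linear_combination h3 + (2 * β + 3 * β ^ 2 + 2 * β ^ 3) * h2
        rw [← CharTwo.add_eq_zero.mp ((pow_eq_zero_iff (by norm_num)).mp h4)] at hun
        exact hun F₀.one_mem
    · have h4 : (1 + β + β ^ 2) ^ 4 = 0 := by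
        linear_combination h + (2 * β + 5 * β ^ 2 + 8 * β ^ 3 + 9 * β ^ 4 + 8 * β ^ 5 + 5 * β ^ 6 + 2 * β ^ 7 + 1) * h2
      linear_combination (pow_eq_zero_iff (by norm_num : (4 : ℕ) ≠ 0)).mp h4 - (β + 1) * h2
  have hall : ∀ x : F, ∃ a ∈ F₀, ∃ b ∈ F₀, x = a + b * β := by
    have hb2 := hroot u hβn
    refine eq_univ_of_mul_closed hr hcard (L := {x | ∃ a ∈ F₀, ∃ b ∈ F₀, x = a + b * β})
      (fun a ha => ⟨a, ha, 0, F₀.zero_mem, by simp⟩) ?_ ?_ (t := β) ⟨0, F₀.zero_mem, 1, F₀.one_mem, by simp⟩ hβn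
    · rintro _ ⟨a, ha, b, hb, rfl⟩ _ ⟨a', ha', b', hb', rfl⟩
      exact ⟨a + a', F₀.add_mem ha ha', b + b', F₀.add_mem hb hb', by ring⟩
    · rintro _ ⟨a, ha, b, hb, rfl⟩ _ ⟨a', ha', b', hb', rfl⟩
      exact ⟨a * a' + b * b', F₀.add_mem (F₀.mul_mem ha ha') (F₀.mul_mem hb hb'), a * b' + a' * b + b * b',
        F₀.add_mem (F₀.add_mem (F₀.mul_mem ha hb') (F₀.mul_mem ha' hb)) (F₀.mul_mem hb hb'),
        by linear_combination (b * b') * hb2⟩
  let φ : (ι4 → F₀) → F := fun t => sympBilin 2 F y (ratVec F₀ t)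
  have hφadd : ∀ s t, φ (s + t) = φ s + φ t := fun s t => by simp [φ, ratVec_add]
  have hφu : φ u = β := rfl
  obtain ⟨w₁, hw₁⟩ : ∃ w₁, φ w₁ = 1 := by
    by_contra hno
    push Not at hno
    have hval : ∀ t, ∃ j : F₀, φ t = (j : F) * β := by
      intro t
      obtain ⟨a, ha, b, hb, hab⟩ := hall (φ t)
      rcases hF0 a ha with rfl | rfl
      · exact ⟨⟨b, hb⟩, by rw [hab, zero_add]⟩
      · exfalso
        rcases hF0 b hb with rfl | rfl
        · exact hno t (by rw [hab]; simp)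
        · refine hno (t + u) ?_
          rw [hφadd, hab, hφu, one_mul, add_assoc, CharTwo.add_self_eq_zero, add_zero]
    choose j hj using hval
    have hβ0 : β ≠ 0 := fun h => hβn (by rw [h]; exact F₀.zero_mem)
    let ψ : Module.Dual F₀ (ι4 → F₀) :=
      { toFun := j
        map_add' := fun s t => Subtype.ext (mul_right_cancel₀ hβ0 (by
          rw [← hj, hφadd, hj, hj, Subfield.coe_add, add_mul]))
        map_smul' := fun b t => Subtype.ext (mul_right_cancel₀ hβ0 (by
          rw [← hj, RingHom.id_apply, smul_eq_mul, Subfield.coe_mul, mul_assoc, ← hj]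
          simp [φ, ratVec_smul])) }
    set p := (LinearMap.BilinForm.toDual (sympBilin 2 F₀) hB₀).symm ψ
    have hp : ∀ t, sympBilin 2 F₀ p t = j t := fun t => LinearMap.BilinForm.apply_toDual_symm_apply ψ t
    have hyp : y = β • ratVec F₀ p := by
      rw [← sub_eq_zero]
      refine (sympBilin_nondegenerate 2 F).1 _ fun z => ?_
      refine LinearMap.congr_fun (ext_on_ratVec (F₀ := F₀) (f := sympBilin 2 F (y - β • ratVec F₀ p)) (g := 0)
        fun t => ?_) z
      rw [map_sub, map_smul, LinearMap.sub_apply, LinearMap.smul_apply, sympBilin_ratVec, hp, smul_eq_mul]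
      change φ t - β * (j t : F) = 0
      rw [hj, mul_comm, sub_self]
    rw [hyp, sympT_smul, mul_one] at hy
    have hp0 : p ≠ 0 := fun h => by
      have h1 := hj u
      rw [hφu, ← hp, h, map_zero, LinearMap.zero_apply] at h1
      simp at h1
      exact hβ0 h1
    exact hβn (sqrt_mem h2 (hnon _ _ hp0 hy))
  obtain ⟨u', w', hφu', hφw', ho⟩ : ∃ u' w', φ u' = β ∧ φ w' = 1 ∧ sympBilin 2 F₀ u' w' = 0 := by
    by_contra hno
    push Not at hno
    have h1 : ∀ a b, φ a = β → φ b = 1 → sympBilin 2 F₀ a b = 1 := fun a b ha hb => hbig _ (hno a b ha hb)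
    have hku : ∀ k, φ k = 0 → sympBilin 2 F₀ u k = 0 := fun k hk => by
      have := h1 u (w₁ + k) hφu (by rw [hφadd, hw₁, hk, add_zero])
      rwa [map_add, h1 u w₁ hφu hw₁, add_eq_left] at this
    have hkw : ∀ k, φ k = 0 → sympBilin 2 F₀ k w₁ = 0 := fun k hk => by
      have := h1 (u + k) w₁ (by rw [hφadd, hφu, hk, add_zero]) hw₁
      rwa [map_add, LinearMap.add_apply, h1 u w₁ hφu hw₁, add_eq_left] at this
    have hkk : ∀ k k', φ k = 0 → φ k' = 0 → sympBilin 2 F₀ k k' = 0 := fun k k' hk hk' => by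
      have := h1 (u + k) (w₁ + k') (by rw [hφadd, hφu, hk, add_zero]) (by rw [hφadd, hw₁, hk', add_zero])
      simpa [h1 u w₁ hφu hw₁, hku k' hk', hkw k hk] using this
    have hker : ∀ k, φ k = 0 → k = 0 := fun k hk => hB₀.1 k fun x => by
      obtain ⟨a, ha, b, hb, hab⟩ := hall (φ x)
      set k' := x - (⟨a, ha⟩ : F₀) • w₁ - (⟨b, hb⟩ : F₀) • u
      have hk' : φ k' = 0 := by
        have e1 : φ k' = φ x - a * φ w₁ - b * φ u := by simp [φ, k', ratVec_sub, ratVec_smul]
        rw [e1, hw₁, hφu, hab]; ring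
      have e2 : x = k' + (⟨a, ha⟩ : F₀) • w₁ + (⟨b, hb⟩ : F₀) • u := by simp only [k']; abel
      rw [e2, map_add, map_add, map_smul, map_smul, hkk k k' hk hk', hkw k hk, hA₀.isRefl _ _ (hku k hk),
        smul_zero, smul_zero, add_zero, add_zero]
    have hinj : Function.Injective φ := fun s t hst => sub_eq_zero.mp (hker _ (by
      change sympBilin 2 F y (ratVec F₀ (s - t)) = 0
      rw [ratVec_sub, map_sub, sub_eq_zero]
      exact hst))
    haveI : Fintype F₀ := Fintype.ofFinite _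
    have hc : ∀ z, φ z ∈ ({0, 1, β, 1 + β} : Finset F) := fun z => by
      obtain ⟨a, ha, b, hb, hab⟩ := hall (φ z)
      rcases hF0 a ha with rfl | rfl <;> rcases hF0 b hb with rfl | rfl <;> simp [hab]
    have hle := Finset.card_le_card_of_injOn φ (s := (Finset.univ : Finset (ι4 → F₀))) (fun z _ => hc z) hinj.injOn
    rw [Finset.card_univ, Fintype.card_fun, Fintype.card_sum, Fintype.card_fin] at hle
    have h4 : ({0, 1, β, 1 + β} : Finset F).card ≤ 4 := Finset.card_le_four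
    have h16 : 2 ^ 4 ≤ Fintype.card F₀ ^ (2 + 2) := Nat.pow_le_pow_left Fintype.one_lt_card 4
    omega
  have hu' : u' ≠ 0 := fun h => hβn (by rw [← hφu', h]; simp [φ, ratVec_zero])
  have hwu' : w' ∉ Submodule.span F₀ {u'} := fun h => by
    obtain ⟨j, rfl⟩ := Submodule.mem_span_singleton.mp h
    rcases hF0 j j.2 with hj | hj
    · have e1 : φ (j • u') = 0 := by simp [φ, ratVec_smul, hj]
      rw [e1] at hφw'; exact zero_ne_one hφw'
    · have e1 : φ (j • u') = φ u' := by simp [φ, ratVec_smul, hj]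
      rw [e1, hφu'] at hφw'
      exact hβn (by rw [hφw']; exact F₀.one_mem)
  have h0 := sympBilin_ratVec_eq_zero (F := F) ho
  have hb2 := hroot u hβn
  have h1 := hN u' w' ho
  have h2' := hD u' w' hu' ho hwu'
  rw [← K3_zero_mid hA h0] at h2'
  have h3 := H.mul_mem h1 h2'
  change sympBilin 2 F y (ratVec F₀ u') = β at hφu'
  change sympBilin 2 F y (ratVec F₀ w') = 1 at hφw'
  rw [K3_mul hA h0, hφu', hφw', show (1 : F) ^ 2 * β ^ 2 + β ^ 4 = 1 by grind,
    show β ^ 4 + 0 = β by grind, show β ^ 2 + 1 * β ^ 3 + β ^ 4 = 0 by grind, K3, sympS_zero hA h0, mul_one] at h3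
  have h4 := (H.mul_mem_cancel_left (sympT_rat_mem hM F₀.one_mem u')).mp h3
  exact hβn (hnon _ _ (fun h => hwu' (by rw [h]; exact Submodule.zero_mem _)) h4)

theorem isCoatom_subfield [Finite F] {r : ℕ} (hr : r.Prime) (hcard : Nat.card F = Nat.card F₀ ^ r) (h2 : (2 : F) = 0)
    {M : Subgroup (BilinIsom (sympBilin 2 F))}
    (hM : ∀ g : BilinIsom (sympBilin 2 F), g ∈ M ↔ RatScaled F₀ g.1.toLinearMap)
    (hne : ∃ t : F, t ∉ F₀) : IsCoatom M := by
  classical
  have hA := sympBilin_isAlt 2 F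
  set v := (Pi.single (Sum.inl 0) 1 : ι4 → F₀) with hv
  have hv0 : v ≠ 0 := fun h => by simpa [hv] using congrFun h (Sum.inl 0)
  refine ⟨fun htop => ?_, fun H hlt => ?_⟩
  · obtain ⟨t, ht⟩ := hne
    have hs := (hM _).mp (htop ▸ Subgroup.mem_top (sympT hA (ratVec F₀ v) t))
    obtain ⟨u, hu⟩ := exists_hyperbolic_partner (sympBilin_nondegenerate 2 F₀) hv0
    have hex := hs.exact_of_fix (u₀ := v) (r₀ := v) hv0 (by
      rw [LinearEquiv.coe_coe, sympT_apply, hA, mul_zero, zero_smul, add_zero])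
    obtain ⟨r', hr'⟩ := hex u
    rw [LinearEquiv.coe_coe, sympT_apply, sympBilin_ratVec, ← (sympBilin_isAlt 2 F₀).neg_eq, hu] at hr'
    have h := congrFun hr' (Sum.inl 0)
    simp [ratVec, v] at h
    exact ht (by
      rw [show t = ((u (Sum.inl 0) - r' (Sum.inl 0) : F₀) : F) by push_cast; linear_combination -h]
      exact SetLike.coe_mem _)
  have hH : ∀ g : BilinIsom (sympBilin 2 F), RatScaled F₀ g.1.toLinearMap → g ∈ H :=
    fun g hg => hlt.le ((hM g).mpr hg)
  by_cases hnon : ∀ (c : F) e, e ≠ 0 → sympT hA (ratVec F₀ e) c ∈ H → c ∈ F₀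
  swap
  · push Not at hnon
    obtain ⟨c, e, he, hmem, hc⟩ := hnon
    exact top_of_nonrational hr hcard h2 hH hc he hmem
  exfalso
  obtain ⟨g, hg, hgM⟩ := SetLike.exists_of_lt hlt
  apply hgM
  rw [hM]
  refine RatExact.scaled fun t => ?_
  have hy : sympT hA (g.1 (ratVec F₀ t)) 1 ∈ H := by
    have := H.mul_mem (H.mul_mem hg (sympT_rat_mem hH F₀.one_mem t)) (H.inv_mem hg)
    rwa [sympT_conj] at this
  have hval : ∀ u, sympBilin 2 F (g.1 (ratVec F₀ t)) (ratVec F₀ u) ∈ F₀ :=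
    image_rat hr hcard h2 hH hnon hy
  let ψ : Module.Dual F₀ (ι4 → F₀) :=
    { toFun := fun u => ⟨_, hval u⟩
      map_add' := fun a b => Subtype.ext (by simp [ratVec_add])
      map_smul' := fun a b => Subtype.ext (by simp [ratVec_smul]) }
  set p := (LinearMap.BilinForm.toDual (sympBilin 2 F₀) (sympBilin_nondegenerate 2 F₀)).symm ψ
  refine ⟨p, ?_⟩
  rw [LinearEquiv.coe_coe, ← sub_eq_zero]
  refine (sympBilin_nondegenerate 2 F).1 _ fun z => ?_
  refine LinearMap.congr_fun (ext_on_ratVec (F₀ := F₀) (f := sympBilin 2 F (g.1 (ratVec F₀ t) - ratVec F₀ p))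
    (g := 0) fun u => ?_) z
  rw [map_sub, LinearMap.sub_apply, sympBilin_ratVec, LinearMap.BilinForm.apply_toDual_symm_apply, LinearMap.zero_apply,
    sub_eq_zero]
  rfl

end Cfsg.Lib.Classical.SpFour
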