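import Mathlib
import Cfsg.Agent.Classical.Symp.ExtFieldDerangement

/-! Prime order elements of the symplectic group without conjugates in an extension field normaliser. -/

set_option autoImplicit false
set_option linter.unusedSimpArgs false
set_option linter.unusedSectionVars false
set_option linter.unusedVariables false
set_option linter.style.haveILetI false
set_option linter.flexible false

namespace Cfsg.Lib.Classical.SpExtDer

open Cfsg.Lib.Classical Cfsg.Lib.PrimeOrderPoly Cfsg.Lib.DualPoly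
open Polynomial
open scoped Matrix

universe u

variable {F : Type u} [Field F] [Fintype F] {d k : ℕ}

local notation "MM" => Matrix (Fin d ⊕ Fin d) (Fin d ⊕ Fin d) F
local notation "VV" => (Fin d ⊕ Fin d → F)

variable {K : Subalgebra F (Matrix (Fin d ⊕ Fin d) (Fin d ⊕ Fin d) F)} {p r : ℕ} [Fact p.Prime] [CharP F p] [Fact r.Prime]

/-- A bad element: no conjugate in the normaliser. -/
def Bad (r : ℕ) (K : Subalgebra F (Matrix (Fin d ⊕ Fin d) (Fin d ⊕ Fin d) F)) : Prop :=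
  ∃ A : Matrix.symplecticGroup (Fin d) F, (A : Matrix (Fin d ⊕ Fin d) (Fin d ⊕ Fin d) F) ^ r = 1 ∧
    (∀ z : F, (A : Matrix (Fin d ⊕ Fin d) (Fin d ⊕ Fin d) F) ≠ z • 1) ∧
    ∀ g ∈ Cfsg.spGL d F, g⁻¹ * toGL d F A * g ∉ Cfsg.Geo.subalgebraNormalizer K

theorem transvection_bad (S : Ext k K) (hd : 2 ≤ d) : Bad p K := by
  classical
  set a : Fin d ⊕ Fin d := Sum.inl ⟨0, by omega⟩ with ha
  set b : Fin d ⊕ Fin d := Sum.inr ⟨0, by omega⟩ with hb
  obtain ⟨N, hN⟩ : ∃ N : MM, ∀ v, N *ᵥ v = Pi.single a (v b) := ⟨Matrix.single a b (1 : F), fun v => by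
    funext o
    simp only [Matrix.mulVec, dotProduct, Matrix.single_apply, Pi.single_apply]
    by_cases ho : o = a
    · subst ho; simp
    · simp [ho, Ne.symm ho]⟩
  have hN2 : N * N = 0 := Matrix.ext_of_mulVec_single fun o => by
    rw [← Matrix.mulVec_mulVec, hN, hN, Matrix.zero_mulVec, Pi.single_eq_of_ne (by simp [ha, hb]), Pi.single_zero]
  have hmem : 1 + N ∈ Matrix.symplecticGroup (Fin d) F := (mem_symplectic_iff_form _).2 fun u v => by
    rw [Matrix.add_mulVec, Matrix.add_mulVec, Matrix.one_mulVec, Matrix.one_mulVec, hN, hN, sympBilin_eq_sum,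
      sympBilin_eq_sum]
    refine Finset.sum_congr rfl fun i _ => ?_
    by_cases hi : i = ⟨0, by omega⟩
    · subst hi; simp [ha, hb]; ring
    · simp [ha, hb, hi]
  have hfix : Module.finrank F (PrimeOrd.fix (Matrix.toLin' (1 + N))) + 1 = 2 * d := by
    have h1 := LinearMap.finrank_range_add_finrank_ker (Matrix.toLin' (1 + N) - 1)
    rw [finrank_sympSpace] at h1
    have hT : ∀ v, (Matrix.toLin' (1 + N) - 1 : Module.End F VV) v = Pi.single a (v b) := fun v => by
      rw [LinearMap.sub_apply, Module.End.one_apply, Matrix.toLin'_apply, Matrix.add_mulVec, Matrix.one_mulVec,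
        add_sub_cancel_left, hN]
    have e : LinearMap.range (Matrix.toLin' (1 + N) - 1) = F ∙ (Pi.single a (1 : F) : VV) := by
      refine le_antisymm ?_ ?_
      · rintro _ ⟨v, rfl⟩
        rw [hT]
        exact Submodule.mem_span_singleton.mpr ⟨v b, by rw [← Pi.single_smul, smul_eq_mul, mul_one]⟩
      · rw [Submodule.span_le, Set.singleton_subset_iff]
        exact ⟨Pi.single b 1, by rw [hT, Pi.single_eq_same]⟩
    rw [e, finrank_span_singleton (by simp)] at h1
    unfold PrimeOrd.fix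
    omega
  refine ⟨⟨1 + N, hmem⟩, ?_, ?_, ?_⟩
  · show (1 + N) ^ p = 1
    haveI : Nonempty (Fin d ⊕ Fin d) := ⟨a⟩
    rw [add_pow_char_of_commute p (Commute.one_left N), one_pow,
      show N ^ p = 0 from pow_eq_zero_of_le (Fact.out : p.Prime).two_le (by rw [sq, hN2]), add_zero]
  · exact not_scalar (f := 2 * d - 1) (x := 1 + N) (by omega) (by omega) (by omega)
  intro g hg hy
  have hyfix : Module.finrank F (PrimeOrd.fix (Matrix.toLin'
      ((g⁻¹ * toGL d F ⟨1 + N, hmem⟩ * g : GL (Fin d ⊕ Fin d) F) : MM))) + 1 = 2 * d := by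
    rw [fix_conj]; exact hfix
  set y := g⁻¹ * toGL d F ⟨1 + N, hmem⟩ * g
  have hcomm := S.comm_of_fix hy (by omega)
  have h1 := LinearMap.finrank_range_add_finrank_ker (Matrix.toLin' (y : MM) - 1)
  rw [finrank_sympSpace] at h1
  unfold PrimeOrd.fix at hyfix
  obtain ⟨v, hv, hv0⟩ : ∃ v ∈ LinearMap.range (Matrix.toLin' (y : MM) - 1), v ≠ 0 :=
    Submodule.exists_mem_ne_zero_of_ne_bot fun e' => by rw [e', finrank_bot] at h1; omega
  let L : K →ₗ[F] LinearMap.range (Matrix.toLin' (y : MM) - 1) :=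
    { toFun := fun a => ⟨a.1 *ᵥ v, range_inv hcomm a.1 a.2 v hv⟩
      map_add' := fun a b => Subtype.ext (by simp [Matrix.add_mulVec])
      map_smul' := fun c a => Subtype.ext (by simp [Matrix.smul_mulVec]) }
  have := LinearMap.finrank_le_finrank_of_injective (f := L) ((injective_iff_map_eq_zero L).2 fun a ha =>
    Subtype.ext ((S.inj a.2 (congrArg Subtype.val ha)).resolve_right hv0))
  rw [S.field.finrank_eq] at this
  have := S.pr.two_le
  omega

include p in
theorem involution_bad (S : Ext k K) (hd : 2 ≤ d) (hp2 : p ≠ 2) (hcase : 2 ≠ k ∨ 2 < d) : Bad 2 K := by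
  classical
  haveI : Fact (Nat.Prime 2) := ⟨Nat.prime_two⟩
  obtain ⟨w, hwl, hwr⟩ : ∃ w : Fin d ⊕ Fin d → F, (∀ j : Fin d, w (Sum.inl j) = if (j : ℕ) = 0 then -1 else 1) ∧
      ∀ j : Fin d, w (Sum.inr j) = if (j : ℕ) = 0 then -1 else 1 :=
    ⟨Sum.elim (fun j => if (j : ℕ) = 0 then -1 else 1) (fun j => if (j : ℕ) = 0 then -1 else 1), fun j => rfl, fun j => rfl⟩
  have hw2 : ∀ o, w o * w o = 1 := fun o => by
    rcases o with j | j <;> simp only [hwl, hwr] <;> split_ifs <;> simp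
  have hmem : Matrix.diagonal w ∈ Matrix.symplecticGroup (Fin d) F := (mem_symplectic_iff_form _).2 fun u v => by
    rw [sympBilin_eq_sum, sympBilin_eq_sum]
    refine Finset.sum_congr rfl fun j _ => ?_
    simp only [Matrix.mulVec_diagonal, hwl, hwr]
    split_ifs <;> ring
  have h2 : (2 : F) ≠ 0 := Ring.two_ne_zero (by rw [ringChar.eq F p]; exact hp2)
  have hfix : Module.finrank F (PrimeOrd.fix (Matrix.toLin' (Matrix.diagonal w))) + 2 = 2 * d := by
    have h1 := LinearMap.finrank_range_add_finrank_ker (Matrix.toLin' (Matrix.diagonal w) - 1)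
    rw [finrank_sympSpace] at h1
    have e1 : Matrix.toLin' (Matrix.diagonal w) - 1 = Matrix.toLin' (Matrix.diagonal fun o => w o - 1) :=
      LinearMap.ext fun v => funext fun o => by simp [Matrix.mulVec_diagonal, sub_mul]
    have h3 : Module.finrank F (LinearMap.range (Matrix.toLin' (Matrix.diagonal w) - 1)) = 2 := by
      rw [e1]
      refine (Matrix.rank_diagonal _).trans ?_
      rw [Fintype.card_subtype, show (Finset.univ.filter fun o => w o - 1 ≠ 0) =
          {Sum.inl ⟨0, by omega⟩, Sum.inr ⟨0, by omega⟩} from Finset.ext fun o => ?_, Finset.card_pair (by simp)]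
      rcases o with j | j <;> simp only [hwl, hwr, Finset.mem_filter, Finset.mem_univ, true_and,
          Finset.mem_insert, Finset.mem_singleton] <;> split_ifs with hj <;>
        simp [hj, Fin.ext_iff, sub_eq_zero]
      · intro e; exact h2 (by linear_combination -e)
      · intro e; exact h2 (by linear_combination -e)
    unfold PrimeOrd.fix
    omega
  have hsq : Matrix.diagonal w ^ 2 = 1 := by
    rw [sq, Matrix.diagonal_mul_diagonal, ← Matrix.diagonal_one]
    exact congrArg Matrix.diagonal (funext hw2)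
  refine ⟨⟨_, hmem⟩, hsq, not_scalar (f := 2 * d - 2) (x := Matrix.diagonal w) (by omega) (by omega) (by omega),
    S.derange (r := 2) (p := p) (Ne.symm hp2) ⟨_, hmem⟩ hsq (c := 2) hfix (fun h => ?_) hcase⟩
  have := Nat.le_of_dvd two_pos h
  have := S.pr.two_le
  omega

include p in
theorem odd_bad (S : Ext k K) (hd : 2 ≤ d) (hr2 : r ≠ 2) (hrp : r ≠ p) (hkd : k ≤ d)
    (hΩ : r ∣ (Cfsg.Geo.subalgebraNormalizer K).relIndex (Cfsg.spGL d F)) : Bad r K := by
  classical
  have hr : r.Prime := Fact.out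
  have hi0 : 0 < orderOf (Fintype.card F : ZMod r) := PrimeOrd.ord_pos (PrimeOrd.not_dvd_card hr hrp)
  set i := orderOf (Fintype.card F : ZMod r) with hi
  set c := if Even i then i else 2 * i with hc
  have hc0 : 0 < c := by rw [hc]; split_ifs <;> omega
  have hcd : c ≤ 2 * d := SpDecomp.order_le hrp hi hc (by
    rw [← card_spGL]
    exact hΩ.trans (Subgroup.index_dvd_card _))
  have hkc : ¬ 2 * k ∣ c := fun h => S.not_dvd_index hr2 hrp hi hc h hΩ
  obtain ⟨A, hA, hfix⟩ := SpDecomp.exists_fix (p := p) hr2 hrp hi hi0 hc (K := 1) (d := d) (by omega)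
  rw [one_mul] at hfix
  have hAM : (A : MM) ^ r = 1 := by rw [← SubmonoidClass.coe_pow, hA, Submonoid.coe_one]
  have hodd : Odd r := hr.odd_of_ne_two hr2
  have hcase : r ≠ k ∨ c < d := by
    by_cases h : r = k
    · right
      have hir : i ∣ r - 1 := orderOf_dvd_of_pow_eq_one (ZMod.pow_card_sub_one_eq_one fun e =>
        PrimeOrd.not_dvd_card (F := F) hr hrp ((ZMod.natCast_eq_zero_iff _ _).mp e))
      have hcr : c ∣ r - 1 := by
        rw [hc]
        split_ifs with hev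
        · exact hir
        · exact Nat.Coprime.mul_dvd_of_dvd_of_dvd (Nat.coprime_two_left.mpr (Nat.not_even_iff_odd.mp hev))
            (Nat.Odd.sub_odd hodd odd_one).two_dvd hir
      have := Nat.le_of_dvd (by have := hr.two_le; omega) hcr
      have := hr.two_le
      omega
    · exact Or.inl h
  refine ⟨A, hAM, fun z hz => ?_, S.derange hrp A hAM (c := c) (by omega) hkc hcase⟩
  have hz1 : z = 1 := by
    have hzr : z ^ r = 1 := by
      have h := hAM
      rw [hz, _root_.smul_pow, one_pow] at h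
      have := congrFun (congrFun h (Sum.inl ⟨0, by omega⟩)) (Sum.inl ⟨0, by omega⟩)
      simpa using this
    obtain ⟨j, hj⟩ := hodd
    rw [hj, pow_succ, pow_mul, sq, SpDecomp.eq_one_scalar (by omega) hz, one_pow, one_mul] at hzr
    exact hzr
  rw [hz, hz1, one_smul, Matrix.toLin'_one, show PrimeOrd.fix (LinearMap.id : Module.End F VV) = ⊤ from
    Submodule.ext fun v => by simp [PrimeOrd.mem_fix], finrank_top, finrank_sympSpace] at hfix
  omega

end Cfsg.Lib.Classical.SpExtDer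

namespace Cfsg.Lib.Classical.SpExtDer

open Cfsg.Lib.Classical Cfsg.Lib.PrimeOrderPoly Cfsg.Lib.DualPoly
open Polynomial
open scoped Matrix

universe v

variable {F : Type v} [Field F] [Fintype F] {p : ℕ} [Fact p.Prime] [CharP F p]

set_option maxHeartbeats 1000000 in
/-- Models for square roots of scalars inside the normaliser. -/
theorem exists_square_model {K : Subalgebra F (Matrix (Fin 2 ⊕ Fin 2) (Fin 2 ⊕ Fin 2) F)} (S : Ext 2 K) {z : F}
    (hzz : z * z = 1) :
    ∃ B : Matrix.symplecticGroup (Fin 2) F, (B : Matrix (Fin 2 ⊕ Fin 2) (Fin 2 ⊕ Fin 2) F) ^ 2 = z • 1 ∧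
      (∀ c : F, (B : Matrix (Fin 2 ⊕ Fin 2) (Fin 2 ⊕ Fin 2) F) ≠ c • 1) ∧
      toGL 2 F B ∈ Cfsg.Geo.subalgebraNormalizer K := by
  classical
  have hK := S.field
  -- the model
  obtain ⟨σ, hσ, htr⟩ : ∃ σ : K →ₐ[F] K, σ ≠ AlgHom.id F K ∧ (∀ a, σ (σ a) = a) ∧
      ∃ τ : Module.Dual F K, τ ≠ 0 ∧ ∀ a, τ (σ a) = τ a := by
    letI : Field K := S.isField.toField
    haveI : Finite K := Module.finite_of_finite F
    haveI : Finite (K ≃ₐ[F] K) := Finite.of_injective (fun σ => (σ : K → K)) DFunLike.coe_injective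
    have hc : Nat.card (K ≃ₐ[F] K) = 2 := by rw [IsGalois.card_aut_eq_finrank F K, hK.finrank_eq]
    haveI : Nontrivial (K ≃ₐ[F] K) := (Nat.card_eq_two_iff.mp hc).elim fun a ⟨b, hab, _⟩ => ⟨a, b, hab⟩
    obtain ⟨σ, hσ⟩ := exists_ne (1 : K ≃ₐ[F] K)
    refine ⟨σ.toAlgHom, fun e => hσ (AlgEquiv.ext fun a => ?_), fun a => ?_, Algebra.trace F K,
      Algebra.trace_ne_zero F K, fun a => Algebra.trace_eq_of_algEquiv σ a⟩
    · exact AlgHom.congr_fun e a
    · have h := pow_card_eq_one' (x := σ)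
      rw [hc, sq] at h
      exact AlgEquiv.congr_fun h a
  obtain ⟨hσσ, τ, hτ, hτσ⟩ := htr
  obtain ⟨e', Φ, he', hsmul, hform⟩ := S.exists_coord τ hτ
  obtain rfl : e' = 1 := by omega
  have hmodel : ∃ B : Matrix.symplecticGroup (Fin 2) F, (B : Matrix (Fin 2 ⊕ Fin 2) (Fin 2 ⊕ Fin 2) F) ^ 2 = z • 1 ∧
      (∀ c : F, (B : Matrix (Fin 2 ⊕ Fin 2) (Fin 2 ⊕ Fin 2) F) ≠ c • 1) ∧
      toGL 2 F B ∈ Cfsg.Geo.subalgebraNormalizer K := by
    have mk : ∀ T : (Fin 1 ⊕ Fin 1 → K) →ₗ[F] (Fin 1 ⊕ Fin 1 → K),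
        (∀ x y, sympBilin 2 F (Φ (T x)) (Φ (T y)) = sympBilin 2 F (Φ x) (Φ y)) → (∀ x, T (T x) = z • x) →
        (∀ c : F, ∃ x, T x ≠ c • x) → (∀ a : K, ∃ b : K, ∀ x, T (fun l => a * x l) = fun l => b * T x l) →
        (∀ b : K, ∃ a : K, ∀ x, T (fun l => a * x l) = fun l => b * T x l) →
        ∃ B : Matrix.symplecticGroup (Fin 2) F, (B : Matrix (Fin 2 ⊕ Fin 2) (Fin 2 ⊕ Fin 2) F) ^ 2 = z • 1 ∧
          (∀ c : F, (B : Matrix (Fin 2 ⊕ Fin 2) (Fin 2 ⊕ Fin 2) F) ≠ c • 1) ∧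
          toGL 2 F B ∈ Cfsg.Geo.subalgebraNormalizer K := by
      intro T hT hT2 hTn hT3 hT4
      let f : Module.End F (Fin 2 ⊕ Fin 2 → F) := Φ.toLinearMap ∘ₗ T ∘ₗ Φ.symm.toLinearMap
      have hf : ∀ v, LinearMap.toMatrix' f *ᵥ v = Φ (T (Φ.symm v)) := fun v => LinearMap.toMatrix'_mulVec f v
      refine ⟨⟨LinearMap.toMatrix' f, (mem_symplectic_iff_form _).2 fun u v => by
        rw [hf, hf, hT, LinearEquiv.apply_symm_apply, LinearEquiv.apply_symm_apply]⟩, ?_, ?_, ?_⟩
      · refine Matrix.ext_of_mulVec_single fun o => ?_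
        show (LinearMap.toMatrix' f ^ 2) *ᵥ _ = _
        rw [sq, ← Matrix.mulVec_mulVec, hf, hf, LinearEquiv.symm_apply_apply, hT2, map_smul, LinearEquiv.apply_symm_apply,
          Matrix.smul_mulVec, Matrix.one_mulVec]
      · intro c hc
        obtain ⟨x, hx⟩ := hTn c
        have := congrArg (fun B => B *ᵥ Φ x) hc
        simp only [hf, LinearEquiv.symm_apply_apply, Matrix.smul_mulVec, Matrix.one_mulVec, ← map_smul] at this
        exact hx (Φ.injective this)
      · set B := toGL 2 F _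
        have hBv : ∀ v, (B : Matrix (Fin 2 ⊕ Fin 2) (Fin 2 ⊕ Fin 2) F) *ᵥ v = Φ (T (Φ.symm v)) := hf
        have h1 : (B : Matrix (Fin 2 ⊕ Fin 2) (Fin 2 ⊕ Fin 2) F) * ((B⁻¹ : GL (Fin 2 ⊕ Fin 2) F) : Matrix (Fin 2 ⊕ Fin 2) (Fin 2 ⊕ Fin 2) F) = 1 := by
          rw [← Units.val_mul, mul_inv_cancel, Units.val_one]
        have hab : ∀ a b : K, (∀ x, T (fun l => a * x l) = fun l => b * T x l) →
            (B : Matrix (Fin 2 ⊕ Fin 2) (Fin 2 ⊕ Fin 2) F) * a.1 * ((B⁻¹ : GL (Fin 2 ⊕ Fin 2) F) : Matrix (Fin 2 ⊕ Fin 2) (Fin 2 ⊕ Fin 2) F) = b.1 := by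
          intro a b hab
          have : (B : Matrix (Fin 2 ⊕ Fin 2) (Fin 2 ⊕ Fin 2) F) * a.1 = b.1 * (B : Matrix (Fin 2 ⊕ Fin 2) (Fin 2 ⊕ Fin 2) F) := by
            refine Matrix.ext_of_mulVec_single fun o => ?_
            obtain ⟨y, hy⟩ := Φ.surjective (Pi.single o 1)
            rw [← hy, ← Matrix.mulVec_mulVec, ← Matrix.mulVec_mulVec, hBv, hBv, LinearEquiv.symm_apply_apply,
              ← hsmul, LinearEquiv.symm_apply_apply, hab, ← hsmul]
          rw [this, mul_assoc, h1, mul_one]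
        intro a
        constructor
        · intro ha
          obtain ⟨b, hb⟩ := hT3 ⟨a, ha⟩
          rw [hab ⟨a, ha⟩ b hb]
          exact b.2
        · intro ha
          obtain ⟨a₀, ha₀⟩ := hT4 ⟨_, ha⟩
          have e0 := hab a₀ ⟨_, ha⟩ ha₀
          have e1 : a₀.1 = a := by
            have h2' : ((B⁻¹ : GL (Fin 2 ⊕ Fin 2) F) : Matrix (Fin 2 ⊕ Fin 2) (Fin 2 ⊕ Fin 2) F) * (B : Matrix (Fin 2 ⊕ Fin 2) (Fin 2 ⊕ Fin 2) F) = 1 := by
              rw [← Units.val_mul, inv_mul_cancel, Units.val_one]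
            have := congrArg (fun Y => ((B⁻¹ : GL (Fin 2 ⊕ Fin 2) F) : Matrix (Fin 2 ⊕ Fin 2) (Fin 2 ⊕ Fin 2) F) * Y * (B : Matrix (Fin 2 ⊕ Fin 2) (Fin 2 ⊕ Fin 2) F)) e0
            simp only [mul_assoc, h2', mul_one] at this
            simpa only [← mul_assoc, h2', one_mul] using this
          exact e1 ▸ a₀.2
    rcases mul_self_eq_one_iff.mp hzz with rfl | rfl
    · -- the field automorphism
      let T : (Fin 1 ⊕ Fin 1 → K) →ₗ[F] (Fin 1 ⊕ Fin 1 → K) :=
        LinearMap.pi fun l => σ.toLinearMap ∘ₗ LinearMap.proj l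
      refine mk T (fun x y => ?_) (fun x => funext fun l => by simp [T, hσσ]) (fun c => ?_)
        (fun a => ⟨σ a, fun x => funext fun l => by simp [T]⟩) (fun b => ⟨σ b, fun x => funext fun l => by simp [T, hσσ]⟩)
      · rw [hform, hform, ← hτσ (∑ l, (x (Sum.inr l) * y (Sum.inl l) - x (Sum.inl l) * y (Sum.inr l)))]
        congr 1
        simp [T]
      · by_contra hcon
        push Not at hcon
        refine hσ (AlgHom.ext fun a => ?_)
        have h1 := congrFun (hcon fun _ => 1) (Sum.inl 0)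
        simp [T] at h1
        have h3 := congrFun (hcon fun _ => a) (Sum.inl 0)
        simp only [T, LinearMap.pi_apply, LinearMap.comp_apply, LinearMap.proj_apply, AlgHom.toLinearMap_apply,
          Pi.smul_apply] at h3
        rw [h3, AlgHom.id_apply]
        rw [show c • a = (c • (1 : K)) * a by rw [smul_mul_assoc, one_mul], ← h1, one_mul]
    · -- a linear element of order four
      let T : (Fin 1 ⊕ Fin 1 → K) →ₗ[F] (Fin 1 ⊕ Fin 1 → K) :=
        LinearMap.pi (Sum.elim (fun l => -LinearMap.proj (Sum.inr l)) (fun l => LinearMap.proj (Sum.inl l)))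
      refine mk T (fun x y => ?_) (fun x => funext fun l => by rcases l with l | l <;> simp [T]) (fun c => ?_)
        (fun a => ⟨a, fun x => funext fun l => by rcases l with l | l <;> simp [T] <;> exact Subtype.ext (by simp)⟩)
        (fun b => ⟨b, fun x => funext fun l => by rcases l with l | l <;> simp [T] <;> exact Subtype.ext (by simp)⟩)
      · rw [hform, hform]
        congr 1
        simp [T]
        apply Subtype.ext
        simp
        abel
      · refine ⟨Pi.single (Sum.inl 0) 1, fun e => ?_⟩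
        have := congrFun e (Sum.inr 0)
        simp [T] at this
  exact hmodel

include p in
theorem square_fixed {K : Subalgebra F (Matrix (Fin 2 ⊕ Fin 2) (Fin 2 ⊕ Fin 2) F)} (S : Ext 2 K) (hp2 : p ≠ 2)
    (x : GL (Fin 2 ⊕ Fin 2) F) (hx : x ∈ Cfsg.spGL 2 F) {z : F}
    (hz : (x : Matrix (Fin 2 ⊕ Fin 2) (Fin 2 ⊕ Fin 2) F) ^ 2 = z • 1)
    (hns : ∀ z : F, (x : Matrix (Fin 2 ⊕ Fin 2) (Fin 2 ⊕ Fin 2) F) ≠ z • 1) :
    ∃ g ∈ Cfsg.spGL 2 F, g⁻¹ * x * g ∈ Cfsg.Geo.subalgebraNormalizer K := by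
  classical
  obtain ⟨A, hxA⟩ : ∃ A : Matrix.symplecticGroup (Fin 2) F, toGL 2 F A = x :=
    ⟨⟨x, (mem_spGL_iff x).mp hx⟩, Units.ext rfl⟩
  rw [← hxA, toGL_val] at hz hns
  have hzz : z * z = 1 := SpDecomp.eq_one_scalar (M := A ^ 2) two_pos (by rw [SubmonoidClass.coe_pow]; exact hz)
  have hmodel := exists_square_model S hzz
  obtain ⟨B, hB2, hBns, hBN⟩ := hmodel
  have hcop : ∀ C : Matrix.symplecticGroup (Fin 2) F, (C : Matrix (Fin 2 ⊕ Fin 2) (Fin 2 ⊕ Fin 2) F) ^ 2 = z • 1 →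
      (orderOf C).Coprime p := fun C hC => by
    refine Nat.Coprime.coprime_dvd_left (orderOf_dvd_of_pow_eq_one (n := 2 ^ 2) (Subtype.ext ?_))
      (Nat.Coprime.pow_left 2 ((Nat.coprime_primes Nat.prime_two Fact.out).2 (Ne.symm hp2)))
    rw [SubmonoidClass.coe_pow, show (2 : ℕ) ^ 2 = 2 * 2 by norm_num, pow_mul, hC, _root_.smul_pow, one_pow, sq, hzz,
      one_smul, Submonoid.coe_one]
  obtain ⟨g, hg⟩ := isConj_iff.1 (SympSemisimple.isConj_of_charpoly B A (hcop B hB2) (hcop A hz)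
    (by rw [charpoly_square hp2 B hzz hB2 hBns, charpoly_square hp2 A hzz hz hns]))
  refine ⟨toGL 2 F g, toGL_mem g, ?_⟩
  rw [← hxA, ← hg, ← map_inv, ← map_mul, ← map_mul, show g⁻¹ * (g * B * g⁻¹) * g = B by group]
  exact hBN

include p in
theorem main {r d k : ℕ} [Fact r.Prime] (hd : 2 ≤ d) (hk : k.Prime)
    (K : Subalgebra F (Matrix (Fin d ⊕ Fin d) (Fin d ⊕ Fin d) F)) (hK : Cfsg.Geo.IsFieldSubalgebra k K)
    (hKf : Cfsg.Geo.IsSelfAdjointFor (Cfsg.sympForm d F) K)
    (hKalt : ∀ a ∈ K, ∀ v : Fin d ⊕ Fin d → F, Cfsg.sympForm d F (a *ᵥ v) v = 0)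
    (hΩ : r ∣ (Cfsg.Geo.subalgebraNormalizer K).relIndex (Cfsg.spGL d F)) :
    (∀ x ∈ Cfsg.spGL d F, (∃ z : F, ((x ^ r : GL (Fin d ⊕ Fin d) F) : Matrix (Fin d ⊕ Fin d) (Fin d ⊕ Fin d) F) = z • (1 : Matrix (Fin d ⊕ Fin d) (Fin d ⊕ Fin d) F)) →
      (∀ z : F, (x : Matrix (Fin d ⊕ Fin d) (Fin d ⊕ Fin d) F) ≠ z • (1 : Matrix (Fin d ⊕ Fin d) (Fin d ⊕ Fin d) F)) →
      ∃ g ∈ Cfsg.spGL d F, g⁻¹ * x * g ∈ Cfsg.Geo.subalgebraNormalizer K) ↔
    (r = 2 ∧ d = 2 ∧ k = 2 ∧ Odd (Fintype.card F)) := by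
  classical
  have hr : r.Prime := Fact.out
  have S : Ext k K := ⟨hk, hK, fun a ha u v => by rw [sympBilin_eq_sympForm, sympBilin_eq_sympForm]; exact hKf a ha u v,
    fun a ha v => by rw [sympBilin_eq_sympForm]; exact hKalt a ha v⟩
  obtain ⟨τ₀, hτ₀⟩ := S.exists_tau
  obtain ⟨e, -, hde, -⟩ := S.exists_coord τ₀ hτ₀
  have he : 0 < e := Nat.pos_of_ne_zero fun e0 => by rw [e0, mul_zero] at hde; omega
  have hkd : k ≤ d := by rw [hde]; exact Nat.le_mul_of_pos_right k he
  constructor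
  · intro H
    by_contra hcon
    have hbad : Bad r K := by
      by_cases hrp : r = p
      · subst hrp; exact transvection_bad S hd
      by_cases hr2 : r = 2
      · subst hr2
        refine involution_bad (p := p) S hd (Ne.symm hrp) ?_
        by_contra hc
        rw [not_or, not_not, not_lt] at hc
        exact hcon ⟨rfl, by omega, hc.1.symm, Nat.odd_iff.mpr (FiniteField.odd_card_of_char_ne_two (by
          rw [ringChar.eq F p]; exact Ne.symm hrp))⟩
      · exact odd_bad (p := p) S hd hr2 hrp hkd hΩ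
    obtain ⟨A, hA, hns, hno⟩ := hbad
    obtain ⟨g, hg, hy⟩ := H _ (toGL_mem A) ⟨1, by rw [Units.val_pow_eq_pow_val, toGL_val, hA, one_smul]⟩
      (fun z => by rw [toGL_val]; exact hns z)
    exact hno g hg hy
  · rintro ⟨rfl, rfl, rfl, hodd⟩ x hx ⟨z, hz⟩ hns
    refine square_fixed (p := p) S ?_ x hx (by rw [← Units.val_pow_eq_pow_val]; exact hz) hns
    intro e
    obtain ⟨n, hn⟩ := hodd
    have h1 : (Fintype.card F : F) = 0 := Nat.cast_card_eq_zero F
    rw [hn, Nat.cast_add, Nat.cast_mul, Nat.cast_one, show ((2 : ℕ) : F) = 0 by rw [← e]; exact CharP.cast_eq_zero F p,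
      zero_mul, zero_add] at h1
    exact one_ne_zero h1

end Cfsg.Lib.Classical.SpExtDer
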