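import Mathlib
import Cfsg.Agent.Classical.Symp.Maximal

set_option autoImplicit false
set_option linter.unusedVariables false
set_option linter.unusedSimpArgs false
set_option linter.unusedSectionVars false

/-! In characteristic two the orthogonal group of a quadratic form is maximal in the symplectic group. -/

namespace Cfsg.Lib.Classical

universe u v

variable {F : Type u} [Field F] {V : Type v} [AddCommGroup V] [Module F V]
  {B : LinearMap.BilinForm F V}

section

variable (h2 : (2 : F) = 0) (hsq : ∀ a : F, ∃ r : F, r ^ 2 = a)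
  {Q : V → F} (hQs : ∀ (c : F) (x : V), Q (c • x) = c ^ 2 * Q x)
  (hQp : ∀ x y, Q (x + y) = Q x + Q y + B x y)

include h2 hQs hQp

theorem qMax_sympT_apply (hA : B.IsAlt) (a : V) (c : F) (x : V) :
    Q ((sympT hA a c : V ≃ₗ[F] V) x) = Q x + c * B x a ^ 2 * (c * Q a + 1) := by
  rw [sympT_apply, hQp, hQs, map_smul, smul_eq_mul]
  ring

theorem qMax_reflection (hA : B.IsAlt) {a : V} (ha : Q a ≠ 0) (x : V) :
    Q ((sympT hA a (Q a)⁻¹ : V ≃ₗ[F] V) x) = Q x := by
  rw [qMax_sympT_apply h2 hQs hQp hA, inv_mul_cancel₀ ha, show (1 : F) + 1 = 0 by rw [one_add_one_eq_two, h2],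
    mul_zero, add_zero]

theorem qMax_singular_shift (hA : B.IsAlt) {v x : V} (hv : Q v = 0) (h : B x v ≠ 0) :
    Q (x + (Q x / B x v) • v) = 0 := by
  rw [hQp, hQs, hv, mul_zero, add_zero, map_smul, smul_eq_mul, div_mul_cancel₀ _ h, ← two_mul, h2, zero_mul]

include hsq

theorem qMax_exists_singular [FiniteDimensional F V] (hA : B.IsAlt) (hB : B.Nondegenerate)
    (hd : 3 ≤ Module.finrank F V) : ∃ v : V, v ≠ 0 ∧ Q v = 0 := by
  haveI : Nontrivial V := Module.nontrivial_of_finrank_pos (R := F) (by omega)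
  obtain ⟨a, ha⟩ := exists_ne (0 : V)
  by_cases hQa : Q a = 0
  · exact ⟨a, ha, hQa⟩
  obtain ⟨b, hb, hba⟩ := exists_orth_notMem hB (Submodule.span F {a})
    (by rw [finrank_span_singleton ha]; omega)
  obtain ⟨r, hr⟩ := hsq (Q b / Q a)
  refine ⟨b + r • a, fun h => hba ?_, ?_⟩
  · rw [eq_neg_of_add_eq_zero_left h]
    exact Submodule.neg_mem _ (Submodule.smul_mem _ _ (Submodule.mem_span_singleton_self a))
  · have hab : B b a = 0 := hA.isRefl _ _ (hb a (Submodule.mem_span_singleton_self a))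
    rw [hQp, hQs, hr, div_mul_cancel₀ _ hQa, map_smul, hab, smul_zero, add_zero, ← two_mul, h2, zero_mul]

/-- An overgroup of the isometry group of `Q` that moves `Q` is the whole symplectic group. -/
theorem qMax_eq_top [FiniteDimensional F V] (hA : B.IsAlt) (hB : B.Nondegenerate)
    (hd : 3 ≤ Module.finrank F V) {H : Subgroup (BilinIsom B)}
    (hH : ∀ g : BilinIsom B, (∀ x, Q ((g : V ≃ₗ[F] V) x) = Q x) → g ∈ H)
    {g : BilinIsom B} (hg : g ∈ H) (hgQ : ¬ ∀ x, Q ((g : V ≃ₗ[F] V) x) = Q x) : H = ⊤ := by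
  have hrefl : ∀ a, Q a ≠ 0 → sympT hA a (Q a)⁻¹ ∈ H := fun a ha =>
    hH _ (qMax_reflection h2 hQs hQp hA ha)
  obtain ⟨v₀, hv₀, hQv₀⟩ := qMax_exists_singular h2 hsq hQs hQp hA hB hd
  -- singular vectors with one transvection have all of them
  have full : ∀ v : V, v ≠ 0 → Q v = 0 → ∀ c₀ : F, c₀ ≠ 0 → sympT hA v c₀ ∈ H → v ∈ transCentres hA H := by
    intro v hv hQv c₀ hc₀ hT c
    rcases eq_or_ne c 0 with rfl | hc
    · rw [sympT_zero]; exact H.one_mem
    obtain ⟨u, hu⟩ := exists_hyperbolic_partner hB hv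
    have huv : B u v ≠ 0 := fun h => one_ne_zero (hu.symm.trans (hA.isRefl _ _ h))
    set w := u + (Q u / B u v) • v with hw
    have hQw : Q w = 0 := qMax_singular_shift h2 hQs hQp hA hQv huv
    have hvw : B v w = 1 := by rw [hw, map_add, map_smul, hA v, hu, smul_zero, add_zero]
    obtain ⟨a, ha⟩ := hsq (c / c₀)
    have ha0 : a ≠ 0 := fun h => by
      rw [h, zero_pow two_ne_zero] at ha
      exact div_ne_zero hc hc₀ ha.symm
    have hwv : B w v = 1 := by
      rw [← hA.neg_eq, hvw]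
      linear_combination -h2
    have hr1 : Q (v + w) = 1 := by rw [hQp, hQv, hQw, hvw]; simp
    have hr2 : Q (a • v + w) = a := by
      rw [hQp, hQs, hQv, hQw, map_smul, LinearMap.smul_apply, hvw]; simp
    have m1 := hrefl (v + w) (by rw [hr1]; exact one_ne_zero)
    have m2 := hrefl (a • v + w) (by rw [hr2]; exact ha0)
    have := H.mul_mem (H.mul_mem (H.mul_mem m2 m1) hT) (H.inv_mem (H.mul_mem m2 m1))
    rw [sympT_conj, BilinIsom.mul_apply'] at this
    have e1 : ((sympT hA (v + w) (Q (v + w))⁻¹ : BilinIsom B) : V ≃ₗ[F] V) v = w := by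
      rw [sympT_apply, hr1, map_add, hA v, hvw, zero_add, inv_one, one_mul, one_smul]
      linear_combination (norm := module) h2 • v
    have e2 : ((sympT hA (a • v + w) (Q (a • v + w))⁻¹ : BilinIsom B) : V ≃ₗ[F] V) w = a • v := by
      rw [sympT_apply, hr2, map_add, map_smul, hA w, hwv, add_zero, smul_eq_mul, mul_one,
        inv_mul_cancel₀ ha0, one_smul]
      linear_combination (norm := module) h2 • w
    rw [e1, e2, sympT_smul, ha, div_mul_cancel₀ _ hc₀] at this
    exact this
  -- one singular centre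
  obtain ⟨b, hb, hQb, hgb⟩ : ∃ b, b ≠ 0 ∧ Q b = 0 ∧ Q ((g : V ≃ₗ[F] V) b) ≠ 0 := by
    by_contra hc
    push Not at hc
    apply hgQ
    have hs : ∀ b, Q b = 0 → Q ((g : V ≃ₗ[F] V) b) = 0 := fun b hb => by
      rcases eq_or_ne b 0 with rfl | hb0
      · simpa using hb
      · exact hc b hb0 hb
    have hgood : ∀ x, B x v₀ ≠ 0 → Q ((g : V ≃ₗ[F] V) x) = Q x := fun x hx => by
      have h1 := qMax_singular_shift h2 hQs hQp hA hQv₀ hx
      have h3 := hs _ h1
      rw [map_add, map_smul, hQp, hQs, hs v₀ hQv₀, map_smul, BilinIsom.map_form] at h3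
      rw [hQp, hQs, hQv₀, map_smul] at h1
      linear_combination h3 - h1
    intro x
    by_cases hx : B x v₀ = 0
    · obtain ⟨u, hu⟩ := exists_hyperbolic_partner hB hv₀
      have huv : B u v₀ ≠ 0 := fun h => one_ne_zero (hu.symm.trans (hA.isRefl _ _ h))
      have h1 := hgood (x + u) (by rwa [map_add, LinearMap.add_apply, hx, zero_add])
      rw [map_add, hQp, hQp, BilinIsom.map_form, hgood u huv] at h1
      linear_combination h1
    · exact hgood x hx
  have hbC : b ∈ transCentres hA H := by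
    refine full b hb hQb _ (inv_ne_zero hgb) ?_
    have := H.mul_mem (H.mul_mem (H.inv_mem hg) (hrefl _ hgb)) hg
    have e := sympT_conj hA g⁻¹ ((g : V ≃ₗ[F] V) b) (Q ((g : V ≃ₗ[F] V) b))⁻¹
    rw [inv_inv, BilinIsom.inv_apply_self] at e
    rwa [e] at this
  -- all singular centres
  have step : ∀ v w, v ∈ transCentres hA H → Q v = 0 → Q w = 0 → B v w ≠ 0 → w ∈ transCentres hA H := by
    intro v w hv hQv hQw hvw
    have hs : Q (v + w) = B v w := by rw [hQp, hQv, hQw, zero_add, zero_add]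
    have := transCentres_map hv (hrefl (v + w) (by rwa [hs]))
    rw [sympT_apply, hs, map_add, hA v, zero_add, inv_mul_cancel₀ hvw, one_smul] at this
    rwa [show v + (v + w) = w from by linear_combination (norm := module) h2 • v] at this
  have hsing : ∀ v, Q v = 0 → v ∈ transCentres hA H := by
    intro v hQv
    rcases eq_or_ne v 0 with rfl | hv
    · exact transCentres_zero hA H
    by_cases hbv : B b v = 0
    · obtain ⟨p, hp⟩ := exists_hyperbolic_partner hB hb
      obtain ⟨p', hp'⟩ := exists_hyperbolic_partner hB hv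
      obtain ⟨x, -, hx1, hx2⟩ := exists_mem_ne_zero_pair (D := (⊤ : Submodule F V)) (f := B b) (g := B v)
        ⟨p, trivial, by rw [hp]; exact one_ne_zero⟩ ⟨p', trivial, by rw [hp']; exact one_ne_zero⟩
      have hxb : B x b ≠ 0 := fun h => hx1 (hA.isRefl _ _ h)
      have hQs' := qMax_singular_shift h2 hQs hQp hA hQb hxb
      refine step _ v (step b _ hbC hQb hQs' ?_) hQs' hQv ?_
      · rw [map_add, map_smul, hA b, smul_zero, add_zero]; exact hx1
      · rw [map_add, map_smul, LinearMap.add_apply, LinearMap.smul_apply, hbv, smul_zero, add_zero]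
        exact fun h => hx2 (hA.isRefl _ _ h)
    · exact step b v hbC hQb hQv hbv
  refine eq_top_of_transCentres hB (hA := hA) fun a => ?_
  by_cases hQa : Q a = 0
  · exact hsing a hQa
  have ha0 : a ≠ 0 := by
    rintro rfl
    exact hQa (by simpa using hQs 0 0)
  obtain ⟨p, hp⟩ := exists_hyperbolic_partner hB ha0
  obtain ⟨v, hQv, hav⟩ : ∃ v, Q v = 0 ∧ B a v ≠ 0 := by
    by_cases h : B a v₀ = 0
    · obtain ⟨q, hq⟩ := exists_hyperbolic_partner hB hv₀
      obtain ⟨x, -, hx1, hx2⟩ := exists_mem_ne_zero_pair (D := (⊤ : Submodule F V)) (f := B a) (g := B v₀)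
        ⟨p, trivial, by rw [hp]; exact one_ne_zero⟩ ⟨q, trivial, by rw [hq]; exact one_ne_zero⟩
      exact ⟨_, qMax_singular_shift h2 hQs hQp hA hQv₀ (fun e => hx2 (hA.isRefl _ _ e)),
        by rw [map_add, map_smul, h, smul_zero, add_zero]; exact hx1⟩
    · exact ⟨v₀, hQv₀, h⟩
  have hT : sympT hA v (Q a / B a v ^ 2) ∈ H := hsing v hQv _
  have h3 : Q ((sympT hA v (Q a / B a v ^ 2) : V ≃ₗ[F] V) a) = 0 := by
    rw [qMax_sympT_apply h2 hQs hQp hA, hQv, mul_zero, zero_add, mul_one,
      div_mul_cancel₀ _ (pow_ne_zero 2 hav), ← two_mul, h2, zero_mul]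
  have := transCentres_map (hsing _ h3) (H.inv_mem hT)
  rwa [BilinIsom.inv_apply_self] at this

/-- Some symplectic transvection moves `Q`. -/
theorem qMax_exists_not_isom [FiniteDimensional F V] (hA : B.IsAlt) (hB : B.Nondegenerate)
    (hd : 3 ≤ Module.finrank F V) : ∃ g : BilinIsom B, ¬ ∀ x, Q ((g : V ≃ₗ[F] V) x) = Q x := by
  obtain ⟨v, hv, hQv⟩ := qMax_exists_singular h2 hsq hQs hQp hA hB hd
  obtain ⟨u, hu⟩ := exists_hyperbolic_partner hB hv
  refine ⟨sympT hA v 1, fun h => ?_⟩
  have h1 := h u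
  rw [qMax_sympT_apply h2 hQs hQp hA, hQv, mul_zero, zero_add, mul_one, one_mul, add_eq_left,
    pow_eq_zero_iff two_ne_zero] at h1
  exact one_ne_zero (hu.symm.trans (hA.isRefl _ _ h1))

end

end Cfsg.Lib.Classical
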