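import Mathlib
import Cfsg.Agent.Classical.Symp.Maximal
import Cfsg.Agent.Classical.Symp.Standard

set_option autoImplicit false
set_option linter.unusedVariables false
set_option linter.unusedSimpArgs false
set_option linter.style.haveILetI false

/-! Orthogonal decompositions of symplectic spaces into isometric summands. -/

namespace Cfsg.Lib.Classical

universe u v

variable {F : Type u} [Field F] {V : Type v} [AddCommGroup V] [Module F V]

/-- An orthogonal decomposition into nondegenerate summands of equal dimension `k`. -/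
structure SympDecomp (B : LinearMap.BilinForm F V) {t : ℕ} (k : ℕ) (D : Fin t → Submodule F V) : Prop where
  nondeg : ∀ i, (B.restrict (D i)).Nondegenerate
  orth : ∀ i j, i ≠ j → D j ≤ B.orthogonal (D i)
  top : iSup D = ⊤
  finrank_eq : ∀ i, Module.finrank F (D i) = k
  pos : 0 < k

variable {B : LinearMap.BilinForm F V} [FiniteDimensional F V] {t k : ℕ} {D : Fin t → Submodule F V}

theorem SympDecomp.isCompl (hd : SympDecomp B k D) (hA : B.IsAlt) (i : Fin t) :
    IsCompl (D i) (B.orthogonal (D i)) :=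
  LinearMap.BilinForm.isCompl_orthogonal_of_restrict_nondegenerate hA.isRefl (hd.nondeg i)

/-- The component of a vector in `D i`. -/
noncomputable def SympDecomp.comp (hd : SympDecomp B k D) (hA : B.IsAlt) (i : Fin t) : V →ₗ[F] V :=
  (D i).subtype ∘ₗ Submodule.linearProjOfIsCompl _ _ (hd.isCompl hA i)

section

variable (hd : SympDecomp B k D) (hA : B.IsAlt)
include hd

theorem SympDecomp.comp_mem (i : Fin t) (v : V) : hd.comp hA i v ∈ D i := Subtype.coe_prop _

theorem SympDecomp.comp_self {i : Fin t} {v : V} (hv : v ∈ D i) : hd.comp hA i v = v :=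
  congrArg Subtype.val (Submodule.linearProjOfIsCompl_apply_left (hd.isCompl hA i) ⟨v, hv⟩)

theorem SympDecomp.comp_orth {i : Fin t} {v : V} (hv : v ∈ B.orthogonal (D i)) : hd.comp hA i v = 0 :=
  congrArg Subtype.val (Submodule.linearProjOfIsCompl_apply_right (hd.isCompl hA i) ⟨v, hv⟩)

theorem SympDecomp.comp_ne {i j : Fin t} (h : i ≠ j) {v : V} (hv : v ∈ D j) : hd.comp hA i v = 0 :=
  hd.comp_orth hA (hd.orth i j h hv)

theorem SympDecomp.sum_comp (v : V) : ∑ i, hd.comp hA i v = v := by
  have hv : v ∈ iSup D := by rw [hd.top]; trivial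
  induction hv using Submodule.iSup_induction' with
  | mem i x hx =>
    rw [Finset.sum_eq_single i (fun j _ hj => hd.comp_ne hA hj hx) (fun h => absurd (Finset.mem_univ i) h),
      hd.comp_self hA hx]
  | zero => simp
  | add x y _ _ h1 h2 => simp only [map_add, Finset.sum_add_distrib, h1, h2]

theorem SympDecomp.form_left (hA : B.IsAlt) {i : Fin t} {a : V} (ha : a ∈ D i) (v : V) :
    B a v = B a (hd.comp hA i v) := by
  conv_lhs => rw [← hd.sum_comp hA v]
  rw [map_sum, Finset.sum_eq_single i (fun j _ hj => hd.orth i j hj.symm (hd.comp_mem hA j v) a ha)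
    (fun h => absurd (Finset.mem_univ i) h)]

theorem SympDecomp.form_eq (x y : V) :
    B x y = ∑ i, B (hd.comp hA i x) (hd.comp hA i y) := by
  conv_lhs => rw [← hd.sum_comp hA x, map_sum, LinearMap.sum_apply]
  exact Finset.sum_congr rfl fun i _ => hd.form_left hA (hd.comp_mem hA i x) y

theorem SympDecomp.eq_of_comp {v w : V} (h : ∀ i, hd.comp hA i v = hd.comp hA i w) : v = w := by
  rw [← hd.sum_comp hA v, ← hd.sum_comp hA w]
  exact Finset.sum_congr rfl fun i _ => h i

theorem SympDecomp.exists_ne_zero (i : Fin t) : ∃ v ∈ D i, v ≠ 0 := by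
  refine Submodule.exists_mem_ne_zero_of_ne_bot fun h => ?_
  have := hd.finrank_eq i
  rw [h, finrank_bot] at this
  exact hd.pos.ne this

theorem SympDecomp.exists_partner {i : Fin t} {a : V} (ha : a ∈ D i) (ha0 : a ≠ 0) :
    ∃ b ∈ D i, B a b = 1 := by
  obtain ⟨u, hu⟩ := exists_hyperbolic_partner (hd.nondeg i) (v := (⟨a, ha⟩ : D i))
    (fun h => ha0 (congrArg Subtype.val h))
  exact ⟨u, u.2, hu⟩

theorem SympDecomp.exists_orth_partner [Finite F] (hex : ¬ (k = 2 ∧ Nat.card F = 2)) {i : Fin t} {a : V}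
    (ha : a ∈ D i) (ha0 : a ≠ 0) (hA : B.IsAlt) : ∃ b ∈ D i, b ≠ 0 ∧ b ≠ a ∧ B a b = 0 := by
  by_cases h2 : Nat.card F = 2
  · have hk2 : 2 ≤ k := by
      obtain ⟨u, hu, hau⟩ := hd.exists_partner ha ha0
      have h := Submodule.finrank_mono (show Submodule.span F ({a, u} : Set V) ≤ D i by
        rw [Submodule.span_le]; rintro z (rfl | rfl) <;> assumption)
      rwa [finrank_hyperbolic_span hA hau, hd.finrank_eq] at h
    have hk : 2 < k := by omega
    have hne : (⟨a, ha⟩ : D i) ≠ 0 := fun h => ha0 (congrArg Subtype.val h)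
    obtain ⟨w, hw, hw'⟩ := exists_orth_notMem (hd.nondeg i) (Submodule.span F {(⟨a, ha⟩ : D i)})
      (by rw [finrank_span_singleton hne, hd.finrank_eq]; omega)
    exact ⟨w, w.2, fun h => hw' (by rw [show w = 0 from Subtype.ext h]; exact Submodule.zero_mem _),
      fun h => hw' (by rw [show w = ⟨a, ha⟩ from Subtype.ext h]; exact Submodule.mem_span_singleton_self _),
      hw _ (Submodule.mem_span_singleton_self _)⟩
  · haveI := Fintype.ofFinite F
    classical
    obtain ⟨c, -, hc⟩ := Finset.exists_mem_notMem_of_card_lt_card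
      (show ({0, 1} : Finset F).card < (Finset.univ : Finset F).card by
        have h3 : ({0, 1} : Finset F).card ≤ 2 := Finset.card_le_two
        have h4 : 1 < Nat.card F := Finite.one_lt_card
        rw [Finset.card_univ, ← Nat.card_eq_fintype_card]; omega)
    simp only [Finset.mem_insert, Finset.mem_singleton, not_or] at hc
    refine ⟨c • a, (D i).smul_mem c ha, smul_ne_zero hc.1 ha0, fun h => hc.2 ?_, by simp [hA a]⟩
    exact smul_left_injective F ha0 (by simpa using h)

theorem SympDecomp.injective : Function.Injective D := by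
  intro i j h
  by_contra hij
  obtain ⟨v, hv, hv0⟩ := hd.exists_ne_zero i
  refine hv0 ?_
  have h1 := hd.nondeg i
  have : (⟨v, hv⟩ : D i) = 0 := h1.2 _ fun w => by
    have h2 : (v : V) ∈ D j := h ▸ hv
    exact hd.orth i j hij h2 w w.2
  exact congrArg Subtype.val this

theorem SympDecomp.exists_perm_isom (hA : B.IsAlt) (hB : B.Nondegenerate) (σ : Equiv.Perm (Fin t)) :
    ∃ g : BilinIsom B, ∀ i, ∀ v ∈ D i, (g : V ≃ₗ[F] V) v ∈ D (σ i) := by
  have he : ∀ i : Fin t, ∃ e : D i ≃ₗ[F] D (σ i), ∀ x y : D i, B (e x : V) (e y) = B (x : V) y := by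
    intro i
    obtain ⟨m, -, hm, -⟩ := exists_symplectic_basis_nondegenerate (B := B.restrict (D i)) (fun x => hA x)
      (hd.nondeg i)
    obtain ⟨e₁, h₁⟩ := exists_isometry_sympBilin (B := B.restrict (D i)) (fun x => hA x) (hd.nondeg i) hm
    obtain ⟨e₂, h₂⟩ := exists_isometry_sympBilin (B := B.restrict (D (σ i))) (fun x => hA x)
      (hd.nondeg (σ i)) (m := m) (by rw [hd.finrank_eq, ← hd.finrank_eq i, hm])
    refine ⟨e₁.trans e₂.symm, fun x y => ?_⟩
    have e1 := h₁ x y
    have e2 := h₂ (e₂.symm (e₁ x)) (e₂.symm (e₁ y))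
    rw [e₂.apply_symm_apply, e₂.apply_symm_apply, e1] at e2
    exact e2.symm
  choose e he using he
  let φ : V →ₗ[F] V := ∑ i, (D (σ i)).subtype ∘ₗ (e i).toLinearMap ∘ₗ
    Submodule.linearProjOfIsCompl _ _ (hd.isCompl hA i)
  have hφ : ∀ v, φ v = ∑ i, ((e i ⟨hd.comp hA i v, hd.comp_mem hA i v⟩ : D (σ i)) : V) := fun v => by
    simp [φ, SympDecomp.comp]
  have hcomp : ∀ v i, hd.comp hA (σ i) (φ v) = (e i ⟨hd.comp hA i v, hd.comp_mem hA i v⟩ : V) := by
    intro v i
    rw [hφ, map_sum, Finset.sum_eq_single i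
      (fun j _ hj => hd.comp_ne hA (fun h => hj (σ.injective h).symm) (Subtype.coe_prop _))
      (fun h => absurd (Finset.mem_univ i) h), hd.comp_self hA (Subtype.coe_prop _)]
  have hiso : ∀ x y, B (φ x) (φ y) = B x y := by
    intro x y
    rw [hd.form_eq hA (φ x) (φ y), hd.form_eq hA x y, ← Equiv.sum_comp σ]
    exact Finset.sum_congr rfl fun i _ => by rw [hcomp, hcomp, he]
  have hinj : Function.Injective φ := by
    rw [injective_iff_map_eq_zero]
    exact fun x hx => hB.1 x fun y => by rw [← hiso, hx]; simp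
  obtain ⟨g, hg⟩ := exists_sympIsom_extend hA hB (X := ⊤) (φ ∘ₗ (⊤ : Submodule F V).subtype)
    (hinj.comp Subtype.val_injective) (fun a b => hiso _ _)
  refine ⟨g, fun i v hv => ?_⟩
  rw [hg ⟨v, trivial⟩, LinearMap.comp_apply, Submodule.subtype_apply]
  have : φ v = hd.comp hA (σ i) (φ v) := hd.eq_of_comp hA fun j => by
    rcases eq_or_ne j (σ i) with rfl | hj
    · rw [hd.comp_self hA (hd.comp_mem hA _ _)]
    · obtain ⟨l, rfl⟩ := σ.surjective j
      rw [hd.comp_ne hA hj (hd.comp_mem hA _ _), hcomp]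
      have h0 := hd.comp_ne hA (show l ≠ i from fun h => hj (by rw [h])) hv
      simp [h0]
  rw [this]
  exact hd.comp_mem hA _ _

theorem SympDecomp.same_support {H : Subgroup (BilinIsom B)} (hA : B.IsAlt) (hB : B.Nondegenerate)
    (hD : ∀ i, (D i : Set V) ⊆ transCentres hA H) {x y : V} (hx : x ∈ transCentres hA H)
    (hs : ∀ i, hd.comp hA i x = 0 ↔ hd.comp hA i y = 0) : y ∈ transCentres hA H := by
  classical
  have key : ∀ s : Finset (Fin t), ∃ z ∈ transCentres hA H,
      ∀ i, hd.comp hA i z = if i ∈ s then hd.comp hA i y else hd.comp hA i x := by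
    intro s
    induction s using Finset.induction_on with
    | empty => exact ⟨x, hx, fun i => by simp⟩
    | @insert l s hl ih =>
      obtain ⟨z, hz, hzc⟩ := ih
      have hzl : hd.comp hA l z = hd.comp hA l x := by rw [hzc, if_neg hl]
      by_cases h0 : hd.comp hA l x = 0
      · refine ⟨z, hz, fun i => ?_⟩
        rcases eq_or_ne i l with rfl | hi
        · rw [if_pos (Finset.mem_insert_self _ _), hzl, h0, (hs i).mp h0]
        · simp [hzc i, hi]
      · obtain ⟨g, hg, hgl, hgo⟩ := exists_transGroupOn_move_comp hA hB (hd.nondeg l)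
          (hd.comp_mem hA l z) (hd.comp_mem hA l y) (by rwa [hzl]) (fun h => h0 ((hs l).mpr h))
        refine ⟨_, transCentres_map hz (transGroupOn_le (hD l) hg), fun i => ?_⟩
        have hrest : z - hd.comp hA l z ∈ B.orthogonal (D l) := fun w hw => by
          change B w (z - hd.comp hA l z) = 0
          rw [map_sub, hd.form_left hA hw z, sub_self]
        have : (g : V ≃ₗ[F] V) z = hd.comp hA l y + (z - hd.comp hA l z) := by
          conv_lhs => rw [← add_sub_cancel (hd.comp hA l z) z, map_add, hgl, hgo _ hrest]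
        rw [this, map_add, map_sub]
        rcases eq_or_ne i l with rfl | hi
        · rw [hd.comp_self hA (hd.comp_mem hA i y), hd.comp_self hA (hd.comp_mem hA i z)]
          simp
        · rw [hd.comp_ne hA hi (hd.comp_mem hA l y), hd.comp_ne hA hi (hd.comp_mem hA l z)]
          simp [hzc i, hi]
  obtain ⟨z, hz, hzc⟩ := key Finset.univ
  rwa [hd.eq_of_comp hA (v := y) (w := z) fun i => by rw [hzc]; simp]

theorem SympDecomp.eq_top [Finite F] (hA : B.IsAlt) (hB : B.Nondegenerate)
    (hex : ¬ (k = 2 ∧ Nat.card F = 2)) {H : Subgroup (BilinIsom B)}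
    (hD : ∀ i, (D i : Set V) ⊆ transCentres hA H)
    (hperm : ∀ σ : Equiv.Perm (Fin t), ∃ g ∈ H, ∀ i, ∀ v ∈ D i, (g : V ≃ₗ[F] V) v ∈ D (σ i))
    {g : BilinIsom B} (hgH : g ∈ H)
    (hg : ¬ ∃ σ : Equiv.Perm (Fin t), ∀ i, (D i).map (g : V ≃ₗ[F] V).toLinearMap = D (σ i)) :
    H = ⊤ := by
  classical
  refine eq_top_of_transCentres hB (hA := hA) ?_
  -- a centre with two nonzero components
  obtain ⟨x, hx, i, j, hij, hxi, hxj⟩ : ∃ x ∈ transCentres hA H, ∃ i j, i ≠ j ∧
      hd.comp hA i x ≠ 0 ∧ hd.comp hA j x ≠ 0 := by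
    by_contra hc
    push Not at hc
    apply hg
    have hs : ∀ l, ∃ i, ∀ v ∈ (D l).map (g : V ≃ₗ[F] V).toLinearMap, v ∈ D i := by
      intro l
      obtain ⟨d, hdl, hd0⟩ := hd.exists_ne_zero l
      have hgd : (g : V ≃ₗ[F] V) d ≠ 0 := (LinearEquiv.map_ne_zero_iff _).mpr hd0
      obtain ⟨i, hi⟩ : ∃ i, hd.comp hA i ((g : V ≃ₗ[F] V) d) ≠ 0 := by
        by_contra h; push Not at h; exact hgd (hd.eq_of_comp hA (w := 0) fun i => by simp [h i])
      refine ⟨i, ?_⟩
      rintro _ ⟨e, he, rfl⟩
      change (g : V ≃ₗ[F] V) e ∈ D i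
      have hone : ∀ e ∈ D l, ∀ a b, a ≠ b → hd.comp hA a ((g : V ≃ₗ[F] V) e) ≠ 0 →
          hd.comp hA b ((g : V ≃ₗ[F] V) e) = 0 :=
        fun e he a b hab ha => hc _ (transCentres_map (hD l he) hgH) a b hab ha
      have hz : ∀ a, a ≠ i → hd.comp hA a ((g : V ≃ₗ[F] V) e) = 0 := by
        intro a hai
        by_contra ha
        have h1 := hone d hdl i a hai.symm hi
        have h2 := hone e he a i hai ha
        have h3 := hone (d + e) ((D l).add_mem hdl he) i a hai.symm (by rw [map_add, map_add, h2, add_zero]; exact hi)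
        rw [map_add, map_add, h1, zero_add] at h3
        exact ha h3
      have : (g : V ≃ₗ[F] V) e = hd.comp hA i ((g : V ≃ₗ[F] V) e) := hd.eq_of_comp hA fun a => by
        rcases eq_or_ne a i with rfl | hai
        · rw [hd.comp_self hA (hd.comp_mem hA a _)]
        · rw [hz a hai, hd.comp_ne hA hai (hd.comp_mem hA i _)]
      rw [this]; exact hd.comp_mem hA i _
    choose f hf using hs
    have hmap : ∀ l, (D l).map (g : V ≃ₗ[F] V).toLinearMap = D (f l) := fun l =>
      Submodule.eq_of_le_of_finrank_le (hf l)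
        (by rw [LinearEquiv.finrank_map_eq, hd.finrank_eq, hd.finrank_eq])
    have hfi : Function.Injective f := fun a b hab =>
      hd.injective (Submodule.map_injective_of_injective (g : V ≃ₗ[F] V).injective
        (by rw [hmap, hmap, hab]))
    exact ⟨Equiv.ofBijective f ⟨hfi, Finite.injective_iff_surjective.mp hfi⟩, hmap⟩
  -- a centre with exactly two nonzero components
  set xi := hd.comp hA i x
  set xj := hd.comp hA j x
  obtain ⟨ai, hai, hxai⟩ := hd.exists_partner (hd.comp_mem hA i x) hxi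
  obtain ⟨aj, haj, haj0, hajx, hxaj⟩ := hd.exists_orth_partner hex (hd.comp_mem hA j x) hxj hA
  have hai0 : ai ≠ 0 := by rintro rfl; simp at hxai
  have haix : ai ≠ xi := by rintro rfl; rw [hA] at hxai; exact zero_ne_one hxai
  set w := (ai - xi) + (aj - xj) with hw
  have hmi : ai - xi ∈ D i := (D i).sub_mem hai (hd.comp_mem hA i x)
  have hmj : aj - xj ∈ D j := (D j).sub_mem haj (hd.comp_mem hA j x)
  have hwi : hd.comp hA i w = ai - xi := by
    rw [hw, map_add, hd.comp_self hA hmi, hd.comp_ne hA hij hmj, add_zero]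
  have hwj : hd.comp hA j w = aj - xj := by
    rw [hw, map_add, hd.comp_self hA hmj, hd.comp_ne hA hij.symm hmi, zero_add]
  have hwo : ∀ a, a ≠ i → a ≠ j → hd.comp hA a w = 0 := fun a h1 h2 => by
    rw [hw, map_add, hd.comp_ne hA h1 hmi, hd.comp_ne hA h2 hmj, add_zero]
  have hy : x + w ∈ transCentres hA H := hd.same_support hA hB hD hx fun a => by
    rw [map_add]
    rcases eq_or_ne a i with rfl | h1
    · rw [hwi, add_sub_cancel]; exact ⟨fun h => absurd h hxi, fun h => absurd h hai0⟩
    rcases eq_or_ne a j with rfl | h2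
    · rw [hwj, add_sub_cancel]; exact ⟨fun h => absurd h hxj, fun h => absurd h haj0⟩
    rw [hwo a h1 h2, add_zero]
  have hBxw : B x (x + w) = 1 := by
    rw [map_add, hA x, zero_add, hd.form_eq hA x w, Finset.sum_eq_add i j hij
      (fun a _ ha => by rw [hwo a ha.1 ha.2, map_zero]) (by simp) (by simp), hwi, hwj, map_sub, map_sub,
      hA (hd.comp hA i x), hA (hd.comp hA j x)]
    simp only [sub_zero]
    rw [hxai, hxaj, add_zero]
  have hwC : w ∈ transCentres hA H := by
    have := transCentres_span hx hy (by rw [hBxw]; exact one_ne_zero) (-1) 1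
    simpa using this
  -- every pair
  have pairs : ∀ a b, a ≠ b → ∀ p ∈ D a, ∀ r ∈ D b, p ≠ 0 → r ≠ 0 → p + r ∈ transCentres hA H := by
    intro a b hab p hp r hr hp0 hr0
    obtain ⟨σ, hσi, hσj⟩ : ∃ σ : Equiv.Perm (Fin t), σ i = a ∧ σ j = b := by
      refine ⟨(Equiv.swap i a).trans (Equiv.swap (Equiv.swap i a j) b), ?_, ?_⟩
      · simp only [Equiv.trans_apply, Equiv.swap_apply_left]
        apply Equiv.swap_apply_of_ne_of_ne
        · intro h
          apply hij
          apply (Equiv.swap i a).injective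
          simpa using h
        · exact hab
      · simp
    obtain ⟨h, hh, hhD⟩ := hperm σ
    refine hd.same_support hA hB hD (transCentres_map hwC hh) fun l => ?_
    have hgi : (h : V ≃ₗ[F] V) (ai - xi) ∈ D a := hσi ▸ hhD i _ hmi
    have hgj : (h : V ≃ₗ[F] V) (aj - xj) ∈ D b := hσj ▸ hhD j _ hmj
    rw [hw, map_add, map_add, map_add]
    rcases eq_or_ne l a with rfl | h1
    · rw [hd.comp_self hA hgi, hd.comp_ne hA hab hgj, hd.comp_self hA hp, hd.comp_ne hA hab hr]
      simp [hp0, sub_eq_zero, haix]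
    rcases eq_or_ne l b with rfl | h2
    · rw [hd.comp_ne hA hab.symm hgi, hd.comp_self hA hgj, hd.comp_ne hA hab.symm hp, hd.comp_self hA hr]
      simp [hr0, sub_eq_zero]
      exact hajx
    rw [hd.comp_ne hA h1 hgi, hd.comp_ne hA h2 hgj, hd.comp_ne hA h1 hp, hd.comp_ne hA h2 hr]
  -- every support
  suffices ∀ (s : Finset (Fin t)) (y : V), (∀ a, a ∉ s → hd.comp hA a y = 0) → y ∈ transCentres hA H from
    fun y => this Finset.univ y fun a ha => absurd (Finset.mem_univ a) ha
  intro s
  induction s using Finset.induction_on with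
  | empty =>
    intro y hy
    rw [hd.eq_of_comp hA (v := y) (w := 0) fun a => by rw [hy a (Finset.notMem_empty a), map_zero]]
    exact transCentres_zero hA H
  | @insert l s hl ih =>
    intro y hy
    set yl := hd.comp hA l y with hyl
    set z := y - yl with hz
    have hzc : ∀ a, hd.comp hA a z = if a = l then 0 else hd.comp hA a y := fun a => by
      rw [hz, map_sub]
      split_ifs with h
      · subst h; rw [hyl, hd.comp_self hA (hd.comp_mem hA a y), sub_self]
      · rw [hd.comp_ne hA h (hd.comp_mem hA l y), sub_zero]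
    have hzs : ∀ a, a ∉ s → hd.comp hA a z = 0 := fun a ha => by
      rw [hzc]; split_ifs with h
      · rfl
      · exact hy a (by simp [h, ha])
    have hzC := ih z hzs
    rcases eq_or_ne yl 0 with h0 | h0
    · rwa [hz, h0, sub_zero] at hzC
    by_cases hz0 : ∀ a, hd.comp hA a z = 0
    · have : y = yl := by
        rw [← sub_eq_zero, ← hz]
        exact hd.eq_of_comp hA fun a => by rw [hz0, map_zero]
      rw [this]; exact hD l (hd.comp_mem hA l y)
    push Not at hz0
    obtain ⟨a, ha⟩ := hz0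
    have hal : a ≠ l := fun h => ha (by rw [hzc, if_pos h])
    obtain ⟨p, hp, hzp⟩ := hd.exists_partner (hd.comp_mem hA a z) ha
    have hp0 : p ≠ 0 := by rintro rfl; simp at hzp
    have hsum := transCentres_add hzC (pairs a l hal p hp yl (hd.comp_mem hA l y) hp0 h0) (by
      rw [map_add, hA.isRefl _ _ (hd.orth l a hal.symm |>.trans le_rfl |> fun h => by
          rw [hd.form_left hA (hd.comp_mem hA l y) z, hzc, if_pos rfl, map_zero] : B yl z = 0),
        add_zero, ← neg_ne_zero, hA.neg_eq, hd.form_left hA hp z, ← hA.neg_eq, hzp]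
      exact neg_ne_zero.mpr one_ne_zero)
    refine hd.same_support hA hB hD hsum fun b => ?_
    rw [map_add, map_add, hzc]
    rcases eq_or_ne b l with rfl | hb
    · rw [if_pos rfl, hd.comp_ne hA hal.symm hp, hd.comp_self hA (hd.comp_mem hA b y)]
      simp
    rw [if_neg hb, hd.comp_ne hA hb (hd.comp_mem hA l y), add_zero]
    rcases eq_or_ne b a with rfl | hba
    · rw [hd.comp_self hA hp]
      have hne : hd.comp hA b y ≠ 0 := by rwa [hzc, if_neg hb] at ha
      refine ⟨fun h => ?_, fun h => absurd h hne⟩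
      exfalso
      have h1 : p = - hd.comp hA b z := by
        rw [hzc, if_neg hb]; exact eq_neg_of_add_eq_zero_right h
      rw [h1, map_neg, hA, neg_zero] at hzp
      exact zero_ne_one hzp
    · rw [hd.comp_ne hA hba hp, add_zero]

end

end Cfsg.Lib.Classical
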