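import Mathlib
import Cfsg.Prelude.Def_GeometricClasses
import Cfsg.Agent.Classical.MaxBridge
import Cfsg.Agent.Classical.Symp.Maximal
import Cfsg.Agent.Classical.Symp.Wreath
import Cfsg.Agent.Classical.Symp.OrthMax
import Cfsg.Agent.S5664

/-! Geometric maximal subgroups of symplectic groups in low dimension: bound-free versions of the general members. -/

set_option autoImplicit false
set_option linter.unusedVariables false
set_option linter.unusedSimpArgs false
set_option linter.style.longLine false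

open Cfsg

namespace Cfsg.Lib.Classical.SpList

theorem totally_singular {F : Type*} [Field F] [Fintype F] (m : ℕ) (hm : 1 ≤ m) (W : Submodule F (Fin m ⊕ Fin m → F)) (hW0 : W ≠ ⊥) (hW : Cfsg.Geo.IsTotallySingularFor (Cfsg.sympForm m F) W) : Cfsg.Geo.IsMaximalIn (Cfsg.spGL m F) (Cfsg.Geo.subspaceStabilizer W ⊓ Cfsg.spGL m F) := by
  refine Cfsg.Lib.Classical.isMaximalIn_of_isCoatom_comap (Cfsg.Lib.Classical.sympToGL m F)
    (Cfsg.Lib.Classical.range_sympToGL m) ?_
  have e : (Cfsg.Geo.subspaceStabilizer W).comap (Cfsg.Lib.Classical.sympToGL m F) =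
      Cfsg.Lib.Classical.subStabilizer (Cfsg.Lib.Classical.sympBilin m F) W :=
    SetLike.ext fun g => Cfsg.Lib.Classical.sympToGL_mem_subspaceStabilizer g W
  rw [e]
  refine Cfsg.Lib.Classical.isCoatom_subStabilizer_isotropic (Cfsg.Lib.Classical.sympBilin_isAlt m F)
    (Cfsg.Lib.Classical.sympBilin_nondegenerate m F) hW0 ?_
  intro w hw u hu
  change Cfsg.Lib.Classical.sympBilin m F u w = 0
  rw [Cfsg.Lib.Classical.sympBilin_eq_sympForm]
  exact hW u hu w hw

theorem nondegenerate {F : Type*} [Field F] [Fintype F] (m : ℕ) (hm : 1 ≤ m) (W : Submodule F (Fin m ⊕ Fin m → F)) (hW0 : W ≠ ⊥) (hW : Cfsg.Geo.IsNondegenerateOn (Cfsg.sympForm m F) W) (hdim : Module.finrank F W < m) : Cfsg.Geo.IsMaximalIn (Cfsg.spGL m F) (Cfsg.Geo.subspaceStabilizer W ⊓ Cfsg.spGL m F) := by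
  refine Cfsg.Lib.Classical.isMaximalIn_of_isCoatom_comap (Cfsg.Lib.Classical.sympToGL m F)
    (Cfsg.Lib.Classical.range_sympToGL m) ?_
  have e : (Cfsg.Geo.subspaceStabilizer W).comap (Cfsg.Lib.Classical.sympToGL m F) =
      Cfsg.Lib.Classical.subStabilizer (Cfsg.Lib.Classical.sympBilin m F) W :=
    SetLike.ext fun g => Cfsg.Lib.Classical.sympToGL_mem_subspaceStabilizer g W
  rw [e]
  refine Cfsg.Lib.Classical.isCoatom_subStabilizer_nondegenerate (Cfsg.Lib.Classical.sympBilin_isAlt m F)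
    (Cfsg.Lib.Classical.sympBilin_nondegenerate m F) hW0 ?_ ?_
  · refine LinearMap.BilinForm.nondegenerate_restrict_of_disjoint_orthogonal _
      (Cfsg.Lib.Classical.sympBilin_isAlt m F).isRefl ?_
    rw [Submodule.disjoint_def]
    intro w hw hwo
    by_contra hne
    obtain ⟨⟨x, hx, hxw⟩, -⟩ := hW w hw hne
    apply hxw
    rw [← Cfsg.Lib.Classical.sympBilin_eq_sympForm]
    exact hwo x hx
  · rw [Cfsg.Lib.Classical.finrank_sympSpace]; omega

theorem decomposition {F : Type*} [Field F] [Fintype F] (m : ℕ) (hm : 1 ≤ m) {t : ℕ} (k : ℕ) (D : Fin t → Submodule F (Fin m ⊕ Fin m → F)) (hD : Cfsg.Geo.IsNondegenerateMDecomposition (Cfsg.sympForm m F) k D) (hex : ¬ (k = 2 ∧ Fintype.card F = 2)) : Cfsg.Geo.IsMaximalIn (Cfsg.spGL m F) (Cfsg.Geo.decompositionStabilizer D ⊓ Cfsg.spGL m F) := by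
  have hA := Cfsg.Lib.Classical.sympBilin_isAlt m F
  have hB := Cfsg.Lib.Classical.sympBilin_nondegenerate m F
  have hd : Cfsg.Lib.Classical.SympDecomp (Cfsg.Lib.Classical.sympBilin m F) k D :=
    { nondeg := fun i => by
        refine LinearMap.BilinForm.nondegenerate_restrict_of_disjoint_orthogonal _ hA.isRefl ?_
        rw [Submodule.disjoint_def]
        intro w hw hwo
        by_contra hne
        obtain ⟨⟨x, hx, hxw⟩, -⟩ := hD.nondegenerate i w hw hne
        apply hxw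
        rw [← Cfsg.Lib.Classical.sympBilin_eq_sympForm]
        exact hwo x hx
      orth := fun i j hij v hv w hw => by
        change Cfsg.Lib.Classical.sympBilin m F w v = 0
        rw [Cfsg.Lib.Classical.sympBilin_eq_sympForm]
        exact hD.orthogonal i j hij w hw v hv
      top := hD.decomp.iSup_eq_top
      finrank_eq := hD.decomp.finrank_eq
      pos := hD.decomp.pos }
  have hex' : ¬ (k = 2 ∧ Nat.card F = 2) := by rwa [Nat.card_eq_fintype_card]
  refine Cfsg.Lib.Classical.isMaximalIn_of_isCoatom_comap (Cfsg.Lib.Classical.sympToGL m F)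
    (Cfsg.Lib.Classical.range_sympToGL m) ?_
  have hmem : ∀ g, g ∈ (Cfsg.Geo.decompositionStabilizer D).comap (Cfsg.Lib.Classical.sympToGL m F) ↔
      ∃ σ : Equiv.Perm (Fin t), ∀ i, (D i).map g.1.toLinearMap = D (σ i) :=
    fun g => Cfsg.Lib.Classical.mem_decompositionStabilizer_iff D g.1
  set M := (Cfsg.Geo.decompositionStabilizer D).comap (Cfsg.Lib.Classical.sympToGL m F)
  have hblock : ∀ i, ∀ v ∈ D i, ∀ c, Cfsg.Lib.Classical.sympT hA v c ∈ M := by
    intro i v hv c
    rw [hmem]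
    refine ⟨1, fun j => Submodule.eq_of_le_of_finrank_le ?_ ?_⟩
    · rintro _ ⟨x, hx, rfl⟩
      change (Cfsg.Lib.Classical.sympT hA v c).1 x ∈ D j
      rw [Cfsg.Lib.Classical.sympT_apply]
      rcases eq_or_ne j i with rfl | hji
      · exact (D j).add_mem hx ((D j).smul_mem _ hv)
      · have h0 : Cfsg.Lib.Classical.sympBilin m F x v = 0 := hd.orth j i hji hv x hx
        rw [h0, mul_zero, zero_smul, add_zero]; exact hx
    · rw [LinearEquiv.finrank_map_eq, Equiv.Perm.one_apply]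
  refine Cfsg.Lib.Classical.isCoatom_of_forall ?_ fun H hMH g hg hgM => ?_
  · intro htop
    let i : Fin t := ⟨0, by have := hD.decomp.two_le; omega⟩
    let j : Fin t := ⟨1, by have := hD.decomp.two_le; omega⟩
    have hij : i ≠ j := by simp [i, j]
    obtain ⟨a, ha, ha0⟩ := hd.exists_ne_zero i
    obtain ⟨b, hb, hb0⟩ := hd.exists_ne_zero j
    obtain ⟨u, hu, hau⟩ := hd.exists_partner ha ha0
    obtain ⟨σ, hσ⟩ := (hmem (Cfsg.Lib.Classical.sympT hA (a + b) 1)).mp (htop ▸ Subgroup.mem_top _)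
    have h1 : (Cfsg.Lib.Classical.sympT hA (a + b) 1).1 u ∈ D (σ i) :=
      hσ i ▸ Submodule.mem_map_of_mem hu
    rw [Cfsg.Lib.Classical.sympT_apply, one_mul] at h1
    have hua : Cfsg.Lib.Classical.sympBilin m F u a = -1 := by rw [← hA.neg_eq, hau]
    have hub : Cfsg.Lib.Classical.sympBilin m F u b = 0 := hd.orth i j hij hb u hu
    rw [map_add, hua, hub, add_zero, neg_one_smul, neg_add, ← add_assoc] at h1
    by_cases hσi : σ i = i
    · have h2 := (hd.comp_ne hA (hσi.symm ▸ hij.symm : j ≠ σ i) h1)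
      rw [map_add, map_add, map_neg, map_neg, hd.comp_ne hA hij.symm hu, hd.comp_ne hA hij.symm ha,
        hd.comp_self hA hb] at h2
      exact hb0 (by simpa using h2)
    · have h2 := hd.comp_ne hA (Ne.symm hσi) h1
      rw [map_add, map_add, map_neg, map_neg, hd.comp_self hA hu, hd.comp_self hA ha,
        hd.comp_ne hA hij hb] at h2
      have h3 : u = a := by simpa [add_neg_eq_zero] using h2
      rw [h3, hA] at hau
      exact zero_ne_one hau
  · refine hd.eq_top hA hB hex' (fun i v hv c => hMH (hblock i v hv c)) (fun σ => ?_) hg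
      (fun h => hgM ((hmem g).mpr h))
    obtain ⟨p, hp⟩ := hd.exists_perm_isom hA hB σ
    refine ⟨p, hMH ((hmem p).mpr ⟨σ, fun i => Submodule.eq_of_le_of_finrank_le ?_ ?_⟩), hp⟩
    · rintro _ ⟨x, hx, rfl⟩; exact hp i x hx
    · rw [LinearEquiv.finrank_map_eq, hd.finrank_eq, hd.finrank_eq]

theorem orthogonal {F : Type*} [Field F] [Fintype F] (m : ℕ) (hm : 2 ≤ m) (heven : ¬ Odd (Fintype.card F)) (Q : (Fin m ⊕ Fin m → F) → F) (hQ : Cfsg.Geo.IsNondegenerateQuadraticForm Q) (hpol : ∀ u v, QuadraticMap.polar Q u v = Cfsg.sympForm m F u v) : Cfsg.Geo.IsMaximalIn (Cfsg.spGL m F) (Cfsg.Geo.quadSimilarityGroup Q ⊓ Cfsg.spGL m F) := by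
  have hA := Cfsg.Lib.Classical.sympBilin_isAlt m F
  have hB := Cfsg.Lib.Classical.sympBilin_nondegenerate m F
  have hchar : ringChar F = 2 := by
    by_contra h
    exact heven (Nat.odd_iff.mpr (FiniteField.odd_card_of_char_ne_two h))
  have h2 : (2 : F) = 0 := by
    have := ringChar.Nat.cast_ringChar (R := F)
    rw [hchar] at this
    simpa using this
  have hsq : ∀ a : F, ∃ r : F, r ^ 2 = a := fun a => by
    obtain ⟨r, hr⟩ := FiniteField.isSquare_of_char_two hchar a
    exact ⟨r, by rw [hr, sq]⟩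
  have hQp : ∀ x y, Q (x + y) = Q x + Q y + Cfsg.Lib.Classical.sympBilin m F x y := fun x y => by
    rw [Cfsg.Lib.Classical.sympBilin_eq_sympForm, ← hpol, QuadraticMap.polar]
    ring
  have hd : 3 ≤ Module.finrank F (Fin m ⊕ Fin m → F) := by
    rw [Cfsg.Lib.Classical.finrank_sympSpace]; omega
  refine Cfsg.Lib.Classical.isMaximalIn_of_isCoatom_comap (Cfsg.Lib.Classical.sympToGL m F)
    (Cfsg.Lib.Classical.range_sympToGL m) ?_
  have hmem : ∀ g, g ∈ (Cfsg.Geo.quadSimilarityGroup Q).comap (Cfsg.Lib.Classical.sympToGL m F) ↔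
      ∀ x, Q (g.1 x) = Q x := by
    intro g
    change (∃ c : Fˣ, ∀ v, Q ((Cfsg.Lib.Classical.sympToGL m F g).val.mulVec v) = (c : F) * Q v) ↔ _
    simp only [Cfsg.Lib.Classical.sympToGL_mulVec]
    constructor
    · rintro ⟨c, hc⟩ x
      by_cases hc1 : (c : F) = 1
      · rw [hc, hc1, one_mul]
      exfalso
      have : Nontrivial (Fin m ⊕ Fin m → F) := Module.nontrivial_of_finrank_pos (R := F) (by omega)
      obtain ⟨v, hv⟩ := exists_ne (0 : Fin m ⊕ Fin m → F)
      obtain ⟨u, hu⟩ := Cfsg.Lib.Classical.exists_hyperbolic_partner hB hv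
      have h := hQp (g.1 v) (g.1 u)
      rw [← map_add, hc, hc, hc, g.2 v u, hQp, hu] at h
      apply hc1
      linear_combination h
    · intro h
      exact ⟨1, fun v => by rw [h, Units.val_one, one_mul]⟩
  refine Cfsg.Lib.Classical.isCoatom_of_forall ?_ fun H hMH g hg hgM => ?_
  · intro htop
    obtain ⟨g, hg⟩ := Cfsg.Lib.Classical.qMax_exists_not_isom h2 hsq hQ.smul hQp hA hB hd
    exact hg ((hmem g).mp (htop ▸ Subgroup.mem_top g))
  · exact Cfsg.Lib.Classical.qMax_eq_top h2 hsq hQ.smul hQp hA hB hd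
      (fun p hp => hMH ((hmem p).mpr hp)) hg (fun h => hgM ((hmem g).mpr h))

open Matrix Module in
theorem ext_field {F : Type*} [Field F] [Fintype F] (m : ℕ) (hm : 3 ≤ m) (r : ℕ) (hr : r.Prime) (K : Subalgebra F (Matrix (Fin m ⊕ Fin m) (Fin m ⊕ Fin m) F)) (hK : Cfsg.Geo.IsFieldSubalgebra r K) (hsa : Cfsg.Geo.IsSelfAdjointFor (Cfsg.sympForm m F) K) (halt : ∀ k ∈ K, ∀ v : (Fin m ⊕ Fin m → F), Cfsg.sympForm m F (Matrix.mulVec k v) v = 0) : Cfsg.Geo.IsMaximalIn (Cfsg.spGL m F) (Cfsg.Geo.subalgebraNormalizer K ⊓ Cfsg.spGL m F) := by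
  classical
  have hfield : IsField K :=
    ⟨⟨0, 1, fun h => by
      have h' := congrFun (congrFun (congrArg Subtype.val h) (Sum.inl ⟨0, by omega⟩)) (Sum.inl ⟨0, by omega⟩)
      simp at h'⟩, fun a b => Subtype.ext (hK.comm a a.2 b b.2), fun {a} ha => by
      obtain ⟨b, hb, hab⟩ := hK.inv a a.2 (fun h => ha (Subtype.ext h))
      exact ⟨⟨b, hb⟩, Subtype.ext hab⟩⟩
  let : Field K := hfield.toField
  let : Module K (Fin m ⊕ Fin m → F) :=
    Module.compHom (Fin m ⊕ Fin m → F) ((Matrix.toLinAlgEquiv'.toAlgHom.comp K.val).toRingHom)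
  have hsmul : ∀ (k : K) (z : Fin m ⊕ Fin m → F),
      k • z = (k : Matrix (Fin m ⊕ Fin m) (Fin m ⊕ Fin m) F) *ᵥ z := fun k z => rfl
  have hT : IsScalarTower F K (Fin m ⊕ Fin m → F) :=
    ⟨fun l k z => by rw [hsmul, hsmul, SetLike.val_smul, smul_mulVec]⟩
  have hrk : finrank F K = r := hK.finrank_eq
  have hfd : FiniteDimensional F K := .of_finrank_pos (by rw [hrk]; exact hr.pos)
  exact Cfsg.Agent.S5664.maximal_of_field (L := K) (by omega) hfd hT (fun k => (k : Matrix (Fin m ⊕ Fin m) (Fin m ⊕ Fin m) F)) hsmul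
    (fun k => k.2) (fun k hk => ⟨⟨k, hk⟩, rfl⟩) (hrk ▸ hr) hsa halt

end Cfsg.Lib.Classical.SpList
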