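import Mathlib
import Cfsg.Prelude.Def_ClassicalGeometry
import Cfsg.Agent.Classical.Symp.IsotropicDerangement
import Cfsg.Agent.Classical.Misc.InvolutionDecomp
import Cfsg.Agent.Classical.Misc.FormJordan
import Cfsg.Agent.Classical.Misc.FormJordanModels

/-! Elements of prime order of the symplectic group and invariant nondegenerate subspaces. -/

set_option autoImplicit false
set_option linter.unusedSimpArgs false
set_option linter.unusedSectionVars false
set_option linter.unusedVariables false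
set_option linter.style.haveILetI false
set_option linter.flexible false

namespace Cfsg.Lib.Classical.SpNondeg

open Cfsg.Lib.Classical Cfsg.Lib.PrimeOrderPoly Cfsg.Lib.DualPoly
open Cfsg.Lib.Classical.FormJordan Cfsg.Lib.Classical.Jordan
open Polynomial
open scoped Matrix

universe u v

variable {F : Type u} [Field F]

section General

variable {V : Type v} [AddCommGroup V] [Module F V] {B : LinearMap.BilinForm F V}

/-- An invariant nondegenerate subspace of dimension `m`. -/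
def Stab (B : LinearMap.BilinForm F V) (m : ℕ) (x : Module.End F V) : Prop :=
  ∃ W : Submodule F V, Module.finrank F W = m ∧ Nd B W ∧ ∀ w ∈ W, x w ∈ W

theorem nd_restrict (hA : B.IsAlt) {W : Submodule F V} (h : Nd B W) : (B.restrict W).Nondegenerate := by
  have key : ∀ u : W, (∀ v : W, B u.1 v.1 = 0) → u = 0 := fun u hu =>
    Subtype.ext (h u.1 u.2 fun v hv => hu ⟨v, hv⟩)
  refine ⟨fun u hu => key u hu, fun u hu => key u fun v => ?_⟩
  rw [← hA.neg_eq v.1 u.1, neg_eq_zero]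
  exact hu v

variable [FiniteDimensional F V]

theorem nd_compl (hA : B.IsAlt) (hB : B.Nondegenerate) {W : Submodule F V} (h : Nd B W) :
    IsCompl W (B.orthogonal W) ∧ Nd B (B.orthogonal W) := by
  have hc := LinearMap.BilinForm.isCompl_orthogonal_of_restrict_nondegenerate hA.isRefl (nd_restrict hA h)
  refine ⟨hc, fun u hu h' => hB.1 u fun v => ?_⟩
  obtain ⟨a, ha, b, hb, rfl⟩ := Submodule.mem_sup.mp (hc.sup_eq_top ▸ Submodule.mem_top (x := v))
  rw [map_add, h' b hb, add_zero]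
  exact hA.isRefl a u (hu a ha)

theorem orth_inv {W : Submodule F V} (x : Module.End F V) (hx : ∀ u v, B (x u) (x v) = B u v)
    (hxi : Function.Injective x) (hW : ∀ w ∈ W, x w ∈ W) : ∀ s ∈ B.orthogonal W, x s ∈ B.orthogonal W := by
  intro s hs w hw
  obtain ⟨w', hw'⟩ := LinearMap.surjective_of_injective
    (show Function.Injective (x.restrict hW) from fun a b e => Subtype.ext (hxi (congrArg Subtype.val e))) ⟨w, hw⟩
  have e : x w'.1 = w := congrArg Subtype.val hw'
  show B w (x s) = 0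
  rw [← e, hx]
  exact hs w'.1 w'.2

theorem ninv_of_inv {T : Module.End F V} {W : Submodule F V} (hW : ∀ w ∈ W, T w ∈ W) : NInv (T - 1) W :=
  fun w hw => by rw [LinearMap.sub_apply, Module.End.one_apply]; exact sub_mem (hW w hw) hw

theorem inv_of_ninv {T : Module.End F V} {W : Submodule F V} (hW : NInv (T - 1) W) : ∀ w ∈ W, T w ∈ W :=
  fun w hw => T_mem hW hw

theorem finrank_eq_sum {T : Module.End F V} {S : Submodule F V} {μ : Multiset ℕ}
    (h : ∀ j, Module.finrank F (S.map ((T - 1) ^ j)) = rk μ j) : Module.finrank F S = μ.sum := by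
  rw [← rk_zero, ← h 0, pow_zero, Module.End.one_eq_id, Submodule.map_id]

theorem stab_smul {m : ℕ} {x : Module.End F V} {z : F} (hz : z * z = 1) (h : Stab B m (z • x)) : Stab B m x := by
  obtain ⟨W, h1, h2, h3⟩ := h
  refine ⟨W, h1, h2, fun w hw => ?_⟩
  have := W.smul_mem z (h3 w hw)
  rwa [LinearMap.smul_apply, smul_smul, hz, one_smul] at this

/-- Transport along an isometry. -/
theorem stab_map {V' : Type v} [AddCommGroup V'] [Module F V'] {B' : LinearMap.BilinForm F V'} {m : ℕ}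
    {x : Module.End F V} {x' : Module.End F V'} (E : V ≃ₗ[F] V') (hE : ∀ u v, B' (E u) (E v) = B u v)
    (hx : ∀ u, x' (E u) = E (x u)) (h : Stab B m x) : Stab B' m x' := by
  obtain ⟨W, h1, h2, h3⟩ := h
  refine ⟨W.map E.toLinearMap, (LinearEquiv.finrank_map_eq E W).trans h1, ?_, ?_⟩
  · rintro _ ⟨u, hu, rfl⟩ h
    show E u = 0
    rw [h2 u hu fun v hv => (hE u v).symm.trans (h _ ⟨v, hv, rfl⟩), map_zero]
  · rintro _ ⟨u, hu, rfl⟩
    exact ⟨x u, h3 u hu, (hx u).symm⟩

end General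

section Setup

variable {d m : ℕ}

theorem toLin_iso (x : Matrix.symplecticGroup (Fin d) F) (u v : Fin d ⊕ Fin d → F) :
    sympBilin d F (Matrix.toLin' (x : Matrix (Fin d ⊕ Fin d) (Fin d ⊕ Fin d) F) u)
      (Matrix.toLin' (x : Matrix (Fin d ⊕ Fin d) (Fin d ⊕ Fin d) F) v) = sympBilin d F u v := by
  rw [Matrix.toLin'_apply, Matrix.toLin'_apply]; exact (mem_symplectic_iff_form _).1 x.2 u v

theorem toLin_injective (x : Matrix.symplecticGroup (Fin d) F) :
    Function.Injective (Matrix.toLin' (x : Matrix (Fin d ⊕ Fin d) (Fin d ⊕ Fin d) F)) :=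
  (injective_iff_map_eq_zero _).2 fun u hu =>
    (sympBilin_nondegenerate d F).1 u fun v => by rw [← toLin_iso x, hu]; simp

theorem stab_iff (x : Matrix.symplecticGroup (Fin d) F) :
    (∃ W : Submodule F (Fin d ⊕ Fin d → F), Module.finrank F ↥W = m ∧
      (∀ u ∈ W, u ≠ 0 → ∃ v ∈ W, Cfsg.sympForm d F u v ≠ 0) ∧
      W.map (Matrix.toLin' (x : Matrix (Fin d ⊕ Fin d) (Fin d ⊕ Fin d) F)) ≤ W) ↔
    Stab (sympBilin d F) m (Matrix.toLin' (x : Matrix (Fin d ⊕ Fin d) (Fin d ⊕ Fin d) F)) := by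
  refine exists_congr fun W => and_congr Iff.rfl (and_congr ⟨fun h u hu h' => ?_, fun h u hu hne => ?_⟩ ⟨fun h w hw => h ⟨w, hw, rfl⟩, fun h => ?_⟩)
  · by_contra hne
    obtain ⟨v, hv, hv'⟩ := h u hu hne
    exact hv' (by rw [← sympBilin_eq_sympForm]; exact h' v hv)
  · by_contra hall
    push Not at hall
    exact hne (h u hu fun v hv => by rw [sympBilin_eq_sympForm]; exact hall v hv)
  · rintro _ ⟨w, hw, rfl⟩
    exact h w hw

theorem z_smul_mem {z : F} (hz : z * z = 1) (x : Matrix.symplecticGroup (Fin d) F) :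
    z • (x : Matrix (Fin d ⊕ Fin d) (Fin d ⊕ Fin d) F) ∈ Matrix.symplecticGroup (Fin d) F :=
  (mem_symplectic_iff_form _).2 fun u v => by
    rw [Matrix.smul_mulVec, Matrix.smul_mulVec, map_smul, map_smul, LinearMap.smul_apply, smul_eq_mul, smul_eq_mul,
      ← mul_assoc, hz, one_mul]
    exact (mem_symplectic_iff_form _).1 x.2 u v

theorem normalise [Fintype F] {r : ℕ} (hr : Odd r) (hd : 0 < d) (x : Matrix.symplecticGroup (Fin d) F) {z : F}
    (hz : ((x ^ r : Matrix.symplecticGroup (Fin d) F) : Matrix (Fin d ⊕ Fin d) (Fin d ⊕ Fin d) F) = z • 1) :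
    ∃ y : Matrix.symplecticGroup (Fin d) F, y ^ r = 1 ∧
      (Stab (sympBilin d F) m (Matrix.toLin' (y : Matrix (Fin d ⊕ Fin d) (Fin d ⊕ Fin d) F)) →
        Stab (sympBilin d F) m (Matrix.toLin' (x : Matrix (Fin d ⊕ Fin d) (Fin d ⊕ Fin d) F))) := by
  have hzz := SpDecomp.eq_one_scalar hd hz
  refine ⟨⟨_, z_smul_mem hzz x⟩, Subtype.ext ?_, fun h => stab_smul hzz ?_⟩
  · rw [SubmonoidClass.coe_pow, _root_.smul_pow, ← SubmonoidClass.coe_pow, hz, smul_smul, Submonoid.coe_one]
    obtain ⟨k, hk⟩ := hr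
    rw [← pow_succ, hk, show 2 * k + 1 + 1 = 2 * (k + 1) by ring, pow_mul, sq, hzz, one_pow, one_smul]
  · rwa [show Matrix.toLin' (z • (x : Matrix (Fin d ⊕ Fin d) (Fin d ⊕ Fin d) F)) =
      z • Matrix.toLin' (x : Matrix (Fin d ⊕ Fin d) (Fin d ⊕ Fin d) F) from map_smul _ _ _] at h

theorem not_scalar [Fintype F] {r : ℕ} (hr : Odd r) (hd : 0 < d) {y : Matrix.symplecticGroup (Fin d) F} (hy : y ^ r = 1)
    (hne : (y : Matrix (Fin d ⊕ Fin d) (Fin d ⊕ Fin d) F) ≠ 1) (z : F) :
    (y : Matrix (Fin d ⊕ Fin d) (Fin d ⊕ Fin d) F) ≠ z • 1 := by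
  intro hz
  have hzz := SpDecomp.eq_one_scalar hd hz
  have h1 : (y : Matrix (Fin d ⊕ Fin d) (Fin d ⊕ Fin d) F) ^ r = 1 := by
    rw [← SubmonoidClass.coe_pow, hy, Submonoid.coe_one]
  rw [hz, _root_.smul_pow, one_pow] at h1
  have h2 := congrFun (congrFun h1 (Sum.inl ⟨0, hd⟩)) (Sum.inl ⟨0, hd⟩)
  simp at h2
  obtain ⟨k, hk⟩ := hr
  rw [hk, pow_succ, pow_mul, sq, hzz, one_pow, one_mul] at h2
  exact hne (by rw [hz, h2, one_smul])

end Setup

section Semisimple

variable [Fintype F] {d h : ℕ} {p r : ℕ} [Fact p.Prime] [CharP F p] [Fact r.Prime]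

open Cfsg.Lib.Classical.SpDecomp

/-- The fixed part of an invariant nondegenerate subspace. -/
theorem restrict_bound (hr2 : r ≠ 2) (hrp : r ≠ p) {i c : ℕ} (hi : i = orderOf (Fintype.card F : ZMod r)) (hi0 : 0 < i)
    (hc : c = if Even i then i else 2 * i) {e : ℕ} {P : F[X]} (hP : P.eval 1 ≠ 0)
    (y : Matrix.symplecticGroup (Fin d) F) (hy : y ^ r = 1)
    (hf : (y : Matrix (Fin d ⊕ Fin d) (Fin d ⊕ Fin d) F).charpoly = (X - C 1) ^ e * P)
    (hW : Stab (sympBilin d F) (2 * h) (Matrix.toLin' (y : Matrix (Fin d ⊕ Fin d) (Fin d ⊕ Fin d) F))) :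
    (2 * h) % c ≤ e := by
  classical
  obtain ⟨W, hWd, hWn, hWi⟩ := hW
  set x := Matrix.toLin' (y : Matrix (Fin d ⊕ Fin d) (Fin d ⊕ Fin d) F) with hxdef
  have hA := sympBilin_isAlt d F
  obtain ⟨E, hE⟩ := exists_isometry_sympBilin (B := (sympBilin d F).restrict W) (fun v => hA _) (nd_restrict hA hWn) hWd
  let φ : Module.End F (Fin h ⊕ Fin h → F) := E.conj (x.restrict hWi)
  have hφ : ∀ u, φ (E u) = E (x.restrict hWi u) := fun u => by simp [φ, LinearEquiv.conj_apply_apply]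
  let A : Matrix.symplecticGroup (Fin h) F := ⟨LinearMap.toMatrix' φ, (mem_symplectic_iff_form _).2 fun a b => by
    obtain ⟨a, rfl⟩ := E.surjective a
    obtain ⟨b, rfl⟩ := E.surjective b
    rw [LinearMap.toMatrix'_mulVec, LinearMap.toMatrix'_mulVec, hφ, hφ, hE, hE]
    exact toLin_iso y a.1 b.1⟩
  have hAl : Matrix.toLin' (A : Matrix (Fin h ⊕ Fin h) (Fin h ⊕ Fin h) F) = φ := Matrix.toLin'_toMatrix' φ
  have hxr : x ^ r = 1 := by
    rw [hxdef, ← Matrix.toLin'_pow, ← SubmonoidClass.coe_pow, hy, Submonoid.coe_one, Matrix.toLin'_one]; rfl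
  have hAr : (A : Matrix (Fin h ⊕ Fin h) (Fin h ⊕ Fin h) F) ^ r = 1 := Matrix.toLin'.injective (by
    rw [Matrix.toLin'_pow, hAl, Matrix.toLin'_one]
    refine LinearMap.ext fun a => ?_
    obtain ⟨a, rfl⟩ := E.surjective a
    have hp : ∀ k : ℕ, (φ ^ k) (E a) = E ((x.restrict hWi ^ k) a) := fun k => by
      induction k with
      | zero => simp
      | succ k ih => rw [pow_succ', pow_succ', Module.End.mul_apply, Module.End.mul_apply, ih, hφ]
    rw [hp]
    refine congrArg E (Subtype.ext ?_)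
    rw [Module.End.pow_restrict _ hWi, LinearMap.coe_restrict_apply, hxr]
    rfl)
  obtain ⟨e₁, L₁, hL₁, hf₁⟩ := exists_atoms hr2 hrp hi hi0 hc _ _ (Matrix.charpoly_monic _) rfl
    (DualCount.factors_of_pow_eq_one _ hAr) (dual_charpoly A)
  obtain ⟨h1, h2, -, -, -⟩ := atoms_facts hL₁
  have hdeg : e₁ + c * L₁.card = 2 * h := by
    have := congrArg natDegree hf₁
    rw [Matrix.charpoly_natDegree_eq_dim, ((monic_X_sub_C 1).pow e₁).natDegree_mul h1,
      (monic_X_sub_C 1).natDegree_pow, natDegree_X_sub_C, mul_one, h2] at this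
    simp at this
    omega
  have hle : e₁ ≤ e := by
    obtain ⟨C', hC', hcompl⟩ := PrimeOrd.exists_compl
      (PrimeOrd.semisimple (c := (1 : F)) (cast_prime_ne_zero (Fact.out : r.Prime) hrp) one_ne_zero
        (by rw [hxr, one_smul])) (show PrimeOrd.Inv x W from hWi)
    have hdvd : (X - C (1 : F)) ^ e₁ ∣ x.charpoly := by
      rw [SemisimpleSimilar.charpoly_eq_of_isCompl x hWi hC' hcompl]
      refine dvd_mul_of_dvd_left ?_ _
      rw [show (PrimeOrd.res x (show PrimeOrd.Inv x W from hWi)).charpoly = φ.charpoly from (E.charpoly_conj _).symm, ← hAl, Matrix.charpoly_toLin', hf₁]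
      exact dvd_mul_right _ _
    rw [hxdef, Matrix.charpoly_toLin', hf] at hdvd
    have hne : (X - C (1 : F)) ^ e * P ≠ 0 :=
      mul_ne_zero (pow_ne_zero _ (monic_X_sub_C 1).ne_zero) (fun e0 => hP (by rw [e0, eval_zero]))
    have := (le_rootMultiplicity_iff hne).mpr hdvd
    rwa [rootMultiplicity_mul hne, rootMultiplicity_X_sub_C_pow, rootMultiplicity_eq_zero hP, add_zero] at this
  rw [← hdeg, Nat.add_mul_mod_self_left]
  exact (Nat.mod_le _ _).trans hle

include p in
/-- A model with a prescribed invariant subspace. -/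
theorem stable_two (hrp : r ≠ p) {h' : ℕ} (hd : h + h' = d) (A₁ : Matrix.symplecticGroup (Fin h) F)
    (A₂ : Matrix.symplecticGroup (Fin h') F) (hA₁ : A₁ ^ r = 1) (hA₂ : A₂ ^ r = 1)
    (y : Matrix.symplecticGroup (Fin d) F) (hy : y ^ r = 1)
    (hf : (y : Matrix (Fin d ⊕ Fin d) (Fin d ⊕ Fin d) F).charpoly =
      (A₁ : Matrix (Fin h ⊕ Fin h) (Fin h ⊕ Fin h) F).charpoly * (A₂ : Matrix (Fin h' ⊕ Fin h') (Fin h' ⊕ Fin h') F).charpoly) :
    Stab (sympBilin d F) (2 * h) (Matrix.toLin' (y : Matrix (Fin d ⊕ Fin d) (Fin d ⊕ Fin d) F)) := by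
  classical
  let B : LinearMap.BilinForm F ((Fin h ⊕ Fin h → F) × (Fin h' ⊕ Fin h' → F)) :=
    (sympBilin h F).compl₁₂ (LinearMap.fst F _ _) (LinearMap.fst F _ _) +
      (sympBilin h' F).compl₁₂ (LinearMap.snd F _ _) (LinearMap.snd F _ _)
  have hBa : ∀ u v, B u v = sympBilin h F u.1 v.1 + sympBilin h' F u.2 v.2 := fun u v => by simp [B]
  have hBA : B.IsAlt := fun u => by
    rw [hBa, sympBilin_isAlt h F u.1, sympBilin_isAlt h' F u.2, add_zero]
  have key : ∀ u, (∀ v, B u v = 0) → u = 0 := fun u hu => Prod.ext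
    ((sympBilin_nondegenerate h F).1 u.1 fun v => by simpa [hBa] using hu (v, 0))
    ((sympBilin_nondegenerate h' F).1 u.2 fun v => by simpa [hBa] using hu (0, v))
  have hBn : B.Nondegenerate := ⟨key, fun u hu => key u fun v => by rw [← hBA.neg_eq v u, hu v, neg_zero]⟩
  obtain ⟨E, hE⟩ := exists_isometry_sympBilin hBA hBn (m := d)
    (by rw [Module.finrank_prod, finrank_sympSpace, finrank_sympSpace, ← hd]; ring)
  let T : Module.End F ((Fin h ⊕ Fin h → F) × (Fin h' ⊕ Fin h' → F)) :=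
    (Matrix.toLin' (A₁ : Matrix (Fin h ⊕ Fin h) (Fin h ⊕ Fin h) F)).prodMap
      (Matrix.toLin' (A₂ : Matrix (Fin h' ⊕ Fin h') (Fin h' ⊕ Fin h') F))
  have hT : ∀ u v, B (T u) (T v) = B u v := fun u v => by
    rw [hBa, hBa]
    show sympBilin h F (Matrix.toLin' _ u.1) (Matrix.toLin' _ v.1) + sympBilin h' F (Matrix.toLin' _ u.2) (Matrix.toLin' _ v.2) = _
    rw [toLin_iso, toLin_iso]
  let φ := E.conj T
  have hφ : ∀ u, φ (E u) = E (T u) := fun u => by simp [φ, LinearEquiv.conj_apply_apply]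
  let A : Matrix.symplecticGroup (Fin d) F := ⟨LinearMap.toMatrix' φ, (mem_symplectic_iff_form _).2 fun a b => by
    obtain ⟨a, rfl⟩ := E.surjective a
    obtain ⟨b, rfl⟩ := E.surjective b
    rw [LinearMap.toMatrix'_mulVec, LinearMap.toMatrix'_mulVec, hφ, hφ, hE, hE, hT]⟩
  have hAl : Matrix.toLin' (A : Matrix (Fin d ⊕ Fin d) (Fin d ⊕ Fin d) F) = φ := Matrix.toLin'_toMatrix' φ
  have hpr : ∀ {n : ℕ} (M : Matrix.symplecticGroup (Fin n) F), M ^ r = 1 → ∀ v,
      (Matrix.toLin' (M : Matrix (Fin n ⊕ Fin n) (Fin n ⊕ Fin n) F) ^ r) v = v := fun M hM v => by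
    rw [← Matrix.toLin'_pow, ← SubmonoidClass.coe_pow, hM, Submonoid.coe_one, Matrix.toLin'_one]; rfl
  have hAr : A ^ r = 1 := Subtype.ext (Matrix.toLin'.injective (by
    rw [SubmonoidClass.coe_pow, Matrix.toLin'_pow, hAl, Submonoid.coe_one, Matrix.toLin'_one]
    refine LinearMap.ext fun a => ?_
    obtain ⟨a, rfl⟩ := E.surjective a
    have hp : ∀ k : ℕ, (φ ^ k) (E a) = E ((Matrix.toLin' (A₁ : Matrix _ _ F) ^ k) a.1, (Matrix.toLin' (A₂ : Matrix _ _ F) ^ k) a.2) := fun k => by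
      induction k with
      | zero => simp
      | succ k ih =>
        rw [pow_succ', pow_succ', pow_succ', Module.End.mul_apply, ih, hφ]
        rfl
    rw [hp, hpr A₁ hA₁, hpr A₂ hA₂]
    rfl))
  obtain ⟨g, hg⟩ := isConj_iff.1 (SympSemisimple.isConj_of_charpoly A y (coprime_of_pow (p := p) hrp hAr)
    (coprime_of_pow (p := p) hrp hy) (by
      rw [← Matrix.charpoly_toLin', hAl, LinearEquiv.charpoly_conj, LinearMap.charpoly_prodMap, Matrix.charpoly_toLin',
        Matrix.charpoly_toLin', hf]))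
  have hstab : Stab B (2 * h) T := by
    refine ⟨LinearMap.range (LinearMap.inl F _ _), ?_, ?_, ?_⟩
    · rw [LinearMap.finrank_range_of_inj LinearMap.inl_injective, finrank_sympSpace]
    · rintro _ ⟨u, rfl⟩ hu
      rw [(sympBilin_nondegenerate h F).1 u fun v => by simpa [hBa] using hu (v, 0) ⟨v, rfl⟩, map_zero]
    · rintro _ ⟨u, rfl⟩
      exact ⟨Matrix.toLin' (A₁ : Matrix _ _ F) u, by simp [T]⟩
  refine stab_map (E ≪≫ₗ (toIsom g).1) (fun u v => ?_) (fun u => ?_) hstab
  · exact (BilinIsom.map_form (toIsom g) _ _).trans (hE u v)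
  · rw [LinearEquiv.trans_apply, LinearEquiv.trans_apply, toIsom_apply, toIsom_apply, Matrix.toLin'_apply,
      Matrix.mulVec_mulVec,
      show (y : Matrix (Fin d ⊕ Fin d) (Fin d ⊕ Fin d) F) * g = (g : Matrix (Fin d ⊕ Fin d) (Fin d ⊕ Fin d) F) * A by
        rw [← Submonoid.coe_mul, ← Submonoid.coe_mul, ← hg, inv_mul_cancel_right],
      ← Matrix.mulVec_mulVec, ← hφ, ← hAl, Matrix.toLin'_apply]

/-- The semisimple case of odd order. -/
theorem odd_case (hd : 2 ≤ d) (hh : 1 ≤ h) (hhd : 2 * h < d) (hr2 : r ≠ 2) (hrp : r ≠ p)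
    (hdv : r ∣ ∏ j ∈ Finset.range h, (Fintype.card F ^ (2 * (d - j)) - 1))
    (i c : ℕ) (hi : i = orderOf (Fintype.card F : ZMod r)) (hc : c = if Even i then i else 2 * i) :
    (∀ x : Matrix.symplecticGroup (Fin d) F,
      (∃ z : F, ((x ^ r : Matrix.symplecticGroup (Fin d) F) : Matrix (Fin d ⊕ Fin d) (Fin d ⊕ Fin d) F) = z • 1) →
      (∀ z : F, (x : Matrix (Fin d ⊕ Fin d) (Fin d ⊕ Fin d) F) ≠ z • 1) →
      Stab (sympBilin d F) (2 * h) (Matrix.toLin' (x : Matrix (Fin d ⊕ Fin d) (Fin d ⊕ Fin d) F))) ↔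
    (c ≤ 2 * h ∧ (2 * h) % c ≤ (2 * d) % c) := by
  classical
  have hr : r.Prime := Fact.out
  have hodd : Odd r := hr.odd_of_ne_two hr2
  have hi0 : 0 < i := hi ▸ PrimeOrd.ord_pos (PrimeOrd.not_dvd_card hr hrp)
  have hc0 : 0 < c := by rw [hc]; split_ifs <;> omega
  have hcev : Even c := by
    rw [hc]; split_ifs with he
    · exact he
    · exact even_two_mul i
  obtain ⟨hcd, hemod⟩ := SpIso.count_facts hr2 (by omega : h ≤ d) hi hc hdv
  have hdm := Nat.div_add_mod (2 * d) c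
  have hmm := Nat.div_add_mod (2 * h) c
  constructor
  · intro H
    obtain ⟨g, hg⟩ : (factorSet F r).Nonempty := by
      rw [Finset.nonempty_iff_ne_empty]
      intro e
      have := card_factorSet (F := F) (p := p) (r := r) hrp
      rw [e, Finset.card_empty, zero_mul] at this
      have := hr.two_le
      omega
    obtain ⟨u, hu, -, -⟩ := atom_of_factor hr2 hrp hi hi0 hc hg
    have hL : ∀ v ∈ Multiset.replicate (2 * d / c) u, Atom r c v := fun v hv => Multiset.eq_of_mem_replicate hv ▸ hu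
    obtain ⟨-, hdeg, -, -, heval⟩ := atoms_facts hL
    obtain ⟨y, hy, hyc⟩ := exists_elt (p := p) hr2 hL (n := d) (e := (2 * d) % c)
      (by rw [Multiset.card_replicate]; omega)
    have hne : (y : Matrix (Fin d ⊕ Fin d) (Fin d ⊕ Fin d) F) ≠ 1 := by
      intro e
      rw [e, Matrix.charpoly_one, Fintype.card_sum, Fintype.card_fin, ← two_mul, ← map_one (C : F →+* F[X]),
        show (X - C (1 : F)) ^ (2 * d) = (X - C (1 : F)) ^ (2 * d % c) * (X - C (1 : F)) ^ (c * (2 * d / c)) by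
          rw [← pow_add, Nat.mod_add_div]] at hyc
      have hK : 0 < c * (2 * d / c) := Nat.mul_pos hc0 (Nat.div_pos hcd hc0)
      refine heval ?_
      rw [← mul_left_cancel₀ (pow_ne_zero _ (monic_X_sub_C (1 : F)).ne_zero) hyc, eval_pow, eval_sub, eval_X, eval_C,
        sub_self, zero_pow hK.ne']
    have hk := restrict_bound hr2 hrp hi hi0 hc heval y hy hyc
      (H y ⟨1, by rw [hy, Submonoid.coe_one, one_smul]⟩ (not_scalar hodd (by omega) hy hne))
    refine ⟨?_, hk⟩
    by_contra hlt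
    rw [Nat.mod_eq_of_lt (not_le.mp hlt)] at hk
    omega
  · rintro ⟨hch, hcond⟩ x ⟨z, hz⟩ -
    obtain ⟨y, hy, himp⟩ := normalise (m := 2 * h) hodd (by omega) x hz
    apply himp
    have hyM : (y : Matrix (Fin d ⊕ Fin d) (Fin d ⊕ Fin d) F) ^ r = 1 := by
      rw [← SubmonoidClass.coe_pow, hy, Submonoid.coe_one]
    obtain ⟨e, L, hL, hf⟩ := exists_atoms hr2 hrp hi hi0 hc _ _ (Matrix.charpoly_monic _) rfl
      (DualCount.factors_of_pow_eq_one _ hyM) (dual_charpoly y)
    obtain ⟨h1, h2, -, -, -⟩ := atoms_facts hL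
    have hdeg : e + c * L.card = 2 * d := by
      have := congrArg natDegree hf
      rw [Matrix.charpoly_natDegree_eq_dim, ((monic_X_sub_C 1).pow e).natDegree_mul h1, (monic_X_sub_C 1).natDegree_pow,
        natDegree_X_sub_C, mul_one, h2] at this
      simp at this
      omega
    have hemin : (2 * d) % c ≤ e := by
      rw [← hdeg, Nat.add_mul_mod_self_left]; exact Nat.mod_le _ _
    obtain ⟨A, B, hAB, hAc⟩ := SpIso.exists_split L (j := min ((2 * h) / c) L.card) (min_le_right _ _)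
    have hcA : c * A.card ≤ 2 * h ∧ 2 * h - c * A.card ≤ e := by
      rw [hAc]
      rcases le_total ((2 * h) / c) L.card with hle | hle
      · rw [min_eq_left hle]; omega
      · rw [min_eq_right hle]
        have := Nat.mul_le_mul_left c hle
        omega
    have hLc : c * L.card = c * A.card + c * B.card := by rw [← hAB, Multiset.card_add, mul_add]
    obtain ⟨cc, hcc⟩ := hcev
    obtain ⟨A₁, hA₁, hA₁c⟩ := exists_elt (p := p) hr2 (fun v hv => hL v (by rw [← hAB]; exact Multiset.mem_add.mpr (Or.inl hv)))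
      (n := h) (e := 2 * h - c * A.card) (by omega)
    obtain ⟨A₂, hA₂, hA₂c⟩ := exists_elt (p := p) hr2 (fun v hv => hL v (by rw [← hAB]; exact Multiset.mem_add.mpr (Or.inr hv)))
      (n := d - h) (e := e - (2 * h - c * A.card)) (by omega)
    refine stable_two (p := p) hrp (by omega) A₁ A₂ hA₁ hA₂ y hy ?_
    rw [hA₁c, hA₂c, hf, ← hAB, Multiset.prod_add]
    conv_lhs => rw [show e = (2 * h - c * A.card) + (e - (2 * h - c * A.card)) by omega, pow_add]
    ring

end Semisimple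

section Counting

variable [Fintype F] {d h : ℕ}

/-- The number of nondegenerate subspaces. -/
theorem count_dvd {r : ℕ} [Fact r.Prime] {p : ℕ} [Fact p.Prime] [CharP F p] (hrp : r ≠ p) (hhd : h ≤ d)
    (hΩ : r ∣ Nat.card {W : Submodule F (Fin d ⊕ Fin d → F) // Module.finrank F ↥W = 2 * h ∧
      (∀ u ∈ W, u ≠ 0 → ∃ v ∈ W, Cfsg.sympForm d F u v ≠ 0)}) :
    r ∣ ∏ j ∈ Finset.range h, (Fintype.card F ^ (2 * (d - j)) - 1) := by
  classical
  set V := Fin d ⊕ Fin d → F
  have hA := sympBilin_isAlt d F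
  have hB := sympBilin_nondegenerate d F
  have hd2 := finrank_sympSpace d F
  set Ω := {W : Submodule F V // Module.finrank F ↥W = 2 * h ∧
      (∀ u ∈ W, u ≠ 0 → ∃ v ∈ W, Cfsg.sympForm d F u v ≠ 0)}
  have hnd : ∀ W : Ω, Nd (sympBilin d F) W.1 := fun W u hu h' => by
    by_contra hne
    obtain ⟨v, hv, hv'⟩ := W.2.2 u hu hne
    exact hv' (by rw [← sympBilin_eq_sympForm]; exact h' v hv)
  have hperp : ∀ W : Ω, Module.finrank F ((sympBilin d F).orthogonal W.1) = 2 * (d - h) := fun W => by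
    rw [LinearMap.BilinForm.finrank_orthogonal hB, W.2.1, hd2]; omega
  obtain ⟨W₀⟩ : Nonempty Ω := by
    obtain ⟨W, hW1, hW2, -⟩ := (stab_iff (m := 2 * h) (1 : Matrix.symplecticGroup (Fin d) F)).mpr
      (stable_two (p := p) (r := r) hrp (Nat.add_sub_cancel' hhd) (1 : Matrix.symplecticGroup (Fin h) F)
        (1 : Matrix.symplecticGroup (Fin (d - h)) F) (one_pow r) (one_pow r) 1 (one_pow r) (by
        simp only [Submonoid.coe_one, Matrix.charpoly_one, Fintype.card_sum, Fintype.card_fin]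
        rw [← pow_add]; congr 1; omega))
    exact ⟨⟨W, hW1, hW2⟩⟩
  haveI : Finite Ω := inferInstance
  letI : MulAction (BilinIsom (sympBilin d F)) Ω :=
    { smul := fun g W => ⟨W.1.map g.1.toLinearMap, (LinearEquiv.finrank_map_eq g.1 W.1).trans W.2.1, by
        rintro _ ⟨u, hu, rfl⟩ hne
        obtain ⟨v, hv, hv'⟩ := W.2.2 u hu (fun e => hne (by rw [e]; exact map_zero _))
        refine ⟨_, ⟨v, hv, rfl⟩, ?_⟩
        rw [← sympBilin_eq_sympForm] at hv' ⊢
        exact fun e => hv' (by rw [← BilinIsom.map_form g]; exact e)⟩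
      one_smul := fun W => Subtype.ext (Submodule.map_id _)
      mul_smul := fun g g' W => Subtype.ext (Submodule.map_comp _ _ _) }
  haveI : Finite (BilinIsom (sympBilin d F)) := Finite.of_equiv _ (sympEquiv d F).toEquiv
  haveI : MulAction.IsPretransitive (BilinIsom (sympBilin d F)) Ω := ⟨fun W W' => by
    have hc := (nd_compl hA hB (hnd W)).1
    have hc' := (nd_compl hA hB (hnd W')).1
    obtain ⟨e₁, he₁⟩ := exists_isometry_sympBilin (B := (sympBilin d F).restrict W.1) (fun x => hA _)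
      (nd_restrict hA (hnd W)) W.2.1
    obtain ⟨e₁', he₁'⟩ := exists_isometry_sympBilin (B := (sympBilin d F).restrict W'.1) (fun x => hA _)
      (nd_restrict hA (hnd W')) W'.2.1
    obtain ⟨e₂, he₂⟩ := exists_isometry_sympBilin (B := (sympBilin d F).restrict ((sympBilin d F).orthogonal W.1))
      (fun x => hA _) (nd_restrict hA (nd_compl hA hB (hnd W)).2) (hperp W)
    obtain ⟨e₂', he₂'⟩ := exists_isometry_sympBilin (B := (sympBilin d F).restrict ((sympBilin d F).orthogonal W'.1))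
      (fun x => hA _) (nd_restrict hA (nd_compl hA hB (hnd W')).2) (hperp W')
    let g : V ≃ₗ[F] V := (Submodule.prodEquivOfIsCompl _ _ hc).symm ≪≫ₗ
      ((e₁ ≪≫ₗ e₁'.symm).prodCongr (e₂ ≪≫ₗ e₂'.symm)) ≪≫ₗ Submodule.prodEquivOfIsCompl _ _ hc'
    have hg : ∀ (a : W.1) (b : (sympBilin d F).orthogonal W.1),
        g (a.1 + b.1) = (e₁'.symm (e₁ a)).1 + (e₂'.symm (e₂ b)).1 := fun a b => by
      have : (Submodule.prodEquivOfIsCompl _ _ hc).symm (a.1 + b.1) = (a, b) := by
        rw [LinearEquiv.symm_apply_eq]; rfl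
      simp [g, this]
    refine ⟨⟨g, fun u v => ?_⟩, Subtype.ext ?_⟩
    · obtain ⟨⟨a, b⟩, rfl⟩ := (Submodule.prodEquivOfIsCompl _ _ hc).surjective u
      obtain ⟨⟨a', b'⟩, rfl⟩ := (Submodule.prodEquivOfIsCompl _ _ hc).surjective v
      rw [Submodule.coe_prodEquivOfIsCompl', Submodule.coe_prodEquivOfIsCompl', hg, hg]
      have k1 : sympBilin d F (e₁'.symm (e₁ a)).1 (e₁'.symm (e₁ a')).1 = sympBilin d F a.1 a'.1 := by
        have := he₁' (e₁'.symm (e₁ a)) (e₁'.symm (e₁ a'))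
        rw [LinearEquiv.apply_symm_apply, LinearEquiv.apply_symm_apply, he₁] at this
        exact this.symm
      have k2 : sympBilin d F (e₂'.symm (e₂ b)).1 (e₂'.symm (e₂ b')).1 = sympBilin d F b.1 b'.1 := by
        have := he₂' (e₂'.symm (e₂ b)) (e₂'.symm (e₂ b'))
        rw [LinearEquiv.apply_symm_apply, LinearEquiv.apply_symm_apply, he₂] at this
        exact this.symm
      have hz : ∀ (X : Submodule F V) (a : X) (b : (sympBilin d F).orthogonal X),
          sympBilin d F a.1 b.1 = 0 ∧ sympBilin d F b.1 a.1 = 0 :=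
        fun X a b => ⟨b.2 a.1 a.2, hA.isRefl _ _ (b.2 a.1 a.2)⟩
      simp only [map_add, LinearMap.add_apply, k1, k2, (hz _ a b').1, (hz _ a' b).2,
        (hz _ (e₁'.symm (e₁ a)) (e₂'.symm (e₂ b'))).1, (hz _ (e₁'.symm (e₁ a')) (e₂'.symm (e₂ b))).2]
    · refine Submodule.eq_of_le_of_finrank_eq ?_ ((LinearEquiv.finrank_map_eq g W.1).trans (W.2.1.trans W'.2.1.symm))
      rintro _ ⟨u, hu, rfl⟩
      show g u ∈ W'.1
      have := hg ⟨u, hu⟩ 0
      rw [Submodule.coe_zero, add_zero, map_zero, map_zero, Submodule.coe_zero, add_zero] at this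
      rw [this]
      exact Subtype.coe_prop _⟩
  have hstab : MulAction.stabilizer (BilinIsom (sympBilin d F)) W₀ = subStabilizer (sympBilin d F) W₀.1 := by
    ext g
    rw [MulAction.mem_stabilizer_iff]
    constructor
    · intro e x
      have e' : W₀.1.map g.1.toLinearMap = W₀.1 := congrArg Subtype.val e
      constructor
      · intro hx; rw [← e']; exact ⟨x, hx, rfl⟩
      · intro hx
        rw [← e'] at hx
        obtain ⟨y, hy, hxy⟩ := hx
        rwa [← g.1.injective hxy]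
    · intro hg
      refine Subtype.ext (Submodule.eq_of_le_of_finrank_eq ?_ (LinearEquiv.finrank_map_eq g.1 W₀.1))
      rintro _ ⟨u, hu, rfl⟩
      exact (hg u).mp hu
  have hidx := Subgroup.index_mul_card (MulAction.stabilizer (BilinIsom (sympBilin d F)) W₀)
  rw [MulAction.index_stabilizer_of_transitive, hstab,
    Nat.card_congr (subStabilizerEquiv hA.isRefl W₀.1 (nd_compl hA hB (hnd W₀)).1).toEquiv, Nat.card_prod,
    card_bilinIsom_symplectic (B := (sympBilin d F).restrict W₀.1) h (fun x => hA _) (nd_restrict hA (hnd W₀)) W₀.2.1,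
    card_bilinIsom_symplectic (B := (sympBilin d F).restrict ((sympBilin d F).orthogonal W₀.1)) (d - h) (fun x => hA _)
      (nd_restrict hA (nd_compl hA hB (hnd W₀)).2) (hperp W₀),
    card_bilinIsom_symplectic d hA hB hd2, Nat.card_eq_fintype_card (α := F)] at hidx
  set q := Fintype.card F
  have hsplit : ∏ i ∈ Finset.range d, (q ^ (2 * (i + 1)) - 1) =
      (∏ i ∈ Finset.range (d - h), (q ^ (2 * (i + 1)) - 1)) * ∏ j ∈ Finset.range h, (q ^ (2 * (d - j)) - 1) := by
    conv_lhs => rw [show d = (d - h) + h by omega, Finset.prod_range_add]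
    congr 1
    rw [← Finset.prod_range_reflect]
    refine Finset.prod_congr rfl fun j hj => ?_
    rw [Finset.mem_range] at hj
    congr 3
    omega
  have hpos : 0 < ∏ i ∈ Finset.range (d - h), (q ^ (2 * (i + 1)) - 1) := Finset.prod_pos fun i _ => by
    have : 1 < q ^ (2 * (i + 1)) := Nat.one_lt_pow (by omega) Fintype.one_lt_card
    omega
  have hr : r.Prime := Fact.out
  have hdvd : r ∣ q ^ (d ^ 2) * ∏ j ∈ Finset.range h, (q ^ (2 * (d - j)) - 1) := by
    refine hΩ.trans (Nat.dvd_of_mul_dvd_mul_right hpos ?_)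
    refine Dvd.intro (q ^ (h ^ 2) * (∏ i ∈ Finset.range h, (q ^ (2 * (i + 1)) - 1)) * q ^ ((d - h) ^ 2)) ?_
    rw [hsplit] at hidx
    linear_combination hidx
  exact (hr.dvd_mul.mp hdvd).resolve_left fun e => PrimeOrd.not_dvd_card hr hrp (hr.dvd_of_dvd_pow e)

end Counting

section Involutions

variable {d h : ℕ}

theorem invol_case (h2 : (2 : F) ≠ 0) (hd : 0 < d) (hhd : h ≤ d) (x : Matrix.symplecticGroup (Fin d) F)
    (hx : ∃ z : F, ((x ^ 2 : Matrix.symplecticGroup (Fin d) F) : Matrix (Fin d ⊕ Fin d) (Fin d ⊕ Fin d) F) = z • 1) :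
    Stab (sympBilin d F) (2 * h) (Matrix.toLin' (x : Matrix (Fin d ⊕ Fin d) (Fin d ⊕ Fin d) F)) := by
  classical
  obtain ⟨z, hz2, hT, hB, ι, _, e, f, τ, hG, hsp, hcard, hli⟩ := InvolDecomp.sp_data hd x hx
  obtain ⟨S, -, hS⟩ := Finset.exists_subset_card_eq (s := (Finset.univ : Finset ι)) (n := h)
    (by rw [Finset.card_univ, hcard]; omega)
  let w : {a // a ∈ S} ⊕ {a // a ∈ S} → (Fin d ⊕ Fin d → F) := Sum.elim (fun a => e a.1) fun a => f a.1
  refine ⟨Submodule.span F (Set.range w), ?_, ?_, ?_⟩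
  · rw [finrank_span_eq_card, Fintype.card_sum, Fintype.card_coe, hS, two_mul]
    have : w = Sum.elim e f ∘ Sum.map Subtype.val Subtype.val := by
      funext a; rcases a with a | a <;> rfl
    rw [this]
    exact hli.comp _ (Subtype.val_injective.sumMap Subtype.val_injective)
  · intro u hu hu'
    obtain ⟨c, rfl⟩ := (Submodule.mem_span_range_iff_exists_fun F).mp hu
    have hfe : ∀ a b, sympBilin d F (f a) (e b) = -sympBilin d F (e b) (f a) := fun a b =>
      ((sympBilin_isAlt d F).neg_eq (e b) (f a)).symm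
    have hc : c = 0 := by
      funext k
      rcases k with a | a
      · have h' := hu' (f a.1) (Submodule.subset_span ⟨Sum.inr a, rfl⟩)
        simp only [w, map_sum, map_smul, map_add, LinearMap.add_apply, LinearMap.sum_apply, LinearMap.smul_apply, Fintype.sum_sum_type,
          Sum.elim_inl, Sum.elim_inr, hG.hyp.ff, smul_eq_mul, mul_zero, Finset.sum_const_zero, add_zero] at h'
        rwa [Finset.sum_eq_single a (fun b _ hb => by rw [hG.hyp.ef' b.1 a.1 (fun e => hb (Subtype.ext e)), mul_zero])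
          (by simp), hG.hyp.ef, mul_one] at h'
      · have h' := hu' (e a.1) (Submodule.subset_span ⟨Sum.inl a, rfl⟩)
        simp only [w, map_sum, map_smul, map_add, LinearMap.add_apply, LinearMap.sum_apply, LinearMap.smul_apply, Fintype.sum_sum_type,
          Sum.elim_inl, Sum.elim_inr, hG.hyp.ee, hfe, smul_eq_mul, mul_zero, Finset.sum_const_zero, zero_add] at h'
        rwa [Finset.sum_eq_single a (fun b _ hb => by
          rw [hG.hyp.ef' a.1 b.1 (fun e => hb (Subtype.ext e.symm)), neg_zero, mul_zero]) (by simp), hG.hyp.ef,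
          mul_neg_one, neg_eq_zero] at h'
    rw [hc]; simp
  · intro v hv
    have hle : Submodule.span F (Set.range w) ≤
        (Submodule.span F (Set.range w)).comap (Matrix.toLin' (x : Matrix (Fin d ⊕ Fin d) (Fin d ⊕ Fin d) F)) := by
      rw [Submodule.span_le]
      rintro _ ⟨k, rfl⟩
      have key : ∀ a : {a // a ∈ S}, Submodule.span F {e (τ a.1), f (τ a.1)} ≤ Submodule.span F (Set.range w) := by
        intro a
        rw [(hG.odd h2 a.1).1]
        refine Submodule.span_mono ?_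
        rintro _ (rfl | rfl)
        · exact ⟨Sum.inl a, rfl⟩
        · exact ⟨Sum.inr a, rfl⟩
      rcases k with a | a
      · exact key a (hG.mem a.1).1
      · exact key a (hG.mem a.1).2
    exact hle hv

end Involutions

section Unipotent

variable {d : ℕ} {p : ℕ} [Fact p.Prime] [CharP F p]

/-- Unipotent isometries of the standard space. -/
theorem uform (y : Matrix.symplecticGroup (Fin d) F) (hy : y ^ p = 1) :
    UForm (sympBilin d F) (Matrix.toLin' (y : Matrix (Fin d ⊕ Fin d) (Fin d ⊕ Fin d) F)) p := by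
  refine ⟨toLin_iso y, ?_, fun u v h => (sympBilin_isAlt d F).isRefl u v h⟩
  have hyp : Matrix.toLin' (y : Matrix (Fin d ⊕ Fin d) (Fin d ⊕ Fin d) F) ^ p = 1 := by
    rw [← Matrix.toLin'_pow, ← SubmonoidClass.coe_pow, hy, Submonoid.coe_one, Matrix.toLin'_one]; rfl
  rcases Nat.eq_zero_or_pos d with rfl | hd
  · exact Subsingleton.elim _ _
  · haveI : Nonempty (Fin d) := ⟨⟨0, hd⟩⟩
    haveI : CharP (Module.End F (Fin d ⊕ Fin d → F)) p :=
      charP_of_injective_algebraMap (algebraMap F (Module.End F (Fin d ⊕ Fin d → F))).injective p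
    rw [sub_pow_char_of_commute _ (Commute.one_right _), hyp, one_pow, sub_self]

/-- Piece multiplicities in odd characteristic. -/
def bsize (a : ℕ) : ℕ := if Even a then 1 else 2

theorem parts_count {Q : Multiset (ℕ × ℕ)} (hQ : ∀ x ∈ Q, x.2 = bsize x.1) (a : ℕ) :
    (parts Q).count a = bsize a * (Q.map Prod.fst).count a := by
  induction Q using Multiset.induction with
  | empty => simp [parts]
  | cons x Q ih =>
    have hx := hQ x (Multiset.mem_cons_self _ _)
    have ih' := ih fun y hy => hQ y (Multiset.mem_cons_of_mem hy)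
    simp only [parts, Multiset.cons_bind, Multiset.count_add, Multiset.map_cons] at ih' ⊢
    rw [ih', Multiset.count_replicate, Multiset.count_cons, mul_add, add_comm]
    congr 1
    by_cases e : x.1 = a
    · rw [if_pos e, if_pos e.symm, mul_one, hx, e]
    · rw [if_neg e, if_neg (Ne.symm e), mul_zero]

theorem parts_sum (Q : Multiset (ℕ × ℕ)) : (parts Q).sum = (Q.map fun x => x.1 * x.2).sum := by
  induction Q using Multiset.induction with
  | empty => simp [parts]
  | cons x Q ih =>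
    simp only [parts, Multiset.cons_bind, Multiset.sum_add, Multiset.map_cons, Multiset.sum_cons] at ih ⊢
    rw [ih, Multiset.sum_replicate, smul_eq_mul, mul_comm]

variable (h2 : (2 : F) ≠ 0) {V : Type v} [AddCommGroup V] [Module F V] [FiniteDimensional F V]
  {B : LinearMap.BilinForm F V} {T : Module.End F V}
include h2

theorem good_odd (hA : B.IsAlt) (hU : UForm B T p) :
    ∀ S : Submodule F V, NInv (T - 1) S → ∀ a : ℕ, 0 < a → (∀ s ∈ S, ((T - 1) ^ a) s = 0) →
      ((∃ u ∈ S, B u (((T - 1) ^ (a - 1)) u) ≠ 0) → (1 : ℕ) = bsize a) ∧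
      ((∀ w ∈ S, B w (((T - 1) ^ (a - 1)) w) = 0) → (∃ u ∈ S, ∃ v ∈ S, B u (((T - 1) ^ (a - 1)) v) ≠ 0) →
        (2 : ℕ) = bsize a) := by
  intro S hS a ha0 ha
  have key : ∀ u ∈ S, ∀ v ∈ S, -B v (((T - 1) ^ (a - 1)) u) = (-1) ^ (a - 1) * B u (((T - 1) ^ (a - 1)) v) := by
    intro u hu v hv
    rw [← pair_top hU hS ha (a - 1) 0 (by omega) u hu v hv, pow_zero, Module.End.one_apply, hA.neg_eq]
  refine ⟨fun ⟨u, hu, hne⟩ => ?_, fun hzero ⟨u, hu, v, hv, hne⟩ => ?_⟩
  · have h := key u hu u hu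
    rw [bsize, if_pos]
    by_contra hodd
    obtain ⟨k, hk⟩ := Nat.not_even_iff_odd.mp hodd
    rw [show a - 1 = 2 * k by omega, (even_two_mul k).neg_one_pow, one_mul] at h
    have : (2 : F) * B u (((T - 1) ^ (2 * k)) u) = 0 := by linear_combination -h
    rw [show a - 1 = 2 * k by omega] at hne
    exact hne ((mul_eq_zero.mp this).resolve_left h2)
  · have h := key u hu v hv
    have hpol := hzero (u + v) (add_mem hu hv)
    simp only [map_add, LinearMap.add_apply, hzero u hu, hzero v hv, zero_add, add_zero] at hpol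
    rw [bsize, if_neg]
    rintro ⟨k, hk⟩
    rw [show a - 1 = 2 * (k - 1) + 1 by omega, (odd_two_mul_add_one (k - 1)).neg_one_pow, neg_one_mul, neg_inj] at h
    rw [show a - 1 = 2 * (k - 1) + 1 by omega] at hne
    have : (2 : F) * B u (((T - 1) ^ (2 * (k - 1) + 1)) v) = 0 := by
      rw [show a - 1 = 2 * (k - 1) + 1 by omega, h] at hpol
      linear_combination hpol
    exact hne ((mul_eq_zero.mp this).resolve_left h2)

/-- Types of unipotent isometries. -/
theorem exists_odd_type (hA : B.IsAlt) (hU : UForm B T p) (S : Submodule F V) (hS : NInv (T - 1) S) (hnd : Nd B S) :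
    ∃ μ : Multiset ℕ, (∀ a ∈ μ, 0 < a ∧ a ≤ p) ∧ (∀ a, Odd a → Even (μ.count a)) ∧
      (∀ j, Module.finrank F (S.map ((T - 1) ^ j)) = rk μ j) ∧
      ∀ ν ≤ μ, (∀ a, Odd a → Even (ν.count a)) →
        ∃ W ≤ S, NInv (T - 1) W ∧ Nd B W ∧ Module.finrank F W = ν.sum := by
  classical
  obtain ⟨Q, hQ, hQr, hQs⟩ := exists_blocks hU (fun a b => b = bsize a) (good_odd h2 hA hU)
    (Module.finrank F S) S le_rfl hS hnd
  have hb : ∀ x ∈ Q, x.2 = bsize x.1 := fun x hx => (hQ x hx).2.2.2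
  refine ⟨parts Q, fun a ha => ?_, fun a ha => ?_, hQr, fun ν hν hνe => ?_⟩
  · obtain ⟨x, hx, hax⟩ := Multiset.mem_bind.mp ha
    rw [Multiset.eq_of_mem_replicate hax]
    exact ⟨(hQ x hx).1, (hQ x hx).2.1⟩
  · rw [parts_count hb, bsize, if_neg (Nat.not_even_iff_odd.mpr ha)]
    exact even_two_mul _
  let S' : Multiset ℕ := ∑ a ∈ ν.toFinset, Multiset.replicate (ν.count a / bsize a) a
  let Q' : Multiset (ℕ × ℕ) := S'.map fun a => (a, bsize a)
  have hdiv : ∀ a, bsize a ∣ ν.count a := fun a => by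
    rw [bsize]
    split_ifs with he
    · exact one_dvd _
    · exact (hνe a (Nat.not_even_iff_odd.mp he)).two_dvd
  have hS' : ∀ a, S'.count a = ν.count a / bsize a := fun a => by
    simp only [S', Multiset.count_sum', Multiset.count_replicate, Finset.sum_ite_eq']
    by_cases ha : a ∈ ν.toFinset
    · rw [if_pos ha]
    · rw [if_neg ha, Multiset.count_eq_zero.mpr (fun h => ha (Multiset.mem_toFinset.mpr h)), Nat.zero_div]
  have hQ'le : Q' ≤ Q := by
    have hle : S' ≤ Q.map Prod.fst := Multiset.le_iff_count.mpr fun a => by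
      rw [hS']
      refine Nat.div_le_of_le_mul ?_
      rw [← parts_count hb]
      exact Multiset.count_le_of_le a hν
    refine (Multiset.map_le_map hle).trans (le_of_eq ?_)
    rw [Multiset.map_map]
    conv_rhs => rw [← Multiset.map_id' Q]
    exact Multiset.map_congr rfl fun x hx => Prod.ext rfl (hb x hx).symm
  have hQ'p : parts Q' = ν := Multiset.ext.mpr fun a => by
    rw [parts_count (fun x hx => by obtain ⟨b, -, rfl⟩ := Multiset.mem_map.mp hx; rfl), Multiset.map_map]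
    simp only [Function.comp_def, Multiset.map_id', hS']
    exact Nat.mul_div_cancel' (hdiv a)
  obtain ⟨W, hWS, hWi, hWn, hWr⟩ := hQs Q' hQ'le
  exact ⟨W, hWS, hWi, hWn, by rw [finrank_eq_sum hWr, hQ'p]⟩

end Unipotent

section UnipotentMain

variable {d h p : ℕ} [Fact p.Prime] [CharP F p]

theorem unip_suff (h2 : (2 : F) ≠ 0)
    (hR : ∀ μ : Multiset ℕ, (∀ a ∈ μ, 0 < a ∧ a ≤ p) → (∀ a : ℕ, Odd a → Even (μ.count a)) → μ.sum = 2 * d →
        ∃ ν : Multiset ℕ, ν ≤ μ ∧ ν.sum = h ∧ ∀ a : ℕ, Odd a → Even (ν.count a))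
    (y : Matrix.symplecticGroup (Fin d) F) (hy : y ^ p = 1) :
    Stab (sympBilin d F) h (Matrix.toLin' (y : Matrix (Fin d ⊕ Fin d) (Fin d ⊕ Fin d) F)) := by
  obtain ⟨μ, hμ, hμe, hμr, hμs⟩ := exists_odd_type h2 (sympBilin_isAlt d F) (uform y hy) ⊤
    (fun _ _ => Submodule.mem_top) (fun u _ h => (sympBilin_nondegenerate d F).1 u fun v => h v Submodule.mem_top)
  obtain ⟨ν, hν, hνs, hνe⟩ := hR μ hμ hμe (by
    rw [← finrank_eq_sum hμr, finrank_top, finrank_sympSpace])
  obtain ⟨W, -, hWi, hWn, hWd⟩ := hμs ν hν hνe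
  exact ⟨W, hWd.trans hνs, hWn, inv_of_ninv hWi⟩

/-- A unipotent element of prescribed type. -/
theorem exists_unip [Fintype F] (h2 : (2 : F) ≠ 0) (μ : Multiset ℕ) (hμ : ∀ a ∈ μ, 0 < a ∧ a ≤ p)
    (hμe : ∀ a : ℕ, Odd a → Even (μ.count a)) (hμs : μ.sum = 2 * d) :
    ∃ y : Matrix.symplecticGroup (Fin d) F, y ^ p = 1 ∧ ∀ j, Module.finrank F
      ((⊤ : Submodule F (Fin d ⊕ Fin d → F)).map ((Matrix.toLin' (y : Matrix (Fin d ⊕ Fin d) (Fin d ⊕ Fin d) F) - 1) ^ j)) =
      rk μ j := by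
  classical
  let β := Σ a : μ.toFinset, Fin (μ.count (a : ℕ))
  let A : β → ℕ := fun k => (k.1 : ℕ)
  let τ : β → β := fun k => if Even (A k) then k else ⟨k.1, k.2.rev⟩
  let c : β → F := fun k => if Even (A k) ∨ 2 * (k.2 : ℕ) < μ.count (A k) then 1 else -1
  have hτA : ∀ k, A (τ k) = A k := fun k => by simp only [τ]; split_ifs <;> rfl
  have hττ : ∀ k, τ (τ k) = k := by
    intro k
    by_cases he : Even (A k)
    · simp only [τ, he, if_true]
    · simp only [τ, if_neg he]
      rw [if_neg (show ¬ Even (A ⟨k.1, k.2.rev⟩) from he), Fin.rev_rev]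
  have hc : ∀ k, c (τ k) = (-1) ^ A k * c k := by
    intro k
    by_cases he : Even (A k)
    · rw [show τ k = k by simp only [τ, if_pos he], he.neg_one_pow, one_mul]
    · rw [show τ k = ⟨k.1, k.2.rev⟩ by simp only [τ, if_neg he], (Nat.not_even_iff_odd.mp he).neg_one_pow]
      obtain ⟨l, hl⟩ := hμe (A k) (Nat.not_even_iff_odd.mp he)
      have hk := k.2.2
      have hA' : A ⟨k.1, k.2.rev⟩ = A k := rfl
      simp only [c, hA', or_iff_right he, Fin.val_rev]
      have hkA : μ.count (k.1 : ℕ) = μ.count (A k) := rfl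
      by_cases h' : 2 * (k.2 : ℕ) < μ.count (A k)
      · rw [if_pos h', if_neg (by omega)]; ring
      · rw [if_neg h', if_pos (by omega)]; ring
  have hc0 : ∀ k, c k ≠ 0 := fun k => by
    simp only [c]; split_ifs
    · exact one_ne_zero
    · exact neg_ne_zero.mpr one_ne_zero
  have hsum : ∀ j, ∑ k, (A k - j) = rk μ j := fun j => by
    rw [Fintype.sum_sigma, rk, Finset.sum_multiset_map_count, ← Finset.sum_coe_sort μ.toFinset]
    exact Finset.sum_congr rfl fun a _ => by simp [A]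
  obtain ⟨Y, hYp, -, hYG, hYr⟩ := FormJordanModels.exists_model h2 (p := p) (A := A)
    (fun k => (hμ _ (Multiset.mem_toFinset.mp k.1.2)).2) hτA c
  set G := OrthUni.gram A τ c
  have hskew : ∀ a b, G a b = -G b a := by
    intro a b
    have key : ∀ a b : Σ k, Fin (A k), b.1 = τ a.1 ∧ (b.2 : ℕ) + a.2 + 1 = A a.1 →
        (a.1 = τ b.1 ∧ (a.2 : ℕ) + b.2 + 1 = A b.1) := fun a b h => by
      refine ⟨by rw [h.1, hττ], ?_⟩
      have e : A b.1 = A a.1 := (congrArg A h.1).trans (hτA _)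
      omega
    simp only [G, OrthUni.gram, Matrix.of_apply]
    by_cases h : b.1 = τ a.1 ∧ (b.2 : ℕ) + a.2 + 1 = A a.1
    · rw [if_pos h, if_pos (key a b h), show c b.1 = c (τ a.1) from congrArg c h.1, hc,
        show (-1 : F) ^ A a.1 = (-1) ^ ((b.2 : ℕ) + a.2 + 1) by rw [h.2], pow_succ, pow_add]
      have : ((-1 : F) ^ (b.2 : ℕ)) * (-1) ^ (b.2 : ℕ) = 1 := by rw [← mul_pow, neg_one_mul, neg_neg, one_pow]
      linear_combination (-(c a.1 * (-1) ^ (a.2 : ℕ))) * this
    · rw [if_neg h, if_neg fun h' => h (key b a h'), neg_zero]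
  let B := Matrix.toBilin' G
  have hBA : B.IsAlt := fun u => by
    have h' : B u u = -B u u := by
      simp only [B, Matrix.toBilin'_apply]
      conv_lhs => rw [Finset.sum_comm]
      rw [← Finset.sum_neg_distrib]
      refine Finset.sum_congr rfl fun a _ => ?_
      rw [← Finset.sum_neg_distrib]
      refine Finset.sum_congr rfl fun b _ => ?_
      rw [hskew b a]; ring
    have : (2 : F) * B u u = 0 := by linear_combination h'
    exact (mul_eq_zero.mp this).resolve_left h2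
  have hBn : B.Nondegenerate :=
    LinearMap.BilinForm.nondegenerate_toBilin'_of_det_ne_zero' G (OrthUni.gram_det hτA hττ hc0)
  obtain ⟨E, hE⟩ := exists_isometry_sympBilin hBA hBn (m := d) (by
    rw [Module.finrank_fintype_fun_eq_card, Fintype.card_sigma, ← hμs, ← rk_zero, ← hsum]
    simp)
  let φ := E.conj (Matrix.toLin' Y)
  have hφ : ∀ u, φ (E u) = E (Matrix.toLin' Y u) := fun u => by simp [φ, LinearEquiv.conj_apply_apply]
  let y : Matrix.symplecticGroup (Fin d) F := ⟨LinearMap.toMatrix' φ, (mem_symplectic_iff_form _).2 fun a b => by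
    obtain ⟨a, rfl⟩ := E.surjective a
    obtain ⟨b, rfl⟩ := E.surjective b
    rw [LinearMap.toMatrix'_mulVec, LinearMap.toMatrix'_mulVec, hφ, hφ, hE, hE]
    simp only [B, Matrix.toBilin'_apply', Matrix.toLin'_apply]
    rw [Matrix.mulVec_mulVec, Matrix.dotProduct_mulVec, ← Matrix.vecMul_transpose, Matrix.vecMul_vecMul,
      ← Matrix.mul_assoc, hYG, ← Matrix.dotProduct_mulVec]⟩
  have hyl : Matrix.toLin' (y : Matrix (Fin d ⊕ Fin d) (Fin d ⊕ Fin d) F) = φ := Matrix.toLin'_toMatrix' φ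
  refine ⟨y, Subtype.ext (Matrix.toLin'.injective ?_), fun j => ?_⟩
  · rw [SubmonoidClass.coe_pow, Matrix.toLin'_pow, hyl, Submonoid.coe_one, Matrix.toLin'_one]
    show E.conjAlgEquiv F (Matrix.toLin' Y) ^ p = _
    rw [← map_pow, ← Matrix.toLin'_pow, hYp, Matrix.toLin'_one]
    exact map_one (E.conjAlgEquiv F)
  · have e : (φ - 1) ^ j = E.conj ((Matrix.toLin' Y - 1) ^ j) := by
      show (E.conjAlgEquiv F (Matrix.toLin' Y) - 1) ^ j = E.conjAlgEquiv F _
      rw [map_pow, map_sub, map_one]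
    rw [hyl, e, LinearEquiv.conj_apply, Submodule.map_comp, Submodule.map_comp, Submodule.map_top,
      LinearEquiv.range, LinearEquiv.finrank_map_eq, Submodule.map_top, hYr, hsum]

theorem unip_nec [Fintype F] (h2 : (2 : F) ≠ 0) (hd : 0 < d) (hhd : h ≤ 2 * d) (hhe : Even h)
    (H : ∀ x : Matrix.symplecticGroup (Fin d) F,
      (∃ z : F, ((x ^ p : Matrix.symplecticGroup (Fin d) F) : Matrix (Fin d ⊕ Fin d) (Fin d ⊕ Fin d) F) = z • 1) →
      (∀ z : F, (x : Matrix (Fin d ⊕ Fin d) (Fin d ⊕ Fin d) F) ≠ z • 1) →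
      Stab (sympBilin d F) h (Matrix.toLin' (x : Matrix (Fin d ⊕ Fin d) (Fin d ⊕ Fin d) F)))
    (μ : Multiset ℕ) (hμ : ∀ a ∈ μ, 0 < a ∧ a ≤ p) (hμe : ∀ a : ℕ, Odd a → Even (μ.count a)) (hμs : μ.sum = 2 * d) :
    ∃ ν : Multiset ℕ, ν ≤ μ ∧ ν.sum = h ∧ ∀ a : ℕ, Odd a → Even (ν.count a) := by
  classical
  have hpo : Odd p := (Fact.out : p.Prime).odd_of_ne_two fun e => h2 (by
    subst e; exact_mod_cast CharP.cast_eq_zero F 2)
  obtain ⟨y, hy, hyr⟩ := exists_unip h2 μ hμ hμe hμs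
  set T := Matrix.toLin' (y : Matrix (Fin d ⊕ Fin d) (Fin d ⊕ Fin d) F) with hT
  by_cases hone : (y : Matrix (Fin d ⊕ Fin d) (Fin d ⊕ Fin d) F) = 1
  · have hall : μ = Multiset.replicate (2 * d) 1 := by
      refine eq_of_rk (fun a ha => (hμ a ha).1) (fun a ha => by rw [Multiset.eq_of_mem_replicate ha]; omega) fun j => ?_
      rw [← hyr j]
      rw [show T - 1 = 0 by rw [hT, hone, Matrix.toLin'_one]; exact sub_self _]
      rcases j with _ | j
      · rw [pow_zero, Module.End.one_eq_id, Submodule.map_id, finrank_top, finrank_sympSpace]; simp [rk]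
      · simp [rk, zero_pow (Nat.succ_ne_zero j)]
    refine ⟨Multiset.replicate h 1, hall ▸ Multiset.replicate_mono 1 hhd, by simp, fun a _ => ?_⟩
    rw [Multiset.count_replicate]
    split_ifs
    · exact hhe
    · exact Even.zero
  obtain ⟨W, hWd, hWn, hWi⟩ := H y ⟨1, by rw [hy, Submonoid.coe_one, one_smul]⟩ (not_scalar hpo hd hy hone)
  have hA := sympBilin_isAlt d F
  have hU := uform y hy
  obtain ⟨hc, hWn'⟩ := nd_compl hA (sympBilin_nondegenerate d F) hWn
  have hWi' := orth_inv T (toLin_iso y) (toLin_injective y) hWi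
  obtain ⟨ν₁, hν₁, hν₁e, hν₁r, -⟩ := exists_odd_type h2 hA hU W (ninv_of_inv hWi) hWn
  obtain ⟨ν₂, hν₂, hν₂e, hν₂r, -⟩ := exists_odd_type h2 hA hU _ (ninv_of_inv hWi') hWn'
  have hsum : μ = ν₁ + ν₂ := by
    refine eq_of_rk (fun a ha => (hμ a ha).1) (fun a ha => ?_) fun j => ?_
    · rcases Multiset.mem_add.mp ha with ha | ha
      · exact (hν₁ a ha).1
      · exact (hν₂ a ha).1
    · rw [rk_add, ← hν₁r, ← hν₂r, ← rank_sup (ninv_of_inv hWi) (ninv_of_inv hWi') hc.disjoint, hc.sup_eq_top, hyr]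
  exact ⟨ν₁, hsum ▸ Multiset.le_add_right _ _, by rw [← finrank_eq_sum hν₁r, hWd], hν₁e⟩

end UnipotentMain

section Two

variable {d h : ℕ} [CharP F 2]

theorem two_suff (hhd : h ≤ d) (hcond : Odd d ∨ Even h) (y : Matrix.symplecticGroup (Fin d) F) (hy : y ^ 2 = 1) :
    Stab (sympBilin d F) (2 * h) (Matrix.toLin' (y : Matrix (Fin d ⊕ Fin d) (Fin d ⊕ Fin d) F)) := by
  classical
  haveI : Fact (Nat.Prime 2) := ⟨Nat.prime_two⟩
  have hA := sympBilin_isAlt d F
  obtain ⟨Q, hQ, hQr, hQs⟩ := exists_blocks (uform (p := 2) y hy) (fun a b => ¬ (a = 1 ∧ b = 1)) (fun S _ a _ ha =>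
      ⟨fun ⟨u, hu, hne⟩ e => hne (by rw [e.1]; simp [hA u]), fun _ _ e => by omega⟩)
    (Module.finrank F (⊤ : Submodule F (Fin d ⊕ Fin d → F))) ⊤ le_rfl (fun _ _ => Submodule.mem_top)
    (fun u _ hu => (sympBilin_nondegenerate d F).1 u fun v => hu v Submodule.mem_top)
  set Qt := Q.filter fun x => x.1 * x.2 = 4
  set Qs := Q.filter fun x => ¬ x.1 * x.2 = 4
  have hQadd : Qt + Qs = Q := Multiset.filter_add_not _ Q
  have hsum : ∀ Qa Qb, Qa ≤ Qt → Qb ≤ Qs → (parts (Qa + Qb)).sum = 4 * Qa.card + 2 * Qb.card := by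
    intro Qa Qb ha hb
    have ea : Qa.map (fun x => x.1 * x.2) = Qa.map fun _ => 4 :=
      Multiset.map_congr rfl fun x hx => (Multiset.mem_filter.mp (Multiset.mem_of_le ha hx)).2
    rw [parts_sum, Multiset.map_add, Multiset.sum_add, ea,
      show Qb.map (fun x => x.1 * x.2) = Qb.map fun _ => 2 from Multiset.map_congr rfl fun x hx => ?_,
      Multiset.map_const', Multiset.map_const',
      Multiset.sum_replicate, Multiset.sum_replicate, smul_eq_mul, smul_eq_mul, mul_comm 4, mul_comm 2]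
    obtain ⟨hxQ, hx4⟩ := Multiset.mem_filter.mp (Multiset.mem_of_le hb hx)
    obtain ⟨h1, h2, h3, h4⟩ := hQ x hxQ
    rcases h3 with e | e <;> rw [e] at hx4 h4 ⊢ <;> omega
  have htot : 4 * Qt.card + 2 * Qs.card = 2 * d := by
    rw [← hsum Qt Qs le_rfl le_rfl, hQadd, ← finrank_eq_sum hQr, finrank_top, finrank_sympSpace]
  rw [Nat.odd_iff, Nat.even_iff] at hcond
  obtain ⟨Qa, Qa', hQa, hQac⟩ := SpIso.exists_split Qt (j := min Qt.card (h / 2)) (min_le_left _ _)
  obtain ⟨Qb, Qb', hQb, hQbc⟩ := SpIso.exists_split Qs (j := h - 2 * min Qt.card (h / 2)) (by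
    rcases le_total Qt.card (h / 2) with e | e
    · rw [min_eq_left e]; omega
    · rw [min_eq_right e]; omega)
  have ha : Qa ≤ Qt := hQa ▸ Multiset.le_add_right _ _
  have hb : Qb ≤ Qs := hQb ▸ Multiset.le_add_right _ _
  obtain ⟨W, -, hWi, hWn, hWr⟩ := hQs (Qa + Qb) (hQadd ▸ add_le_add ha hb)
  refine ⟨W, ?_, hWn, inv_of_ninv hWi⟩
  rw [finrank_eq_sum hWr, hsum Qa Qb ha hb, hQac, hQbc]
  have : min Qt.card (h / 2) ≤ h / 2 := min_le_right _ _
  omega

theorem two_nec (hd : Even d) (hd0 : 0 < d) (hh : Odd h) :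
    ∃ y : Matrix.symplecticGroup (Fin d) F, y ^ 2 = 1 ∧
      (∀ z : F, (y : Matrix (Fin d ⊕ Fin d) (Fin d ⊕ Fin d) F) ≠ z • 1) ∧
      ¬ Stab (sympBilin d F) (2 * h) (Matrix.toLin' (y : Matrix (Fin d ⊕ Fin d) (Fin d ⊕ Fin d) F)) := by
  classical
  haveI : Fact (Nat.Prime 2) := ⟨Nat.prime_two⟩
  obtain ⟨k, hk⟩ := hd
  let π : Fin d ⊕ Fin d → Fin d ⊕ Fin d := Sum.map Fin.rev Fin.rev
  have hπ : ∀ a, π (π a) = a := fun a => by rcases a with a | a <;> simp [π]
  let φ : Module.End F (Fin d ⊕ Fin d → F) := LinearMap.funLeft F F π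
  have hφa : ∀ u a, φ u a = u (π a) := fun u a => rfl
  have hφφ : ∀ u, φ (φ u) = u := fun u => funext fun a => by rw [hφa, hφa, hπ]
  have hrev : ∀ (f : Fin d → F), ∑ i, f (Fin.rev i) = ∑ i, f i := fun f => Equiv.sum_comp Fin.revPerm f
  have hiso : ∀ u v, sympBilin d F (φ u) (φ v) = sympBilin d F u v := fun u v => by
    rw [sympBilin_eq_sum, sympBilin_eq_sum]
    exact hrev fun i => u (Sum.inr i) * v (Sum.inl i) - u (Sum.inl i) * v (Sum.inr i)
  have hself : ∀ u, sympBilin d F u (φ u) = 0 := fun u => by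
    rw [sympBilin_eq_sum, Finset.sum_sub_distrib, sub_eq_zero]
    rw [← hrev fun i => u (Sum.inl i) * φ u (Sum.inr i)]
    refine Finset.sum_congr rfl fun i _ => ?_
    simp [hφa, π, mul_comm]
  let y : Matrix.symplecticGroup (Fin d) F := ⟨LinearMap.toMatrix' φ, (mem_symplectic_iff_form _).2 fun a b => by
    rw [LinearMap.toMatrix'_mulVec, LinearMap.toMatrix'_mulVec, hiso]⟩
  have hyl : Matrix.toLin' (y : Matrix (Fin d ⊕ Fin d) (Fin d ⊕ Fin d) F) = φ := Matrix.toLin'_toMatrix' φ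
  have hy2 : y ^ 2 = 1 := Subtype.ext (Matrix.toLin'.injective (by
    rw [SubmonoidClass.coe_pow, Matrix.toLin'_pow, hyl, Submonoid.coe_one, Matrix.toLin'_one, sq]
    exact LinearMap.ext hφφ))
  refine ⟨y, hy2, fun z hz => ?_, ?_⟩
  · have h1 := congrArg Matrix.toLin' hz
    rw [hyl, map_smul, Matrix.toLin'_one] at h1
    let i₀ : Fin d := ⟨0, hd0⟩
    have h2 := congrFun (LinearMap.congr_fun h1 (Pi.single (Sum.inl (Fin.rev i₀)) 1)) (Sum.inl i₀)
    have hne : (Sum.inl i₀ : Fin d ⊕ Fin d) ≠ Sum.inl (Fin.rev i₀) := fun e => by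
      have := congrArg Fin.val (Sum.inl_injective e)
      simp [i₀, Fin.val_rev] at this
      omega
    simp [hφa, π, Pi.single_eq_of_ne hne] at h2
  rintro ⟨W, hWd, hWn, hWi⟩
  rw [hyl] at hWi
  have hA := sympBilin_isAlt d F
  have hU := uform (p := 2) y hy2
  rw [hyl] at hU
  have htwo : ∀ u : Fin d ⊕ Fin d → F, ((φ - 1 : Module.End F (Fin d ⊕ Fin d → F)) ^ 2) u = 0 := fun u => by rw [hU.unip]; rfl
  obtain ⟨Q, hQ, hQr, -⟩ := exists_blocks hU (fun a b => a = 2 ∧ b = 2) (fun S hS a ha0 ha => by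
      have hone : ∀ u : Fin d ⊕ Fin d → F, sympBilin d F u ((φ - 1) u) = 0 := fun u => by
        rw [LinearMap.sub_apply, Module.End.one_apply, map_sub, hself, hA u, sub_zero]
      rcases show a = 1 ∨ a = 2 ∨ 3 ≤ a by omega with rfl | rfl | h3
      · have hiso0 : ∀ u ∈ S, ∀ v ∈ S, sympBilin d F u v = 0 := by
          intro u hu v hv
          have hfix : ∀ s ∈ S, ∃ t, (φ - 1) t = s := fun s hs => by
            have hs0 := ha s hs
            rw [pow_one, LinearMap.sub_apply, Module.End.one_apply, sub_eq_zero] at hs0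
            let low : Fin d ⊕ Fin d → Prop := fun a => (Sum.elim id id a : Fin d) < Fin.rev (Sum.elim id id a)
            refine ⟨fun a => if low a then s a else 0, funext fun a => ?_⟩
            have hsa : s (π a) = s a := congrFun hs0 a
            have hlow : low (π a) ↔ ¬ low a := by
              have hne : (Sum.elim id id a : Fin d) ≠ Fin.rev (Sum.elim id id a) := fun e => by
                have := congrArg Fin.val e
                simp [Fin.val_rev] at this
                omega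
              have : (Sum.elim id id (π a) : Fin d) = Fin.rev (Sum.elim id id a) := by rcases a with a | a <;> rfl
              simp only [low, this, Fin.rev_rev, not_lt]
              exact ⟨le_of_lt, fun h => lt_of_le_of_ne h (Ne.symm hne)⟩
            rw [LinearMap.sub_apply, Module.End.one_apply, Pi.sub_apply, hφa]
            by_cases hl : low a
            · rw [if_pos hl, if_neg (fun h => hlow.mp h hl), CharTwo.sub_eq_add, zero_add]
            · rw [if_neg hl, if_pos (hlow.mpr hl), sub_zero, hsa]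
          obtain ⟨t, rfl⟩ := hfix u hu
          have hv0 := ha v hv
          rw [pow_one] at hv0
          rw [adj hU, hv0, map_zero, neg_zero]
        exact ⟨fun ⟨u, hu, hne⟩ => absurd (by simp [hA u]) hne, fun _ ⟨u, hu, v, hv, hne⟩ =>
          absurd (by simpa using hiso0 u hu v hv) hne⟩
      · exact ⟨fun ⟨u, hu, hne⟩ => absurd (by simpa using hone u) hne, fun _ _ => ⟨rfl, rfl⟩⟩
      · have h0 : ∀ u : Fin d ⊕ Fin d → F, ((φ - 1) ^ (a - 1)) u = 0 := fun u => by
          rw [show a - 1 = (a - 3) + 2 by omega, pow_add, Module.End.mul_apply, htwo, map_zero]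
        exact ⟨fun ⟨u, hu, hne⟩ => absurd (by rw [h0, map_zero]) hne,
          fun _ ⟨u, hu, v, hv, hne⟩ => absurd (by rw [h0, map_zero]) hne⟩)
    (Module.finrank F W) W le_rfl (ninv_of_inv hWi) hWn
  have := finrank_eq_sum hQr
  rw [hWd, parts_sum, Multiset.map_congr rfl (g := fun _ => 4) fun x hx => by
    rw [(hQ x hx).2.2.2.1, (hQ x hx).2.2.2.2], Multiset.map_const', Multiset.sum_replicate, smul_eq_mul] at this
  rw [Nat.odd_iff] at hh
  omega

end Two

section Main

variable [Fintype F] {d m p r : ℕ} [Fact p.Prime] [CharP F p] [Fact r.Prime]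

/-- Elements of prime order and nondegenerate subspaces. -/
theorem main (hd : 2 ≤ d) (hm : 2 ≤ m) (hme : Even m) (hmd : m < d)
    (hΩ : r ∣ Nat.card {W : Submodule F (Fin d ⊕ Fin d → F) // Module.finrank F ↥W = m ∧
      (∀ u ∈ W, u ≠ 0 → ∃ v ∈ W, Cfsg.sympForm d F u v ≠ 0)})
    (i c : ℕ) (hi : i = orderOf (Fintype.card F : ZMod r)) (hc : c = if Even i then i else 2 * i) :
    (∀ x : Matrix.symplecticGroup (Fin d) F,
      (∃ z : F, ((x ^ r : Matrix.symplecticGroup (Fin d) F) : Matrix (Fin d ⊕ Fin d) (Fin d ⊕ Fin d) F) = z • 1) →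
      (∀ z : F, (x : Matrix (Fin d ⊕ Fin d) (Fin d ⊕ Fin d) F) ≠ z • 1) →
      Stab (sympBilin d F) m (Matrix.toLin' (x : Matrix (Fin d ⊕ Fin d) (Fin d ⊕ Fin d) F))) ↔
    ((r = p ∧ 2 < p ∧ (∀ μ : Multiset ℕ, (∀ a ∈ μ, 0 < a ∧ a ≤ p) → (∀ a : ℕ, Odd a → Even (μ.count a)) → μ.sum = 2 * d →
        ∃ ν : Multiset ℕ, ν ≤ μ ∧ ν.sum = m ∧ ∀ a : ℕ, Odd a → Even (ν.count a))) ∨
     (r = p ∧ p = 2 ∧ ((2 * d) % 4 = 2 ∨ m % 4 = 0)) ∨
     (r = 2 ∧ p ≠ 2) ∨
     (r ≠ p ∧ 2 < r ∧ c ≤ m ∧ m % c ≤ (2 * d) % c)) := by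
  have hr : r.Prime := Fact.out
  have hp : p.Prime := Fact.out
  obtain ⟨h, rfl⟩ : ∃ h, m = 2 * h := hme.two_dvd
  have hchar : ∀ n : ℕ, n.Prime → n ≠ p → ((n : ℕ) : F) ≠ 0 := fun n hn hne e =>
    hne ((Nat.prime_dvd_prime_iff_eq hp hn).mp ((CharP.cast_eq_zero_iff F p n).mp e)).symm
  by_cases hrp : r = p
  · subst hrp
    by_cases hp2 : r = 2
    · subst hp2
      constructor
      · intro H
        refine Or.inr (Or.inl ⟨rfl, rfl, ?_⟩)
        by_contra hcond
        obtain ⟨y, hy, hns, hnot⟩ := two_nec (F := F) (d := d) (h := h) (Nat.even_iff.mpr (by omega)) (by omega)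
          (Nat.odd_iff.mpr (by omega))
        exact hnot (H y ⟨1, by rw [hy, Submonoid.coe_one, one_smul]⟩ hns)
      · rintro (⟨-, h', -⟩ | ⟨-, -, hcond⟩ | ⟨-, h'⟩ | ⟨h', -⟩) x ⟨z, hz⟩ -
        · omega
        · have hz1 : z = 1 := by
            have := SpDecomp.eq_one_scalar (by omega) hz
            rcases mul_self_eq_one_iff.mp this with e | e
            · exact e
            · rw [e, CharTwo.neg_eq]
          refine two_suff (by omega) ?_ x (Subtype.ext (by rw [hz, hz1, one_smul, Submonoid.coe_one]))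
          rw [Nat.odd_iff, Nat.even_iff]
          omega
        · exact absurd rfl h'
        · exact absurd rfl h'
    · have h2 : (2 : F) ≠ 0 := by exact_mod_cast hchar 2 Nat.prime_two (Ne.symm hp2)
      have hr2 : 2 < r := lt_of_le_of_ne hr.two_le (Ne.symm hp2)
      constructor
      · exact fun H => Or.inl ⟨rfl, hr2, unip_nec h2 (by omega) (by omega) (even_two_mul h) H⟩
      · rintro (⟨-, -, hR⟩ | ⟨-, h', -⟩ | ⟨h', -⟩ | ⟨h', -⟩) x ⟨z, hz⟩ -
        · obtain ⟨y, hy, himp⟩ := normalise (m := 2 * h) (hr.odd_of_ne_two hp2) (by omega) x hz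
          exact himp (unip_suff h2 hR y hy)
        · exact absurd h' hp2
        · exact absurd h' hp2
        · exact absurd rfl h'
  · by_cases hr2 : r = 2
    · subst hr2
      refine ⟨fun _ => Or.inr (Or.inr (Or.inl ⟨rfl, Ne.symm hrp⟩)), fun _ x hx _ => ?_⟩
      exact invol_case (by exact_mod_cast hchar 2 Nat.prime_two hrp) (by omega) (by omega) x hx
    · rw [odd_case (p := p) hd (by omega) hmd hr2 hrp (count_dvd (p := p) hrp (by omega) hΩ) i c hi hc]
      have hr2' : 2 < r := lt_of_le_of_ne hr.two_le (Ne.symm hr2)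
      constructor
      · exact fun h' => Or.inr (Or.inr (Or.inr ⟨hrp, hr2', h'⟩))
      · rintro (⟨h', -⟩ | ⟨h', -⟩ | ⟨h', -⟩ | ⟨-, -, h'⟩)
        · exact absurd h' hrp
        · exact absurd h' hrp
        · exact absurd h' hr2
        · exact h'

end Main

end Cfsg.Lib.Classical.SpNondeg
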