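import Cfsg.Agent.Classical.Symp.OverfieldMax

/-! The normaliser of a unitary overfield of degree two in six-dimensional symplectic groups. -/

set_option autoImplicit false
set_option linter.unusedSimpArgs false
set_option linter.unusedSectionVars false
set_option linter.unusedVariables false
set_option linter.style.haveILetI false
set_option linter.flexible false

namespace Cfsg.Lib.Classical.SJ

open Matrix

universe u

variable {F : Type u} [Field F] [Fintype F] {ι : Type} [Fintype ι] [DecidableEq ι]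
  {B : LinearMap.BilinForm F (ι → F)} {J : (ι → F) →ₗ[F] (ι → F)} {β : F} (S : SJ B J β)
include S

/-- The `F(J)`-line. -/
def jline (_S : SJ B J β) (x : ι → F) : Submodule F (ι → F) := Submodule.span F {x, J x}

theorem JJ (x y : ι → F) : B (J x) (J y) = -β * B x y := by
  rw [S.adj, S.sq, map_smul, smul_eq_mul]; ring

theorem jline_J {x y : ι → F} (h : y ∈ S.jline x) : J y ∈ S.jline x := by
  obtain ⟨c, d, rfl⟩ := Submodule.mem_span_pair.mp h
  rw [map_add, map_smul, map_smul, S.sq, smul_smul]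
  exact Submodule.mem_span_pair.mpr ⟨d * β, c, by rw [add_comm]⟩

theorem pair_mem₃ {T : Submodule F (ι → F)} (hT : ∀ z ∈ T, J z ∈ T) {y : ι → F} {c d : F}
    (h : c • y + d • J y ∈ T) (hy : y ∉ T) : c = 0 ∧ d = 0 := by
  by_contra hcd
  apply hy
  have h1 : c • (c • y + d • J y) - d • J (c • y + d • J y) ∈ T :=
    T.sub_mem (T.smul_mem _ h) (T.smul_mem _ (hT _ h))
  have e : c • (c • y + d • J y) - d • J (c • y + d • J y) = (c * c - β * (d * d)) • y := by
    rw [map_add, map_smul, map_smul, S.sq]; module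
  rw [e, Submodule.smul_mem_iff] at h1
  · exact h1
  · exact S.norm_ne fun e => hcd ⟨e.2, e.1⟩

theorem li₂ {x : ι → F} (hx : x ≠ 0) : LinearIndependent F ![x, J x] :=
  LinearIndependent.pair_iff.mpr fun c d h =>
    S.pair_mem₃ (T := ⊥) (y := x) (fun z hz => by rw [Submodule.mem_bot] at hz ⊢; rw [hz, map_zero]) (by simp [h]) (by simpa using hx)

theorem li₄ {x y : ι → F} (hx : x ≠ 0) (hy : y ∉ S.jline x) : LinearIndependent F ![x, J x, y, J y] := by
  rw [Fintype.linearIndependent_iff]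
  intro g hg
  simp [Fin.sum_univ_four] at hg
  obtain ⟨e2, e3⟩ := S.pair_mem₃ (T := S.jline x) (fun z hz => S.jline_J hz) (c := g 2) (d := g 3)
    (Submodule.mem_span_pair.mpr ⟨-g 0, -g 1, by linear_combination (norm := module) -hg⟩) hy
  rw [e2, e3, zero_smul, zero_smul, add_zero, add_zero] at hg
  obtain ⟨e0, e1⟩ := LinearIndependent.pair_iff.mp (S.li₂ hx) _ _ hg
  intro i
  fin_cases i <;> assumption

theorem rad_zero {r : ℕ} (s : Fin r → (ι → F))
    (h : ∀ c : Fin r → F, (∀ i, QuadraticMap.polar (⇑S.form) (∑ j, c j • s j) (s i) = 0) → ∑ j, c j • s j = 0) :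
    Module.finrank F ↥(Submodule.span F (Set.range s) ⊓ HypQuad.perp S.form (Submodule.span F (Set.range s))) = 0 := by
  rw [Submodule.finrank_eq_zero, eq_bot_iff]
  rintro x ⟨hx, hxp⟩
  obtain ⟨c, rfl⟩ := (Submodule.mem_span_range_iff_exists_fun F).mp hx
  rw [Submodule.mem_bot]
  exact h c fun i => by
    rw [QuadraticMap.polar_comm]; exact (HypQuad.mem_perp S.form).mp hxp _ (Submodule.subset_span ⟨i, rfl⟩)

theorem of_polar {u x : ι → F} {v : F} (h : QuadraticMap.polar (⇑S.form) u x = 2 * v) : B u (J x) = v := by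
  rw [S.polar_form] at h; exact mul_left_cancel₀ S.two h

theorem of_polar' {u x : ι → F} {v : F} (h : QuadraticMap.polar (⇑S.form) u (J x) = 2 * β * v) : B u x = v := by
  rw [S.polar_J] at h; exact mul_left_cancel₀ (mul_ne_zero S.two S.beta_ne) h

variable (h6 : Fintype.card ι = 6)
include h6

theorem not_iso_four {x y : ι → F} (hx : x ≠ 0) (hy : y ∉ S.jline x) (h1 : B x (J x) = 0) (h2 : B y (J y) = 0)
    (h3 : B x y = 0) (h4 : B x (J y) = 0) : False := by
  set T := Submodule.span F (Set.range ![x, J x, y, J y]) with hT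
  have hd : Module.finrank F T = 4 := (finrank_span_eq_card (S.li₄ hx hy)).trans (Fintype.card_fin 4)
  have hle : T ≤ B.orthogonal T := by
    rw [hT, Submodule.span_le]
    rintro _ ⟨i, rfl⟩
    intro z hz
    refine Submodule.span_induction (p := fun z _ => B z _ = 0) ?_ (by simp) (fun a b _ _ ha hb => by simp [ha, hb])
      (fun c a _ ha => by simp [ha]) hz
    rintro _ ⟨j, rfl⟩
    have e1 : B y x = 0 := by rw [S.neg x y, h3, neg_zero]
    have e2 : B y (J x) = 0 := by rw [S.swap x y, h4]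
    fin_cases i <;> fin_cases j <;>
      simp [S.alt x, S.alt y, S.adj, S.sq, h1, h2, h3, h4, e1, e2]
  have h5 := LinearMap.BilinForm.finrank_orthogonal S.nondeg T
  have := Submodule.finrank_mono hle
  rw [Module.finrank_fintype_fun_eq_card, h6, hd] at h5
  omega

theorem partner₃ {z : ι → F} (hz0 : z ≠ 0) (s t : F) : ∃ u, B u (J u) = 0 ∧ B z u = s ∧ B z (J u) = t := by
  obtain ⟨u, hu, huv⟩ := Refl.singular_with_nd (Q := S.form) S.form_nondeg ![z, J z] (S.li₂ hz0)
    ![2 * t, 2 * β * -s] (by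
    have : Module.finrank F ↥(Submodule.span F (Set.range ![z, J z]) ⊓
        HypQuad.perp S.form (Submodule.span F (Set.range ![z, J z]))) ≤ 2 :=
      (Submodule.finrank_mono inf_le_left).trans ((finrank_range_le_card _).trans (Fintype.card_fin 2).le)
    omega)
  have e1 : B u (J z) = t := S.of_polar (huv 0)
  have e2 : B u z = -s := S.of_polar' (huv 1)
  exact ⟨u, hu, by rw [S.neg u z, e2, neg_neg], by rw [S.swap u z, e1]⟩

/-- A third singular vector for a hyperbolic pair. -/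
theorem third {z u : ι → F} (hzq : B z (J z) = 0) (hu : B u (J u) = 0) (hzu : B z u = 1) (hzJu : B z (J u) = 0) :
    ∃ w, B w (J w) = 0 ∧ B z (J w) = 0 ∧ B z w = 1 ∧ B u (J w) = 1 ∧ B u w = 0 := by
  have huz : B u z = -1 := by rw [S.neg z u, hzu]
  have huJz : B u (J z) = 0 := by rw [S.swap z u, hzJu]
  have hz0 : z ≠ 0 := fun h => by rw [h] at hzu; simp at hzu
  have hul : u ∉ S.jline z := fun h => by
    obtain ⟨c, d, rfl⟩ := Submodule.mem_span_pair.mp h
    simp [S.alt z, hzq] at hzu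
  obtain ⟨w, hw, hwv⟩ := Refl.singular_with_nd (Q := S.form) S.form_nondeg _ (S.li₄ hz0 hul)
    ![2 * 0, 2 * β * -1, 2 * 1, 2 * β * 0] (by
    rw [S.rad_zero]
    · omega
    · intro c hc
      have q0 := hc 0
      have q1 := hc 1
      have q2 := hc 2
      have q3 := hc 3
      simp [Fin.sum_univ_four, S.polar_form, S.alt z, S.alt u, S.adj, S.sq, hzq, hu, hzu, hzJu, huz, huJz, S.two,
        S.beta_ne] at q0 q1 q2 q3 ⊢
      simp [q0, q1, q2, q3])
  refine ⟨w, hw, ?_, ?_, ?_, ?_⟩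
  · rw [S.swap w z]; exact S.of_polar (hwv 0)
  · rw [S.neg w z, S.of_polar' (hwv 1), neg_neg]
  · rw [S.swap w u]; exact S.of_polar (hwv 2)
  · rw [S.neg w u, S.of_polar' (hwv 3), neg_zero]

variable {K : Subgroup (BilinIsom B)}

theorem top_of_centre₃ (hN : ∀ u, B u (J u) = 0 → ∀ c, S.nT u c ∈ K) {e : ι → F} (he : e ∈ transCentres S.alt K)
    (he0 : e ≠ 0) : K = ⊤ := by
  obtain ⟨u₀, hu₀, heu, -⟩ := S.partner₃ h6 he0 1 0
  obtain ⟨hz, hz0⟩ := S.line_centre hN he hu₀ fun h => one_ne_zero (heu.symm.trans h.1)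
  obtain ⟨z, hz, hz0, hzq⟩ : ∃ z, z ∈ transCentres S.alt K ∧ z ≠ 0 ∧ B z (J z) = 0 :=
    ⟨_, hz, hz0, by rw [add_comm]; exact S.form_line hu₀ _ _⟩
  obtain ⟨u, hu, hzu, hzJu⟩ := S.partner₃ h6 hz0 1 0
  have hpC : u ∈ transCentres S.alt K := S.point hN hz hu hzJu (by rw [hzu]; exact one_ne_zero)
  obtain ⟨w, hw, d1, d2, d3, d4⟩ := S.third h6 hzq hu hzu hzJu
  have hwfull : ∀ p q : F, p • w + q • J w ∈ transCentres S.alt K := by
    intro p q
    by_cases h0 : q = 0 ∧ p = 0
    · rw [h0.1, h0.2, zero_smul, zero_smul, add_zero]; exact transCentres_zero _ _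
    refine S.point hN (transCentres_span hz hpC (by rw [hzu]; exact one_ne_zero) p (-(q * β))) (S.form_line hw p q) ?_ ?_
    · simp only [map_add, map_smul, LinearMap.add_apply, LinearMap.smul_apply, smul_eq_mul, S.sq, d1, d2, d3, d4]
      ring
    · simp only [map_add, map_smul, LinearMap.add_apply, LinearMap.smul_apply, smul_eq_mul, d1, d2, d3, d4]
      intro e1
      exact S.norm_ne h0 (by linear_combination e1)
  have hw0 : w ≠ 0 := fun h => by rw [h, map_zero] at d2; exact zero_ne_one d2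
  have hsing : ∀ x, B x (J x) = 0 → x ∈ transCentres S.alt K := by
    intro x hx
    by_cases hxw : x ∈ S.jline w
    · obtain ⟨p, q, rfl⟩ := Submodule.mem_span_pair.mp hxw
      exact hwfull p q
    exact S.point_of_line hN hwfull hx fun h => S.not_iso_four h6 hw0 hxw hw hx h.1 h.2
  refine eq_top_of_transCentres S.nondeg (hA := S.alt) fun v => ?_
  by_cases hv0 : v = 0
  · rw [hv0]; exact transCentres_zero _ _
  obtain ⟨w', hw', hvw, hvJw⟩ := S.partner₃ h6 hv0 (-1) (B v (J v) / 2)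
  have h1 : B (v - w') (J (v - w')) = 0 := by
    simp only [map_sub, LinearMap.sub_apply, hw', S.swap v w', hvJw]
    field_simp [S.two]
    ring
  have := transCentres_add (hsing _ h1) (hsing w' hw') (by
    rw [map_sub, LinearMap.sub_apply, hvw, S.alt w', sub_zero]; exact neg_ne_zero.mpr one_ne_zero)
  rwa [sub_add_cancel] at this

omit h6 in
/-- A torus element moving `y` on its line and fixing what is orthogonal to the pair `y, z`. -/
theorem exists_torus {y z : ι → F} (hy : B y (J y) = 0) (hz : B z (J z) = 0) (hyz : B y z = 1) (hyJz : B y (J z) = 0)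
    {t : F} (ht : t * t * β ≠ 1) :
    ∃ g : BilinIsom B, (∀ x, (g : (ι → F) ≃ₗ[F] (ι → F)) (J x) = J ((g : (ι → F) ≃ₗ[F] (ι → F)) x)) ∧
      (g : (ι → F) ≃ₗ[F] (ι → F)) y = y + t • J y ∧
      ∀ x, B y x = 0 → B (J y) x = 0 → B z x = 0 → B (J z) x = 0 → (g : (ι → F) ≃ₗ[F] (ι → F)) x = x := by
  have hzy : B z y = -1 := by rw [S.neg y z, hyz]
  have hzJy : B z (J y) = 0 := by rw [S.swap y z, hyJz]
  obtain ⟨i, hi⟩ : ∃ i, i * (1 - t * t * β) = 1 := ⟨(1 - t * t * β)⁻¹, inv_mul_cancel₀ (sub_ne_zero.mpr ht.symm)⟩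
  obtain ⟨b, hb⟩ : ∃ b, b * β = 1 := ⟨β⁻¹, inv_mul_cancel₀ S.beta_ne⟩
  let gl : (ι → F) →ₗ[F] (ι → F) := LinearMap.id + (-t) • (B z).smulRight (J y) + t • (B (J z)).smulRight y +
    (B y).smulRight ((i - 1) • z + (i * t) • J z) - b • (B (J y)).smulRight ((i - 1) • J z + (i * t * β) • z)
  have hgl : ∀ x, gl x = x + (-t * B z x) • J y + (t * B (J z) x) • y + B y x • ((i - 1) • z + (i * t) • J z) -
      (b * B (J y) x) • ((i - 1) • J z + (i * t * β) • z) := fun x => by simp [gl, smul_smul, mul_assoc]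
  have hiso : ∀ x x', B (gl x) (gl x') = B x x' := fun x x' => by
    simp only [hgl, map_add, map_sub, map_smul, LinearMap.add_apply, LinearMap.sub_apply, LinearMap.smul_apply,
      smul_eq_mul, S.alt y, S.alt z, S.adj, S.sq, hy, hz, hyz, hyJz, hzy, hzJy]
    rw [S.neg y x, S.neg z x, show B x (J y) = B y (J x) from S.swap y x, show B x (J z) = B z (J x) from S.swap z x]
    linear_combination (b * B z (J x) * B y (J x') - b * B y (J x) * B z (J x') + B y x * B z x' - B z x * B y x') * hi +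
      (t * B z x' * B y (J x) - t * B z x * B y (J x')) * hb
  have hinj : Function.Injective gl := (injective_iff_map_eq_zero gl).mpr fun x hx => S.nondeg.1 x fun x' => by
    rw [← hiso, hx, map_zero, LinearMap.zero_apply]
  let g : BilinIsom B := ⟨LinearEquiv.ofBijective gl ⟨hinj, LinearMap.injective_iff_surjective.mp hinj⟩, hiso⟩
  refine ⟨g, fun x => ?_, ?_, fun x h1 h2 h3 h4 => ?_⟩
  · show gl (J x) = J (gl x)
    simp only [hgl, map_add, map_sub, map_smul, S.sq, S.JJ, S.adj]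
    have hJ : ∀ a x, B a (J x) = -B (J a) x := fun a x => by rw [S.adj, neg_neg]
    match_scalars <;> first
      | linear_combination (0 : F) * hb
      | linear_combination (B y (J x) - i * B y (J x) + i * β * B y x * t) * hb
      | linear_combination (-(B y (J x) * i * t) + i * B y x - B y x) * hb
  · show gl y = _
    simp only [hgl, S.alt y, S.adj, hy, hzy, hzJy, neg_zero, mul_zero, zero_smul, add_zero, sub_zero]
    module
  · show gl x = x
    simp [hgl, h1, h2, h3, h4]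

theorem centre_of_plane (hN : ∀ u, B u (J u) = 0 → ∀ c, S.nT u c ∈ K)
    (hJ : ∀ g : BilinIsom B, (∀ x, (g : (ι → F) ≃ₗ[F] (ι → F)) (J x) = J ((g : (ι → F) ≃ₗ[F] (ι → F)) x)) → g ∈ K)
    {e p : ι → F} (he0 : e ≠ 0) (hep : B e p = 0) (hp : p ∉ S.jline e)
    (hA : ∀ c, sympT S.alt p c * sympT S.alt e (-β * c) ∈ K) : ∃ x ∈ transCentres S.alt K, x ≠ 0 := by
  have hpe : B p e = 0 := by rw [S.neg e p, hep, neg_zero]
  obtain ⟨a, b, hab⟩ : ∃ a b : F, B (a • e + b • p) (J (a • e + b • p)) ≠ 0 := by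
    by_contra hc
    push Not at hc
    have h1 := hc 1 0
    have h2 := hc 0 1
    have h3 := hc 1 1
    simp [S.swap e p] at h1 h2 h3
    have h4 : B e (J p) = 0 := by
      rw [h1, h2, zero_add, add_zero, ← two_mul] at h3
      exact (mul_eq_zero.mp h3).resolve_left S.two
    exact S.not_iso_four h6 he0 hp h1 h2 hep h4
  set w₀ := a • e + b • p with hw₀
  set w₁ := (-β * b) • e + (-a) • p with hw₁
  have hN0 : a * a - β * (b * b) ≠ 0 := S.norm_ne fun h => hab (by simp [hw₀, h.1, h.2])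
  have h01 : B w₀ w₁ = 0 := by simp [hw₀, hw₁, S.alt e, S.alt p, hep, hpe]
  have h10 : B w₁ w₀ = 0 := by rw [S.neg w₀ w₁, h01, neg_zero]
  have hw₀0 : w₀ ≠ 0 := fun h => hab (by rw [h, map_zero, LinearMap.zero_apply])
  set r := B w₁ (J w₀) / B w₀ (J w₀) with hr
  set w₂ := w₁ - r • w₀ with hw₂
  have h02 : B w₀ w₂ = 0 := by simp [hw₂, h01, S.alt w₀]
  have h20 : B w₂ w₀ = 0 := by rw [S.neg w₀ w₂, h02, neg_zero]
  have h2J0 : B w₂ (J w₀) = 0 := by
    rw [hw₂, map_sub, LinearMap.sub_apply, map_smul, LinearMap.smul_apply, smul_eq_mul, hr, div_mul_cancel₀ _ hab,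
      sub_self]
  have h0J2 : B w₀ (J w₂) = 0 := by rw [S.swap w₂ w₀, h2J0]
  have hl2 : w₂ ∉ S.jline w₀ := fun h => by
    have hs : w₀ ∈ S.jline w₀ := Submodule.subset_span (by simp)
    have h1 : w₁ ∈ S.jline w₀ := by
      have := add_mem h (Submodule.smul_mem _ r hs)
      rwa [hw₂, sub_add_cancel] at this
    have hE : e ∈ S.jline w₀ := by
      have := add_mem (Submodule.smul_mem _ a hs) (Submodule.smul_mem _ b h1)
      rw [hw₀, hw₁, show a • (a • e + b • p) + b • ((-β * b) • e + (-a) • p) = (a * a - β * (b * b)) • e by module,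
        Submodule.smul_mem_iff _ hN0] at this
      exact this
    have hP : p ∈ S.jline w₀ := by
      have := sub_mem (Submodule.smul_mem _ (β * b) hs) (Submodule.smul_mem _ (-a) h1)
      rw [hw₀, hw₁, show (β * b) • (a • e + b • p) - (-a) • ((-β * b) • e + (-a) • p) =
        (-(a * a - β * (b * b))) • p by module, Submodule.smul_mem_iff _ (neg_ne_zero.mpr hN0)] at this
      exact this
    obtain ⟨c, d, hcd⟩ := Submodule.mem_span_pair.mp hE
    have hwl : w₀ ∈ S.jline e := by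
      by_contra hh
      obtain ⟨rfl, rfl⟩ := S.pair_mem₃ (T := S.jline e) (fun z hz => S.jline_J hz) (c := c) (d := d)
        (by rw [hcd]; exact Submodule.subset_span (by simp)) hh
      exact he0 (by rw [← hcd]; simp)
    exact hp ((Submodule.span_le.mpr (Set.insert_subset hwl (Set.singleton_subset_iff.mpr (S.jline_J hwl))) :
      S.jline w₀ ≤ S.jline e) hP)
  obtain ⟨y, hy, hyv⟩ : ∃ y, S.form y = 0 ∧ ∀ i, QuadraticMap.polar (⇑S.form) y (![w₀, J w₀, w₂, J w₂] i) =
      ![2 * 0, 2 * β * 0, 2 * 1, 2 * β * 0] i := by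
    by_cases hq : B w₂ (J w₂) = 0
    · refine Refl.singular_with_rad_nd S.form_nondeg _ (S.li₄ hw₀0 hl2) _ 2 (fun i => ?_) hq ?_
      · fin_cases i <;> simp [S.polar_form, S.polar_J, S.sq, h2J0, h20, hq, S.alt w₂]
      · simp [S.two]
    · refine Refl.singular_with_nd S.form_nondeg _ (S.li₄ hw₀0 hl2) _ ?_
      rw [S.rad_zero]
      · omega
      · intro c hc
        have q0 := hc 0
        have q1 := hc 1
        have q2 := hc 2
        have q3 := hc 3
        simp [Fin.sum_univ_four, S.polar_form, S.alt w₀, S.alt w₂, S.adj, S.sq, h02, h20, h2J0, h0J2, hab, hq, S.two,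
          S.beta_ne] at q0 q1 q2 q3 ⊢
        simp [q0, q1, q2, q3]
  have hy' : B y (J y) = 0 := hy
  have y1 : B y (J w₀) = 0 := S.of_polar (hyv 0)
  have y2 : B y w₀ = 0 := S.of_polar' (hyv 1)
  have y3 : B y (J w₂) = 1 := S.of_polar (hyv 2)
  have y4 : B y w₂ = 0 := S.of_polar' (hyv 3)
  have y5 : B y w₁ = 0 := by rw [show w₁ = w₂ + r • w₀ by simp [hw₂], map_add, map_smul, y4, y2, smul_zero, add_zero]
  have y6 : B w₁ (J y) = 1 := by
    rw [show w₁ = w₂ + r • w₀ by simp [hw₂], map_add, map_smul, LinearMap.add_apply, LinearMap.smul_apply,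
      S.swap y w₂, y3, S.swap y w₀, y1, smul_zero, add_zero]
  have z1 : B w₀ (J y) = 0 := by rw [S.swap y w₀, y1]
  have z2 : B w₀ y = 0 := by rw [S.neg y w₀, y2, neg_zero]
  have z5 : B w₁ y = 0 := by rw [S.neg y w₁, y5, neg_zero]
  have hA' : ∀ c, sympT S.alt w₀ (-β * c) * sympT S.alt w₁ c ∈ K := fun c => by
    convert hA ((a * a - β * (b * b)) * c) using 1
    refine BilinIsom.ext' fun x => ?_
    simp only [BilinIsom.mul_apply', sympT_apply, hw₀, hw₁, map_add, map_smul, LinearMap.add_apply,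
      LinearMap.smul_apply, S.alt e, S.alt p, hep, hpe, smul_eq_mul, mul_zero, add_zero]
    module
  set k := sympT S.alt w₀ (-β * 1) * sympT S.alt w₁ 1 * S.nT y 1 * (sympT S.alt w₀ (-β * 1) * sympT S.alt w₁ 1) with hk
  have hkK : k ∈ K := K.mul_mem (K.mul_mem (hA' 1) (hN y hy' 1)) (hA' 1)
  have hJy1 : B (J y) w₁ = -1 := by rw [S.neg w₁ (J y), y6]
  have hJy0 : B (J y) w₀ = 0 := by rw [S.neg w₀ (J y), z1, neg_zero]
  have hk1 : (k : (ι → F) ≃ₗ[F] (ι → F)) w₁ = J y := by
    simp [hk, BilinIsom.mul_apply', sympT_apply, S.nT_apply hy', h10, h01, S.alt w₁, y6, z5, hJy1, hJy0]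
  have hk0 : (k : (ι → F) ≃ₗ[F] (ι → F)) w₀ = w₀ := by
    simp [hk, BilinIsom.mul_apply', sympT_apply, S.nT_apply hy', h01, S.alt w₀, z1, z2]
  have hE : ∀ c, sympT S.alt w₀ (-β * c) * sympT S.alt y (β * c) ∈ K := fun c => by
    have h1 := K.mul_mem (K.mul_mem hkK (hA' c)) (K.inv_mem hkK)
    rw [show k * (sympT S.alt w₀ (-β * c) * sympT S.alt w₁ c) * k⁻¹ =
      k * sympT S.alt w₀ (-β * c) * k⁻¹ * (k * sympT S.alt w₁ c * k⁻¹) by group, sympT_conj, sympT_conj, hk1, hk0] at h1
    have h2 := K.mul_mem h1 (hN y hy' (-c))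
    convert h2 using 1
    refine BilinIsom.ext' fun x => ?_
    have hJyy : B (J y) y = 0 := by rw [S.neg y (J y), hy', neg_zero]
    simp only [BilinIsom.mul_apply', sympT_apply, S.nT_apply hy', map_add, map_smul, LinearMap.add_apply,
      LinearMap.smul_apply, S.alt (J y), S.alt y, hJyy, hy', hJy0, y2, z1, z2, smul_eq_mul, mul_zero, add_zero]
    module
  have hy0 : y ≠ 0 := fun h => by rw [h, map_zero, LinearMap.zero_apply] at y3; exact zero_ne_one y3
  have hyl : y ∉ S.jline w₀ := fun h => by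
    obtain ⟨c, d, hcd⟩ := Submodule.mem_span_pair.mp h
    rw [← hcd, map_add, map_smul, map_smul, LinearMap.add_apply, LinearMap.smul_apply, LinearMap.smul_apply, h0J2,
      S.adj, S.sq, map_smul, h02] at y3
    simp at y3
  obtain ⟨z, hz, hzv⟩ := Refl.singular_with_rad_nd S.form_nondeg _ (S.li₄ hw₀0 hyl)
    ![2 * 0, 2 * β * 0, 2 * 0, 2 * β * -1] 3 (fun i => by
      fin_cases i <;> simp [S.polar_form, S.polar_J, S.adj, S.sq, S.alt y, hy', y1, y2])
    (show B (J y) (J (J y)) = 0 by rw [S.JJ, hy', mul_zero]) (by simp [S.two, S.beta_ne])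
  have v1 : B z (J w₀) = 0 := S.of_polar (hzv 0)
  have v2 : B z w₀ = 0 := S.of_polar' (hzv 1)
  have v3 : B z (J y) = 0 := S.of_polar (hzv 2)
  have v4 : B z y = -1 := S.of_polar' (hzv 3)
  have hyz : B y z = 1 := by rw [S.neg z y, v4, neg_neg]
  have hyJz : B y (J z) = 0 := by rw [S.swap z y, v3]
  have hmove : ∀ t : F, t * t = 1 → ∀ c, sympT S.alt w₀ (-β * c) * sympT S.alt (y + t • J y) (β * c) ∈ K := by
    intro t ht c
    obtain ⟨g, hgJ, hgy, hgfix⟩ := S.exists_torus hy' hz hyz hyJz (t := t) (by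
      rw [ht, one_mul]; intro h; exact S.noroot 1 (by rw [one_mul, h]))
    have hg0 : (g : (ι → F) ≃ₗ[F] (ι → F)) w₀ = w₀ :=
      hgfix w₀ y2 hJy0 v2 (by rw [S.adj, v1, neg_zero])
    have h1 := K.mul_mem (K.mul_mem (hJ g hgJ) (hE c)) (K.inv_mem (hJ g hgJ))
    rw [show g * (sympT S.alt w₀ (-β * c) * sympT S.alt y (β * c)) * g⁻¹ =
      g * sympT S.alt w₀ (-β * c) * g⁻¹ * (g * sympT S.alt y (β * c) * g⁻¹) by group, sympT_conj, sympT_conj, hg0,
      hgy] at h1
    exact h1
  refine ⟨J y, fun d => ?_, fun h => hy0 ?_⟩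
  · obtain ⟨c, rfl⟩ : ∃ c, d = β * c + β * c := ⟨d / (β + β), by
      rw [← add_mul, mul_div_cancel₀]; rw [← two_mul]; exact mul_ne_zero S.two S.beta_ne⟩
    convert K.mul_mem (K.mul_mem (hmove 1 (one_mul 1) c) (hmove (-1) (by ring) c)) (hE (-(c + c))) using 1
    refine BilinIsom.ext' fun x => ?_
    have hJyy : B (J y) y = 0 := by rw [S.neg y (J y), hy', neg_zero]
    simp only [BilinIsom.mul_apply', sympT_apply, map_add, map_smul, LinearMap.add_apply,
      LinearMap.smul_apply, S.alt (J y), S.alt y, S.alt w₀, hJyy, hy', hJy0, y2, z1, z2, smul_eq_mul, mul_zero,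
      add_zero]
    module
  · have := congrArg J h
    rw [S.sq, map_zero, smul_eq_zero] at this
    exact this.resolve_left S.beta_ne

omit h6 in
theorem link {J' : (ι → F) →ₗ[F] (ι → F)} (hskew : ∀ x y, B (J' x) y = -B x (J' y))
    (hline : ∀ v, B v (J v) = 0 → J' v ∈ S.jline v) {x u : ι → F} (hx : B x (J x) = 0) (hu : B u (J u) = 0)
    (hxu : B x u ≠ 0) (hxJu : B x (J u) = 0) : ∃ d : F, J' x = d • J x ∧ J' u = d • J u := by
  obtain ⟨c, d, h1⟩ := Submodule.mem_span_pair.mp (hline x hx)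
  obtain ⟨c', d', h2⟩ := Submodule.mem_span_pair.mp (hline u hu)
  obtain ⟨c'', d'', h3⟩ := Submodule.mem_span_pair.mp (hline (x + u) (by
    simp [hx, hu, hxJu, S.swap x u]))
  have hx0 : x ≠ 0 := fun h => hxu (by rw [h, map_zero, LinearMap.zero_apply])
  have hul : u ∉ S.jline x := fun h => by
    obtain ⟨p, q, rfl⟩ := Submodule.mem_span_pair.mp h
    exact hxu (by simp [S.alt x, hx])
  have := Fintype.linearIndependent_iff.mp (S.li₄ hx0 hul) ![c'' - c, d'' - d, c'' - c', d'' - d'] (by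
    simp only [map_add, ← h1, ← h2] at h3
    simp [Fin.sum_univ_four]
    linear_combination (norm := module) h3)
  have hcc : c = c' := (sub_eq_zero.mp (this 0)).symm.trans (sub_eq_zero.mp (this 2))
  have hdd : d = d' := (sub_eq_zero.mp (this 1)).symm.trans (sub_eq_zero.mp (this 3))
  subst hcc hdd
  have hc := hskew x u
  rw [← h1, ← h2] at hc
  simp only [map_add, map_smul, LinearMap.add_apply, LinearMap.smul_apply, smul_eq_mul, S.adj, hxJu] at hc
  have hc0 : c = 0 := by
    have : (2 * B x u) * c = 0 := by linear_combination hc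
    exact (mul_eq_zero.mp this).resolve_left (mul_ne_zero S.two hxu)
  exact ⟨d, by rw [← h1, hc0, zero_smul, zero_add], by rw [← h2, hc0, zero_smul, zero_add]⟩

theorem lines_scalar {J' : (ι → F) →ₗ[F] (ι → F)} (hskew : ∀ x y, B (J' x) y = -B x (J' y))
    (hsq : ∀ x, J' (J' x) = β • x) (hline : ∀ v, B v (J v) = 0 → J' v ∈ S.jline v) :
    ∃ d : F, d ≠ 0 ∧ ∀ x, J' x = d • J x := by
  haveI : Nonempty ι := Fintype.card_pos_iff.mp (by omega)
  obtain ⟨e, he⟩ := exists_ne (0 : ι → F)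
  obtain ⟨z, hzq, hez, -⟩ := S.partner₃ h6 he 1 0
  have hz0 : z ≠ 0 := fun h => by rw [h, map_zero] at hez; exact zero_ne_one hez
  obtain ⟨u, hu, hzu, hzJu⟩ := S.partner₃ h6 hz0 1 0
  obtain ⟨w, hw, d1, d2, d3, d4⟩ := S.third h6 hzq hu hzu hzJu
  obtain ⟨d, h1, h2⟩ := S.link hskew hline hzq hu (by rw [hzu]; exact one_ne_zero) hzJu
  have hd0 : d ≠ 0 := fun h => by
    rw [h, zero_smul] at h1
    have := hsq z
    rw [h1, map_zero] at this
    exact hz0 ((smul_eq_zero.mp this.symm).resolve_left S.beta_ne)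
  have hJ' : ∀ x, J' x = d • J x → J' (J x) = d⁻¹ • J (J x) := fun x hx => by
    have := congrArg (fun v => d⁻¹ • J' v) hx
    simp only [hsq, map_smul, smul_smul, inv_mul_cancel₀ hd0, one_smul] at this
    rw [← this, S.sq, smul_smul]
  have hdd : d⁻¹ = d := by
    have h := hskew z (J u)
    rw [h1, hJ' u h2, map_smul, LinearMap.smul_apply, S.JJ, S.sq, map_smul, map_smul, hzu] at h
    have : (d⁻¹ - d) * β = 0 := by
      simp only [smul_eq_mul] at h
      linear_combination h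
    exact sub_eq_zero.mp ((mul_eq_zero.mp this).resolve_right S.beta_ne)
  obtain ⟨d', h1', h3⟩ := S.link hskew hline hzq hw (by rw [d2]; exact one_ne_zero) d1
  have hJz : J z ≠ 0 := fun h => hz0 (by
    have := congrArg J h
    rw [S.sq, map_zero, smul_eq_zero] at this
    exact this.resolve_left S.beta_ne)
  have hd' : d' = d := by
    rw [h1] at h1'
    exact (smul_left_injective F hJz h1').symm
  rw [hd'] at h3
  refine ⟨d, hd0, fun x => ?_⟩
  let L := LinearMap.ker (J' - d • J)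
  have hmem : ∀ v, J' v = d • J v → v ∈ L ∧ J v ∈ L := fun v hv => by
    simp only [L, LinearMap.mem_ker, LinearMap.sub_apply, LinearMap.smul_apply, sub_eq_zero]
    exact ⟨hv, (hJ' v hv).trans (by rw [hdd])⟩
  have huz : B u z = -1 := by rw [S.neg z u, hzu]
  have huJz : B u (J z) = 0 := by rw [S.swap z u, hzJu]
  have hul : u ∉ S.jline z := fun h => by
    obtain ⟨p, q, rfl⟩ := Submodule.mem_span_pair.mp h
    simp [S.alt z, hzq] at hzu
  set T := Submodule.span F (Set.range ![z, J z, u, J u]) with hT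
  have hTJ : ∀ v ∈ T, J v ∈ T := fun v hv => by
    refine (Submodule.span_le.mpr ?_ : T ≤ T.comap J) hv
    rintro _ ⟨i, rfl⟩
    fin_cases i
    · exact Submodule.subset_span ⟨1, rfl⟩
    · show J (J z) ∈ T
      rw [S.sq]; exact T.smul_mem _ (Submodule.subset_span ⟨0, rfl⟩)
    · exact Submodule.subset_span ⟨3, rfl⟩
    · show J (J u) ∈ T
      rw [S.sq]; exact T.smul_mem _ (Submodule.subset_span ⟨2, rfl⟩)
  have hwT : w ∉ T := fun h => by
    obtain ⟨c, rfl⟩ := (Submodule.mem_span_range_iff_exists_fun F).mp h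
    simp [Fin.sum_univ_four, S.alt z, S.alt u, S.adj, S.sq, hzq, hu, hzu, hzJu, huz, huJz, S.beta_ne] at hw d1 d2 d3 d4
    simp [d1, d2, d3, d4] at hw
    exact S.two (by linear_combination hw)
  have htop : T ⊔ S.jline w = ⊤ := by
    refine Submodule.eq_top_of_finrank_eq ?_
    have e1 := Submodule.finrank_sup_add_finrank_inf_eq T (S.jline w)
    have e2 : T ⊓ S.jline w = ⊥ := eq_bot_iff.mpr fun v hv => by
      obtain ⟨hv1, hv2⟩ := hv
      obtain ⟨p, q, rfl⟩ := Submodule.mem_span_pair.mp hv2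
      obtain ⟨rfl, rfl⟩ := S.pair_mem₃ hTJ hv1 hwT
      simp
    have hw0 : w ≠ 0 := fun h => hwT (by rw [h]; exact T.zero_mem)
    have e3 : Module.finrank F (S.jline w) = 2 := by
      have e := finrank_span_eq_card (S.li₂ hw0)
      rw [Matrix.range_cons_cons_empty, Fintype.card_fin] at e
      exact e
    rw [e2, finrank_bot, e3, finrank_span_eq_card (S.li₄ hz0 hul), Fintype.card_fin] at e1
    rw [Module.finrank_fintype_fun_eq_card, h6]
    omega
  have hle : T ⊔ S.jline w ≤ L := sup_le (Submodule.span_le.mpr (by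
      rintro _ ⟨i, rfl⟩
      fin_cases i
      exacts [(hmem z h1).1, (hmem z h1).2, (hmem u h2).1, (hmem u h2).2]))
    (Submodule.span_le.mpr (by
      rintro _ (rfl | rfl)
      exacts [(hmem _ h3).1, (hmem _ h3).2]))
  have hx : x ∈ L := hle (htop ▸ Submodule.mem_top)
  simpa [L, sub_eq_zero] using hx

/-- The subgroup normalising the field is maximal in dimension six. -/
theorem isCoatom₃ (M : Subgroup (BilinIsom B))
    (hM : ∀ g : BilinIsom B, g ∈ M ↔ ∃ c d : F, ∀ x, (g : (ι → F) ≃ₗ[F] (ι → F)) (J x) =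
      c • (g : (ι → F) ≃ₗ[F] (ι → F)) x + d • J ((g : (ι → F) ≃ₗ[F] (ι → F)) x)) : IsCoatom M := by
  have hcomm : ∀ g : BilinIsom B,
      (∀ x, (g : (ι → F) ≃ₗ[F] (ι → F)) (J x) = J ((g : (ι → F) ≃ₗ[F] (ι → F)) x)) → g ∈ M := fun g hg =>
    (hM g).mpr ⟨0, 1, fun x => by rw [hg, zero_smul, one_smul, zero_add]⟩
  haveI : Nonempty ι := Fintype.card_pos_iff.mp (by omega)
  refine ⟨fun htop => ?_, fun K hMK => ?_⟩
  · obtain ⟨z, hz⟩ := exists_ne (0 : ι → F)
    obtain ⟨v, hv, hzv, -⟩ := S.partner₃ h6 hz 1 0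
    have hv0 : v ≠ 0 := fun h => by rw [h, map_zero] at hzv; exact zero_ne_one hzv
    obtain ⟨c, d, hcd⟩ := (hM (sympT S.alt v 1)).mp (htop ▸ Subgroup.mem_top _)
    have h1 := hcd v
    simp only [sympT_apply, S.alt v, S.adj, hv, mul_zero, neg_zero, zero_smul, add_zero] at h1
    obtain ⟨rfl, hd⟩ := LinearIndependent.pair_iff.mp (S.li₂ hv0) c (d - 1)
      (by linear_combination (norm := module) -h1)
    obtain rfl : d = 1 := sub_eq_zero.mp hd
    have h2 := hcd z
    simp only [sympT_apply, hzv, one_mul, mul_one, zero_smul, one_smul, zero_add, map_add] at h2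
    exact one_ne_zero (neg_eq_zero.mp (LinearIndependent.pair_iff.mp (S.li₂ hv0) (B (J z) v) (-1)
      (by linear_combination (norm := module) h2)).2)
  obtain ⟨hle, g, hgK, hgM⟩ := SetLike.lt_iff_le_and_exists.mp hMK
  have hN : ∀ u, B u (J u) = 0 → ∀ c, S.nT u c ∈ K := fun u hu c => hle (hcomm _ fun x => S.nT_comm hu c x)
  have hJK : ∀ h : BilinIsom B,
      (∀ x, (h : (ι → F) ≃ₗ[F] (ι → F)) (J x) = J ((h : (ι → F) ≃ₗ[F] (ι → F)) x)) → h ∈ K := fun h hh => hle (hcomm h hh)
  have hbad : ¬ ∀ v, B v (J v) = 0 → (g : (ι → F) ≃ₗ[F] (ι → F)) (J v) ∈ S.jline ((g : (ι → F) ≃ₗ[F] (ι → F)) v) := by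
    intro hall
    apply hgM
    set gl := (g : (ι → F) ≃ₗ[F] (ι → F))
    set J' := gl.symm.toLinearMap ∘ₗ J ∘ₗ gl.toLinearMap with hJ'
    have happ : ∀ v, gl (J' v) = J (gl v) := fun v => gl.apply_symm_apply _
    obtain ⟨d, hd, hJd⟩ := S.lines_scalar h6 (J' := J') (fun x y => by
        rw [← g.2 (J' x) y, ← g.2 x (J' y)]
        show B (gl (J' x)) (gl y) = -B (gl x) (gl (J' y))
        rw [happ, happ, S.adj])
      (fun x => gl.injective (by rw [happ, happ, S.sq, map_smul]))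
      (fun v hv => by
        obtain ⟨c, d, h⟩ := Submodule.mem_span_pair.mp (hall v hv)
        by_cases hv0 : v = 0
        · subst hv0; simp
        have hd : d ≠ 0 := fun hd => by
          rw [hd, zero_smul, add_zero] at h
          have h' : c • v = J v := gl.injective (by rw [map_smul]; exact h)
          exact one_ne_zero (neg_eq_zero.mp (LinearIndependent.pair_iff.mp (S.li₂ hv0) c (-1)
            (by rw [h']; module)).2)
        have e : J' v = d⁻¹ • (J v - c • v) := gl.injective (by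
          rw [happ, map_smul, map_sub, map_smul, ← h, add_sub_cancel_left, smul_smul, inv_mul_cancel₀ hd, one_smul])
        rw [e]
        exact Submodule.smul_mem _ _ (sub_mem (Submodule.subset_span (by simp))
          (Submodule.smul_mem _ _ (Submodule.subset_span (by simp)))))
    refine (hM g).mpr ⟨0, d⁻¹, fun x => ?_⟩
    show gl (J x) = (0 : F) • gl x + d⁻¹ • J (gl x)
    rw [← happ, hJd, map_smul, smul_smul, inv_mul_cancel₀ hd, one_smul, zero_smul, zero_add]
  push Not at hbad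
  obtain ⟨v, hv, hvl⟩ := hbad
  have hv0 : v ≠ 0 := fun h => hvl (by subst h; simp)
  obtain ⟨x, hx, hx0⟩ := S.centre_of_plane h6 hN hJK (e := (g : (ι → F) ≃ₗ[F] (ι → F)) v)
    (p := (g : (ι → F) ≃ₗ[F] (ι → F)) (J v)) (by simpa using hv0) (by rw [BilinIsom.map_form]; exact hv) hvl fun c => by
      have := K.mul_mem (K.mul_mem hgK (hN v hv c)) (K.inv_mem hgK)
      rw [SJ.nT, show g * (sympT S.alt (J v) c * sympT S.alt v (-β * c)) * g⁻¹ =
        (g * sympT S.alt (J v) c * g⁻¹) * (g * sympT S.alt v (-β * c) * g⁻¹) by group, sympT_conj, sympT_conj] at this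
      exact this
  exact S.top_of_centre₃ h6 hN hx hx0

end Cfsg.Lib.Classical.SJ

namespace Cfsg.Lib.Classical

theorem isMaximalIn_symplectic_overfield_three {F : Type*} [Field F] [Fintype F] (hodd : Odd (Fintype.card F))
    (A : Subalgebra F (Matrix (Fin 3 ⊕ Fin 3) (Fin 3 ⊕ Fin 3) F)) (hA : Cfsg.Geo.IsFieldSubalgebra 2 A)
    (hac : Cfsg.Geo.IsAdjointClosedFor (Cfsg.sympForm 3 F) A)
    (hnsa : ¬ Cfsg.Geo.IsSelfAdjointFor (Cfsg.sympForm 3 F) A) :
    Cfsg.Geo.IsMaximalIn (Cfsg.spGL 3 F) (Cfsg.Geo.subalgebraNormalizer A ⊓ Cfsg.spGL 3 F) :=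
  isMaximalIn_symplectic_overfield_of le_rfl hodd (fun {J β} S M hM => S.isCoatom₃ (by simp) M hM) A hA hac hnsa

end Cfsg.Lib.Classical
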