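import Cfsg.Agent.Classical.Orth.LowRankFive
import Cfsg.Agent.Classical.Orth.FamilyOvergroups
import Cfsg.Agent.Classical.MaxBridge
import Cfsg.Agent.Classical.Symp.Card
import Cfsg.Prelude.Def_GeometricClasses

set_option autoImplicit false
set_option linter.unusedVariables false
set_option linter.unusedSimpArgs false
set_option linter.unusedSectionVars false
set_option linter.style.haveILetI false
set_option linter.flexible false

/-! `Sp_4(q)` acting on the five-dimensional space of trace-zero self-adjoint matrices, `q` odd. -/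

namespace Cfsg.Lib.Classical.SpFive

open Matrix Cfsg.Lib.Classical

universe u

variable {F : Type u} [Field F]

local notation "ι4" => (Fin 2 ⊕ Fin 2)
local notation "ι5" => (Unit ⊕ (Fin 2 ⊕ Fin 2))
local notation "M4" => Matrix (Fin 2 ⊕ Fin 2) (Fin 2 ⊕ Fin 2) F
local notation "J4" => Matrix.J (Fin 2) F

/-- The five-dimensional space as self-adjoint matrices of trace zero. -/
def X : (ι5 → F) →ₗ[F] M4 where
  toFun y := Matrix.fromBlocks
    !![y (.inl ()), y (.inr (.inl 0)); y (.inr (.inr 0)), -y (.inl ())]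
    !![0, y (.inr (.inl 1)); -y (.inr (.inl 1)), 0]
    !![0, -y (.inr (.inr 1)); y (.inr (.inr 1)), 0]
    !![y (.inl ()), y (.inr (.inr 0)); y (.inr (.inl 0)), -y (.inl ())]
  map_add' y z := by
    ext (i | i) (j | j) <;> fin_cases i <;> fin_cases j <;> simp [add_comm]
  map_smul' c y := by
    ext (i | i) (j | j) <;> fin_cases i <;> fin_cases j <;> simp

/-- Coordinates of a matrix. -/
def co : M4 →ₗ[F] (ι5 → F) where
  toFun M := Sum.elim (fun _ => M (.inl 0) (.inl 0))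
    (Sum.elim ![M (.inl 0) (.inl 1), M (.inl 0) (.inr 1)] ![M (.inl 1) (.inl 0), M (.inr 1) (.inl 0)])
  map_add' M N := by
    funext i; rcases i with i | i | i <;> (try fin_cases i) <;> simp
  map_smul' c M := by
    funext i; rcases i with i | i | i <;> (try fin_cases i) <;> simp

theorem co_X (y : ι5 → F) : co (X y) = y := by
  funext i; rcases i with i | i | i <;> (try fin_cases i) <;> simp [co, X]

theorem X_injective : Function.Injective (X (F := F)) := fun y z h => by rw [← co_X y, h, co_X]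

theorem X_ne_zero {y : ι5 → F} (hy : y ≠ 0) : X y ≠ 0 := fun h => hy (X_injective (by rw [h, map_zero]))

/-- Self-adjoint for the symplectic form and of trace zero. -/
def IsW (M : M4) : Prop := M.trace = 0 ∧ J4 * M = Mᵀ * J4

theorem isW_X (y : ι5 → F) : IsW (X y) := by
  refine ⟨?_, ?_⟩
  · simp [Matrix.trace, X, Fintype.sum_sum_type, Fin.sum_univ_two]
  · ext (i | i) (j | j) <;> fin_cases i <;> fin_cases j <;>
      simp [X, Matrix.J, Matrix.mul_apply, Fintype.sum_sum_type, Fin.sum_univ_two]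

theorem X_co (h2 : (2 : F) ≠ 0) {M : M4} (h : IsW M) : X (co M) = M := by
  obtain ⟨ht, hJ⟩ := h
  have hh := fun r s => congrFun (congrFun hJ r) s
  have e1 := hh (.inr 0) (.inl 0)
  have e2 := hh (.inr 0) (.inl 1)
  have e3 := hh (.inr 1) (.inl 0)
  have e4 := hh (.inr 1) (.inl 1)
  have e5 := hh (.inl 0) (.inl 0)
  have e6 := hh (.inl 0) (.inl 1)
  have e7 := hh (.inl 1) (.inl 1)
  have e8 := hh (.inr 0) (.inr 0)
  have e9 := hh (.inr 0) (.inr 1)
  have e10 := hh (.inr 1) (.inr 1)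
  simp [Matrix.J, Matrix.mul_apply, Fintype.sum_sum_type, Fin.sum_univ_two] at e1 e2 e3 e4 e5 e6 e7 e8 e9 e10
  simp [Matrix.trace, Fintype.sum_sum_type, Fin.sum_univ_two] at ht
  ext (i | i) (j | j) <;> fin_cases i <;> fin_cases j <;> simp [X, co] <;> grind

theorem X_mul_self (y : ι5 → F) : X y * X y = Cfsg.quadFormOdd 2 F y • (1 : M4) := by
  ext (i | i) (j | j) <;> fin_cases i <;> fin_cases j <;>
    simp [X, Matrix.mul_apply, Fintype.sum_sum_type, Fin.sum_univ_two, Cfsg.quadFormOdd, Matrix.one_apply] <;> ring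

theorem X_anticomm (y z : ι5 → F) :
    X y * X z + X z * X y = QuadraticMap.polar (⇑(Refl.oddForm 2 F)) y z • (1 : M4) := by
  have h := X_mul_self (y + z)
  rw [map_add, add_mul, mul_add, mul_add, X_mul_self y, X_mul_self z] at h
  rw [QuadraticMap.polar, Refl.oddForm_coe, sub_smul, sub_smul, ← h]
  abel

theorem anticomm_of_polar {y z : ι5 → F} (h : QuadraticMap.polar (⇑(Refl.oddForm 2 F)) y z = 0) :
    X z * X y = -(X y * X z) := by
  have := X_anticomm y z
  rw [h, zero_smul] at this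
  exact eq_neg_of_add_eq_zero_right this

/-- Only scalars commute with all of the five-dimensional space. -/
theorem scalar_of_comm (h2 : (2 : F) ≠ 0) {M : M4} (h : ∀ y, M * X y = X y * M) :
    ∃ c : F, M = c • (1 : M4) := by
  have h1 := fun r s => congrFun (congrFun (h (Pi.single (.inl ()) 1)) r) s
  have h3 := fun r s => congrFun (congrFun (h (Pi.single (.inr (.inl 0)) 1)) r) s
  have h4 := fun r s => congrFun (congrFun (h (Pi.single (.inr (.inr 0)) 1)) r) s
  have h5 := fun r s => congrFun (congrFun (h (Pi.single (.inr (.inl 1)) 1)) r) s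
  have a1 := h1 (.inl 0) (.inl 1)
  have a2 := h1 (.inl 1) (.inl 0)
  have a3 := h1 (.inl 0) (.inr 1)
  have a4 := h1 (.inr 1) (.inl 0)
  have a5 := h1 (.inl 1) (.inr 0)
  have a6 := h1 (.inr 0) (.inl 1)
  have a7 := h1 (.inr 0) (.inr 1)
  have a8 := h1 (.inr 1) (.inr 0)
  have b1 := h3 (.inl 0) (.inl 1)
  have b2 := h3 (.inr 1) (.inr 0)
  have b3 := h3 (.inr 0) (.inl 1)
  have b4 := h3 (.inl 1) (.inr 0)
  have b5 := h3 (.inl 0) (.inr 1)
  have b6 := h3 (.inr 1) (.inl 0)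
  have b7 := h3 (.inl 0) (.inr 0)
  have b8 := h3 (.inr 1) (.inl 1)
  have c1 := h4 (.inl 1) (.inr 0)
  have c2 := h4 (.inr 0) (.inl 1)
  have c3 := h4 (.inl 1) (.inr 1)
  have c4 := h4 (.inr 0) (.inl 0)
  have d1 := h5 (.inl 0) (.inr 1)
  simp [X, Matrix.mul_apply, Fintype.sum_sum_type, Fin.sum_univ_two] at a1 a2 a3 a4 a5 a6 a7 a8 b1 b2 b3 b4 b5 b6 b7 b8 c1 c2 c3 c4 d1
  refine ⟨M (.inl 0) (.inl 0), ?_⟩
  ext (i | i) (j | j) <;> fin_cases i <;> fin_cases j <;> simp [Matrix.one_apply] <;> grind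

theorem mem_spGL {g : Matrix.GeneralLinearGroup ι4 F} (hg : g ∈ Cfsg.spGL 2 F) :
    (g : M4)ᵀ * J4 * (g : M4) = J4 :=
  SymplecticGroup.mem_iff'.mp ((mem_symplectic_iff_form (g : M4)).mpr fun x y => by
    rw [sympBilin_eq_sympForm, sympBilin_eq_sympForm]; exact hg x y)

theorem isW_conj {g : Matrix.GeneralLinearGroup ι4 F} (hg : g ∈ Cfsg.spGL 2 F) {M : M4} (h : IsW M) :
    IsW ((g : M4) * M * ((g⁻¹ : Matrix.GeneralLinearGroup ι4 F) : M4)) := by
  refine ⟨by rw [Matrix.trace_mul_comm, ← mul_assoc, Units.inv_mul, one_mul]; exact h.1, ?_⟩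
  have hg1 : ((g⁻¹ : Matrix.GeneralLinearGroup ι4 F) : M4)ᵀ * J4 = J4 * (g : M4) := by
    have h1 := congrArg (fun Z => ((g⁻¹ : Matrix.GeneralLinearGroup ι4 F) : M4)ᵀ * Z) (mem_spGL hg)
    simp only [← mul_assoc] at h1
    rw [← Matrix.transpose_mul, Units.mul_inv, Matrix.transpose_one, one_mul] at h1
    exact h1.symm
  calc J4 * ((g : M4) * M * ((g⁻¹ : Matrix.GeneralLinearGroup ι4 F) : M4))
      = (J4 * (g : M4)) * M * ((g⁻¹ : Matrix.GeneralLinearGroup ι4 F) : M4) := by simp only [mul_assoc]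
    _ = ((g⁻¹ : Matrix.GeneralLinearGroup ι4 F) : M4)ᵀ * (J4 * M) * ((g⁻¹ : Matrix.GeneralLinearGroup ι4 F) : M4) := by
        rw [← hg1]; simp only [mul_assoc]
    _ = ((g⁻¹ : Matrix.GeneralLinearGroup ι4 F) : M4)ᵀ * Mᵀ * (J4 * ((g⁻¹ : Matrix.GeneralLinearGroup ι4 F) : M4)) := by
        rw [h.2]; simp only [mul_assoc]
    _ = _ := by
        have h1 : J4 * ((g⁻¹ : Matrix.GeneralLinearGroup ι4 F) : M4) = (g : M4)ᵀ * J4 := by
          conv_lhs => rw [← mem_spGL hg]
          rw [mul_assoc, Units.mul_inv, mul_one]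
        rw [h1, Matrix.transpose_mul, Matrix.transpose_mul]
        simp only [mul_assoc]

/-- The action on the five-dimensional space. -/
def act (g : Cfsg.spGL 2 F) : (ι5 → F) →ₗ[F] (ι5 → F) :=
  co ∘ₗ LinearMap.mulRight F ((g⁻¹ : Cfsg.spGL 2 F).1 : M4) ∘ₗ LinearMap.mulLeft F (g.1 : M4) ∘ₗ X

theorem X_act (h2 : (2 : F) ≠ 0) (g : Cfsg.spGL 2 F) (y : ι5 → F) :
    X (act g y) = (g.1 : M4) * X y * ((g.1⁻¹ : Matrix.GeneralLinearGroup ι4 F) : M4) :=
  X_co h2 (isW_conj g.2 (isW_X y))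

theorem act_one (h2 : (2 : F) ≠ 0) : act (1 : Cfsg.spGL 2 F) = LinearMap.id :=
  LinearMap.ext fun y => X_injective (by simp [X_act h2])

theorem act_mul (h2 : (2 : F) ≠ 0) (g h : Cfsg.spGL 2 F) : act (g * h) = (act g).comp (act h) :=
  LinearMap.ext fun y => X_injective (by
    rw [LinearMap.comp_apply, X_act h2, X_act h2, X_act h2]
    simp [mul_assoc])

theorem act_form (h2 : (2 : F) ≠ 0) (g : Cfsg.spGL 2 F) (y : ι5 → F) :
    Cfsg.quadFormOdd 2 F (act g y) = Cfsg.quadFormOdd 2 F y := by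
  have h := X_mul_self (act g y)
  rw [X_act h2, show (g.1 : M4) * X y * ((g.1⁻¹ : Matrix.GeneralLinearGroup ι4 F) : M4) *
      ((g.1 : M4) * X y * ((g.1⁻¹ : Matrix.GeneralLinearGroup ι4 F) : M4)) =
      (g.1 : M4) * (X y * X y) * ((g.1⁻¹ : Matrix.GeneralLinearGroup ι4 F) : M4) by simp [mul_assoc],
    X_mul_self, mul_smul_comm, mul_one, smul_mul_assoc, Units.mul_inv] at h
  simpa using (congrFun (congrFun h (.inl 0)) (.inl 0)).symm

variable [Fintype F]

/-- The homomorphism onto `Ω_5(q)`. -/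
noncomputable def psi (h2 : (2 : F) ≠ 0) : Cfsg.spGL 2 F →* Matrix.GeneralLinearGroup ι5 F :=
  (Cfsg.isometryGroup F (Cfsg.quadFormOdd 2 F)).subtype.comp
    (LowRank.repHom (Cfsg.quadFormOdd 2 F) act (act_one h2) (act_mul h2) (act_form h2))

theorem psi_mulVec (h2 : (2 : F) ≠ 0) (g : Cfsg.spGL 2 F) (y : ι5 → F) :
    (psi h2 g : Matrix ι5 ι5 F) *ᵥ y = act g y := LinearMap.toMatrix'_mulVec _ y

theorem X_psi (h2 : (2 : F) ≠ 0) (g : Cfsg.spGL 2 F) (y : ι5 → F) :
    X ((psi h2 g : Matrix ι5 ι5 F) *ᵥ y) = (g.1 : M4) * X y * ((g.1⁻¹ : Matrix.GeneralLinearGroup ι4 F) : M4) := by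
  rw [psi_mulVec, X_act h2]

theorem range_psi (hodd : Odd (Fintype.card F)) (h2 : (2 : F) ≠ 0) :
    (psi (F := F) h2).range = Cfsg.Geo.omegaGL (Cfsg.quadFormOdd 2 F) := by
  classical
  set ρ := LowRank.repHom (Cfsg.quadFormOdd 2 F) act (act_one h2) (act_mul h2) (act_form h2) with hρ
  have hN : 3 ≤ Nat.card F := by
    have := Fintype.one_lt_card (α := F)
    rw [Nat.card_eq_fintype_card]
    rw [Nat.odd_iff] at hodd
    omega
  have hperf : commutator (Cfsg.spGL 2 F) = ⊤ := by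
    let e : BilinIsom (sympBilin 2 F) →* Cfsg.spGL 2 F :=
      (sympToGL 2 F).codRestrict _ fun a => range_sympToGL (F := F) 2 ▸ ⟨a, rfl⟩
    have hs : Function.Surjective e := fun b => by
      obtain ⟨a, ha⟩ : b.1 ∈ (sympToGL 2 F).range := (range_sympToGL (F := F) 2).symm ▸ b.2
      exact ⟨a, Subtype.ext ha⟩
    have h := congrArg (Subgroup.map e) (commutator_bilinIsom_eq_top (sympBilin_isAlt 2 F)
      (sympBilin_nondegenerate 2 F) (Or.inr (Or.inl ⟨finrank_sympSpace 2 F, hN⟩)))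
    rw [commutator_def, Subgroup.map_commutator, Subgroup.map_top_of_surjective _ hs] at h
    exact h
  have hle : ρ.range ≤ Cfsg.Omega F (Cfsg.quadFormOdd 2 F) := by
    rw [MonoidHom.range_eq_map, ← hperf]
    simp only [commutator_def, Subgroup.map_commutator]
    exact Subgroup.commutator_mono le_top le_top
  have hker : ∀ g, g ∈ ρ.ker ↔ g = 1 ∨ g.1.val = -1 := fun g => by
    rw [MonoidHom.mem_ker, LowRank.repHom_eq_one]
    constructor
    · intro h
      have hc : ∀ y, (g.1 : M4) * X y = X y * (g.1 : M4) := fun y => by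
        have e := X_act h2 g y
        rw [h y] at e
        calc (g.1 : M4) * X y = (g.1 : M4) * X y * ((g.1⁻¹ : Matrix.GeneralLinearGroup ι4 F) : M4) * (g.1 : M4) := by
              simp [mul_assoc]
          _ = X y * (g.1 : M4) := by rw [← e]
      obtain ⟨c, hc⟩ := scalar_of_comm h2 hc
      have hs := mem_spGL g.2
      rw [hc] at hs
      have e := congrFun (congrFun hs (.inl 0)) (.inr 0)
      simp [Matrix.J, Matrix.mul_apply, Matrix.one_apply, Fintype.sum_sum_type, Fin.sum_univ_two] at e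
      rcases mul_self_eq_one_iff.mp (show c * c = 1 by linear_combination e) with rfl | rfl
      · exact Or.inl (Subtype.ext (Units.ext (by rw [hc, one_smul]; rfl)))
      · exact Or.inr (by rw [hc]; simp)
    · rintro (rfl | h) y
      · rw [act_one h2, LinearMap.id_apply]
      · refine X_injective ?_
        have hi : ((g.1⁻¹ : Matrix.GeneralLinearGroup ι4 F) : M4) = -1 := by
          have := Units.mul_inv g.1
          rw [h, neg_mul, one_mul] at this
          rw [← neg_neg ((g.1⁻¹ : Matrix.GeneralLinearGroup ι4 F) : M4), this]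
        rw [X_act h2, h, hi]
        simp
  have hkc : Nat.card ρ.ker = 2 := by
    have hneg : (-1 : Matrix.GeneralLinearGroup ι4 F) ∈ Cfsg.spGL 2 F := fun u v => by
      simp [Cfsg.sympForm, Matrix.mulVec_neg, neg_dotProduct, dotProduct_neg, Matrix.neg_mulVec]
    refine (LowRank.card_kernel_pm ρ.ker ⟨-1, hneg⟩ fun g => (hker g).trans (or_congr_right ?_)).2 ?_
    · exact ⟨fun h => Subtype.ext (Units.ext (by rw [h]; simp)), fun h => by rw [h]; simp⟩
    · intro h
      have e := congrFun (congrFun (congrArg (fun z : Cfsg.spGL 2 F => (z.1 : M4)) h) (.inl 0)) (.inl 0)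
      simp at e
      exact h2 (by linear_combination -e)
  have hcardG : Nat.card (Cfsg.spGL 2 F) =
      Nat.card F ^ (2 ^ 2) * ∏ i ∈ Finset.range 2, (Nat.card F ^ (2 * (i + 1)) - 1) := by
    rw [← range_sympToGL (F := F) 2, ← Nat.card_congr (MonoidHom.ofInjective
      ((linToGL _ F).injective.comp Subtype.val_injective : Function.Injective (sympToGL 2 F))).toEquiv,
      card_bilinIsom_symplectic 2 (sympBilin_isAlt 2 F) (sympBilin_nondegenerate 2 F) (finrank_sympSpace 2 F)]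
  have hO := OrthCard.card_odd (F := F) h2 2
  have hm := (Cfsg.Omega F (Cfsg.quadFormOdd 2 F)).card_mul_index
  have hidx : (Cfsg.Omega F (Cfsg.quadFormOdd 2 F)).index = 4 := by
    rw [← Refl.oddForm_coe]
    exact Refl.index_omega_odd _ h2 (Refl.oddForm_nondegenerate h2 2) (by simp)
  rw [hidx, hO] at hm
  have hr := ρ.ker.card_mul_index
  rw [Subgroup.index_ker, hkc, hcardG] at hr
  have heq : ρ.range = Cfsg.Omega F (Cfsg.quadFormOdd 2 F) := by
    refine Subgroup.eq_of_le_of_card_ge hle ?_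
    simp only [OrthCard.prodQ, Finset.prod_range_succ, Finset.prod_range_zero, one_mul, zero_add, mul_one] at hm hr
    nlinarith
  rw [psi, MonoidHom.range_comp, ← hρ, heq]
  rfl

/-- Maximal subgroups transfer from `Ω_5(q)`. -/
theorem maximal_transfer (hodd : Odd (Fintype.card F)) (h2 : (2 : F) ≠ 0)
    {M : Subgroup (Matrix.GeneralLinearGroup ι4 F)} {S : Subgroup (Matrix.GeneralLinearGroup ι5 F)}
    (hS : Cfsg.Geo.IsMaximalIn (Cfsg.Geo.omegaGL (Cfsg.quadFormOdd 2 F))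
      (S ⊓ Cfsg.Geo.omegaGL (Cfsg.quadFormOdd 2 F)))
    (hM : ∀ g : Cfsg.spGL 2 F, g.1 ∈ M ↔ psi h2 g ∈ S) :
    Cfsg.Geo.IsMaximalIn (Cfsg.spGL 2 F) (M ⊓ Cfsg.spGL 2 F) := by
  have hr := range_psi hodd h2
  refine ⟨lt_of_le_of_ne inf_le_right fun he => hS.1.ne ?_, fun N hN hNK => ?_⟩
  · refine le_antisymm inf_le_right fun x hx => ⟨?_, hx⟩
    obtain ⟨g, rfl⟩ : x ∈ (psi (F := F) h2).range := hr.symm ▸ hx
    exact (hM g).mp (he.symm ▸ g.2 : g.1 ∈ M ⊓ Cfsg.spGL 2 F).1
  · have h1 : S ⊓ Cfsg.Geo.omegaGL (Cfsg.quadFormOdd 2 F) ≤ (N.subgroupOf (Cfsg.spGL 2 F)).map (psi h2) := by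
      rintro x ⟨hxS, hx⟩
      obtain ⟨g, rfl⟩ : x ∈ (psi (F := F) h2).range := hr.symm ▸ hx
      exact ⟨g, hN ⟨(hM g).mpr hxS, g.2⟩, rfl⟩
    rcases hS.2 _ h1 ((Subgroup.map_le_range _ _).trans hr.le) with h | h
    · left
      refine le_antisymm (fun x hx => ⟨?_, hNK hx⟩) hN
      exact (hM ⟨x, hNK hx⟩).mpr (h.le ⟨⟨x, hNK hx⟩, hx, rfl⟩).1
    · right
      refine le_antisymm hNK fun x hx => ?_
      obtain ⟨n, hn, he⟩ : psi h2 ⟨x, hx⟩ ∈ (N.subgroupOf (Cfsg.spGL 2 F)).map (psi h2) :=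
        h.symm ▸ hr ▸ ⟨⟨x, hx⟩, rfl⟩
      obtain ⟨k, hk⟩ : ∃ k : Cfsg.spGL 2 F, k = n⁻¹ * ⟨x, hx⟩ := ⟨_, rfl⟩
      have hkS : psi h2 k ∈ S := by rw [hk, map_mul, map_inv, he, inv_mul_cancel]; exact S.one_mem
      have hkN : k.1 ∈ N := hN ⟨(hM k).mpr hkS, k.2⟩
      have e : n.1 * k.1 = x := by rw [hk, Subgroup.coe_mul, Subgroup.coe_inv, mul_inv_cancel_left]
      exact e ▸ N.mul_mem hn hkN

end Cfsg.Lib.Classical.SpFive
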