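import Cfsg.Agent.Classical.Symp.SpFiveBridge
import Cfsg.Agent.Classical.Orth.OverfieldMax

set_option autoImplicit false
set_option linter.unusedVariables false
set_option linter.unusedSimpArgs false
set_option linter.unusedSectionVars false
set_option linter.style.haveILetI false
set_option linter.flexible false

/-! Lines and planes of the five-dimensional space attached to quadratic structures on `F^4`. -/

namespace Cfsg.Lib.Classical.SpFive

open Matrix Cfsg.Lib.Classical

universe u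

variable {F : Type u} [Field F]

local notation "ι4" => (Fin 2 ⊕ Fin 2)
local notation "ι5" => (Unit ⊕ (Fin 2 ⊕ Fin 2))
local notation "M4" => Matrix (Fin 2 ⊕ Fin 2) (Fin 2 ⊕ Fin 2) F
local notation "J4" => Matrix.J (Fin 2) F

theorem stab_of_le {ι : Type} [Fintype ι] [DecidableEq ι] {W : Submodule F (ι → F)}
    {g : Matrix.GeneralLinearGroup ι F} (h : ∀ v ∈ W, (g : Matrix ι ι F) *ᵥ v ∈ W) :
    g ∈ Cfsg.Geo.subspaceStabilizer W := by
  rw [Refl.mem_subspaceStabilizer_iff]
  refine Submodule.eq_of_le_of_finrank_eq ?_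
    (LinearEquiv.finrank_map_eq (Matrix.toLinearEquiv' (g : Matrix ι ι F) g.invertible) W)
  rintro _ ⟨x, hx, rfl⟩
  exact h x hx

theorem normalizer_of_le {ι : Type} [Fintype ι] [DecidableEq ι] {K : Subalgebra F (Matrix ι ι F)}
    {g : Matrix.GeneralLinearGroup ι F}
    (h : ∀ k ∈ K, (g : Matrix ι ι F) * k * ((g⁻¹ : Matrix.GeneralLinearGroup ι F) : Matrix ι ι F) ∈ K) :
    g ∈ Cfsg.Geo.subalgebraNormalizer K := by
  intro k
  refine ⟨h k, fun hk => ?_⟩
  let c : Matrix ι ι F →ₗ[F] Matrix ι ι F :=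
    LinearMap.mulRight F ((g⁻¹ : Matrix.GeneralLinearGroup ι F) : Matrix ι ι F) ∘ₗ LinearMap.mulLeft F (g : Matrix ι ι F)
  let r : Subalgebra.toSubmodule K →ₗ[F] Subalgebra.toSubmodule K := c.restrict fun x hx => h x hx
  have hinj : Function.Injective r := fun a b hab => by
    have e : (g : Matrix ι ι F) * a.1 * ((g⁻¹ : Matrix.GeneralLinearGroup ι F) : Matrix ι ι F) =
        (g : Matrix ι ι F) * b.1 * ((g⁻¹ : Matrix.GeneralLinearGroup ι F) : Matrix ι ι F) := congrArg Subtype.val hab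
    exact Subtype.ext (g.isUnit.mul_left_cancel ((g⁻¹).isUnit.mul_right_cancel e))
  obtain ⟨a, ha⟩ := (LinearMap.injective_iff_surjective.mp hinj) ⟨_, hk⟩
  have e : (g : Matrix ι ι F) * a.1 * ((g⁻¹ : Matrix.GeneralLinearGroup ι F) : Matrix ι ι F) =
      (g : Matrix ι ι F) * k * ((g⁻¹ : Matrix.GeneralLinearGroup ι F) : Matrix ι ι F) := congrArg Subtype.val ha
  exact g.isUnit.mul_left_cancel ((g⁻¹).isUnit.mul_right_cancel e) ▸ a.2

theorem selfAdj_matrix {k : M4}
    (h : ∀ u v, Cfsg.sympForm 2 F (k *ᵥ u) v = Cfsg.sympForm 2 F u (k *ᵥ v)) : J4 * k = kᵀ * J4 := by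
  apply Matrix.toBilin'.injective
  refine LinearMap.ext fun x => LinearMap.ext fun y => ?_
  rw [Matrix.toBilin'_apply', Matrix.toBilin'_apply', ← Matrix.mulVec_mulVec, ← Matrix.mulVec_mulVec,
    Matrix.dotProduct_mulVec (A := kᵀ), Matrix.vecMul_transpose]
  exact (h x y).symm

theorem adj_matrix {k k' : M4}
    (h : ∀ u v, Cfsg.sympForm 2 F (k *ᵥ u) v = Cfsg.sympForm 2 F u (k' *ᵥ v)) : J4 * k' = kᵀ * J4 := by
  apply Matrix.toBilin'.injective
  refine LinearMap.ext fun x => LinearMap.ext fun y => ?_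
  rw [Matrix.toBilin'_apply', Matrix.toBilin'_apply', ← Matrix.mulVec_mulVec, ← Matrix.mulVec_mulVec,
    Matrix.dotProduct_mulVec (A := kᵀ), Matrix.vecMul_transpose]
  exact (h x y).symm

theorem one_ne_zero_M4 : (1 : M4) ≠ 0 := one_ne_zero

theorem trace_one_M4 : (1 : M4).trace = 4 := by simp [Matrix.trace_one]

theorem four_ne_zero' (h2 : (2 : F) ≠ 0) : (4 : F) ≠ 0 := by
  rw [show (4 : F) = 2 * 2 by norm_num]; exact mul_ne_zero h2 h2

/-- A self-adjoint quadratic field is the field generated by a vector of the five-dimensional space. -/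
theorem normalizer_line [Fintype F] (h2 : (2 : F) ≠ 0) {K : Subalgebra F M4}
    (hK : Cfsg.Geo.IsFieldSubalgebra 2 K) (hsa : Cfsg.Geo.IsSelfAdjointFor (Cfsg.sympForm 2 F) K) :
    ∃ y₀ : ι5 → F, Refl.oddForm 2 F y₀ ≠ 0 ∧ ∀ g : Cfsg.spGL 2 F,
      g.1 ∈ Cfsg.Geo.subalgebraNormalizer K ↔ psi h2 g ∈ Cfsg.Geo.subspaceStabilizer (Submodule.span F {y₀}) := by
  obtain ⟨k₁, hk₁, hli₁, hgen₁⟩ := Refl.two_gens (K := Subalgebra.toSubmodule K) hK.finrank_eq (e := 1) K.one_mem
    one_ne_zero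
  obtain ⟨k, hkdef⟩ : ∃ k, k = k₁ - (k₁.trace / 4) • (1 : M4) := ⟨_, rfl⟩
  have hk : k ∈ K := hkdef ▸ K.sub_mem hk₁ (K.smul_mem K.one_mem _)
  have htr : k.trace = 0 := by
    rw [hkdef, Matrix.trace_sub, Matrix.trace_smul, trace_one_M4, smul_eq_mul,
      div_mul_cancel₀ _ (four_ne_zero' h2), sub_self]
  have hgen : ∀ x ∈ K, ∃ c d : F, x = c • (1 : M4) + d • k := fun x hx => by
    obtain ⟨c, d, rfl⟩ := hgen₁ x hx
    exact ⟨c + d * (k₁.trace / 4), d, by rw [hkdef]; module⟩
  have hk0 : k ≠ 0 := fun h => by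
    have := (LinearIndependent.pair_iff.mp hli₁ (-(k₁.trace / 4)) 1 (by rw [← h, hkdef]; module)).2
    exact one_ne_zero this
  set y₀ := co k with hy
  have hX : X y₀ = k := X_co h2 ⟨htr, selfAdj_matrix (hsa k hk)⟩
  have hQ : Refl.oddForm 2 F y₀ ≠ 0 := by
    intro h
    obtain ⟨y, -, hy1⟩ := hK.inv k hk hk0
    have e := X_mul_self y₀
    rw [← Refl.oddForm_coe, h, zero_smul, hX] at e
    apply hk0
    calc k = k * (k * y) := by rw [hy1, mul_one]
      _ = 0 := by rw [← mul_assoc, e, zero_mul]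
  refine ⟨y₀, hQ, fun g => ⟨fun hg => stab_of_le fun v hv => ?_, fun hg => normalizer_of_le fun x hx => ?_⟩⟩
  · obtain ⟨c, rfl⟩ := Submodule.mem_span_singleton.mp hv
    rw [Matrix.mulVec_smul]
    refine Submodule.smul_mem _ _ (Submodule.mem_span_singleton.mpr ?_)
    have h1 : X ((psi h2 g : Matrix ι5 ι5 F) *ᵥ y₀) ∈ K := by rw [X_psi, hX]; exact (hg k).mp hk
    obtain ⟨a, d, e⟩ := hgen _ h1
    have et := (isW_X ((psi h2 g : Matrix ι5 ι5 F) *ᵥ y₀)).1
    rw [e, Matrix.trace_add, Matrix.trace_smul, Matrix.trace_smul, htr, trace_one_M4, smul_zero, add_zero,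
      smul_eq_mul, mul_eq_zero] at et
    rw [et.resolve_right (four_ne_zero' h2), zero_smul, zero_add, ← hX, ← map_smul] at e
    exact ⟨d, (X_injective e).symm⟩
  · obtain ⟨c, d, rfl⟩ := hgen x hx
    rw [mul_add, add_mul, mul_smul_comm, mul_smul_comm, smul_mul_assoc, smul_mul_assoc, mul_one, Units.mul_inv]
    refine K.add_mem (K.smul_mem K.one_mem _) (K.smul_mem ?_ _)
    obtain ⟨e, he⟩ := Submodule.mem_span_singleton.mp ((hg y₀).mp (Submodule.mem_span_singleton_self y₀))
    rw [← hX, ← X_psi h2 g y₀]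
    change e • y₀ = (psi h2 g : Matrix ι5 ι5 F) *ᵥ y₀ at he
    rw [← he, map_smul, hX]
    exact K.smul_mem hk e

/-- Five pairwise anticommuting elements: their product commutes with each. -/
theorem five_prod_comm {R : Type*} [Ring R] (x : Fin 5 → R) (h : ∀ i j, i ≠ j → x j * x i = -(x i * x j)) (k : Fin 5) :
    x k * (x 0 * x 1 * x 2 * x 3 * x 4) = x 0 * x 1 * x 2 * x 3 * x 4 * x k := by
  have mv : ∀ i j, i ≠ j → ∀ r, x j * (x i * r) = -(x i * (x j * r)) := fun i j hij r => by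
    rw [← mul_assoc, h i j hij, neg_mul, mul_assoc]
  fin_cases k
  · simp only [Fin.isValue, Fin.zero_eta, mul_assoc]
    rw [h 0 4 (by decide)]; simp only [mul_neg]
    rw [mv 0 3 (by decide)]; simp only [mul_neg]
    rw [mv 0 2 (by decide)]; simp only [mul_neg]
    rw [mv 0 1 (by decide)]; simp only [mul_neg, neg_neg]
  · simp only [Fin.isValue, Fin.mk_one, mul_assoc]
    rw [mv 0 1 (by decide), h 1 4 (by decide)]; simp only [mul_neg]
    rw [mv 1 3 (by decide)]; simp only [mul_neg]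
    rw [mv 1 2 (by decide)]; simp only [mul_neg, neg_neg]
  · simp only [Fin.isValue, Fin.reduceFinMk, mul_assoc]
    rw [mv 0 2 (by decide), mv 1 2 (by decide), h 2 4 (by decide)]; simp only [mul_neg]
    rw [mv 2 3 (by decide)]; simp only [mul_neg, neg_neg]
  · simp only [Fin.isValue, Fin.reduceFinMk, mul_assoc]
    rw [mv 0 3 (by decide), mv 1 3 (by decide), mv 2 3 (by decide), h 3 4 (by decide)]
    simp only [mul_neg, neg_neg]
  · simp only [Fin.isValue, Fin.reduceFinMk, mul_assoc]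
    rw [mv 0 4 (by decide), mv 1 4 (by decide), mv 2 4 (by decide), mv 3 4 (by decide)]
    simp only [mul_neg, neg_neg]

/-- The anticommutant of a skew-adjoint quadratic element is a non-degenerate plane. -/
theorem exists_plane [Fintype F] (h2 : (2 : F) ≠ 0) {J : M4} {β : F} (hsk : J4 * J = -(Jᵀ * J4))
    (hJJ : J * J = β • (1 : M4)) (hβ : β ≠ 0) :
    ∃ W : Submodule F (ι5 → F), Cfsg.Geo.IsNondegenerateOn (QuadraticMap.polar (⇑(Refl.oddForm 2 F))) W ∧ Module.finrank F W = 2 ∧
      ∀ g : Cfsg.spGL 2 F, (∃ s : F, (g.1 : M4) * J * ((g.1⁻¹ : Matrix.GeneralLinearGroup ι4 F) : M4) = s • J) ↔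
        psi h2 g ∈ Cfsg.Geo.subspaceStabilizer W := by
  classical
  have hJ0 : J ≠ 0 := fun h => hβ (by
    rw [h, zero_mul] at hJJ
    exact (smul_eq_zero.mp hJJ.symm).resolve_right one_ne_zero)
  let LW : (ι5 → F) →ₗ[F] M4 := (LinearMap.mulRight F J + LinearMap.mulLeft F J) ∘ₗ X
  let LU : (ι5 → F) →ₗ[F] M4 := (LinearMap.mulRight F J - LinearMap.mulLeft F J) ∘ₗ X
  set W := LinearMap.ker LW with hWdef
  set U := LinearMap.ker LU with hUdef
  have hWm : ∀ y, y ∈ W ↔ X y * J = -(J * X y) := fun y => add_eq_zero_iff_eq_neg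
  have hUm : ∀ y, y ∈ U ↔ X y * J = J * X y := fun y => sub_eq_zero
  have hdec : ∀ y, ∃ w ∈ W, ∃ v ∈ U, y = w + v := by
    intro y
    obtain ⟨θ, hθ⟩ : ∃ θ, θ = co (β⁻¹ • (J * X y * J)) := ⟨_, rfl⟩
    have hXθ : X θ = β⁻¹ • (J * X y * J) := hθ ▸ X_co h2 (by
      refine ⟨?_, ?_⟩
      · rw [Matrix.trace_smul, Matrix.trace_mul_comm, ← mul_assoc, hJJ, smul_mul_assoc, one_mul,
          Matrix.trace_smul, (isW_X y).1, smul_zero, smul_zero]
      · rw [mul_smul_comm, Matrix.transpose_smul, smul_mul_assoc, Matrix.transpose_mul, Matrix.transpose_mul,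
          ← mul_assoc, ← mul_assoc, hsk, neg_mul, neg_mul, mul_assoc (Jᵀ) J4, (isW_X y).2]
        congr 1
        simp only [mul_assoc]
        rw [hsk, mul_neg, mul_neg, neg_neg])
    have hθ1 : X θ * J = J * X y := by
      rw [hXθ, smul_mul_assoc, mul_assoc, hJJ, mul_smul_comm, mul_one, smul_smul, inv_mul_cancel₀ hβ, one_smul]
    have hθ2 : J * X θ = X y * J := by
      rw [hXθ, mul_smul_comm, ← mul_assoc, ← mul_assoc, hJJ, smul_mul_assoc, one_mul, smul_mul_assoc, smul_smul,
        inv_mul_cancel₀ hβ, one_smul]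
    refine ⟨(2 : F)⁻¹ • (y - θ), (hWm _).mpr ?_, (2 : F)⁻¹ • (y + θ), (hUm _).mpr ?_, ?_⟩
    · simp only [map_smul, map_sub, smul_mul_assoc, mul_smul_comm, sub_mul, mul_sub, hθ1, hθ2]
      module
    · simp only [map_smul, map_add, smul_mul_assoc, mul_smul_comm, add_mul, mul_add, hθ1, hθ2]
      module
    · match_scalars <;> field_simp <;> ring
  have horth : ∀ w ∈ W, ∀ v ∈ U, QuadraticMap.polar (⇑(Refl.oddForm 2 F)) w v = 0 := by
    intro w hw v hv
    have hw' := (hWm w).mp hw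
    have hv' := (hUm v).mp hv
    have e1 : X w * X v * J = -(J * (X w * X v)) := by
      rw [mul_assoc, hv', ← mul_assoc, hw', neg_mul, mul_assoc]
    have e2 : X v * X w * J = -(J * (X v * X w)) := by
      rw [mul_assoc, hw', mul_neg, ← mul_assoc, hv', mul_assoc]
    have e := congrArg (fun Z => Z * J) (X_anticomm w v)
    simp only [add_mul, e1, e2] at e
    rw [← neg_add, ← mul_add, X_anticomm, mul_smul_comm, mul_one, smul_mul_assoc, one_mul, ← neg_smul] at e
    have h3 := smul_left_injective F hJ0 e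
    have : QuadraticMap.polar (⇑(Refl.oddForm 2 F)) w v * 2 = 0 := by linear_combination -h3
    exact (mul_eq_zero.mp this).resolve_right h2
  have hN := Refl.oddForm_nondegenerate (F := F) h2 2
  have hsymm : ∀ a b, QuadraticMap.polar (⇑(Refl.oddForm 2 F)) a b = QuadraticMap.polar (⇑(Refl.oddForm 2 F)) b a := fun a b => QuadraticMap.polar_comm _ a b
  have hWnd : ∀ w ∈ W, (∀ x ∈ W, QuadraticMap.polar (⇑(Refl.oddForm 2 F)) w x = 0) → w = 0 := fun w hw h => hN.1 w fun y => by
    obtain ⟨a, ha, b, hb, rfl⟩ := hdec y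
    rw [QuadraticMap.polarBilin_apply_apply, QuadraticMap.polar_add_right, h a ha, horth w hw b hb, add_zero]
  have hUnd : ∀ w ∈ U, (∀ x ∈ U, QuadraticMap.polar (⇑(Refl.oddForm 2 F)) w x = 0) → w = 0 := fun w hw h => hN.1 w fun y => by
    obtain ⟨a, ha, b, hb, rfl⟩ := hdec y
    rw [QuadraticMap.polarBilin_apply_apply, QuadraticMap.polar_add_right, h b hb, hsymm, horth a ha w hw, add_zero]
  have hc : IsCompl W U := by
    refine ⟨Submodule.disjoint_def.mpr fun x hxW hxU => hWnd x hxW fun z hz => ?_, codisjoint_iff.mpr ?_⟩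
    · rw [hsymm]; exact horth z hz x hxU
    · refine eq_top_iff.mpr fun y _ => ?_
      obtain ⟨a, ha, b, hb, rfl⟩ := hdec y
      exact Submodule.add_mem_sup ha hb
  haveI : Invertible (2 : F) := invertibleOfNonzero h2
  obtain ⟨bW, hbW⟩ := LinearMap.BilinForm.exists_orthogonal_basis
    (B := LinearMap.BilinForm.restrict (QuadraticMap.polarBilin (Refl.oddForm 2 F)) W) ⟨fun a b => hsymm _ _⟩
  obtain ⟨bU, hbU⟩ := LinearMap.BilinForm.exists_orthogonal_basis
    (B := LinearMap.BilinForm.restrict (QuadraticMap.polarBilin (Refl.oddForm 2 F)) U) ⟨fun a b => hsymm _ _⟩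
  let e : Module.Basis (Fin (Module.finrank F W) ⊕ Fin (Module.finrank F U)) F (ι5 → F) :=
    (bW.prod bU).map (Submodule.prodEquivOfIsCompl W U hc)
  have heW : ∀ i, e (.inl i) = (bW i : ι5 → F) := fun i => by simp [e, Module.Basis.prod_apply]
  have heU : ∀ i, e (.inr i) = (bU i : ι5 → F) := fun i => by simp [e, Module.Basis.prod_apply]
  have heperp : ∀ i j, i ≠ j → QuadraticMap.polar (⇑(Refl.oddForm 2 F)) (e i) (e j) = 0 := by
    rintro (i | i) (j | j) hij
    · rw [heW, heW]; exact hbW (fun h => hij (congrArg Sum.inl h))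
    · rw [heW, heU]; exact horth _ (bW i).2 _ (bU j).2
    · rw [heU, heW, hsymm]; exact horth _ (bW j).2 _ (bU i).2
    · rw [heU, heU]; exact hbU (fun h => hij (congrArg Sum.inr h))
  have hQe : ∀ i, Refl.oddForm 2 F (e i) ≠ 0 := by
    intro i h
    refine e.ne_zero i (hN.1 _ fun y => ?_)
    refine LinearMap.congr_fun (e.ext (f₁ := QuadraticMap.polarBilin (Refl.oddForm 2 F) (e i)) (f₂ := 0) fun j => ?_) y
    rcases eq_or_ne i j with rfl | hij
    · rw [QuadraticMap.polarBilin_apply_apply, QuadraticMap.polar_self, h, smul_zero]; rfl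
    · exact heperp i j hij
  have hcard : Fintype.card (Fin (Module.finrank F W) ⊕ Fin (Module.finrank F U)) = 5 := by
    rw [← Module.finrank_eq_card_basis e, Module.finrank_fintype_fun_eq_card]; rfl
  let τ := Fintype.equivFinOfCardEq hcard
  have hsq : ∀ i, X (e i) * X (e i) = Refl.oddForm 2 F (e i) • (1 : M4) := fun i => by
    rw [X_mul_self, ← Refl.oddForm_coe]
  have hanti : ∀ i j, i ≠ j → X (e j) * X (e i) = -(X (e i) * X (e j)) := fun i j h => anticomm_of_polar (heperp i j h)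
  set P := X (e (τ.symm 0)) * X (e (τ.symm 1)) * X (e (τ.symm 2)) * X (e (τ.symm 3)) * X (e (τ.symm 4)) with hP
  have hcomm : ∀ i, X (e i) * P = P * X (e i) := fun i => by
    have := five_prod_comm (fun k => X (e (τ.symm k))) (fun a b hab => hanti _ _ (τ.symm.injective.ne hab)) (τ i)
    simpa [hP] using this
  obtain ⟨s, hs⟩ := scalar_of_comm h2 (M := P) fun y =>
    LinearMap.congr_fun (e.ext (f₁ := LinearMap.mulLeft F P ∘ₗ X) (f₂ := LinearMap.mulRight F P ∘ₗ X)
      fun i => (hcomm i).symm) y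
  have hu : ∀ i, IsUnit (X (e i)) := fun i =>
    IsUnit.of_mul_eq_one ((Refl.oddForm 2 F (e i))⁻¹ • X (e i))
      (by rw [mul_smul_comm, hsq, smul_smul, inv_mul_cancel₀ (hQe i), one_smul])
  have hs0 : s ≠ 0 := fun h => by
    have hPu : IsUnit P := ((((hu _).mul (hu _)).mul (hu _)).mul (hu _)).mul (hu _)
    rw [hs, h, zero_smul] at hPu
    exact not_isUnit_zero hPu
  let ε : Fin (Module.finrank F W) ⊕ Fin (Module.finrank F U) → F := Sum.elim (fun _ => -1) fun _ => 1
  have hε : ∀ i, X (e i) * J = ε i • (J * X (e i)) := by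
    rintro (i | i)
    · rw [heW]; simpa [ε] using (hWm _).mp (bW i).2
    · rw [heU]; simpa [ε] using (hUm _).mp (bU i).2
  have hprod : ∏ i, ε i = 1 := by
    have e1 : P * J = (ε (τ.symm 0) * ε (τ.symm 1) * ε (τ.symm 2) * ε (τ.symm 3) * ε (τ.symm 4)) • (J * P) := by
      have pull : ∀ i (A : M4) (a : F), A * J = a • (J * A) → A * X (e i) * J = (a * ε i) • (J * (A * X (e i))) := by
        intro i A a hA
        rw [mul_assoc, hε, mul_smul_comm, ← mul_assoc, hA, smul_mul_assoc, smul_smul, mul_assoc, mul_comm a]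
      exact pull _ _ _ (pull _ _ _ (pull _ _ _ (pull _ _ _ (hε _))))
    rw [hs, smul_mul_assoc, one_mul, mul_smul_comm, mul_one, smul_smul] at e1
    have e2 := smul_left_injective F hJ0 e1
    rw [← τ.symm.prod_comp, Fin.prod_univ_five]
    exact mul_right_cancel₀ hs0 (by rw [one_mul]; exact e2.symm)
  rw [Fintype.prod_sum_type] at hprod
  simp only [ε, Sum.elim_inl, Sum.elim_inr, Finset.prod_const, Finset.card_univ, Fintype.card_fin, one_pow,
    mul_one] at hprod
  have hdims : Module.finrank F W + Module.finrank F U = 5 := by simpa using hcard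
  have hneg1 : (-1 : F) ≠ 1 := fun h => h2 (by linear_combination -h)
  have heven : Even (Module.finrank F W) := by
    rcases Nat.even_or_odd (Module.finrank F W) with h | h
    · exact h
    · rw [h.neg_one_pow] at hprod; exact absurd hprod hneg1
  have hskew : ∀ M : M4, (∀ y, M * X y = X y * M) → ∃ c : F, M = c • (1 : M4) := fun M => scalar_of_comm h2
  have hW0 : Module.finrank F W ≠ 0 := by
    intro h0
    have hW : W = ⊥ := Submodule.finrank_eq_zero.mp h0
    obtain ⟨c, hc'⟩ := hskew J fun y => by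
      have hy : y ∈ U := by
        rw [show U = ⊤ by simpa [hW] using hc.sup_eq_top]; trivial
      exact ((hUm y).mp hy).symm
    rw [hc', mul_smul_comm, Matrix.transpose_smul, Matrix.transpose_one, smul_mul_assoc, one_mul, mul_one,
      ← neg_smul] at hsk
    have e := smul_left_injective F (Matrix.isUnit_det_J (Fin 2) F |> fun h => fun h0 => by
      rw [h0, Matrix.det_zero] at h; exact not_isUnit_zero h) hsk
    exact hJ0 (by rw [hc', show c = 0 from (mul_eq_zero.mp (show c * 2 = 0 by linear_combination e)).resolve_right h2,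
      zero_smul])
  have hW4 : Module.finrank F W ≠ 4 := by
    intro h4
    have hU1 : Module.finrank F U = 1 := by omega
    obtain ⟨j⟩ : Nonempty (Fin (Module.finrank F U)) := ⟨⟨0, by omega⟩⟩
    obtain ⟨c, hc'⟩ := hskew (J * X (e (.inr j))) fun y =>
      LinearMap.congr_fun (e.ext (f₁ := LinearMap.mulLeft F (J * X (e (.inr j))) ∘ₗ X)
        (f₂ := LinearMap.mulRight F (J * X (e (.inr j))) ∘ₗ X) fun i => by
          show J * X (e (.inr j)) * X (e i) = X (e i) * (J * X (e (.inr j)))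
          rw [← mul_assoc, hε]
          rcases i with i | i
          · rw [mul_assoc, hanti _ _ (Sum.inl_ne_inr (a := i) (b := j))]
            simp only [ε, Sum.elim_inl, neg_smul, one_smul, mul_assoc, neg_mul, mul_neg]
          · obtain rfl : i = j := by ext; omega
            simp only [ε, Sum.elim_inr, one_smul, mul_assoc]) y
    have hJe : J = ((Refl.oddForm 2 F (e (.inr j)))⁻¹ * c) • X (e (.inr j)) := by
      have h := congrArg (fun Z => Z * X (e (.inr j))) hc'
      simp only [smul_mul_assoc, one_mul, mul_assoc, hsq, mul_smul_comm, mul_one] at h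
      rw [← smul_smul, ← h, smul_smul, inv_mul_cancel₀ (hQe _), one_smul]
    have h1 := (isW_X (e (.inr j))).2
    have e' : J4 * J = Jᵀ * J4 := by
      rw [hJe, mul_smul_comm, h1, Matrix.transpose_smul, smul_mul_assoc]
    rw [e'] at hsk
    have h0 : Jᵀ * J4 = 0 := by
      have : (2 : F) • (Jᵀ * J4) = 0 := by rw [two_smul]; nth_rewrite 1 [hsk]; exact neg_add_cancel _
      exact (smul_eq_zero.mp this).resolve_left h2
    have h00 : Jᵀ = 0 := by
      have := congrArg (fun Z => Z * (-J4)) h0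
      simpa [mul_assoc, Matrix.J_squared] using this
    exact hJ0 (Matrix.transpose_eq_zero.mp h00)
  have hWd : Module.finrank F W = 2 := by
    obtain ⟨t, ht⟩ := heven; omega
  refine ⟨W, fun w hw hw0 => ?_, hWd, fun g => ⟨fun ⟨t, ht⟩ => stab_of_le fun y hy => ?_, fun hg => ?_⟩⟩
  · obtain ⟨x, hx, hne⟩ : ∃ x ∈ W, QuadraticMap.polar (⇑(Refl.oddForm 2 F)) w x ≠ 0 := by
      by_contra h; push Not at h; exact hw0 (hWnd w hw h)
    exact ⟨⟨x, hx, by rwa [hsymm]⟩, x, hx, hne⟩
  · have ht0 : t ≠ 0 := fun h => hJ0 (by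
      rw [h, zero_smul] at ht
      exact g.1.isUnit.mul_left_cancel ((g.1⁻¹).isUnit.mul_right_cancel (ht.trans (by simp))))
    rw [hWm]
    have hJ : J = t⁻¹ • ((g.1 : M4) * J * ((g.1⁻¹ : Matrix.GeneralLinearGroup ι4 F) : M4)) := by
      rw [ht, smul_smul, inv_mul_cancel₀ ht0, one_smul]
    rw [X_psi, hJ, mul_smul_comm, smul_mul_assoc, ← smul_neg]
    congr 1
    have hy' := (hWm y).mp hy
    calc _ = (g.1 : M4) * (X y * J) * ((g.1⁻¹ : Matrix.GeneralLinearGroup ι4 F) : M4) := by simp [mul_assoc]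
      _ = _ := by rw [hy']; simp [mul_assoc]
  · -- the product of an orthogonal basis of the plane is a multiple of `J`
    obtain ⟨i₀, i₁, h01, hall⟩ : ∃ i₀ i₁ : Fin (Module.finrank F W), i₀ ≠ i₁ ∧ ∀ i, i = i₀ ∨ i = i₁ :=
      ⟨⟨0, by omega⟩, ⟨1, by omega⟩, by simp [Fin.ext_iff], fun i => by
        have := i.2; simp only [Fin.ext_iff]; omega⟩
    set p := bW i₀ with hp
    set r := bW i₁ with hr
    have hpe : e (.inl i₀) = (p : ι5 → F) := heW _
    have hre : e (.inl i₁) = (r : ι5 → F) := heW _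
    have hpr : QuadraticMap.polar (⇑(Refl.oddForm 2 F)) (p : ι5 → F) r = 0 := hpe ▸ hre ▸ heperp _ _ (fun h => h01 (Sum.inl.inj h))
    set T := X (p : ι5 → F) * X (r : ι5 → F) with hT
    have hTT : ∀ a b : F, ∀ a' b' : F, QuadraticMap.polar (⇑(Refl.oddForm 2 F)) (a • (p : ι5 → F) + b • (r : ι5 → F)) (a' • (p : ι5 → F) + b' • (r : ι5 → F)) = 0 →
        X (a • (p : ι5 → F) + b • (r : ι5 → F)) * X (a' • (p : ι5 → F) + b' • (r : ι5 → F)) = (a * b' - b * a') • T := by
      intro a b a' b' h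
      have hsp : X (p : ι5 → F) * X (p : ι5 → F) = Refl.oddForm 2 F (p : ι5 → F) • (1 : M4) := hpe ▸ hsq _
      have hsr : X (r : ι5 → F) * X (r : ι5 → F) = Refl.oddForm 2 F (r : ι5 → F) • (1 : M4) := hre ▸ hsq _
      have h' : a * a' * Refl.oddForm 2 F (p : ι5 → F) + b * b' * Refl.oddForm 2 F (r : ι5 → F) = 0 := by
        simp only [QuadraticMap.polar_add_left, QuadraticMap.polar_add_right, QuadraticMap.polar_smul_left,
          QuadraticMap.polar_smul_right, QuadraticMap.polar_self, hpr, hsymm (r : ι5 → F) p, smul_eq_mul,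
          nsmul_eq_mul, Nat.cast_ofNat] at h
        refine mul_left_cancel₀ h2 ?_
        linear_combination h
      simp only [map_add, map_smul, add_mul, mul_add, smul_mul_assoc, mul_smul_comm, smul_add, smul_smul, hsp, hsr,
        anticomm_of_polar hpr, smul_neg, ← hT]
      match_scalars <;> first | linear_combination h' | ring1 | linear_combination h' | linear_combination -h'
    have hTJ : ∃ c : F, c ≠ 0 ∧ T = c • J := by
      have hTu : IsUnit T := (hpe ▸ hu (.inl i₀)).mul (hre ▸ hu (.inl i₁))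
      have hTi : ∀ i, X (e i) * T = ε i • (T * X (e i)) := by
        rintro (i | i)
        · simp only [ε, Sum.elim_inl, neg_smul, one_smul]
          rw [hT, ← hpe, ← hre]
          rcases hall i with rfl | rfl
          · rw [mul_assoc _ (X (e (Sum.inl i₁))), hanti _ _ (fun h => h01 (Sum.inl.inj h)), mul_neg, neg_neg]
          · rw [← mul_assoc, hanti _ _ (fun h => h01 (Sum.inl.inj h)), neg_mul]
        · simp only [ε, Sum.elim_inr, one_smul]
          rw [hT, ← hpe, ← hre, mul_assoc _ (X (e (Sum.inl i₁))), hanti (.inr i) (.inl i₁) Sum.inr_ne_inl,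
            mul_neg, ← mul_assoc (X (e (Sum.inl i₀))), hanti (.inr i) (.inl i₀) Sum.inr_ne_inl, neg_mul, neg_neg,
            mul_assoc]
      have hεε : ∀ i, ε i * ε i = 1 := by rintro (i | i) <;> simp [ε]
      obtain ⟨c, hc'⟩ := hskew (J * T) fun y =>
        LinearMap.congr_fun (e.ext (f₁ := LinearMap.mulLeft F (J * T) ∘ₗ X)
          (f₂ := LinearMap.mulRight F (J * T) ∘ₗ X) fun i => by
            show J * T * X (e i) = X (e i) * (J * T)
            rw [← mul_assoc (X (e i)), hε, smul_mul_assoc, mul_assoc J (X (e i)), hTi, mul_smul_comm, smul_smul,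
              hεε, one_smul, mul_assoc]) y
      have hc0 : c ≠ 0 := fun h => hJ0 (hTu.mul_left_eq_zero.mp (by rw [hc', h, zero_smul]))
      refine ⟨β⁻¹ * c, mul_ne_zero (inv_ne_zero hβ) hc0, ?_⟩
      have h := congrArg (fun Z => J * Z) hc'
      simp only [← mul_assoc, hJJ, smul_mul_assoc, one_mul, mul_smul_comm, mul_one] at h
      rw [← smul_smul, ← h, smul_smul, inv_mul_cancel₀ hβ, one_smul]
    obtain ⟨c, hc0, hTc⟩ := hTJ
    have hmem : ∀ z ∈ W, ∃ a b : F, z = a • (p : ι5 → F) + b • (r : ι5 → F) := fun z hz => by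
      refine ⟨bW.repr ⟨z, hz⟩ i₀, bW.repr ⟨z, hz⟩ i₁, ?_⟩
      have huniv : (Finset.univ : Finset (Fin (Module.finrank F W))) = {i₀, i₁} := by
        ext i; simpa using hall i
      have := congrArg Subtype.val (bW.sum_repr ⟨z, hz⟩)
      rw [huniv, Finset.sum_pair h01] at this
      exact this.symm
    have hgq : ∀ z, Refl.oddForm 2 F ((psi h2 g : Matrix ι5 ι5 F) *ᵥ z) = Refl.oddForm 2 F z := fun z => by
      rw [psi_mulVec, Refl.oddForm_coe]; exact act_form h2 g z
    have hgp : ∀ x z, QuadraticMap.polar (⇑(Refl.oddForm 2 F)) ((psi h2 g : Matrix ι5 ι5 F) *ᵥ x) ((psi h2 g : Matrix ι5 ι5 F) *ᵥ z) = QuadraticMap.polar (⇑(Refl.oddForm 2 F)) x z :=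
      fun x z => by simp only [QuadraticMap.polar, ← Matrix.mulVec_add, hgq]
    obtain ⟨a, b, hab⟩ := hmem _ ((hg _).mp p.2)
    obtain ⟨a', b', hab'⟩ := hmem _ ((hg _).mp r.2)
    change (psi h2 g : Matrix ι5 ι5 F) *ᵥ _ = _ at hab hab'
    refine ⟨a * b' - b * a', ?_⟩
    have h1 : (g.1 : M4) * T * ((g.1⁻¹ : Matrix.GeneralLinearGroup ι4 F) : M4) = (a * b' - b * a') • T := by
      rw [← hTT a b a' b' (by rw [← hab, ← hab']; exact (hgp _ _).trans hpr), ← hab, ← hab', X_psi, X_psi, hT]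
      simp [mul_assoc]
    rw [hTc, mul_smul_comm, smul_mul_assoc, smul_comm] at h1
    exact smul_right_injective M4 hc0 h1

end Cfsg.Lib.Classical.SpFive
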