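import Cfsg.Agent.Classical.Symp.SpFiveCliff
import Cfsg.Agent.Classical.Orth.PlaneFive
import Cfsg.Agent.Classical.Orth.NondegFour

set_option autoImplicit false
set_option linter.unusedVariables false
set_option linter.unusedSimpArgs false
set_option linter.unusedSectionVars false
set_option linter.style.haveILetI false
set_option linter.flexible false

/-! Members of `Sp_4(q)` that are stabilisers of lines and planes of the five-dimensional space. -/

namespace Cfsg.Lib.Classical.SpFive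

open Matrix Cfsg.Lib.Classical

universe u

variable {F : Type u} [Field F] [Fintype F]

local notation "ι4" => (Fin 2 ⊕ Fin 2)
local notation "ι5" => (Unit ⊕ (Fin 2 ⊕ Fin 2))
local notation "M4" => Matrix (Fin 2 ⊕ Fin 2) (Fin 2 ⊕ Fin 2) F
local notation "J4" => Matrix.J (Fin 2) F

theorem trace_skew (h2 : (2 : F) ≠ 0) {J : M4} (hsk : J4 * J = -(Jᵀ * J4)) : J.trace = 0 := by
  have h := congrArg (fun Z => (J4 * Z).trace) hsk
  simp only [mul_neg, Matrix.trace_neg, ← mul_assoc, Matrix.J_squared, neg_mul, one_mul] at h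
  rw [Matrix.trace_mul_comm, ← mul_assoc, Matrix.J_squared, neg_mul, one_mul, Matrix.trace_neg,
    Matrix.trace_transpose, neg_neg] at h
  exact (mul_eq_zero.mp (show (2 : F) * J.trace = 0 by linear_combination -h)).resolve_left h2

/-- Structures given by a skew matrix squaring to a non-zero scalar. -/
theorem skew_maximal (hodd : Odd (Fintype.card F)) (h2 : (2 : F) ≠ 0) (hq : 5 ≤ Fintype.card F) {J : M4} {β : F}
    (hsk : J4 * J = -(Jᵀ * J4)) (hJJ : J * J = β • (1 : M4)) (hβ : β ≠ 0)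
    {M : Subgroup (Matrix.GeneralLinearGroup ι4 F)}
    (hM : ∀ g : Cfsg.spGL 2 F, g.1 ∈ M ↔
      ∃ s : F, (g.1 : M4) * J * ((g.1⁻¹ : Matrix.GeneralLinearGroup ι4 F) : M4) = s • J) :
    Cfsg.Geo.IsMaximalIn (Cfsg.spGL 2 F) (M ⊓ Cfsg.spGL 2 F) := by
  obtain ⟨W, hW, hd, hiff⟩ := exists_plane h2 hsk hJJ hβ
  have h := Refl.Plane.plane_maximal (Refl.oddForm_nondegenerate (F := F) h2 2) h2 hq (by simp) hW hd
  rw [Refl.oddForm_coe] at h
  exact maximal_transfer hodd h2 h fun g => (hM g).trans (hiff g)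

theorem part4 (hodd : Odd (Fintype.card F)) (h2 : (2 : F) ≠ 0) {K : Subalgebra F M4}
    (hK : Cfsg.Geo.IsFieldSubalgebra 2 K) (hsa : Cfsg.Geo.IsSelfAdjointFor (Cfsg.sympForm 2 F) K) :
    Cfsg.Geo.IsMaximalIn (Cfsg.spGL 2 F) (Cfsg.Geo.subalgebraNormalizer K ⊓ Cfsg.spGL 2 F) := by
  classical
  obtain ⟨y₀, hQ, hiff⟩ := normalizer_line h2 hK hsa
  have hN := Refl.oddForm_nondegenerate (F := F) h2 2
  have hy0 : y₀ ≠ 0 := fun h => hQ (by rw [h, QuadraticMap.map_zero])
  have h1 : Module.finrank F (Submodule.span F {y₀}) = 1 := finrank_span_singleton hy0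
  have hW : Cfsg.Geo.IsNondegenerateOn (QuadraticMap.polar (⇑(Refl.oddForm 2 F))) (Submodule.span F {y₀}) := by
    intro w hw hw0
    obtain ⟨s, rfl⟩ := Submodule.mem_span_singleton.mp hw
    have hs : s ≠ 0 := fun h => hw0 (by rw [h, zero_smul])
    have hp : QuadraticMap.polar (⇑(Refl.oddForm 2 F)) y₀ y₀ ≠ 0 := by
      rw [QuadraticMap.polar_self, nsmul_eq_mul, Nat.cast_ofNat]; exact mul_ne_zero h2 hQ
    refine ⟨⟨y₀, Submodule.mem_span_singleton_self _, ?_⟩, y₀, Submodule.mem_span_singleton_self _, ?_⟩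
    · rw [QuadraticMap.polar_smul_right]; exact mul_ne_zero hs hp
    · rw [QuadraticMap.polar_smul_left]; exact mul_ne_zero hs hp
  have h5 : Module.finrank F (ι5 → F) = 5 := by simp
  have hperp : Module.finrank F (HypQuad.perp (Refl.oddForm 2 F) (Submodule.span F {y₀})) = 4 := by
    have h := HypQuad.finrank_perp (Refl.oddForm 2 F) hN (Submodule.span F {y₀})
    rw [h1] at h
    omega
  have h := Refl.nondeg_maximal_core_four (Refl.oddForm 2 F) hN hW
    (fun h => by rw [h, finrank_bot] at h1; omega) (Or.inl h2) (by simp) (by omega) (by omega)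
    (fun g hg => by
      have e := congrArg (fun V : Submodule F (ι5 → F) => Module.finrank F V) hg
      simp only [hperp] at e
      have := Submodule.finrank_map_le (Matrix.toLin' (Refl.mat (Refl.oddForm 2 F) g)) (Submodule.span F {y₀})
      omega)
    (fun h => by omega)
  rw [Refl.oddForm_coe] at h
  exact maximal_transfer hodd h2 h hiff

theorem part5 (hodd : Odd (Fintype.card F)) (h2 : (2 : F) ≠ 0) (hq : 5 ≤ Fintype.card F) {K : Subalgebra F M4}
    (hK : Cfsg.Geo.IsFieldSubalgebra 2 K) (hac : Cfsg.Geo.IsAdjointClosedFor (Cfsg.sympForm 2 F) K)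
    (hns : ¬ Cfsg.Geo.IsSelfAdjointFor (Cfsg.sympForm 2 F) K) :
    Cfsg.Geo.IsMaximalIn (Cfsg.spGL 2 F) (Cfsg.Geo.subalgebraNormalizer K ⊓ Cfsg.spGL 2 F) := by
  obtain ⟨k, hk, hk'⟩ : ∃ k ∈ K, ¬ ∀ u v, Cfsg.sympForm 2 F (k *ᵥ u) v = Cfsg.sympForm 2 F u (k *ᵥ v) := by
    by_contra hc
    push Not at hc
    exact hns hc
  obtain ⟨k', hk'K, hadj⟩ := hac k hk
  have hskew : ∀ u v, Cfsg.sympForm 2 F u v = -Cfsg.sympForm 2 F v u := fun u v => by
    rw [← sympBilin_eq_sympForm, ← sympBilin_eq_sympForm, LinearMap.IsAlt.neg (sympBilin_isAlt 2 F)]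
  have hadj' : ∀ u v, Cfsg.sympForm 2 F (k' *ᵥ u) v = Cfsg.sympForm 2 F u (k *ᵥ v) := fun u v => by
    rw [hskew, ← hadj, ← hskew]
  have e1 : J4 * k' = kᵀ * J4 := adj_matrix hadj
  have e2 : J4 * k = k'ᵀ * J4 := adj_matrix hadj'
  set J := k - k' with hJ
  have hJK : J ∈ K := K.sub_mem hk hk'K
  have hJ0 : J ≠ 0 := fun h => hk' fun u v => by rw [hadj, sub_eq_zero.mp h]
  have hsk : J4 * J = -(Jᵀ * J4) := by
    rw [hJ, mul_sub, e1, e2, Matrix.transpose_sub, sub_mul]; abel
  have htr := trace_skew h2 hsk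
  obtain ⟨j, hj, hjJ⟩ := hK.inv J hJK hJ0
  have hli : LinearIndependent F ![(1 : M4), J] := LinearIndependent.pair_iff.mpr fun c d h => by
    have hc : c = 0 := by
      have := congrArg Matrix.trace h
      rw [Matrix.trace_add, Matrix.trace_smul, Matrix.trace_smul, htr, trace_one_M4, smul_zero, add_zero,
        Matrix.trace_zero, smul_eq_mul] at this
      exact (mul_eq_zero.mp this).resolve_right (four_ne_zero' h2)
    rw [hc, zero_smul, zero_add] at h
    exact ⟨hc, (smul_eq_zero.mp h).resolve_right hJ0⟩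
  have hgen : ∀ x ∈ K, ∃ c d : F, x = c • (1 : M4) + d • J := by
    intro x hx
    have hle : Submodule.span F (Set.range ![(1 : M4), J]) ≤ Subalgebra.toSubmodule K :=
      Submodule.span_le.mpr (by rintro _ ⟨i, rfl⟩; fin_cases i; exacts [K.one_mem, hJK])
    haveI : Module.Finite F (Subalgebra.toSubmodule K) := inferInstance
    have heq := Submodule.eq_of_le_of_finrank_eq hle (by
      rw [finrank_span_eq_card hli]; exact hK.finrank_eq.symm)
    have hx' : x ∈ Submodule.span F (Set.range ![(1 : M4), J]) := by rw [heq]; exact hx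
    obtain ⟨c, hc⟩ := (Submodule.mem_span_range_iff_exists_fun F).mp hx'
    exact ⟨c 0, c 1, by rw [← hc, Fin.sum_univ_two]; rfl⟩
  obtain ⟨β, b, hβ⟩ := hgen _ (K.mul_mem hJK hJK)
  have hb : b = 0 := by
    have t2 : J4 * (J * J) = (J * J)ᵀ * J4 := by
      rw [← mul_assoc, hsk, neg_mul, mul_assoc, hsk, mul_neg, neg_neg, Matrix.transpose_mul, mul_assoc]
    rw [hβ, mul_add, mul_smul_comm, mul_smul_comm, mul_one, Matrix.transpose_add, Matrix.transpose_smul,
      Matrix.transpose_smul, Matrix.transpose_one, add_mul, smul_mul_assoc, smul_mul_assoc, one_mul, hsk,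
      add_right_inj] at t2
    have hne : Jᵀ * J4 ≠ 0 := fun h0 => hJ0 (by
      have := congrArg (fun Z => Z * J4) h0
      rw [zero_mul, mul_assoc, Matrix.J_squared, mul_neg, mul_one, neg_eq_zero] at this
      simpa using this)
    rw [smul_neg, ← neg_smul] at t2
    have := smul_left_injective F hne t2
    exact (mul_eq_zero.mp (show (2 : F) * b = 0 by linear_combination -this)).resolve_left h2
  rw [hb, zero_smul, add_zero] at hβ
  have hβ0 : β ≠ 0 := fun h => hJ0 (by
    rw [h, zero_smul] at hβ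
    calc J = J * (J * j) := by rw [hjJ, mul_one]
      _ = 0 := by rw [← mul_assoc, hβ, zero_mul])
  refine skew_maximal hodd h2 hq hsk hβ hβ0 fun g => ⟨fun hg => ?_, fun ⟨s, hs⟩ => normalizer_of_le fun x hx => ?_⟩
  · obtain ⟨c, d, hcd⟩ := hgen _ ((hg J).mp hJK)
    have ht := congrArg Matrix.trace hcd
    rw [Matrix.trace_mul_comm, ← mul_assoc, Units.inv_mul, one_mul, htr, Matrix.trace_add, Matrix.trace_smul,
      Matrix.trace_smul, htr, trace_one_M4, smul_zero, add_zero, smul_eq_mul] at ht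
    refine ⟨d, ?_⟩
    rw [hcd, (mul_eq_zero.mp ht.symm).resolve_right (four_ne_zero' h2), zero_smul, zero_add]
  · obtain ⟨c, d, rfl⟩ := hgen x hx
    rw [mul_add, add_mul, mul_smul_comm, mul_smul_comm, smul_mul_assoc, smul_mul_assoc, mul_one, Units.mul_inv, hs]
    exact K.add_mem (K.smul_mem K.one_mem _) (K.smul_mem (K.smul_mem hJK _) _)

theorem part3 (hodd : Odd (Fintype.card F)) (h2 : (2 : F) ≠ 0) (hq : 5 ≤ Fintype.card F)
    (D : Fin 2 → Submodule F (ι4 → F)) (hD : Cfsg.Geo.IsMDecomposition 2 D)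
    (hDs : ∀ i, Cfsg.Geo.IsTotallySingularFor (Cfsg.sympForm 2 F) (D i)) :
    Cfsg.Geo.IsMaximalIn (Cfsg.spGL 2 F) (Cfsg.Geo.decompositionStabilizer D ⊓ Cfsg.spGL 2 F) := by
  classical
  have hu : D 0 ⊔ D 1 = ⊤ := by
    rw [← hD.iSup_eq_top]
    refine le_antisymm (sup_le (le_iSup D 0) (le_iSup D 1)) (iSup_le fun i => ?_)
    fin_cases i
    · exact le_sup_left
    · exact le_sup_right
  have hc : IsCompl (D 0) (D 1) := ⟨hD.indep.pairwiseDisjoint (by decide : (0 : Fin 2) ≠ 1), codisjoint_iff.mpr hu⟩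
  let ε : Fin 2 → F := ![1, -1]
  let P := (D 0).projectionOnto (D 1) hc
  let L : (ι4 → F) →ₗ[F] (ι4 → F) := (2 : F) • ((D 0).subtype ∘ₗ P) - LinearMap.id
  set J : M4 := LinearMap.toMatrix' L with hJ
  have hJv : ∀ v, J *ᵥ v = (2 : F) • (P v : ι4 → F) - v := fun v => by
    rw [hJ, LinearMap.toMatrix'_mulVec]; rfl
  have hev : ∀ i, ∀ v ∈ D i, J *ᵥ v = ε i • v := by
    intro i v hv
    rw [hJv]
    fin_cases i
    · have : (P v : ι4 → F) = v := congrArg Subtype.val (Submodule.projectionOnto_apply_left hc ⟨v, hv⟩)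
      rw [this]
      show (2 : F) • v - v = (1 : F) • v
      module
    · have : P v = 0 := Submodule.projectionOnto_apply_right hc ⟨v, hv⟩
      rw [this, Submodule.coe_zero]
      show (2 : F) • (0 : ι4 → F) - v = (-1 : F) • v
      module
  have hdec : ∀ v : ι4 → F, ∃ a ∈ D 0, ∃ b ∈ D 1, v = a + b := fun v => by
    obtain ⟨a, ha, b, hb, h⟩ := Submodule.mem_sup.mp (show v ∈ D 0 ⊔ D 1 by rw [hu]; exact Submodule.mem_top)
    exact ⟨a, ha, b, hb, h.symm⟩
  have hext : ∀ {A B : M4}, (∀ i, ∀ v ∈ D i, A *ᵥ v = B *ᵥ v) → A = B := fun {A B} h =>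
    Matrix.toLin'.injective (LinearMap.ext fun v => by
      obtain ⟨a, ha, b, hb, rfl⟩ := hdec v
      rw [map_add, map_add, Matrix.toLin'_apply, Matrix.toLin'_apply, Matrix.toLin'_apply, Matrix.toLin'_apply,
        h 0 a ha, h 1 b hb])
  have hεε : ∀ i, ε i * ε i = 1 := fun i => by fin_cases i <;> simp [ε]
  have hJJ : J * J = (1 : F) • (1 : M4) := hext fun i v hv => by
    rw [← Matrix.mulVec_mulVec, hev i v hv, Matrix.mulVec_smul, hev i v hv, smul_smul, hεε, one_smul, one_smul,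
      Matrix.one_mulVec]
  have hadd : ∀ u u' v, Cfsg.sympForm 2 F (u + u') v = Cfsg.sympForm 2 F u v + Cfsg.sympForm 2 F u' v := fun u u' v => by
    rw [← sympBilin_eq_sympForm, ← sympBilin_eq_sympForm, ← sympBilin_eq_sympForm, LinearMap.map_add₂]
  have hadd' : ∀ u v v', Cfsg.sympForm 2 F u (v + v') = Cfsg.sympForm 2 F u v + Cfsg.sympForm 2 F u v' := fun u v v' => by
    rw [← sympBilin_eq_sympForm, ← sympBilin_eq_sympForm, ← sympBilin_eq_sympForm, map_add]
  have hneg : ∀ u v, Cfsg.sympForm 2 F (-u) v = -Cfsg.sympForm 2 F u v := fun u v => by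
    rw [← sympBilin_eq_sympForm, ← sympBilin_eq_sympForm, map_neg, LinearMap.neg_apply]
  have hneg' : ∀ u v, Cfsg.sympForm 2 F u (-v) = -Cfsg.sympForm 2 F u v := fun u v => by
    rw [← sympBilin_eq_sympForm, ← sympBilin_eq_sympForm, map_neg]
  have hsk : J4 * J = -(Jᵀ * J4) := by
    have h : J4 * (-J) = Jᵀ * J4 := adj_matrix fun u v => by
      obtain ⟨a, ha, b, hb, rfl⟩ := hdec u
      obtain ⟨a', ha', b', hb', rfl⟩ := hdec v
      rw [Matrix.mulVec_add, Matrix.neg_mulVec, Matrix.mulVec_add, hev 0 a ha, hev 1 b hb, hev 0 a' ha', hev 1 b' hb']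
      simp only [ε, Matrix.cons_val_zero, Matrix.cons_val_one, one_smul, neg_smul, neg_add, neg_neg, hadd, hadd', hneg,
        hneg', hDs 0 a ha a' ha', hDs 1 b hb b' hb', Matrix.head_cons]
      ring
    rw [← h, mul_neg, neg_neg]
  refine skew_maximal hodd h2 hq hsk hJJ one_ne_zero fun g => ⟨fun ⟨σ, hσ⟩ => ?_, fun ⟨s, hs⟩ => ?_⟩
  · refine ⟨ε 0 * ε (σ 0), ?_⟩
    have hs : ∀ i, ε 0 * ε (σ 0) * ε (σ i) = ε i := by
      have hperm : ∀ σ : Equiv.Perm (Fin 2), σ = 1 ∨ σ = Equiv.swap 0 1 := by decide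
      intro i
      rcases hperm σ with rfl | rfl <;> fin_cases i <;> simp [ε]
    have h : (g.1 : M4) * J = ((ε 0 * ε (σ 0)) • J) * (g.1 : M4) := hext fun i v hv => by
      have hgv : (g.1 : M4) *ᵥ v ∈ D (σ i) := by
        rw [← hσ i]; exact ⟨v, hv, Matrix.toLin'_apply _ _⟩
      rw [← Matrix.mulVec_mulVec, hev i v hv, Matrix.mulVec_smul, ← Matrix.mulVec_mulVec, Matrix.smul_mulVec,
        hev _ _ hgv, smul_smul, hs]
    rw [h, mul_assoc, Units.mul_inv, mul_one]
  · have h : (g.1 : M4) * J = (s • J) * (g.1 : M4) := by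
      rw [← hs, mul_assoc, Units.inv_mul, mul_one]
    have hs1 : s = 1 ∨ s = -1 := by
      refine mul_self_eq_one_iff.mp (smul_left_injective F (M := M4) (m := (1 : M4)) one_ne_zero ?_)
      have e : (s • J) * (s • J) = (1 : F) • (1 : M4) := by
        rw [← hs, show ∀ x y z : M4, x * y * z * (x * y * z) = x * (y * (z * x) * y) * z from
          fun x y z => by simp only [mul_assoc]]
        rw [Units.inv_mul, mul_one, hJJ, one_smul, mul_one, Units.mul_inv]
      rwa [smul_mul_smul_comm, hJJ, smul_smul, mul_one] at e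
    obtain ⟨σ, hσ⟩ : ∃ σ : Equiv.Perm (Fin 2), ∀ i, s * ε (σ i) = ε i := by
      rcases hs1 with rfl | rfl
      · exact ⟨1, fun i => by simp⟩
      · exact ⟨Equiv.swap 0 1, fun i => by fin_cases i <;> simp [ε]⟩
    refine ⟨σ, fun i => Submodule.eq_of_le_of_finrank_eq ?_ ?_⟩
    · rintro _ ⟨v, hv, rfl⟩
      rw [Matrix.toLin'_apply]
      obtain ⟨a, ha, b, hb, hab⟩ := hdec ((g.1 : M4) *ᵥ v)
      have e1 : ε i • (a + b) = s • (a - b) := by
        have h1 := congrArg (fun Z : M4 => Z *ᵥ v) h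
        simp only [← Matrix.mulVec_mulVec, Matrix.smul_mulVec, hev i v hv, Matrix.mulVec_smul, hab,
          Matrix.mulVec_add, hev 0 a ha, hev 1 b hb] at h1
        rw [h1]
        simp only [ε, Matrix.cons_val_zero, Matrix.cons_val_one, Matrix.head_cons]
        module
      have hdis : ∀ x, x ∈ D 0 → x ∈ D 1 → x = 0 := fun x hx hx' => Submodule.disjoint_def.mp hc.disjoint x hx hx'
      have ea : (ε i - s) • a = 0 := hdis _ ((D 0).smul_mem _ ha) (by
        rw [show (ε i - s) • a = -((ε i + s) • b) by linear_combination (norm := module) e1]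
        exact (D 1).neg_mem ((D 1).smul_mem _ hb))
      have eb : (ε i + s) • b = 0 := by linear_combination (norm := module) e1 - ea
      have hs0 : s ≠ 0 := by rcases hs1 with rfl | rfl <;> simp
      have hσi := hσ i
      obtain hσ0 | hσ1 : σ i = 0 ∨ σ i = 1 := (by decide : ∀ x : Fin 2, x = 0 ∨ x = 1) _
      · rw [hσ0] at hσi ⊢
        rw [← hσi] at eb
        simp only [ε, Matrix.cons_val_zero, mul_one] at eb
        rw [← two_mul] at eb
        rw [hab, (smul_eq_zero.mp eb).resolve_left (mul_ne_zero h2 hs0), add_zero]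
        exact ha
      · rw [hσ1] at hσi ⊢
        rw [← hσi] at ea
        simp only [ε, Matrix.cons_val_one, Matrix.cons_val_fin_one, mul_neg, mul_one] at ea
        rw [show -s - s = -(2 * s) by ring] at ea
        rw [hab, (smul_eq_zero.mp ea).resolve_left (neg_ne_zero.mpr (mul_ne_zero h2 hs0)), zero_add]
        exact hb
    · refine (LinearEquiv.finrank_map_eq (Matrix.toLinearEquiv' (g.1 : M4) g.1.invertible) (D i)).trans ?_
      rw [hD.finrank_eq, hD.finrank_eq]

end Cfsg.Lib.Classical.SpFive
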