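import Mathlib
import Cfsg.Prelude.Def_GeometricClasses
import Cfsg.Agent.Classical.MaxBridge
import Cfsg.Agent.Classical.Symp.Maximal
import Cfsg.Agent.Classical.Symp.OverfieldMax
import Cfsg.Agent.Classical.Subfield.SympElements

/-! The stabiliser of a self-adjoint quadratic extension is maximal in `Sp₄` in characteristic two. -/

set_option autoImplicit false
set_option linter.unusedVariables false
set_option linter.unusedSimpArgs false
set_option linter.unusedSectionVars false
set_option linter.style.haveILetI false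
set_option linter.flexible false

namespace Cfsg.Lib.Classical.SpFourExt

open Cfsg.Lib.Classical

universe u v

variable {F : Type u} [Field F] [CharP F 2] {V : Type v} [AddCommGroup V] [Module F V]

/-- A self-adjoint quadratic extension of a symplectic four-space. -/
structure Str (B : LinearMap.BilinForm F V) (J : V →ₗ[F] V) (a b : F) : Prop where
  alt : B.IsAlt
  nondeg : B.Nondegenerate
  sq : ∀ x, J (J x) = a • J x + b • x
  adj : ∀ x y, B (J x) y = B x (J y)
  iso : ∀ x, B (J x) x = 0
  noroot : ∀ r : F, r * r + a * r + b ≠ 0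
  dim : Module.finrank F V = 4

variable {B : LinearMap.BilinForm F V} {J : V →ₗ[F] V} {a b : F}

/-- The line of a vector over the extension. -/
def line (J : V →ₗ[F] V) (v : V) : Submodule F V := Submodule.span F {v, J v}

theorem self_mem_line (v : V) : v ∈ line J v := Submodule.subset_span (by simp)

theorem image_mem_line (v : V) : J v ∈ line J v := Submodule.subset_span (by simp)

namespace Str

variable (S : Str B J a b)
include S

theorem indep {v : V} (hv : v ≠ 0) {p q : F} (h : p • v + q • J v = 0) : p = 0 ∧ q = 0 := by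
  by_cases hq : q = 0
  · rw [hq, zero_smul, add_zero] at h
    exact ⟨(smul_eq_zero.mp h).resolve_right hv, hq⟩
  exfalso
  have hJ : J v = (p / q) • v := by
    have h1 : q • J v = p • v := by
      rw [eq_comm, ← sub_eq_zero, sub_eq_add_neg, ← neg_smul, CharTwo.neg_eq]; exact h
    rw [div_eq_inv_mul, ← smul_smul, ← h1, smul_smul, inv_mul_cancel₀ hq, one_smul]
  have h2 := S.sq v
  rw [hJ, map_smul, hJ, smul_smul, smul_smul, ← add_smul, ← sub_eq_zero, ← sub_smul] at h2
  refine S.noroot (p / q) ?_
  have h3 := (smul_eq_zero.mp h2).resolve_right hv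
  rw [CharTwo.sub_eq_add] at h3
  linear_combination h3

theorem finrank_line {v : V} (hv : v ≠ 0) : Module.finrank F (line J v) = 2 := by
  have hli : LinearIndependent F ![v, J v] := LinearIndependent.pair_iff.mpr fun p q h => S.indep hv h
  have h := finrank_span_eq_card hli
  rwa [Matrix.range_cons_cons_empty, Fintype.card_fin] at h

theorem finite : FiniteDimensional F V := Module.finite_of_finrank_pos (by rw [S.dim]; norm_num)

theorem map_line {v : V} {x : V} (hx : x ∈ line J v) : J x ∈ line J v := by
  obtain ⟨p, q, rfl⟩ := Submodule.mem_span_pair.mp hx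
  rw [map_add, map_smul, map_smul, S.sq]
  exact Submodule.add_mem _ (Submodule.smul_mem _ _ (image_mem_line v))
    (Submodule.smul_mem _ _ (Submodule.add_mem _ (Submodule.smul_mem _ _ (image_mem_line v))
      (Submodule.smul_mem _ _ (self_mem_line v))))

theorem line_eq {u v : V} (hu : u ≠ 0) (h : u ∈ line J v) : line J u = line J v := by
  have hv : v ≠ 0 := fun hv => hu (by simpa [line, hv] using h)
  haveI := S.finite
  refine Submodule.eq_of_le_of_finrank_le (Submodule.span_le.mpr ?_) (by rw [S.finrank_line hu, S.finrank_line hv])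
  rintro _ (rfl | rfl)
  · exact h
  · exact S.map_line h

theorem notMem_symm {u v : V} (hu : u ≠ 0) (h : v ∉ line J u) : u ∉ line J v := fun h' =>
  h (by rw [S.line_eq hu h']; exact self_mem_line v)

theorem iso' (v : V) : B v (J v) = 0 := S.alt.isRefl _ _ (S.iso v)

theorem mem_line_of_orth {v x : V} (hv : v ≠ 0) (h1 : B v x = 0) (h2 : B (J v) x = 0) : x ∈ line J v := by
  haveI := S.finite
  have hle : line J v ≤ B.orthogonal (line J v) := by
    intro y hy z hz
    obtain ⟨p, q, rfl⟩ := Submodule.mem_span_pair.mp hy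
    obtain ⟨p', q', rfl⟩ := Submodule.mem_span_pair.mp hz
    show B (p' • v + q' • J v) (p • v + q • J v) = 0
    simp [S.alt v, S.alt (J v), S.iso v, S.iso' v]
  have heq : line J v = B.orthogonal (line J v) := Submodule.eq_of_le_of_finrank_le hle (by
    rw [LinearMap.BilinForm.finrank_orthogonal S.nondeg, S.dim, S.finrank_line hv])
  rw [heq]
  intro z hz
  obtain ⟨p', q', rfl⟩ := Submodule.mem_span_pair.mp hz
  show B (p' • v + q' • J v) x = 0
  simp [h1, h2]

theorem exists_notMem (v : V) : ∃ x, x ∉ line J v := by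
  haveI := S.finite
  by_contra hc
  push Not at hc
  have h1 := Submodule.finrank_mono (show (⊤ : Submodule F V) ≤ line J v from fun x _ => hc x)
  rw [finrank_top, S.dim] at h1
  by_cases hv : v = 0
  · rw [hv, line, map_zero, Set.pair_eq_singleton, Submodule.span_zero_singleton, finrank_bot] at h1; omega
  · rw [S.finrank_line hv] at h1; omega

/-- The transvections of the extension field. -/
def U (v : V) (C D : F) : BilinIsom B :=
  sympT S.alt v (D * b + C * a) * sympT S.alt (J v) D * sympS S.alt v (J v) C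

theorem U_apply (v : V) (C D : F) (x : V) :
    (S.U v C D).1 x = x + ((D * b + C * a) * B x v + C * B x (J v)) • v + (C * B x v + D * B x (J v)) • J v := by
  simp only [U, BilinIsom.mul_apply', sympS_apply S.alt (S.iso' v), sympT_apply, map_add, map_smul,
    LinearMap.add_apply, LinearMap.smul_apply, S.alt v, S.alt (J v), S.iso v, S.iso' v, smul_eq_mul, mul_zero,
    add_zero]
  module

theorem U_comm (v : V) (C D : F) (x : V) : (S.U v C D).1 (J x) = J ((S.U v C D).1 x) := by
  rw [S.U_apply, S.U_apply, map_add, map_add, map_smul, map_smul, S.sq, S.adj x v, S.adj x (J v), S.sq, map_add,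
    map_smul, map_smul]
  simp only [smul_eq_mul]
  match_scalars <;> simp only [mul_one, mul_zero, add_zero, zero_add] <;> ring_nf <;> simp [CharTwo.two_eq_zero]

end Str

open Str

theorem isCoatom [Finite F] (hq : 3 ≤ Nat.card F) (S : Str B J a b) {M : Subgroup (BilinIsom B)}
    (hM : ∀ g : BilinIsom B, g ∈ M ↔ ∃ c d : F, ∀ x, g.1 (J x) = c • g.1 x + d • J (g.1 x)) : IsCoatom M := by
  classical
  haveI := S.finite
  haveI : Nontrivial V := Module.nontrivial_of_finrank_pos (R := F) (by rw [S.dim]; norm_num)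
  have hA := S.alt
  have hU : ∀ v C D, S.U v C D ∈ M := fun v C D =>
    (hM _).mpr ⟨0, 1, fun x => by rw [S.U_comm, zero_smul, zero_add, one_smul]⟩
  have hstep : ∀ x y : V, x ≠ 0 → y ∉ line J x → ∃ m ∈ M, m.1 x = y := by
    intro x y hx hy
    set v := y - x
    have hs : B x v = B x y := by rw [map_sub, hA x, sub_zero]
    have ht : B x (J v) = B (J x) y := by rw [← S.adj, map_sub, S.iso, sub_zero]
    set s := B x y
    set t := B (J x) y
    have hN : b * s ^ 2 + a * t * s + t ^ 2 ≠ 0 := by
      intro h0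
      by_cases hs0 : s = 0
      · have ht0 : t = 0 := by simpa [hs0] using h0
        exact hy (S.mem_line_of_orth hx hs0 ht0)
      · refine S.noroot (t / s) ?_
        field_simp
        linear_combination h0
    refine ⟨S.U v (t * (b * s ^ 2 + a * t * s + t ^ 2)⁻¹) (s * (b * s ^ 2 + a * t * s + t ^ 2)⁻¹), hU _ _ _, ?_⟩
    rw [S.U_apply, hs, ht]
    set k := (b * s ^ 2 + a * t * s + t ^ 2)⁻¹ with hk
    have e1 : (s * k * b + t * k * a) * s + t * k * t = 1 := by
      rw [show (s * k * b + t * k * a) * s + t * k * t = k * (b * s ^ 2 + a * t * s + t ^ 2) by ring, hk,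
        inv_mul_cancel₀ hN]
    have e2 : t * k * s + s * k * t = 0 := by
      rw [show t * k * s + s * k * t = (2 : F) * (t * k * s) by ring, CharTwo.two_eq_zero, zero_mul]
    rw [e1, e2, one_smul, zero_smul, add_zero, add_sub_cancel]
  have htrans : ∀ x y : V, x ≠ 0 → y ≠ 0 → ∃ m ∈ M, m.1 x = y := by
    intro x y hx hy
    by_cases h : y ∈ line J x
    · obtain ⟨z, hz⟩ := S.exists_notMem x
      have hz0 : z ≠ 0 := fun h0 => hz (h0 ▸ Submodule.zero_mem _)
      have hzy : y ∉ line J z := fun h' => hz (by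
        rw [← S.line_eq hy h, S.line_eq hy h']; exact self_mem_line z)
      obtain ⟨m, hm, e⟩ := hstep x z hx hz
      obtain ⟨m', hm', e'⟩ := hstep z y hz0 hzy
      exact ⟨m' * m, M.mul_mem hm' hm, by rw [BilinIsom.mul_apply', e, e']⟩
    · exact hstep x y hx h
  have hMline : ∀ g ∈ M, ∀ v, g.1 (J v) ∈ line J (g.1 v) := by
    intro g hg v
    obtain ⟨c, d, h⟩ := (hM g).mp hg
    rw [h]
    exact Submodule.add_mem _ (Submodule.smul_mem _ _ (self_mem_line _)) (Submodule.smul_mem _ _ (image_mem_line _))
  refine ⟨fun htop => ?_, fun H hlt => ?_⟩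
  · -- a transvection does not preserve the extension
    obtain ⟨u, hu⟩ := exists_ne (0 : V)
    obtain ⟨x, hx⟩ := S.exists_notMem u
    have hu' : u ∉ line J x := S.notMem_symm hu hx
    have hx0 : x ≠ 0 := fun h0 => hx (h0 ▸ Submodule.zero_mem _)
    -- a vector orthogonal to `u` outside the line of `u`
    obtain ⟨v, hv1, hv2⟩ : ∃ v, B v u = 0 ∧ v ∉ line J u := by
      by_contra hc
      push Not at hc
      have h1 := Submodule.finrank_mono
        (show B.orthogonal (Submodule.span F {u}) ≤ line J u from fun v hv =>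
          hc v (hA.isRefl _ _ (hv u (Submodule.mem_span_singleton_self u))))
      rw [LinearMap.BilinForm.finrank_orthogonal S.nondeg, S.dim, finrank_span_singleton hu, S.finrank_line hu] at h1
      omega
    have hv0 : v ≠ 0 := fun h0 => hv2 (h0 ▸ Submodule.zero_mem _)
    have huv : u ∉ line J v := S.notMem_symm hu hv2
    have hne : B (J v) u ≠ 0 := fun h => huv (S.mem_line_of_orth hv0 hv1 h)
    have h1 := hMline (sympT hA u 1) (htop ▸ Subgroup.mem_top _) v
    rw [sympT_apply, sympT_apply, hv1, mul_zero, zero_smul, add_zero, one_mul] at h1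
    have h2 := Submodule.sub_mem _ h1 (image_mem_line v)
    rw [add_sub_cancel_left] at h2
    exact huv ((Submodule.smul_mem_iff _ hne).mp h2)
  obtain ⟨g, hg, hgM⟩ := SetLike.exists_of_lt hlt
  -- some line is moved off the spread
  obtain ⟨v₁, hv₁⟩ : ∃ v, g.1 (J v) ∉ line J (g.1 v) := by
    by_contra hc
    push Not at hc
    apply hgM
    rw [hM]
    let J' : V →ₗ[F] V := g.1.toLinearMap ∘ₗ J ∘ₗ g.1.symm.toLinearMap
    have hJ' : ∀ u, ∃ p q : F, J' u = p • u + q • J u := fun u => by
      have := hc (g.1.symm u)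
      rw [LinearEquiv.apply_symm_apply] at this
      obtain ⟨p, q, h⟩ := Submodule.mem_span_pair.mp this
      exact ⟨p, q, h.symm⟩
    choose p q hpq using hJ'
    have hsame : ∀ u w : V, u ≠ 0 → w ∉ line J u → p u = p w ∧ q u = q w := by
      intro u w hu hw
      have hw0 : w ≠ 0 := fun h0 => hw (h0 ▸ Submodule.zero_mem _)
      have h1 : (p (u + w) - p u) • u + (q (u + w) - q u) • J u =
          -((p (u + w) - p w) • w + (q (u + w) - q w) • J w) := by
        have := hpq (u + w)
        rw [map_add, hpq u, hpq w, map_add] at this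
        rw [eq_neg_iff_add_eq_zero]
        linear_combination (norm := module) -this
      set n := (p (u + w) - p u) • u + (q (u + w) - q u) • J u
      have hn1 : n ∈ line J u := Submodule.add_mem _ (Submodule.smul_mem _ _ (self_mem_line _))
        (Submodule.smul_mem _ _ (image_mem_line _))
      have hn2 : n ∈ line J w := by
        rw [h1]
        exact Submodule.neg_mem _ (Submodule.add_mem _ (Submodule.smul_mem _ _ (self_mem_line _))
          (Submodule.smul_mem _ _ (image_mem_line _)))
      have hn : n = 0 := by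
        by_contra hn0
        exact hw (by rw [← S.line_eq hn0 hn1, S.line_eq hn0 hn2]; exact self_mem_line w)
      obtain ⟨a1, a2⟩ := S.indep hu hn
      rw [hn, zero_eq_neg] at h1
      obtain ⟨b1, b2⟩ := S.indep hw0 h1
      exact ⟨(sub_eq_zero.mp a1).symm.trans (sub_eq_zero.mp b1), (sub_eq_zero.mp a2).symm.trans (sub_eq_zero.mp b2)⟩
    obtain ⟨u₀, hu₀⟩ := exists_ne (0 : V)
    have hconst : ∀ w, J' w = p u₀ • w + q u₀ • J w := by
      intro w
      rcases eq_or_ne w 0 with rfl | hw0
      · simp
      rw [hpq]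
      by_cases h : w ∈ line J u₀
      · obtain ⟨z, hz⟩ := S.exists_notMem u₀
        obtain ⟨e1, e2⟩ := hsame u₀ z hu₀ hz
        obtain ⟨e3, e4⟩ := hsame w z hw0 (by rwa [S.line_eq hw0 h])
        rw [e3, e4, e1, e2]
      · obtain ⟨e1, e2⟩ := hsame u₀ w hu₀ h
        rw [e1, e2]
    refine ⟨p u₀, q u₀, fun x => ?_⟩
    have := hconst (g.1 x)
    simpa [J'] using this
  have hv₁0 : v₁ ≠ 0 := fun h => hv₁ (by simp [h])
  obtain ⟨m, hm, hmv⟩ := htrans (g.1 v₁) v₁ (g.1.map_ne_zero_iff.mpr hv₁0) hv₁0
  set g' := m * g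
  have hg' : g' ∈ H := H.mul_mem (hlt.le hm) hg
  have hgv : g'.1 v₁ = v₁ := by rw [BilinIsom.mul_apply', hmv]
  set v := v₁
  set w := g'.1 (J v) with hw
  have hwl : w ∉ line J v := by
    intro h
    apply hv₁
    have h1 := hMline m⁻¹ (M.inv_mem hm)
    obtain ⟨p', q', e⟩ := Submodule.mem_span_pair.mp h
    have e2 : g.1 (J v) = (m⁻¹).1 (p' • v + q' • J v) := by
      rw [e, hw, BilinIsom.mul_apply', BilinIsom.inv_apply_self]
    have e3 : (m⁻¹).1 v = g.1 v := by
      have := BilinIsom.inv_apply_self m (g.1 v)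
      rwa [hmv] at this
    rw [e2, map_add, map_smul, map_smul]
    refine Submodule.add_mem _ (Submodule.smul_mem _ _ (e3 ▸ self_mem_line _)) (Submodule.smul_mem _ _ ?_)
    rw [← e3]
    exact h1 v
  have hvw : B v w = 0 := by
    rw [← hgv, hw, BilinIsom.map_form, S.iso']
  set e := B w (J v) with he
  have he0 : e ≠ 0 := fun h => hwl (S.mem_line_of_orth hv₁0 hvw (hA.isRefl _ _ h))
  obtain ⟨s, hs0, hsa⟩ : ∃ s : F, s ≠ 0 ∧ s ≠ a := by
    by_contra hc
    push Not at hc
    haveI : Fintype F := Fintype.ofFinite _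
    have h1 : (Finset.univ : Finset F) ⊆ {0, a} := fun x _ => by
      by_cases hx : x = 0
      · simp [hx]
      · simp [hc x hx]
    have h2 := Finset.card_le_card h1
    rw [Finset.card_univ, ← Nat.card_eq_fintype_card] at h2
    have := h2.trans Finset.card_le_two
    omega
  set C := s / e
  have hUv : ∀ C D : F, (S.U v C D).1 v = v := fun C D => by
    rw [S.U_apply, hA v, S.iso']; simp
  -- the conjugate of a field transvection
  have hX : sympT hA v (C * a) * sympS hA v w C ∈ H := by
    have := H.mul_mem (H.mul_mem hg' (hlt.le (hU v C 0))) (H.inv_mem hg')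
    rw [Str.U, zero_mul, zero_add, sympT_zero, mul_one] at this
    rw [show g' * (sympT hA v (C * a) * sympS hA v (J v) C) * g'⁻¹ =
      g' * sympT hA v (C * a) * g'⁻¹ * (g' * sympS hA v (J v) C * g'⁻¹) by group, sympT_conj, sympS_conj, hgv,
      ← hw] at this
    exact this
  set u0 := S.U v 0 1
  have hu0w : u0.1 w = w + e • J v := by
    rw [S.U_apply, hA.isRefl _ _ hvw, ← he]; simp
  have hX' := H.mul_mem (H.mul_mem (hlt.le (hU v 0 1)) hX) (H.inv_mem (hlt.le (hU v 0 1)))
  rw [show u0 * (sympT hA v (C * a) * sympS hA v w C) * u0⁻¹ =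
      u0 * sympT hA v (C * a) * u0⁻¹ * (u0 * sympS hA v w C * u0⁻¹) by group, sympT_conj, sympS_conj, hUv,
    hu0w, sympS_add_right hA hvw (S.iso' v), ← mul_assoc, ← mul_assoc, mul_assoc (sympT hA v (C * a) * sympS hA v w C)]
    at hX'
  have h3 := (H.mul_mem_cancel_left hX).mp hX'
  have h4 : sympT hA v (e * C * a) * sympS hA v (J v) (e * C) ∈ H := by
    have := hlt.le (hU v (e * C) 0)
    rwa [Str.U, zero_mul, zero_add, sympT_zero, mul_one] at this
  have h5 : sympT hA v (s * (s + a)) ∈ H := by
    have := H.mul_mem h4 h3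
    have hc : Commute (sympS hA v (J v) (e * C)) (sympT hA v (-(e * C ^ 2 * B (J v) w))) := by
      refine Commute.mul_left (Commute.mul_left ?_ ?_) ?_ <;> refine sympT_commute hA ?_ _ _ <;>
        simp [hA v, S.iso]
    rw [← mul_assoc, mul_assoc (sympT hA v (e * C * a)) (sympS hA v (J v) (e * C)), ← sympS_add hA (S.iso' v),
      CharTwo.add_self_eq_zero,
      show sympS hA v (J v) (0 : F) = 1 from BilinIsom.ext' fun x => by
        rw [sympS_apply hA (S.iso' v)]; simp [BilinIsom.one_apply'],
      mul_one, ← sympT_add] at this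
    convert this using 2
    have hec : e * C = s := by simp only [C]; field_simp
    rw [CharTwo.neg_eq, ← hA.neg_eq w (J v), CharTwo.neg_eq, ← he]
    linear_combination (-(e * C + s + a)) * hec
  have hc0 : s * (s + a) ≠ 0 := mul_ne_zero hs0 fun h => hsa (CharTwo.add_eq_zero.mp h)
  haveI : Fintype F := Fintype.ofFinite _
  have hvC : v ∈ transCentres hA H := fun d => by
    rcases eq_or_ne d 0 with rfl | hd
    · rw [sympT_zero]; exact H.one_mem
    obtain ⟨r, hr⟩ := FiniteField.isSquare_of_char_two (ringChar.eq F 2) (d / (s * (s + a)))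
    have hr0 : r ≠ 0 := fun h0 => by
      rw [h0, mul_zero, div_eq_zero_iff] at hr
      rcases hr with h | h
      · exact hd h
      · exact hc0 h
    obtain ⟨m₁, hm₁, hmv₁⟩ := htrans v (r • v) hv₁0 (smul_ne_zero hr0 hv₁0)
    have := H.mul_mem (H.mul_mem (hlt.le hm₁) h5) (H.inv_mem (hlt.le hm₁))
    rw [sympT_conj, hmv₁, sympT_smul, _root_.sq, ← hr, div_mul_cancel₀ _ hc0] at this
    exact this
  refine eq_top_of_transCentres (hA := hA) S.nondeg fun x => ?_
  rcases eq_or_ne x 0 with rfl | hx
  · exact transCentres_zero hA H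
  obtain ⟨m₁, hm₁, hmv₁⟩ := htrans v x hv₁0 hx
  exact hmv₁ ▸ transCentres_map hvC (hlt.le hm₁)

end Cfsg.Lib.Classical.SpFourExt
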