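import Mathlib
import Cfsg.Prelude.Def_GeometricClasses
import Cfsg.Agent.Classical.MaxBridge
import Cfsg.Agent.Classical.Symp.Wreath
import Cfsg.Agent.Classical.Symp.OrthMax
import Cfsg.Agent.Classical.Symp.SpFourSubfield
import Cfsg.Agent.Classical.Symp.SpFourExtension
import Cfsg.Agent.Classical.Subfield.SympMain

/-! Geometric maximal subgroups of `Sp₄(q)`, `q` even. -/

set_option autoImplicit false
set_option linter.unusedVariables false
set_option linter.unusedSimpArgs false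
set_option linter.style.haveILetI false
set_option linter.flexible false

namespace Cfsg.Lib.Classical.SpFourEven

open Cfsg Cfsg.Lib.Classical Matrix

universe u

variable {F : Type u} [Field F] [Fintype F]

theorem singular_max (W : Submodule F (Fin 2 ⊕ Fin 2 → F)) (hW0 : W ≠ ⊥)
    (hW : Cfsg.Geo.IsTotallySingularFor (Cfsg.sympForm 2 F) W) :
    Cfsg.Geo.IsMaximalIn (Cfsg.spGL 2 F) (Cfsg.Geo.subspaceStabilizer W ⊓ Cfsg.spGL 2 F) := by
  refine Cfsg.Lib.Classical.isMaximalIn_of_isCoatom_comap (Cfsg.Lib.Classical.sympToGL 2 F)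
    (Cfsg.Lib.Classical.range_sympToGL 2) ?_
  have e : (Cfsg.Geo.subspaceStabilizer W).comap (Cfsg.Lib.Classical.sympToGL 2 F) =
      Cfsg.Lib.Classical.subStabilizer (Cfsg.Lib.Classical.sympBilin 2 F) W :=
    SetLike.ext fun g => Cfsg.Lib.Classical.sympToGL_mem_subspaceStabilizer g W
  rw [e]
  refine Cfsg.Lib.Classical.isCoatom_subStabilizer_isotropic (Cfsg.Lib.Classical.sympBilin_isAlt 2 F)
    (Cfsg.Lib.Classical.sympBilin_nondegenerate 2 F) hW0 ?_
  intro w hw u hu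
  change Cfsg.Lib.Classical.sympBilin 2 F u w = 0
  rw [Cfsg.Lib.Classical.sympBilin_eq_sympForm]
  exact hW u hu w hw

theorem decomposition_max {t : ℕ} (k : ℕ) (D : Fin t → Submodule F (Fin 2 ⊕ Fin 2 → F))
    (hD : Cfsg.Geo.IsNondegenerateMDecomposition (Cfsg.sympForm 2 F) k D) (hex : ¬ (k = 2 ∧ Fintype.card F = 2)) :
    Cfsg.Geo.IsMaximalIn (Cfsg.spGL 2 F) (Cfsg.Geo.decompositionStabilizer D ⊓ Cfsg.spGL 2 F) := by
  have hA := Cfsg.Lib.Classical.sympBilin_isAlt 2 F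
  have hB := Cfsg.Lib.Classical.sympBilin_nondegenerate 2 F
  have hd : Cfsg.Lib.Classical.SympDecomp (Cfsg.Lib.Classical.sympBilin 2 F) k D :=
    { nondeg := fun i => by
        refine LinearMap.BilinForm.nondegenerate_restrict_of_disjoint_orthogonal _ hA.isRefl ?_
        rw [Submodule.disjoint_def]
        intro w hw hwo
        by_contra hne
        obtain ⟨⟨x, hx, hxw⟩, -⟩ := hD.nondegenerate i w hw hne
        apply hxw
        rw [← Cfsg.Lib.Classical.sympBilin_eq_sympForm]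
        exact hwo x hx
      orth := fun i j hij v hv w hw => by
        change Cfsg.Lib.Classical.sympBilin 2 F w v = 0
        rw [Cfsg.Lib.Classical.sympBilin_eq_sympForm]
        exact hD.orthogonal i j hij w hw v hv
      top := hD.decomp.iSup_eq_top
      finrank_eq := hD.decomp.finrank_eq
      pos := hD.decomp.pos }
  have hex' : ¬ (k = 2 ∧ Nat.card F = 2) := by rwa [Nat.card_eq_fintype_card]
  refine Cfsg.Lib.Classical.isMaximalIn_of_isCoatom_comap (Cfsg.Lib.Classical.sympToGL 2 F)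
    (Cfsg.Lib.Classical.range_sympToGL 2) ?_
  have hmem : ∀ g, g ∈ (Cfsg.Geo.decompositionStabilizer D).comap (Cfsg.Lib.Classical.sympToGL 2 F) ↔
      ∃ σ : Equiv.Perm (Fin t), ∀ i, (D i).map g.1.toLinearMap = D (σ i) :=
    fun g => Cfsg.Lib.Classical.mem_decompositionStabilizer_iff D g.1
  set M := (Cfsg.Geo.decompositionStabilizer D).comap (Cfsg.Lib.Classical.sympToGL 2 F)
  have hblock : ∀ i, ∀ v ∈ D i, ∀ c, Cfsg.Lib.Classical.sympT hA v c ∈ M := by
    intro i v hv c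
    rw [hmem]
    refine ⟨1, fun j => Submodule.eq_of_le_of_finrank_le ?_ ?_⟩
    · rintro _ ⟨x, hx, rfl⟩
      change (Cfsg.Lib.Classical.sympT hA v c).1 x ∈ D j
      rw [Cfsg.Lib.Classical.sympT_apply]
      rcases eq_or_ne j i with rfl | hji
      · exact (D j).add_mem hx ((D j).smul_mem _ hv)
      · have h0 : Cfsg.Lib.Classical.sympBilin 2 F x v = 0 := hd.orth j i hji hv x hx
        rw [h0, mul_zero, zero_smul, add_zero]; exact hx
    · rw [LinearEquiv.finrank_map_eq, Equiv.Perm.one_apply]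
  refine Cfsg.Lib.Classical.isCoatom_of_forall ?_ fun H hMH g hg hgM => ?_
  · intro htop
    let i : Fin t := ⟨0, by have := hD.decomp.two_le; omega⟩
    let j : Fin t := ⟨1, by have := hD.decomp.two_le; omega⟩
    have hij : i ≠ j := by simp [i, j]
    obtain ⟨a, ha, ha0⟩ := hd.exists_ne_zero i
    obtain ⟨b, hb, hb0⟩ := hd.exists_ne_zero j
    obtain ⟨u, hu, hau⟩ := hd.exists_partner ha ha0
    obtain ⟨σ, hσ⟩ := (hmem (Cfsg.Lib.Classical.sympT hA (a + b) 1)).mp (htop ▸ Subgroup.mem_top _)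
    have h1 : (Cfsg.Lib.Classical.sympT hA (a + b) 1).1 u ∈ D (σ i) :=
      hσ i ▸ Submodule.mem_map_of_mem hu
    rw [Cfsg.Lib.Classical.sympT_apply, one_mul] at h1
    have hua : Cfsg.Lib.Classical.sympBilin 2 F u a = -1 := by rw [← hA.neg_eq, hau]
    have hub : Cfsg.Lib.Classical.sympBilin 2 F u b = 0 := hd.orth i j hij hb u hu
    rw [map_add, hua, hub, add_zero, neg_one_smul, neg_add, ← add_assoc] at h1
    by_cases hσi : σ i = i
    · have h2 := (hd.comp_ne hA (hσi.symm ▸ hij.symm : j ≠ σ i) h1)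
      rw [map_add, map_add, map_neg, map_neg, hd.comp_ne hA hij.symm hu, hd.comp_ne hA hij.symm ha,
        hd.comp_self hA hb] at h2
      exact hb0 (by simpa using h2)
    · have h2 := hd.comp_ne hA (Ne.symm hσi) h1
      rw [map_add, map_add, map_neg, map_neg, hd.comp_self hA hu, hd.comp_self hA ha,
        hd.comp_ne hA hij hb] at h2
      have h3 : u = a := by simpa [add_neg_eq_zero] using h2
      rw [h3, hA] at hau
      exact zero_ne_one hau
  · refine hd.eq_top hA hB hex' (fun i v hv c => hMH (hblock i v hv c)) (fun σ => ?_) hg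
      (fun h => hgM ((hmem g).mpr h))
    obtain ⟨p, hp⟩ := hd.exists_perm_isom hA hB σ
    refine ⟨p, hMH ((hmem p).mpr ⟨σ, fun i => Submodule.eq_of_le_of_finrank_le ?_ ?_⟩), hp⟩
    · rintro _ ⟨x, hx, rfl⟩; exact hp i x hx
    · rw [LinearEquiv.finrank_map_eq, hd.finrank_eq, hd.finrank_eq]

theorem quad_max (heven : ¬ Odd (Fintype.card F)) (Q : (Fin 2 ⊕ Fin 2 → F) → F)
    (hQ : Cfsg.Geo.IsNondegenerateQuadraticForm Q)
    (hpol : ∀ u v, QuadraticMap.polar Q u v = Cfsg.sympForm 2 F u v) :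
    Cfsg.Geo.IsMaximalIn (Cfsg.spGL 2 F) (Cfsg.Geo.quadSimilarityGroup Q ⊓ Cfsg.spGL 2 F) := by
  have hA := Cfsg.Lib.Classical.sympBilin_isAlt 2 F
  have hB := Cfsg.Lib.Classical.sympBilin_nondegenerate 2 F
  have hchar : ringChar F = 2 := by
    by_contra h
    exact heven (Nat.odd_iff.mpr (FiniteField.odd_card_of_char_ne_two h))
  have h2 : (2 : F) = 0 := by
    have := ringChar.Nat.cast_ringChar (R := F)
    rw [hchar] at this
    simpa using this
  have hsq : ∀ a : F, ∃ r : F, r ^ 2 = a := fun a => by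
    obtain ⟨r, hr⟩ := FiniteField.isSquare_of_char_two hchar a
    exact ⟨r, by rw [hr, sq]⟩
  have hQp : ∀ x y, Q (x + y) = Q x + Q y + Cfsg.Lib.Classical.sympBilin 2 F x y := fun x y => by
    rw [Cfsg.Lib.Classical.sympBilin_eq_sympForm, ← hpol, QuadraticMap.polar]
    ring
  have hd : 3 ≤ Module.finrank F (Fin 2 ⊕ Fin 2 → F) := by
    rw [Cfsg.Lib.Classical.finrank_sympSpace]; omega
  refine Cfsg.Lib.Classical.isMaximalIn_of_isCoatom_comap (Cfsg.Lib.Classical.sympToGL 2 F)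
    (Cfsg.Lib.Classical.range_sympToGL 2) ?_
  have hmem : ∀ g, g ∈ (Cfsg.Geo.quadSimilarityGroup Q).comap (Cfsg.Lib.Classical.sympToGL 2 F) ↔
      ∀ x, Q (g.1 x) = Q x := by
    intro g
    change (∃ c : Fˣ, ∀ v, Q ((Cfsg.Lib.Classical.sympToGL 2 F g).val.mulVec v) = (c : F) * Q v) ↔ _
    simp only [Cfsg.Lib.Classical.sympToGL_mulVec]
    constructor
    · rintro ⟨c, hc⟩ x
      by_cases hc1 : (c : F) = 1
      · rw [hc, hc1, one_mul]
      exfalso
      have : Nontrivial (Fin 2 ⊕ Fin 2 → F) := Module.nontrivial_of_finrank_pos (R := F) (by omega)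
      obtain ⟨v, hv⟩ := exists_ne (0 : Fin 2 ⊕ Fin 2 → F)
      obtain ⟨u, hu⟩ := Cfsg.Lib.Classical.exists_hyperbolic_partner hB hv
      have h := hQp (g.1 v) (g.1 u)
      rw [← map_add, hc, hc, hc, g.2 v u, hQp, hu] at h
      apply hc1
      linear_combination h
    · intro h
      exact ⟨1, fun v => by rw [h, Units.val_one, one_mul]⟩
  refine Cfsg.Lib.Classical.isCoatom_of_forall ?_ fun H hMH g hg hgM => ?_
  · intro htop
    obtain ⟨g, hg⟩ := Cfsg.Lib.Classical.qMax_exists_not_isom h2 hsq hQ.smul hQp hA hB hd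
    exact hg ((hmem g).mp (htop ▸ Subgroup.mem_top g))
  · exact Cfsg.Lib.Classical.qMax_eq_top h2 hsq hQ.smul hQp hA hB hd
      (fun p hp => hMH ((hmem p).mpr hp)) hg (fun h => hgM ((hmem g).mpr h))

theorem subfield_max (h2 : (2 : F) = 0) {F₀ : Subfield F} {r : ℕ} (hr : r.Prime)
    (hcard : Fintype.card F = Nat.card F₀ ^ r) (P : Matrix.GeneralLinearGroup (Fin 2 ⊕ Fin 2) F) (ζ : F)
    (hζ : ζ ≠ 0) (hP : Cfsg.Geo.IsFormRationalStructure (Cfsg.sympForm 2 F) F₀ ζ P) :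
    Cfsg.Geo.IsMaximalIn (Cfsg.spGL 2 F) (Cfsg.Geo.subfieldSubgroup F₀ P ⊓ Cfsg.spGL 2 F) := by
  classical
  
  have hA := sympBilin_isAlt 2 F
  have hB := sympBilin_nondegenerate 2 F
  have hmem : ∀ u v : Fin 2 ⊕ Fin 2 → F₀,
      ζ * sympBilin 2 F (P.val *ᵥ ratVec F₀ u) (P.val *ᵥ ratVec F₀ v) ∈ F₀ := fun u v => by
    rw [sympBilin_eq_sympForm]; exact hP _ _ (fun i => (u i).2) (fun i => (v i).2)
  let Pl : (Fin 2 ⊕ Fin 2 → F) →ₗ[F] (Fin 2 ⊕ Fin 2 → F) := Matrix.toLin' P.val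
  let B₁ : LinearMap.BilinForm F₀ (Fin 2 ⊕ Fin 2 → F₀) := LinearMap.mk₂ F₀ (fun u v => ⟨_, hmem u v⟩)
    (fun u u' v => Subtype.ext (by
      change ζ * sympBilin 2 F (Pl (ratVec F₀ (u + u'))) (Pl (ratVec F₀ v)) =
        ζ * sympBilin 2 F (Pl (ratVec F₀ u)) (Pl (ratVec F₀ v)) + ζ * sympBilin 2 F (Pl (ratVec F₀ u')) (Pl (ratVec F₀ v))
      rw [ratVec_add, map_add, map_add, LinearMap.add_apply, mul_add]))
    (fun a u v => Subtype.ext (by
      change ζ * sympBilin 2 F (Pl (ratVec F₀ (a • u))) (Pl (ratVec F₀ v)) =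
        (a : F) * (ζ * sympBilin 2 F (Pl (ratVec F₀ u)) (Pl (ratVec F₀ v)))
      rw [ratVec_smul, map_smul, map_smul, LinearMap.smul_apply, smul_eq_mul]; ring))
    (fun u v v' => Subtype.ext (by
      change ζ * sympBilin 2 F (Pl (ratVec F₀ u)) (Pl (ratVec F₀ (v + v'))) =
        ζ * sympBilin 2 F (Pl (ratVec F₀ u)) (Pl (ratVec F₀ v)) + ζ * sympBilin 2 F (Pl (ratVec F₀ u)) (Pl (ratVec F₀ v'))
      rw [ratVec_add, map_add, map_add, mul_add]))
    (fun a u v => Subtype.ext (by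
      change ζ * sympBilin 2 F (Pl (ratVec F₀ u)) (Pl (ratVec F₀ (a • v))) =
        (a : F) * (ζ * sympBilin 2 F (Pl (ratVec F₀ u)) (Pl (ratVec F₀ v)))
      rw [ratVec_smul, map_smul, map_smul, smul_eq_mul]; ring))
  have hB₁A : B₁.IsAlt := fun u => Subtype.ext (by
    change ζ * sympBilin 2 F (Pl (ratVec F₀ u)) (Pl (ratVec F₀ u)) = 0
    rw [hA, mul_zero])
  have hinv : ∀ x, (P⁻¹ : Matrix.GeneralLinearGroup (Fin 2 ⊕ Fin 2) F).val *ᵥ (P.val *ᵥ x) = x := fun x => by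
    rw [Matrix.mulVec_mulVec, ← Units.val_mul, inv_mul_cancel, Units.val_one, Matrix.one_mulVec]
  have hinv' : ∀ x, P.val *ᵥ ((P⁻¹ : Matrix.GeneralLinearGroup (Fin 2 ⊕ Fin 2) F).val *ᵥ x) = x := fun x => by
    rw [Matrix.mulVec_mulVec, ← Units.val_mul, mul_inv_cancel, Units.val_one, Matrix.one_mulVec]
  have hB₁ : B₁.Nondegenerate := by
    refine (LinearMap.IsRefl.nondegenerate_iff_separatingLeft hB₁A.isRefl).mpr fun u hu => ?_
    have hz : Pl (ratVec F₀ u) = 0 := by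
      refine hB.1 _ fun x => ?_
      rw [← hinv' x]
      refine LinearMap.congr_fun (ext_on_ratVec (F₀ := F₀) (f := sympBilin 2 F (Pl (ratVec F₀ u)) ∘ₗ Pl) (g := 0)
        fun v => ?_) _
      exact (mul_eq_zero.mp (congrArg Subtype.val (hu v))).resolve_left hζ
    refine ratVec_injective ?_
    rw [← hinv (ratVec F₀ u)]
    change (P⁻¹ : Matrix.GeneralLinearGroup (Fin 2 ⊕ Fin 2) F).val *ᵥ Pl (ratVec F₀ u) = _
    rw [hz, Matrix.mulVec_zero]; rfl
  obtain ⟨e, he⟩ := exists_isometry_sympBilin hB₁A hB₁ (m := 2) (finrank_sympSpace 2 F₀)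
  let Q : Matrix.GeneralLinearGroup (Fin 2 ⊕ Fin 2) F :=
    Matrix.GeneralLinearGroup.map (F₀.subtype : F₀ →+* F) (linToGL (Fin 2 ⊕ Fin 2) F₀ e.symm)
  have hQ : ∀ u, Q.val *ᵥ ratVec F₀ u = ratVec F₀ (e.symm u) := fun u => by
    rw [← linToGL_mulVec e.symm u]
    funext i
    change ∑ j, ((linToGL _ F₀ e.symm).val i j : F) * (u j : F) =
      ((∑ j, (linToGL _ F₀ e.symm).val i j * u j : F₀) : F)
    rw [AddSubmonoidClass.coe_finsetSum]
    rfl
  obtain ⟨T, hT⟩ : ∃ T, T = P * Q := ⟨_, rfl⟩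
  have hTform : ∀ x y, ζ * sympBilin 2 F (T.val *ᵥ x) (T.val *ᵥ y) = sympBilin 2 F x y := by
    let Tl : (Fin 2 ⊕ Fin 2 → F) →ₗ[F] (Fin 2 ⊕ Fin 2 → F) := Matrix.toLin' T.val
    have key : ∀ u y, ζ * sympBilin 2 F (Tl (ratVec F₀ u)) (Tl y) = sympBilin 2 F (ratVec F₀ u) y := fun u => by
      refine LinearMap.congr_fun (ext_on_ratVec (F₀ := F₀) (f := ζ • (sympBilin 2 F (Tl (ratVec F₀ u)) ∘ₗ Tl))
        (g := sympBilin 2 F (ratVec F₀ u)) fun v => ?_)
      rw [sympBilin_ratVec, LinearMap.smul_apply, LinearMap.comp_apply, smul_eq_mul]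
      change ζ * sympBilin 2 F (T.val *ᵥ ratVec F₀ u) (T.val *ᵥ ratVec F₀ v) = _
      rw [hT, Units.val_mul, ← Matrix.mulVec_mulVec, ← Matrix.mulVec_mulVec, hQ, hQ]
      change ((B₁ (e.symm u) (e.symm v) : F₀) : F) = _
      rw [← he, e.apply_symm_apply, e.apply_symm_apply]
    intro x y
    refine LinearMap.congr_fun (ext_on_ratVec (F₀ := F₀) (f := ζ • ((sympBilin 2 F).flip (Tl y) ∘ₗ Tl))
      (g := (sympBilin 2 F).flip y) fun u => ?_) x
    simpa using key u y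
  let φ : BilinIsom (sympBilin 2 F) →* Matrix.GeneralLinearGroup (Fin 2 ⊕ Fin 2) F :=
    (MulAut.conj T).toMonoidHom.comp (sympToGL 2 F)
  have hTinv : ∀ x, T.val *ᵥ ((T⁻¹ : Matrix.GeneralLinearGroup (Fin 2 ⊕ Fin 2) F).val *ᵥ x) = x := fun x => by
    rw [Matrix.mulVec_mulVec, ← Units.val_mul, mul_inv_cancel, Units.val_one, Matrix.one_mulVec]
  have hrange : φ.range = Cfsg.spGL 2 F := by
    rw [MonoidHom.range_comp, range_sympToGL]
    ext A
    constructor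
    · rintro ⟨g, hg, rfl⟩ x y
      change Cfsg.sympForm 2 F ((T * g * T⁻¹).val *ᵥ x) ((T * g * T⁻¹).val *ᵥ y) = Cfsg.sympForm 2 F x y
      apply mul_left_cancel₀ hζ
      rw [← sympBilin_eq_sympForm, ← sympBilin_eq_sympForm, Units.val_mul, Units.val_mul,
        ← Matrix.mulVec_mulVec, ← Matrix.mulVec_mulVec, ← Matrix.mulVec_mulVec, ← Matrix.mulVec_mulVec, hTform]
      have h1 : sympBilin 2 F (g.val *ᵥ ((T⁻¹ : Matrix.GeneralLinearGroup _ F).val *ᵥ x))
          (g.val *ᵥ ((T⁻¹ : Matrix.GeneralLinearGroup _ F).val *ᵥ y)) =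
          sympBilin 2 F ((T⁻¹ : Matrix.GeneralLinearGroup _ F).val *ᵥ x)
            ((T⁻¹ : Matrix.GeneralLinearGroup _ F).val *ᵥ y) := by
        rw [sympBilin_eq_sympForm, sympBilin_eq_sympForm]; exact hg _ _
      rw [h1, ← hTform, hTinv, hTinv]
    · intro hA'
      refine ⟨T⁻¹ * A * T, fun x y => ?_, by simp [mul_assoc]⟩
      change Cfsg.sympForm 2 F ((T⁻¹ * A * T).val *ᵥ x) ((T⁻¹ * A * T).val *ᵥ y) = Cfsg.sympForm 2 F x y
      rw [← sympBilin_eq_sympForm, ← sympBilin_eq_sympForm, ← hTform, ← hTform x y]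
      congr 1
      have h := hA' (T.val *ᵥ x) (T.val *ᵥ y)
      rw [Units.val_mul, Units.val_mul, ← Matrix.mulVec_mulVec, ← Matrix.mulVec_mulVec, ← Matrix.mulVec_mulVec,
        ← Matrix.mulVec_mulVec, hTinv, hTinv, sympBilin_eq_sympForm, sympBilin_eq_sympForm]
      exact h
  refine isMaximalIn_of_isCoatom_comap φ hrange ?_
  have hncard : Nat.card F = Nat.card F₀ ^ r := by rw [Nat.card_eq_fintype_card]; exact hcard
  refine SpFour.isCoatom_subfield hr hncard h2 (fun g => ?_) (exists_notMem_subfield hr hncard)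
  rw [Subgroup.mem_comap, ← linToGL_mem_sup_scalars_iff]
  have hQmem : Q ∈ (Matrix.GeneralLinearGroup.map (n := Fin 2 ⊕ Fin 2) (F₀.subtype : F₀ →+* F)).range ⊔
      Cfsg.Geo.scalars (Fin 2 ⊕ Fin 2) F := Subgroup.mem_sup_left ⟨_, rfl⟩
  have e1 : φ g = MulAut.conj P (Q * sympToGL 2 F g * Q⁻¹) := by
    change T * sympToGL 2 F g * T⁻¹ = P * (Q * sympToGL 2 F g * Q⁻¹) * P⁻¹
    rw [hT]; group
  rw [e1]
  refine (Subgroup.mem_map_iff_mem (MulAut.conj P).injective).trans ?_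
  rw [Subgroup.mul_mem_cancel_right _ (Subgroup.inv_mem _ hQmem), Subgroup.mul_mem_cancel_left _ hQmem]
  rfl

theorem extension_max [CharP F 2] (h4 : 4 ≤ Fintype.card F)
    (K : Subalgebra F (Matrix (Fin 2 ⊕ Fin 2) (Fin 2 ⊕ Fin 2) F)) (hK : Cfsg.Geo.IsFieldSubalgebra 2 K)
    (hsa : Cfsg.Geo.IsSelfAdjointFor (Cfsg.sympForm 2 F) K)
    (halt : ∀ k ∈ K, ∀ v : (Fin 2 ⊕ Fin 2 → F), (Cfsg.sympForm 2 F) (Matrix.mulVec k v) v = 0) :
    Cfsg.Geo.IsMaximalIn (Cfsg.spGL 2 F) (Cfsg.Geo.subalgebraNormalizer K ⊓ Cfsg.spGL 2 F) := by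
  obtain ⟨k, hk, hli, hgen₀⟩ := Refl.two_gens (K := Subalgebra.toSubmodule K) hK.finrank_eq (e := 1) K.one_mem one_ne_zero
  obtain ⟨b, a, hab⟩ := hgen₀ (k * k) (K.mul_mem hk hk)
  have hgen : ∀ x ∈ K, ∃ c d : F, x = c • (1 : Matrix (Fin 2 ⊕ Fin 2) (Fin 2 ⊕ Fin 2) F) + d • k := fun x hx => hgen₀ x hx
  have hnoroot : ∀ r : F, r * r + a * r + b ≠ 0 := by
    intro r hr
    have hne : k - r • 1 ≠ 0 := fun h =>
      one_ne_zero (LinearIndependent.pair_iff.mp hli (-r) 1 (by rw [← h]; module)).2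
    have hne' : k - (a - r) • 1 ≠ 0 := fun h =>
      one_ne_zero (LinearIndependent.pair_iff.mp hli (-(a - r)) 1 (by rw [← h]; module)).2
    obtain ⟨y, -, hy⟩ := hK.inv _ (K.sub_mem hk (K.smul_mem K.one_mem r)) hne
    apply hne'
    have e : (k - (a - r) • 1) * (k - r • 1) = 0 := by
      have h0 : b = r * r + a * r + (2 : F) * (-(a * r)) := by
        rw [CharTwo.two_eq_zero, zero_mul, add_zero]
        linear_combination -((1 : F)) * hr + b * (CharTwo.two_eq_zero (R := F))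
      simp only [sub_mul, mul_sub, smul_mul_assoc, mul_smul_comm, one_mul, mul_one, hab]
      rw [h0]
      module
    have e' : k - (a - r) • 1 = (k - (a - r) • 1) * ((k - r • 1) * y) := by rw [hy, mul_one]
    rw [e', ← mul_assoc, e, zero_mul]
  set J := k.mulVecLin with hJ
  have S : SpFourExt.Str (sympBilin 2 F) J a b :=
    { alt := sympBilin_isAlt 2 F
      nondeg := sympBilin_nondegenerate 2 F
      sq := fun x => by
        simp only [hJ, Matrix.mulVecLin_apply]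
        rw [Matrix.mulVec_mulVec, hab, Matrix.add_mulVec, Matrix.smul_mulVec, Matrix.smul_mulVec, Matrix.one_mulVec,
          add_comm]
      adj := fun x y => by
        simp only [hJ, Matrix.mulVecLin_apply, sympBilin_eq_sympForm]
        exact hsa k hk x y
      iso := fun x => by
        simp only [hJ, Matrix.mulVecLin_apply, sympBilin_eq_sympForm]
        exact halt k hk x
      noroot := hnoroot
      dim := by simp [Fintype.card_sum] }
  refine isMaximalIn_of_isCoatom_comap (sympToGL 2 F) (range_sympToGL 2)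
    (SpFourExt.isCoatom (by rw [Nat.card_eq_fintype_card]; omega) S fun g => ?_)
  rw [Subgroup.mem_comap, mem_normalizer_iff_gen hk hli hgen]
  refine exists_congr fun p => exists_congr fun q => ⟨fun h x => ?_, fun h => ?_⟩
  · have := congrArg (fun M => M *ᵥ x) h
    simp only [← Matrix.mulVec_mulVec, Matrix.add_mulVec, Matrix.smul_mulVec, Matrix.one_mulVec, sympToGL_mulVec] at this
    simpa only [hJ, Matrix.mulVecLin_apply, sympToGL_mulVec] using this
  · refine Matrix.toLin'.injective (LinearMap.ext fun x => ?_)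
    simp only [Matrix.toLin'_apply, ← Matrix.mulVec_mulVec, Matrix.add_mulVec, Matrix.smul_mulVec, Matrix.one_mulVec,
      sympToGL_mulVec]
    simpa only [hJ, Matrix.mulVecLin_apply] using h x

theorem main (heven : ¬ Odd (Fintype.card F)) (h4 : 4 ≤ Fintype.card F) :
    (∀ W : Submodule F (Fin 2 ⊕ Fin 2 → F), W ≠ ⊥ → Cfsg.Geo.IsTotallySingularFor (Cfsg.sympForm 2 F) W → Cfsg.Geo.IsMaximalIn (Cfsg.spGL 2 F) (Cfsg.Geo.subspaceStabilizer W ⊓ Cfsg.spGL 2 F)) ∧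
    (∀ D : Fin 2 → Submodule F (Fin 2 ⊕ Fin 2 → F), Cfsg.Geo.IsNondegenerateMDecomposition (Cfsg.sympForm 2 F) 2 D → Cfsg.Geo.IsMaximalIn (Cfsg.spGL 2 F) (Cfsg.Geo.decompositionStabilizer D ⊓ Cfsg.spGL 2 F)) ∧
    (∀ K : Subalgebra F (Matrix (Fin 2 ⊕ Fin 2) (Fin 2 ⊕ Fin 2) F), Cfsg.Geo.IsFieldSubalgebra 2 K → Cfsg.Geo.IsSelfAdjointFor (Cfsg.sympForm 2 F) K → (∀ k ∈ K, ∀ v : (Fin 2 ⊕ Fin 2 → F), (Cfsg.sympForm 2 F) (Matrix.mulVec k v) v = 0) → Cfsg.Geo.IsMaximalIn (Cfsg.spGL 2 F) (Cfsg.Geo.subalgebraNormalizer K ⊓ Cfsg.spGL 2 F)) ∧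
    (∀ (F₀ : Subfield F) (r : ℕ) (P : Matrix.GeneralLinearGroup (Fin 2 ⊕ Fin 2) F) (ζ : F), r.Prime → Fintype.card F = Nat.card F₀ ^ r → ζ ≠ 0 → Cfsg.Geo.IsFormRationalStructure (Cfsg.sympForm 2 F) F₀ ζ P → Cfsg.Geo.IsMaximalIn (Cfsg.spGL 2 F) (Cfsg.Geo.subfieldSubgroup F₀ P ⊓ Cfsg.spGL 2 F)) ∧
    (∀ Q : (Fin 2 ⊕ Fin 2 → F) → F, Cfsg.Geo.IsNondegenerateQuadraticForm Q → (∀ u v : (Fin 2 ⊕ Fin 2 → F), QuadraticMap.polar Q u v = (Cfsg.sympForm 2 F) u v) → Cfsg.Geo.IsMaximalIn (Cfsg.spGL 2 F) (Cfsg.Geo.quadSimilarityGroup Q ⊓ Cfsg.spGL 2 F)) := by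
  have hchar : ringChar F = 2 := by
    by_contra h
    exact heven (Nat.odd_iff.mpr (FiniteField.odd_card_of_char_ne_two h))
  haveI : CharP F 2 := ringChar.of_eq hchar
  exact ⟨fun W h0 hW => singular_max W h0 hW,
    fun D hD => decomposition_max 2 D hD (fun h => by omega),
    fun K hK hsa halt => extension_max h4 K hK hsa halt,
    fun F₀ r P ζ hr hc hζ hP => subfield_max CharTwo.two_eq_zero hr hc P ζ hζ hP,
    fun Q hQ hpol => quad_max heven Q hQ hpol⟩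

end Cfsg.Lib.Classical.SpFourEven
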