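import Mathlib
import Cfsg.Prelude.Def_ClassicalGeometry
import Cfsg.Agent.Classical.Symp.Basic
import Cfsg.Agent.Classical.Symp.Matrix

/-! The normaliser of the split torus of the symplectic group. -/

set_option autoImplicit false
set_option linter.unusedSimpArgs false
set_option linter.unusedSectionVars false
set_option linter.style.haveILetI false
set_option linter.flexible false

namespace Cfsg.Lib.Classical.SpTorus

open Matrix

universe u

variable {F : Type u} [Field F] {m : ℕ}

/-- The parameters of a monomial symplectic matrix. -/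
abbrev Param (m : ℕ) (F : Type u) [Field F] := (Fin m → Bool) × Equiv.Perm (Fin m) × (Fin m → Fˣ)

/-- Monomial symplectic map attached to parameters. -/
def lin (p : Param m F) : (Fin m ⊕ Fin m → F) →ₗ[F] (Fin m ⊕ Fin m → F) where
  toFun v := Sum.elim
    (fun j => if p.1 (p.2.1.symm j) then -((p.2.2 (p.2.1.symm j) : F)⁻¹ * v (Sum.inr (p.2.1.symm j)))
      else (p.2.2 (p.2.1.symm j) : F) * v (Sum.inl (p.2.1.symm j)))
    (fun j => if p.1 (p.2.1.symm j) then (p.2.2 (p.2.1.symm j) : F) * v (Sum.inl (p.2.1.symm j))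
      else (p.2.2 (p.2.1.symm j) : F)⁻¹ * v (Sum.inr (p.2.1.symm j)))
  map_add' v w := by
    funext a
    rcases a with j | j <;> simp only [Sum.elim_inl, Sum.elim_inr, Pi.add_apply] <;> split_ifs <;> ring
  map_smul' c v := by
    funext a
    rcases a with j | j <;>
      simp only [Sum.elim_inl, Sum.elim_inr, Pi.smul_apply, smul_eq_mul, RingHom.id_apply] <;> split_ifs <;> ring

theorem lin_form (p : Param m F) (v w : Fin m ⊕ Fin m → F) :
    sympBilin m F (lin p v) (lin p w) = sympBilin m F v w := by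
  rw [sympBilin_eq_sum, sympBilin_eq_sum, ← Equiv.sum_comp p.2.1]
  refine Finset.sum_congr rfl fun i _ => ?_
  have hc : (p.2.2 i : F) ≠ 0 := (p.2.2 i).ne_zero
  simp only [lin, LinearMap.coe_mk, AddHom.coe_mk, Sum.elim_inl, Sum.elim_inr, Equiv.symm_apply_apply]
  split_ifs <;> field_simp <;> ring

/-- The matrix attached to parameters. -/
noncomputable def mon (p : Param m F) : symplecticGroup (Fin m) F :=
  ⟨LinearMap.toMatrix' (lin p), (mem_symplectic_iff_form _).mpr fun x y => by
    rw [LinearMap.toMatrix'_mulVec, LinearMap.toMatrix'_mulVec, lin_form]⟩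

theorem mon_mulVec (p : Param m F) (v : Fin m ⊕ Fin m → F) : (mon p).1 *ᵥ v = lin p v :=
  LinearMap.toMatrix'_mulVec _ v

/-- The chosen position. -/
def pos (ε : Bool) (j : Fin m) : Fin m ⊕ Fin m := if ε then Sum.inr j else Sum.inl j

/-- The opposite position. -/
def opp : Fin m ⊕ Fin m → Fin m ⊕ Fin m := Sum.swap

theorem lin_inl (p : Param m F) (i : Fin m) :
    lin p (Pi.single (Sum.inl i) 1) = Pi.single (pos (p.1 i) (p.2.1 i)) (p.2.2 i : F) := by
  funext a
  rcases a with j | j <;>
  · simp only [lin, LinearMap.coe_mk, AddHom.coe_mk, Sum.elim_inl, Sum.elim_inr]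
    rcases eq_or_ne (p.2.1.symm j) i with h | h
    · obtain rfl : j = p.2.1 i := by rw [← h, Equiv.apply_symm_apply]
      cases hε : p.1 i <;> simp [hε, pos]
    · have hj : j ≠ p.2.1 i := fun e => h (by rw [e, Equiv.symm_apply_apply])
      cases hε : p.1 i <;> simp [pos, h, hj]

theorem lin_inr (p : Param m F) (i : Fin m) :
    lin p (Pi.single (Sum.inr i) 1) =
      Pi.single (opp (pos (p.1 i) (p.2.1 i))) ((if p.1 i then -1 else 1) * (p.2.2 i : F)⁻¹) := by
  funext a
  rcases a with j | j <;>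
  · simp only [lin, LinearMap.coe_mk, AddHom.coe_mk, Sum.elim_inl, Sum.elim_inr]
    rcases eq_or_ne (p.2.1.symm j) i with h | h
    · obtain rfl : j = p.2.1 i := by rw [← h, Equiv.apply_symm_apply]
      cases hε : p.1 i <;> simp [hε, pos, opp]
    · have hj : j ≠ p.2.1 i := fun e => h (by rw [e, Equiv.symm_apply_apply])
      cases hε : p.1 i <;> simp [pos, opp, h, hj]

theorem pos_inj {ε ε' : Bool} {j j' : Fin m} (h : pos ε j = pos ε' j') : ε = ε' ∧ j = j' := by
  cases ε <;> cases ε' <;> simp [pos] at h ⊢ <;> exact h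

theorem pos_surj (x : Fin m ⊕ Fin m) : ∃ ε j, x = pos ε j := by
  rcases x with j | j
  · exact ⟨false, j, rfl⟩
  · exact ⟨true, j, rfl⟩

theorem single_eq {a b : Fin m ⊕ Fin m} {x y : F} (hx : x ≠ 0) (h : (Pi.single a x : Fin m ⊕ Fin m → F) = Pi.single b y) :
    a = b ∧ x = y := by
  have hab : a = b := by
    by_contra hne
    have := congrFun h a
    simp [hne] at this
    exact hx this
  subst hab
  exact ⟨rfl, Pi.single_injective _ h⟩

theorem mon_injective : Function.Injective (mon (F := F) (m := m)) := by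
  intro p p' h
  have h' : ∀ i, lin p (Pi.single (Sum.inl i) 1) = lin p' (Pi.single (Sum.inl i) 1) := fun i => by
    rw [← mon_mulVec, h, mon_mulVec]
  have h'' := fun i => by
    have := h' i
    rw [lin_inl, lin_inl] at this
    exact single_eq (p.2.2 i).ne_zero this
  obtain ⟨ε, σ, c⟩ := p
  obtain ⟨ε', σ', c'⟩ := p'
  refine Prod.ext (funext fun i => (pos_inj (h'' i).1).1) (Prod.ext (Equiv.ext fun i => (pos_inj (h'' i).1).2)
    (funext fun i => Units.ext (h'' i).2))

/-- Monomiality. -/
def IsMon (A : symplecticGroup (Fin m) F) : Prop :=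
  ∀ b, ∃ (a : Fin m ⊕ Fin m) (d : F), d ≠ 0 ∧ A.1 *ᵥ Pi.single b 1 = Pi.single a d

theorem mon_isMon (p : Param m F) : IsMon (mon p) := by
  rintro (i | i)
  · exact ⟨_, _, (p.2.2 i).ne_zero, by rw [mon_mulVec, lin_inl]⟩
  · refine ⟨_, _, ?_, by rw [mon_mulVec, lin_inr]⟩
    refine mul_ne_zero ?_ (inv_ne_zero (p.2.2 i).ne_zero)
    split_ifs <;> simp

theorem J_single (a b : Fin m ⊕ Fin m) (x y : F) :
    sympBilin m F (Pi.single a x) (Pi.single b y) = x * (Matrix.J (Fin m) F a b * y) := by
  rw [sympBilin_apply, single_dotProduct, mulVec_single]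
  simp [mul_comm]

theorem pair (a : Fin m ⊕ Fin m) (ε : Bool) (j : Fin m) (x y : F)
    (h : x * (Matrix.J (Fin m) F a (pos ε j) * y) = 1) :
    a = opp (pos ε j) ∧ x = (if ε then -1 else 1) * y⁻¹ := by
  rcases a with k | k <;> cases ε <;>
    simp [Matrix.J, pos, opp, Matrix.one_apply] at h ⊢
  · obtain ⟨rfl, h'⟩ : k = j ∧ x * y = -1 := by
      by_cases hkj : k = j
      · refine ⟨hkj, ?_⟩; rw [if_pos hkj] at h; linear_combination -h
      · rw [if_neg hkj] at h; simp at h
    have hy : y ≠ 0 := by rintro rfl; simp at h'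
    exact ⟨rfl, by field_simp; exact h'⟩
  · obtain ⟨rfl, h'⟩ : k = j ∧ x * y = 1 := by
      by_cases hkj : k = j
      · refine ⟨hkj, ?_⟩; rw [if_pos hkj] at h; linear_combination h
      · rw [if_neg hkj] at h; simp at h
    exact ⟨rfl, eq_inv_of_mul_eq_one_left h'⟩

theorem mulVec_inj (A : symplecticGroup (Fin m) F) : Function.Injective (A.1 *ᵥ ·) := by
  intro v w h
  have e : ((A⁻¹ : symplecticGroup (Fin m) F).1 * A.1) = 1 := congrArg Subtype.val (inv_mul_cancel A)
  have := congrArg ((A⁻¹ : symplecticGroup (Fin m) F).1 *ᵥ ·) h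
  simpa [mulVec_mulVec, e] using this

theorem exists_param (A : symplecticGroup (Fin m) F) (hA : IsMon A) : ∃ p, mon p = A := by
  classical
  choose π d hd hπ using hA
  have hπinj : Function.Injective π := by
    intro b b' e
    have h : A.1 *ᵥ Pi.single b (d b') = A.1 *ᵥ Pi.single b' (d b) := by
      rw [show (Pi.single b (d b') : Fin m ⊕ Fin m → F) = d b' • Pi.single b 1 by rw [← Pi.single_smul]; simp,
        show (Pi.single b' (d b) : Fin m ⊕ Fin m → F) = d b • Pi.single b' 1 by rw [← Pi.single_smul]; simp,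
        mulVec_smul, mulVec_smul, hπ, hπ, e, ← Pi.single_smul, ← Pi.single_smul, smul_eq_mul, smul_eq_mul, mul_comm]
    exact (single_eq (hd b') (mulVec_inj A h)).1
  choose ε τ hτ using fun i : Fin m => pos_surj (π (Sum.inl i))
  have hr : ∀ i, π (Sum.inr i) = opp (pos (ε i) (τ i)) ∧
      d (Sum.inr i) = (if ε i then -1 else 1) * (d (Sum.inl i))⁻¹ := by
    intro i
    refine pair _ _ _ _ _ ?_
    rw [← J_single, ← hπ, ← hτ, ← hπ, (mem_symplectic_iff_form _).mp A.2, J_single]
    simp [Matrix.J]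
  have hτinj : Function.Injective τ := by
    intro i i' e
    rcases eq_or_ne (ε i) (ε i') with he | he
    · have : π (Sum.inl i) = π (Sum.inl i') := by rw [hτ, hτ, e, he]
      simpa using hπinj this
    · have : π (Sum.inr i) = π (Sum.inl i') := by
        rw [(hr i).1, hτ i', e]
        cases hi : ε i <;> cases hi' : ε i' <;> simp [hi, hi', pos, opp] at he ⊢
      simpa using hπinj this
  let p : Param m F := (ε, Equiv.ofBijective τ (Finite.injective_iff_bijective.mp hτinj),
    fun i => Units.mk0 _ (hd (Sum.inl i)))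
  refine ⟨p, Subtype.ext (Matrix.ext_of_mulVec_single fun b => ?_)⟩
  rw [mon_mulVec, hπ]
  rcases b with i | i
  · rw [lin_inl, hτ]; rfl
  · rw [lin_inr, (hr i).1, (hr i).2]; rfl

theorem exists_sq_ne_one [Fintype F] (hq : 4 ≤ Fintype.card F) : ∃ u : Fˣ, (u : F) ≠ (u : F)⁻¹ := by
  classical
  by_contra h
  push Not at h
  have hsub : Finset.univ ⊆ ({0, 1, -1} : Finset F) := fun x _ => by
    by_cases hx : x = 0
    · simp [hx]
    have := h (Units.mk0 x hx)
    simp only [Units.val_mk0] at this
    have h1 : x * x = 1 := by nth_rewrite 2 [this]; exact mul_inv_cancel₀ hx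
    rcases mul_self_eq_one_iff.mp h1 with rfl | rfl <;> simp
  have := (Finset.card_le_card hsub).trans Finset.card_le_three
  rw [Finset.card_univ] at this
  omega

theorem count [Fintype F] {q : ℕ} (hF : Fintype.card F = q) :
    Nat.card {A : symplecticGroup (Fin m) F // IsMon A} = 2 ^ m * Nat.factorial m * (q - 1) ^ m := by
  classical
  have h := Nat.card_eq_of_bijective (fun p : Param m F => (⟨mon p, mon_isMon p⟩ : {A // IsMon A}))
    ⟨fun p p' e => mon_injective (congrArg Subtype.val e), fun A => by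
      obtain ⟨p, hp⟩ := exists_param A.1 A.2
      exact ⟨p, Subtype.ext hp⟩⟩
  rw [← h, Nat.card_eq_fintype_card]
  simp [Fintype.card_perm, Fintype.card_units, hF, mul_assoc]

/-- The torus. -/
noncomputable abbrev torus (m : ℕ) (F : Type u) [Field F] : Subgroup (symplecticGroup (Fin m) F) :=
  ⨅ i : Fin m ⊕ Fin m, Cfsg.stabilizing (Cfsg.spToMat m F)
    ((Submodule.span F {(Pi.single i (1 : F) : Fin m ⊕ Fin m → F)} : Submodule F (Fin m ⊕ Fin m → F)) :
      Set (Fin m ⊕ Fin m → F))

theorem mem_torus (t : symplecticGroup (Fin m) F) :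
    t ∈ torus m F ↔ ∀ b, ∃ c : F, c ≠ 0 ∧ t.1 *ᵥ Pi.single b 1 = c • Pi.single b 1 := by
  rw [torus, Subgroup.mem_iInf]
  constructor
  · intro h b
    obtain ⟨c, hc⟩ := Submodule.mem_span_singleton.mp ((h b (Pi.single b 1)).mp (Submodule.mem_span_singleton_self _))
    refine ⟨c, ?_, hc.symm⟩
    rintro rfl
    rw [zero_smul] at hc
    have : (Pi.single b (1 : F) : Fin m ⊕ Fin m → F) = 0 := mulVec_inj t (by simpa using hc.symm)
    simpa using congrFun this b
  · intro h b v
    obtain ⟨c, hc0, hc⟩ := h b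
    simp only [SetLike.mem_coe, Submodule.mem_span_singleton]
    constructor
    · rintro ⟨a, rfl⟩
      exact ⟨a * c, by show _ = t.1 *ᵥ _; rw [mulVec_smul, hc, smul_smul]⟩
    · rintro ⟨a, ha⟩
      refine ⟨a / c, mulVec_inj t ?_⟩
      show t.1 *ᵥ _ = t.1 *ᵥ v
      rw [mulVec_smul, hc, smul_smul, div_mul_cancel₀ _ hc0]
      exact ha

theorem normalizer_iff [Fintype F] (hq : 4 ≤ Fintype.card F) (A : symplecticGroup (Fin m) F) :
    A ∈ Subgroup.normalizer (torus m F : Set (symplecticGroup (Fin m) F)) ↔ IsMon A := by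
  classical
  constructor
  · intro hA b
    obtain ⟨u, hu⟩ := exists_sq_ne_one hq
    set v := A.1 *ᵥ Pi.single b 1 with hv
    have heig : ∀ t ∈ torus m F, ∃ c : F, t.1 *ᵥ v = c • v := by
      intro t ht
      have ht' : A⁻¹ * t * A ∈ torus m F := by
        have := Subgroup.mem_normalizer_iff.mp (inv_mem hA) t
        simpa using this.mp ht
      obtain ⟨c, -, hc⟩ := (mem_torus _).mp ht' b
      refine ⟨c, ?_⟩
      rw [hv, ← mulVec_smul, ← hc, mulVec_mulVec, mulVec_mulVec]
      have e : t * A = A * (A⁻¹ * t * A) := by group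
      rw [show t.1 * A.1 = A.1 * (A⁻¹ * t * A : symplecticGroup (Fin m) F).1 from congrArg Subtype.val e]
    have hdiag : ∀ d : Fin m → Fˣ, mon ((fun _ => false, 1, d) : Param m F) ∈ torus m F := fun d => by
      refine (mem_torus _).mpr ?_
      rintro (i | i)
      · refine ⟨_, (d i).ne_zero, ?_⟩
        rw [mon_mulVec, lin_inl, ← Pi.single_smul]
        simp [pos]
      · refine ⟨_, inv_ne_zero (d i).ne_zero, ?_⟩
        rw [mon_mulVec, lin_inr, ← Pi.single_smul]
        simp [pos, opp]
    have hv0 : v ≠ 0 := fun e => by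
      have := congrFun (mulVec_inj A (show A.1 *ᵥ Pi.single b 1 = A.1 *ᵥ 0 by rw [mulVec_zero]; exact e)) b
      simp at this
    obtain ⟨a, ha⟩ := Function.ne_iff.mp hv0
    refine ⟨a, v a, ha, funext fun a' => ?_⟩
    rcases eq_or_ne a' a with rfl | hne
    · rw [Pi.single_eq_same]
    rw [Pi.single_eq_of_ne hne]
    by_contra ha'
    let idx : Fin m ⊕ Fin m → Fin m := Sum.elim id id
    obtain ⟨c, hc⟩ := heig _ (hdiag (fun i => if i = idx a then u else 1))
    rw [mon_mulVec] at hc
    have h1 := congrFun hc a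
    have h2 := congrFun hc a'
    simp only [Pi.zero_apply] at ha
    have hu1 : (u : F) ≠ 1 := fun e => hu (by rw [e, inv_one])
    have hu2 : (u : F)⁻¹ ≠ 1 := fun e => hu1 (inv_eq_one.mp e)
    rcases a with i | i <;> rcases a' with k | k <;>
      simp [lin, idx, show ((1 : Equiv.Perm (Fin m)).symm) = 1 from rfl, Equiv.Perm.one_apply] at h1 h2
    · have hki : k ≠ i := fun e => hne (by rw [e])
      simp [hki, ha, ha'] at h1 h2
      exact hu1 (h1.trans h2.symm)
    · rcases eq_or_ne k i with rfl | hki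
      · simp [ha, ha'] at h1 h2
        exact hu (h1.trans h2.symm)
      · simp [hki, ha, ha'] at h1 h2
        exact hu1 (h1.trans h2.symm)
    · rcases eq_or_ne k i with rfl | hki
      · simp [ha, ha'] at h1 h2
        exact hu (h2.trans h1.symm)
      · simp [hki, ha, ha'] at h1 h2
        exact hu2 (h1.trans h2.symm)
    · have hki : k ≠ i := fun e => hne (by rw [e])
      simp [hki, ha, ha'] at h1 h2
      exact hu2 (h1.trans h2.symm)
  · intro hA
    have hin : ∀ t ∈ torus m F, A⁻¹ * t * A ∈ torus m F := by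
      intro t ht
      refine (mem_torus _).mpr fun b => ?_
      obtain ⟨a, d, hd, he⟩ := hA b
      obtain ⟨c, hc0, hc⟩ := (mem_torus t).mp ht a
      refine ⟨c, hc0, mulVec_inj A ?_⟩
      show A.1 *ᵥ _ = A.1 *ᵥ _
      rw [mulVec_smul, he, mulVec_mulVec]
      have e : t * A = A * (A⁻¹ * t * A) := by group
      rw [← show t.1 * A.1 = A.1 * (A⁻¹ * t * A : symplecticGroup (Fin m) F).1 from congrArg Subtype.val e,
        ← mulVec_mulVec, he]
      rw [show (Pi.single a d : Fin m ⊕ Fin m → F) = d • Pi.single a 1 by rw [← Pi.single_smul]; simp,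
        mulVec_smul, hc, smul_comm]
    haveI : Finite (torus m F) := inferInstance
    let φ : torus m F → torus m F := fun t => ⟨A⁻¹ * t.1 * A, hin t.1 t.2⟩
    have hφ : Function.Surjective φ := Finite.injective_iff_surjective.mp fun t t' e =>
      Subtype.ext (mul_left_cancel (mul_right_cancel (congrArg Subtype.val e)))
    refine Subgroup.mem_normalizer_iff.mpr fun h => ⟨fun hh => ?_, fun hh => ?_⟩
    · obtain ⟨t, ht⟩ := hφ ⟨h, hh⟩
      have : A⁻¹ * t.1 * A = h := congrArg Subtype.val ht
      rw [← this]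
      simp [mul_assoc, t.2]
    · have := hin _ hh
      simpa [mul_assoc] using this

theorem card_normalizer [Fintype F] {q : ℕ} (hF : Fintype.card F = q) (hq : 4 ≤ q) (m : ℕ) :
    Nat.card ↥(Subgroup.normalizer (torus m F : Set (symplecticGroup (Fin m) F))) =
      2 ^ m * Nat.factorial m * (q - 1) ^ m := by
  rw [← count hF]
  exact Nat.card_congr (Equiv.subtypeEquivRight (normalizer_iff (hF ▸ hq)))

end Cfsg.Lib.Classical.SpTorus
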