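import Mathlib
import Cfsg.Prelude.Def_GeometricClasses
import Cfsg.Prelude.Def_ClassicalGeometry

/-! `Sp₂(2) ≀ S_t` is not maximal in `Sp_{2t}(2)`: it preserves a quadratic form. -/

set_option autoImplicit false
set_option linter.unusedSimpArgs false
set_option linter.style.haveILetI false

namespace Cfsg.Lib.Classical.WreathTwo

open Matrix

universe u

variable {F : Type u} [Field F] {m : ℕ}

theorem form_eq (u v : Fin m ⊕ Fin m → F) :
    Cfsg.sympForm m F u v = ∑ i, (u (Sum.inr i) * v (Sum.inl i) - u (Sum.inl i) * v (Sum.inr i)) := by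
  simp [Cfsg.sympForm, Matrix.J, dotProduct, Matrix.mulVec, Fintype.sum_sum_type, Matrix.one_apply,
    Finset.sum_sub_distrib]
  ring

theorem add_left (u v w : Fin m ⊕ Fin m → F) :
    Cfsg.sympForm m F (u + v) w = Cfsg.sympForm m F u w + Cfsg.sympForm m F v w := by
  simp only [Cfsg.sympForm, add_dotProduct]

theorem add_right (u v w : Fin m ⊕ Fin m → F) :
    Cfsg.sympForm m F u (v + w) = Cfsg.sympForm m F u v + Cfsg.sympForm m F u w := by
  simp only [Cfsg.sympForm, Matrix.mulVec_add, dotProduct_add]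

theorem smul_left (c : F) (u w : Fin m ⊕ Fin m → F) :
    Cfsg.sympForm m F (c • u) w = c * Cfsg.sympForm m F u w := by
  simp only [Cfsg.sympForm, smul_dotProduct, smul_eq_mul]

theorem smul_right (c : F) (u w : Fin m ⊕ Fin m → F) :
    Cfsg.sympForm m F u (c • w) = c * Cfsg.sympForm m F u w := by
  simp only [Cfsg.sympForm, Matrix.mulVec_smul, dotProduct_smul, smul_eq_mul]

theorem zero_left (w : Fin m ⊕ Fin m → F) : Cfsg.sympForm m F 0 w = 0 := by
  simp [Cfsg.sympForm]

theorem self_eq_zero (u : Fin m ⊕ Fin m → F) : Cfsg.sympForm m F u u = 0 := by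
  rw [form_eq]
  exact Finset.sum_eq_zero fun i _ => by ring

theorem neg_swap (u v : Fin m ⊕ Fin m → F) : Cfsg.sympForm m F v u = -Cfsg.sympForm m F u v := by
  rw [form_eq, form_eq, ← Finset.sum_neg_distrib]
  exact Finset.sum_congr rfl fun i _ => by ring

section two

variable [Fintype F] (hq : Fintype.card F = 2)
include hq

theorem zero_or_one (z : F) : z = 0 ∨ z = 1 := by
  classical
  by_contra hh
  push Not at hh
  have := Finset.card_le_univ ({0, 1, z} : Finset F)
  rw [Finset.card_insert_of_notMem (by simp [hh.1.symm]), Finset.card_pair hh.2.symm, hq] at this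
  omega

theorem one_add_one : (1 : F) + 1 = 0 := by
  rcases zero_or_one hq ((1 : F) + 1) with h | h
  · exact h
  · exact absurd (add_left_cancel (h.trans (add_zero 1).symm)) one_ne_zero

theorem symm' (u v : Fin m ⊕ Fin m → F) : Cfsg.sympForm m F v u = Cfsg.sympForm m F u v := by
  rw [neg_swap, neg_eq_iff_add_eq_zero, ← two_mul, show (2 : F) = 1 + 1 by norm_num, one_add_one hq, zero_mul]

/-- The transvection with centre `v`. -/
noncomputable def transv (v : Fin m ⊕ Fin m → F) : Matrix.GeneralLinearGroup (Fin m ⊕ Fin m) F :=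
  let L : (Fin m ⊕ Fin m → F) →ₗ[F] (Fin m ⊕ Fin m → F) :=
    { toFun := fun x => x + Cfsg.sympForm m F x v • v
      map_add' := fun x y => by rw [add_left, add_smul]; abel
      map_smul' := fun c x => by rw [smul_left, RingHom.id_apply, smul_add, smul_smul] }
  have hL : LinearMap.toMatrix' L * LinearMap.toMatrix' L = 1 := by
    rw [← LinearMap.toMatrix'_comp, ← LinearMap.toMatrix'_id]
    congr 1
    refine LinearMap.ext fun x => ?_
    show (x + Cfsg.sympForm m F x v • v) + Cfsg.sympForm m F (x + Cfsg.sympForm m F x v • v) v • v = x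
    rw [add_left, smul_left, self_eq_zero, mul_zero, add_zero, add_assoc, ← add_smul, ← two_mul,
      show (2 : F) = 1 + 1 by norm_num, one_add_one hq, zero_mul, zero_smul, add_zero]
  ⟨LinearMap.toMatrix' L, LinearMap.toMatrix' L, hL, hL⟩

theorem transv_mulVec (v x : Fin m ⊕ Fin m → F) :
    (transv hq v : Matrix (Fin m ⊕ Fin m) (Fin m ⊕ Fin m) F) *ᵥ x = x + Cfsg.sympForm m F x v • v := by
  simp [transv, LinearMap.toMatrix'_mulVec]

theorem transv_mem (v : Fin m ⊕ Fin m → F) : transv hq v ∈ Cfsg.spGL m F := by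
  intro x y
  show Cfsg.sympForm m F ((transv hq v : Matrix _ _ F) *ᵥ x) ((transv hq v : Matrix _ _ F) *ᵥ y) = _
  rw [transv_mulVec, transv_mulVec, add_left, add_right, add_right, smul_left, smul_left, smul_right, smul_right,
    self_eq_zero, neg_swap y v]
  ring

end two

/-- Parity of the number of nonzero components. -/
noncomputable def ind {t : ℕ} (D : Fin t → Submodule F (Fin m ⊕ Fin m → F)) (i : Fin t)
    (v : Fin m ⊕ Fin m → F) : ZMod 2 :=
  haveI := Classical.propDecidable
  if ∀ a ∈ D i, Cfsg.sympForm m F a v = 0 then 0 else 1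

/-- The sum of the indicators. -/
noncomputable def parity {t : ℕ} (D : Fin t → Submodule F (Fin m ⊕ Fin m → F)) (v : Fin m ⊕ Fin m → F) : ZMod 2 :=
  ∑ i, ind D i v

theorem exists_intermediate [Fintype F] (hm : 7 ≤ m) (hq : Fintype.card F = 2) {t : ℕ}
    (D : Fin t → Submodule F (Fin m ⊕ Fin m → F))
    (hD : Cfsg.Geo.IsNondegenerateMDecomposition (Cfsg.sympForm m F) 2 D) :
    ∃ K : Subgroup (Matrix.GeneralLinearGroup (Fin m ⊕ Fin m) F),
      Cfsg.Geo.decompositionStabilizer D ⊓ Cfsg.spGL m F < K ∧ K < Cfsg.spGL m F := by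
  classical
  have ht : 3 ≤ t := by
    by_contra h
    obtain rfl : t = 2 := by have := hD.decomp.two_le; omega
    have htop : D 0 ⊔ D 1 = ⊤ := by
      rw [← hD.decomp.iSup_eq_top]
      refine le_antisymm (sup_le (le_iSup D 0) (le_iSup D 1)) (iSup_le fun i => ?_)
      fin_cases i
      · exact le_sup_left
      · exact le_sup_right
    have h1 := Submodule.finrank_sup_add_finrank_inf_eq (D 0) (D 1)
    rw [htop, finrank_top, hD.decomp.finrank_eq, hD.decomp.finrank_eq, Module.finrank_fintype_fun_eq_card,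
      Fintype.card_sum, Fintype.card_fin] at h1
    omega
  have hbasis : ∀ i, ∃ a b, a ∈ D i ∧ b ∈ D i ∧ Cfsg.sympForm m F a b = 1 ∧
      ∀ x, (∀ c ∈ D i, Cfsg.sympForm m F c x = 0) ↔
        (Cfsg.sympForm m F a x = 0 ∧ Cfsg.sympForm m F b x = 0) := by
    intro i
    obtain ⟨a, ha, ha0⟩ := Submodule.exists_mem_ne_zero_of_ne_bot (p := D i) (fun h => by
      have := hD.decomp.finrank_eq i
      rw [h, finrank_bot] at this
      omega)
    obtain ⟨-, b, hb, hab⟩ := hD.nondegenerate i a ha ha0
    have hab1 : Cfsg.sympForm m F a b = 1 := (zero_or_one hq _).resolve_left hab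
    have hli : LinearIndependent F ![a, b] := by
      rw [LinearIndependent.pair_iff' ha0]
      intro c hc
      rw [← hc, smul_right, self_eq_zero, mul_zero] at hab1
      exact zero_ne_one hab1
    have hspan : Submodule.span F {a, b} = D i := by
      refine Submodule.eq_of_le_of_finrank_eq (Submodule.span_le.mpr ?_) ?_
      · rintro _ (rfl | rfl) <;> assumption
      · have h2 := finrank_span_eq_card hli
        rw [Matrix.range_cons_cons_empty, Fintype.card_fin] at h2
        rw [h2, hD.decomp.finrank_eq]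
    refine ⟨a, b, ha, hb, hab1, fun x => ⟨fun h => ⟨h a ha, h b hb⟩, fun h c hc => ?_⟩⟩
    rw [← hspan] at hc
    obtain ⟨r, s, rfl⟩ := Submodule.mem_span_pair.mp hc
    rw [add_left, smul_left, smul_left, h.1, h.2, mul_zero, mul_zero, add_zero]
  choose a b ha hb hab hperp using hbasis
  have horth : ∀ i j, i ≠ j → ∀ x ∈ D i, ∀ y ∈ D j, Cfsg.sympForm m F x y = 0 := fun i j h x hx y hy =>
    hD.orthogonal i j h x hx y hy
  let K : Subgroup (Matrix.GeneralLinearGroup (Fin m ⊕ Fin m) F) :=
    { carrier := {g | g ∈ Cfsg.spGL m F ∧ ∀ x, parity D ((g : Matrix _ _ F) *ᵥ x) = parity D x}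
      one_mem' := ⟨one_mem _, fun x => by simp⟩
      mul_mem' := fun {g h} hg hh => ⟨mul_mem hg.1 hh.1, fun x => by
        rw [Units.val_mul, ← Matrix.mulVec_mulVec, hg.2, hh.2]⟩
      inv_mem' := fun {g} hg => ⟨inv_mem hg.1, fun x => by
        conv_rhs => rw [← Matrix.one_mulVec x, ← Units.mul_inv g, ← Matrix.mulVec_mulVec, hg.2]⟩ }
  let i0 : Fin t := ⟨0, by omega⟩
  let i1 : Fin t := ⟨1, by omega⟩
  let i2 : Fin t := ⟨2, by omega⟩
  have h01 : i0 ≠ i1 := fun h => by simp [i0, i1] at h
  have h02 : i0 ≠ i2 := fun h => by simp [i0, i2] at h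
  have h12 : i1 ≠ i2 := fun h => by simp [i1, i2] at h
  have hind : ∀ i x, ind D i x = if Cfsg.sympForm m F (a i) x = 0 ∧ Cfsg.sympForm m F (b i) x = 0 then 0 else 1 :=
    fun i x => by rw [ind]; exact @if_congr _ _ _ (_) (_) _ _ _ _ (hperp i x) rfl rfl
  have haa : ∀ i j, Cfsg.sympForm m F (a i) (a j) = 0 := fun i j => by
    by_cases h : i = j
    · rw [h, self_eq_zero]
    · exact horth i j h _ (ha i) _ (ha j)
  have hba : ∀ i j, Cfsg.sympForm m F (b i) (a j) = if i = j then 1 else 0 := fun i j => by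
    by_cases h : i = j
    · rw [if_pos h, h, symm' hq, hab]
    · rw [if_neg h]; exact horth i j h _ (hb i) _ (ha j)
  let w := a i0 + a i1 + a i2
  have hw : transv hq w ∈ K := by
    refine ⟨transv_mem hq w, fun x => ?_⟩
    rw [transv_mulVec]
    rcases zero_or_one hq (Cfsg.sympForm m F x w) with h | h
    · rw [h, zero_smul, add_zero]
    rw [h, one_smul, parity, parity, ← sub_eq_zero, ← Finset.sum_sub_distrib]
    have hterm : ∀ i, ind D i (x + w) - ind D i x =
        if i = i0 ∨ i = i1 ∨ i = i2 then (if Cfsg.sympForm m F (a i) x = 0 then 1 else 0) else 0 := by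
      intro i
      rw [hind, hind]
      simp only [w, add_right, haa, hba, add_zero]
      by_cases hi : i = i0 ∨ i = i1 ∨ i = i2
      · have e : ((if i = i0 then (1 : F) else 0) + (if i = i1 then 1 else 0) + (if i = i2 then 1 else 0)) = 1 := by
          rcases hi with rfl | rfl | rfl <;> simp [h01, h02, h12, h01.symm, h02.symm, h12.symm]
        rw [if_pos hi, e]
        rcases zero_or_one hq (Cfsg.sympForm m F (a i) x) with hα | hα <;>
          rcases zero_or_one hq (Cfsg.sympForm m F (b i) x) with hβ | hβ <;>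
          simp [hα, hβ, one_add_one hq] <;> decide
      · rw [if_neg hi]
        push Not at hi
        simp [hi.1, hi.2.1, hi.2.2]
    rw [Finset.sum_congr rfl (fun i _ => hterm i), ← Finset.sum_filter,
      show Finset.univ.filter (fun i : Fin t => i = i0 ∨ i = i1 ∨ i = i2) = {i0, i1, i2} by ext i; simp,
      Finset.sum_insert (by simp [h01, h02]), Finset.sum_insert (by simp [h12]), Finset.sum_singleton]
    have hs : Cfsg.sympForm m F (a i0) x + Cfsg.sympForm m F (a i1) x + Cfsg.sympForm m F (a i2) x = 1 := by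
      rw [← add_left, ← add_left, symm' hq]; exact h
    rcases zero_or_one hq (Cfsg.sympForm m F (a i0) x) with h0 | h0 <;>
      rcases zero_or_one hq (Cfsg.sympForm m F (a i1) x) with h1 | h1 <;>
      rcases zero_or_one hq (Cfsg.sympForm m F (a i2) x) with h2 | h2 <;>
      simp [h0, h1, h2, one_add_one hq] at hs ⊢ <;> decide
  refine ⟨K, SetLike.lt_iff_le_and_exists.mpr ⟨?_, transv hq w, hw, ?_⟩,
    SetLike.lt_iff_le_and_exists.mpr ⟨fun g hg => hg.1, transv hq (a i0 + a i1), transv_mem hq _, ?_⟩⟩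
  · rintro g ⟨⟨σ, hσ⟩, hg⟩
    refine ⟨hg, fun x => ?_⟩
    rw [parity, parity, ← Equiv.sum_comp σ]
    refine Finset.sum_congr rfl fun i _ => ?_
    unfold ind
    refine @if_congr _ _ _ (_) (_) _ _ _ _ ?_ rfl rfl
    constructor
    · intro h c hc
      rw [← hg c x]
      exact h _ (hσ i ▸ ⟨c, hc, Matrix.toLin'_apply _ _⟩)
    · intro h c hc
      obtain ⟨c', hc', rfl⟩ := (hσ i).symm ▸ hc
      rw [Matrix.toLin'_apply]
      exact (hg c' x).trans (h c' hc')
  · rintro ⟨⟨σ, hσ⟩, -⟩
    have hz : (transv hq w : Matrix _ _ F) *ᵥ b i0 ∈ D (σ i0) :=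
      hσ i0 ▸ ⟨b i0, hb i0, Matrix.toLin'_apply _ _⟩
    rw [transv_mulVec] at hz
    have hf : Cfsg.sympForm m F (b i0) w = 1 := by simp [w, add_right, hba, h01, h02]
    rw [hf, one_smul] at hz
    have hbad : ∀ j, j = i1 ∨ j = i2 → Cfsg.sympForm m F (b j) (b i0 + w) = 1 := by
      intro j hj
      have hne : j ≠ i0 := by rcases hj with rfl | rfl <;> [exact h01.symm; exact h02.symm]
      rw [add_right, horth j i0 hne _ (hb j) _ (hb i0)]
      rcases hj with rfl | rfl <;> simp [w, add_right, hba, h01.symm, h02.symm, h12, h12.symm]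
    by_cases hσ1 : σ i0 = i1
    · have := horth i2 (σ i0) (by rw [hσ1]; exact h12.symm) _ (hb i2) _ hz
      rw [hbad i2 (Or.inr rfl)] at this
      exact one_ne_zero this
    · have := horth i1 (σ i0) (Ne.symm hσ1) _ (hb i1) _ hz
      rw [hbad i1 (Or.inl rfl)] at this
      exact one_ne_zero this
  · intro hbad
    have h := hbad.2 (b i0)
    rw [transv_mulVec, show Cfsg.sympForm m F (b i0) (a i0 + a i1) = 1 by simp [add_right, hba, h01],
      one_smul, parity, parity, ← sub_eq_zero, ← Finset.sum_sub_distrib, Finset.sum_eq_single i1] at h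
    · rw [hind, hind] at h
      simp [add_right, hba, haa, h01.symm, horth i1 i0 h01.symm _ (hb i1) _ (hb i0),
        horth i1 i0 h01.symm _ (ha i1) _ (hb i0)] at h
    · intro i _ hi
      rw [hind, hind]
      by_cases h0 : i = i0
      · subst h0
        simp [add_right, hba, haa, hab, self_eq_zero, h01]
      · simp [add_right, hba, haa, h0, hi]
    · simp

end Cfsg.Lib.Classical.WreathTwo
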